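import Mathlib
import Cfsg.Prelude.Def_Transfer
import Cfsg.Agent.Lib.helper3.Class2
import Cfsg.Agent.Lib.helper3.PGroupFrattini
import Cfsg.Agent.Lib.helper3.PGroupNormal
import Cfsg.Agent.Lib.helper3.SylowLemmas
import Cfsg.Agent.Lib.helper66.OddAction
import Cfsg.Agent.S0126

/-!
# Elementary abelian subgroups of `p`-groups (helper3)

* `isElementaryAbelian_closure`: pairwise commuting elements of order dividing `p` generate an
  elementary abelian subgroup.
* `card_sup_zpowers`: adjoining an element of order `p` centralizing `E`.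
* `exists_normal_extension` (`p` odd): a normal elementary abelian subgroup `E` of a `p`-group
  which is centralized by an element of order `p` outside `E` is contained in a normal elementary
  abelian subgroup of order `p * |E|`.
* `index_centralizer_le`: the centralizer of a normal subgroup of order `p ^ 2` has index `≤ p`.
* `le_upperCentralSeries_of_card_le`: a normal subgroup of order `≤ p ^ k` lies in `Z_k`.
-/

set_option autoImplicit false
open scoped commutatorElement

namespace Cfsg.Agent.Lib.helper3

universe u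

section basic

variable {G : Type*} [Group G]

/-- Pairwise commuting generators generate a commutative subgroup. -/
theorem isMulCommutative_closure_of_comm (S : Set G) (hS : ∀ s ∈ S, ∀ t ∈ S, s * t = t * s) :
    IsMulCommutative (Subgroup.closure S) := by
  have h1 : ∀ s ∈ S, Subgroup.closure S ≤ Subgroup.centralizer {s} := by
    intro s hs
    rw [Subgroup.closure_le]
    intro t ht
    rw [SetLike.mem_coe, Subgroup.mem_centralizer_singleton_iff]
    exact hS t ht s hs
  have h2 : ∀ x ∈ Subgroup.closure S, Subgroup.closure S ≤ Subgroup.centralizer {x} := by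
    intro x hx
    rw [Subgroup.closure_le]
    intro t ht
    rw [SetLike.mem_coe, Subgroup.mem_centralizer_singleton_iff]
    exact (Subgroup.mem_centralizer_singleton_iff.mp (h1 t ht hx)).symm
  refine ⟨⟨fun a b => Subtype.ext ?_⟩⟩
  exact (Subgroup.mem_centralizer_singleton_iff.mp (h2 a.1 a.2 b.2)).symm

/-- Pairwise commuting elements of order dividing `p` generate an elementary abelian subgroup. -/
theorem isElementaryAbelian_closure (p : ℕ) (S : Set G)
    (hS : ∀ s ∈ S, ∀ t ∈ S, s * t = t * s) (hSp : ∀ s ∈ S, s ^ p = 1) :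
    Cfsg.IsElementaryAbelian p (Subgroup.closure S) := by
  have hc := isMulCommutative_closure_of_comm S hS
  refine ⟨hc, ?_⟩
  intro a ha
  induction ha using Subgroup.closure_induction with
  | mem x hx => exact hSp x hx
  | one => exact one_pow p
  | mul x y hx hy hxp hyp =>
    have h := hc.is_comm.comm (⟨x, hx⟩ : Subgroup.closure S) ⟨y, hy⟩
    have h' : Commute x y := congrArg Subtype.val h
    rw [h'.mul_pow, hxp, hyp, one_mul]
  | inv x _ hxp => rw [inv_pow, hxp, inv_one]

/-- `E ⊔ ⟨y⟩` as a closure. -/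
theorem sup_zpowers_eq_closure (E : Subgroup G) (y : G) :
    E ⊔ Subgroup.zpowers y = Subgroup.closure ((E : Set G) ∪ {y}) := by
  rw [Subgroup.closure_union, Subgroup.closure_eq, Subgroup.zpowers_eq_closure]

/-- Adjoining to an elementary abelian subgroup an element of order dividing `p` that centralizes
it gives an elementary abelian subgroup. -/
theorem isElementaryAbelian_sup_zpowers (p : ℕ) (E : Subgroup G)
    (hE : Cfsg.IsElementaryAbelian p E) (y : G) (hyp : y ^ p = 1)
    (hyE : ∀ e ∈ E, y * e = e * y) : Cfsg.IsElementaryAbelian p (E ⊔ Subgroup.zpowers y) := by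
  rw [sup_zpowers_eq_closure]
  apply isElementaryAbelian_closure
  · rintro s (hs | hs) t (ht | ht)
    · have h := hE.1.is_comm.comm (⟨s, hs⟩ : E) ⟨t, ht⟩
      exact congrArg Subtype.val h
    · rw [Set.mem_singleton_iff] at ht
      rw [ht]
      exact (hyE s hs).symm
    · rw [Set.mem_singleton_iff] at hs
      rw [hs]
      exact hyE t ht
    · rw [Set.mem_singleton_iff] at hs ht
      rw [hs, ht]
  · rintro s (hs | hs)
    · exact hE.2 s hs
    · rw [Set.mem_singleton_iff] at hs
      rw [hs]
      exact hyp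

/-- The order of `E ⊔ ⟨y⟩` for `y` of order `p` outside `E` centralizing `E`. -/
theorem card_sup_zpowers [Finite G] {p : ℕ} [Fact p.Prime] (E : Subgroup G) (y : G)
    (hyE' : y ∉ E) (hyp : y ^ p = 1) (hyE : ∀ e ∈ E, y * e = e * y) :
    Nat.card (E ⊔ Subgroup.zpowers y : Subgroup G) = Nat.card E * p := by
  have hpP : p.Prime := Fact.out
  have hy1 : y ≠ 1 := by
    rintro rfl
    exact hyE' E.one_mem
  have hoy : orderOf y = p := orderOf_eq_prime hyp hy1
  have hcy : Nat.card (Subgroup.zpowers y) = p := by rw [Nat.card_zpowers, hoy]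
  have hinf : E ⊓ Subgroup.zpowers y = ⊥ := by
    by_contra hne
    have h1 : Nat.card (E ⊓ Subgroup.zpowers y : Subgroup G) ∣ p := by
      rw [← hcy]
      exact Subgroup.card_dvd_of_le inf_le_right
    rcases (Nat.dvd_prime hpP).mp h1 with h2 | h2
    · exact hne (Subgroup.card_eq_one.mp h2)
    · have h3 : E ⊓ Subgroup.zpowers y = Subgroup.zpowers y :=
        Subgroup.eq_of_le_of_card_ge inf_le_right (by rw [h2, hcy])
      apply hyE'
      have h4 : y ∈ E ⊓ Subgroup.zpowers y := by rw [h3]; exact Subgroup.mem_zpowers y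
      exact h4.1
  have hnorm : E ≤ Subgroup.normalizer (Subgroup.zpowers y : Set G) := by
    refine le_trans ?_ (Subgroup.centralizer_le_normalizer (Subgroup.zpowers y : Set G))
    intro e he
    refine Subgroup.mem_centralizer_iff.mpr ?_
    intro w hw
    obtain ⟨i, rfl⟩ := Subgroup.mem_zpowers_iff.mp hw
    exact (Commute.zpow_left (hyE e he) i).eq
  have hr := relIndex_inf_eq_of_le_normalizer E (Subgroup.zpowers y) hnorm
  rw [hinf, Subgroup.relIndex_bot_left, hcy] at hr
  have := card_mul_relIndex_of_le (le_sup_left : E ≤ E ⊔ Subgroup.zpowers y)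
  rw [← hr] at this
  exact this.symm

end basic

section extension

/-- Key lemma (`p` odd): if a normal elementary abelian subgroup `E` of a `p`-group `P` is
centralized by an element `x ∉ E` of order `p`, then there is such an element `y` with
`[y, P] ≤ E`. -/
theorem exists_central_mod_of_centralizing (p : ℕ) [Fact p.Prime] (hp : p ≠ 2) :
    ∀ (n : ℕ) (P : Type u) [Group P] [Finite P], Nat.card P = n → IsPGroup p P →
    ∀ (E : Subgroup P), E.Normal → (∀ a ∈ E, ∀ b ∈ E, a * b = b * a) → (∀ a ∈ E, a ^ p = 1) →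
    ∀ x : P, x ∉ E → x ^ p = 1 → (∀ e ∈ E, x * e = e * x) →
    ∃ y : P, y ∉ E ∧ y ^ p = 1 ∧ (∀ e ∈ E, y * e = e * y) ∧ ∀ g : P, ⁅y, g⁆ ∈ E := by
  intro n
  induction n using Nat.strong_induction_on with
  | _ n ih =>
  intro P _ _ hn hP E hEn hEc hEp x hxE hxp hxc
  have hpP : p.Prime := Fact.out
  by_cases htop : E ⊔ Subgroup.zpowers x = ⊤
  · refine ⟨x, hxE, hxp, hxc, fun g => ?_⟩
    have hle : E ⊔ Subgroup.zpowers x ≤ Subgroup.centralizer {x} := by
      refine sup_le ?_ ?_
      · intro e he
        rw [Subgroup.mem_centralizer_singleton_iff]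
        exact (hxc e he).symm
      · rw [Subgroup.zpowers_le, Subgroup.mem_centralizer_singleton_iff]
    have hg : g ∈ Subgroup.centralizer {x} := hle (htop ▸ Subgroup.mem_top g)
    rw [Subgroup.mem_centralizer_singleton_iff] at hg
    have h1 : ⁅x, g⁆ = 1 := by
      rw [commutatorElement_eq_one_iff_commute]
      exact hg.symm
    rw [h1]
    exact E.one_mem
  · obtain ⟨M, hM, hle⟩ := (eq_top_or_exists_le_coatom _).resolve_left htop
    obtain ⟨hMn, hMi⟩ := coatom_normal_index hP hM
    have hEM : E ≤ M := le_sup_left.trans hle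
    have hxM : x ∈ M := hle (Subgroup.mem_sup_right (Subgroup.mem_zpowers x))
    have hcardM : Nat.card M < n := by
      rw [← hn, ← Subgroup.card_mul_index M, hMi]
      have h1 := hpP.one_lt
      have h2 : 0 < Nat.card M := Nat.card_pos
      nlinarith
    obtain ⟨y₀', h1, h2, h3, h4⟩ := ih _ hcardM M rfl (hP.to_subgroup M) (E.subgroupOf M)
      inferInstance
      (fun a ha b hb => Subtype.ext (hEc a (Subgroup.mem_subgroupOf.mp ha) b
        (Subgroup.mem_subgroupOf.mp hb)))
      (fun a ha => Subtype.ext (hEp a (Subgroup.mem_subgroupOf.mp ha)))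
      ⟨x, hxM⟩ (fun h => hxE (Subgroup.mem_subgroupOf.mp h)) (Subtype.ext hxp)
      (fun e he => Subtype.ext (hxc e (Subgroup.mem_subgroupOf.mp he)))
    obtain ⟨y₀, hy₀M⟩ := y₀'
    have hy₀E : y₀ ∉ E := fun h => h1 (Subgroup.mem_subgroupOf.mpr h)
    have hy₀p : y₀ ^ p = 1 := congrArg Subtype.val h2
    have hy₀c : ∀ e ∈ E, y₀ * e = e * y₀ := fun e he =>
      congrArg Subtype.val (h3 ⟨e, hEM he⟩ (Subgroup.mem_subgroupOf.mpr he))
    have hy₀m : ∀ m ∈ M, ⁅y₀, m⁆ ∈ E := fun m hm =>
      Subgroup.mem_subgroupOf.mp (h4 ⟨m, hm⟩)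
    let S : Set P := (E : Set P) ∪ {u | ∃ g : P, u = g * y₀ * g⁻¹}
    have hS : ∀ g x : P, x ∈ S → g * x * g⁻¹ ∈ S := by
      rintro g x (hx | ⟨k, rfl⟩)
      · exact Or.inl (hEn.conj_mem x hx g)
      · refine Or.inr ⟨g * k, ?_⟩
        group
    have hDn : (Subgroup.closure S).Normal :=
      Cfsg.Agent.S0126.normal_closure_of_conj_invariant S hS
    have hSprop : ∀ s ∈ S, s ^ p = 1 ∧ s ∈ M ∧ (∀ e ∈ E, s * e = e * s) ∧
        (∀ m ∈ M, ⁅s, m⁆ ∈ E) := by
      rintro s (hs | ⟨g, rfl⟩)
      · refine ⟨hEp s hs, hEM hs, fun e he => hEc s hs e he, fun m hm => ?_⟩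
        have e1 : ⁅s, m⁆ = s * (m * s⁻¹ * m⁻¹) := by rw [commutatorElement_def]; group
        rw [e1]
        exact E.mul_mem hs (hEn.conj_mem _ (E.inv_mem hs) m)
      · refine ⟨?_, hMn.conj_mem _ hy₀M g, fun e he => ?_, fun m hm => ?_⟩
        · rw [conj_pow, hy₀p]
          group
        · have h5 := hy₀c (g⁻¹ * e * g) (by
            have := hEn.conj_mem e he g⁻¹
            rwa [inv_inv] at this)
          calc g * y₀ * g⁻¹ * e = g * (y₀ * (g⁻¹ * e * g)) * g⁻¹ := by group
            _ = g * ((g⁻¹ * e * g) * y₀) * g⁻¹ := by rw [h5]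
            _ = e * (g * y₀ * g⁻¹) := by group
        · have h5 := hy₀m (g⁻¹ * m * g) (by
            have := hMn.conj_mem m hm g⁻¹
            rwa [inv_inv] at this)
          have e1 : ⁅g * y₀ * g⁻¹, m⁆ = g * ⁅y₀, g⁻¹ * m * g⁆ * g⁻¹ := by
            simp only [commutatorElement_def]
            group
          rw [e1]
          exact hEn.conj_mem _ h5 g
    have hDM : Subgroup.closure S ≤ M :=
      (Subgroup.closure_le _).mpr (fun s hs => (hSprop s hs).2.1)
    have hDc : ∀ d ∈ Subgroup.closure S, ∀ e ∈ E, d * e = e * d := by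
      intro d hd e he
      have hle : Subgroup.closure S ≤ Subgroup.centralizer {e} := by
        rw [Subgroup.closure_le]
        intro s hs
        rw [SetLike.mem_coe, Subgroup.mem_centralizer_singleton_iff]
        exact (hSprop s hs).2.2.1 e he
      exact Subgroup.mem_centralizer_singleton_iff.mp (hle hd)
    have hDcomm : ∀ d ∈ Subgroup.closure S, ∀ m ∈ M, ⁅d, m⁆ ∈ E := by
      intro d hd m hm
      induction hd using Subgroup.closure_induction with
      | mem s hs => exact (hSprop s hs).2.2.2 m hm
      | one =>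
        rw [commutatorElement_one_left]
        exact E.one_mem
      | mul a b _ _ iha ihb =>
        have e1 : ⁅a * b, m⁆ = a * ⁅b, m⁆ * a⁻¹ * ⁅a, m⁆ := by
          simp only [commutatorElement_def]
          group
        rw [e1]
        exact E.mul_mem (hEn.conj_mem _ ihb a) iha
      | inv a _ iha =>
        have e1 : ⁅a⁻¹, m⁆ = a⁻¹ * ⁅a, m⁆⁻¹ * a⁻¹⁻¹ := by
          simp only [commutatorElement_def]
          group
        rw [e1]
        exact hEn.conj_mem _ (E.inv_mem iha) a⁻¹
    have hDp : ∀ d ∈ Subgroup.closure S, d ^ p = 1 := by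
      intro d hd
      induction hd using Subgroup.closure_induction with
      | mem s hs => exact (hSprop s hs).1
      | one => exact one_pow p
      | mul a b ha hb iha ihb =>
        have hcE : ⁅b, a⁆ ∈ E := hDcomm b hb a (hDM ha)
        have hc : b * a = ⁅b, a⁆ * a * b := by
          rw [commutatorElement_def]
          group
        have hca : Commute ⁅b, a⁆ a := (hDc a ha _ hcE).symm
        have hcb : Commute ⁅b, a⁆ b := (hDc b hb _ hcE).symm
        rw [Cfsg.Agent.Lib.helper66.mul_pow_of_central_comm hc hca hcb p, iha, ihb, one_mul]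
        obtain ⟨k, hk⟩ := prime_dvd_choose_two hpP hp
        rw [hk, pow_mul, hEp _ hcE, one_pow, one_mul]
      | inv a _ iha => rw [inv_pow, iha, inv_one]
    have hED : E < Subgroup.closure S := by
      refine lt_of_le_of_ne ?_ ?_
      · intro e he
        exact Subgroup.subset_closure (Or.inl he)
      · intro heq
        apply hy₀E
        rw [heq]
        exact Subgroup.subset_closure (Or.inr ⟨1, by group⟩)
    obtain ⟨y, hyD, hyE, -, hyc⟩ :=
      exists_mem_not_mem_of_normal_lt hP E (Subgroup.closure S) hED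
    exact ⟨y, hyE, hDp y hyD, hDc y hyD, hyc⟩

/-- (`p` odd) A normal elementary abelian subgroup `E` of a `p`-group centralized by an element
of order `p` outside `E` lies in a normal elementary abelian subgroup of order `p * |E|`. -/
theorem exists_normal_extension {P : Type u} [Group P] [Finite P] {p : ℕ} [Fact p.Prime]
    (hp : p ≠ 2) (hP : IsPGroup p P) (E : Subgroup P) [hEn : E.Normal]
    (hE : Cfsg.IsElementaryAbelian p E) (x : P) (hxE : x ∉ E) (hxp : x ^ p = 1)
    (hxc : ∀ e ∈ E, x * e = e * x) :
    ∃ A : Subgroup P, A.Normal ∧ Cfsg.IsElementaryAbelian p A ∧ E ≤ A ∧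
      Nat.card A = Nat.card E * p := by
  obtain ⟨y, hyE, hyp, hyc, hyg⟩ := exists_central_mod_of_centralizing p hp (Nat.card P) P rfl hP
    E hEn (fun a ha b hb => congrArg Subtype.val (hE.1.is_comm.comm (⟨a, ha⟩ : E) ⟨b, hb⟩))
    hE.2 x hxE hxp hxc
  refine ⟨E ⊔ Subgroup.zpowers y, ?_, isElementaryAbelian_sup_zpowers p E hE y hyp hyc,
    le_sup_left, card_sup_zpowers E y hyE hyp hyc⟩
  refine ⟨fun n hn g => ?_⟩
  have hle : E ⊔ Subgroup.zpowers y ≤
      (E ⊔ Subgroup.zpowers y).comap (MulAut.conj g).toMonoidHom := by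
    refine sup_le ?_ ?_
    · intro z hz
      rw [Subgroup.mem_comap]
      show g * z * g⁻¹ ∈ _
      exact Subgroup.mem_sup_left (hEn.conj_mem z hz g)
    · rw [Subgroup.zpowers_le, Subgroup.mem_comap]
      show g * y * g⁻¹ ∈ _
      have e : g * y * g⁻¹ = ⁅y, g⁆⁻¹ * y := by
        rw [commutatorElement_def]
        group
      rw [e]
      exact Subgroup.mul_mem _ (Subgroup.mem_sup_left (E.inv_mem (hyg g)))
        (Subgroup.mem_sup_right (Subgroup.mem_zpowers y))
  exact hle hn

end extension

section centralizer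

/-- The centralizer of a normal subgroup of order `p ^ 2` of a `p`-group has index at most `p`. -/
theorem index_centralizer_le {U : Type*} [Group U] [Finite U] {p : ℕ} [Fact p.Prime]
    (hU : IsPGroup p U) (E : Subgroup U) [hEn : E.Normal] (hEcard : Nat.card E = p ^ 2) :
    (Subgroup.centralizer (E : Set U)).index ≤ p := by
  have hpP : p.Prime := Fact.out
  have hEne : E ≠ ⊥ := by
    intro h
    rw [h, Subgroup.card_bot] at hEcard
    have := hpP.one_lt
    nlinarith
  obtain ⟨z, hzE, hzc, hz1, hzp⟩ := exists_central_of_normal_ne_bot hU E hEne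
  have hZc : Subgroup.zpowers z ≤ Subgroup.center U := by
    rw [Subgroup.zpowers_le]; exact hzc
  have hZcard : Nat.card (Subgroup.zpowers z) = p := by
    rw [Nat.card_zpowers, orderOf_eq_prime hzp hz1]
  have hZn : (Subgroup.zpowers z).Normal := by
    refine ⟨fun w hw g => ?_⟩
    have := (Subgroup.mem_center_iff.mp (hZc hw)) g
    rw [this, mul_inv_cancel_right]
    exact hw
  have hZE : Subgroup.zpowers z < E := by
    refine lt_of_le_of_ne ?_ ?_
    · rw [Subgroup.zpowers_le]; exact hzE
    · intro h
      rw [h, hEcard] at hZcard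
      have := hpP.one_lt
      nlinarith
  obtain ⟨w, hwE, hwZ, -, hwc⟩ := exists_mem_not_mem_of_normal_lt hU (Subgroup.zpowers z) E hZE
  -- generation
  have hgen : Subgroup.zpowers z ⊔ Subgroup.zpowers w = E := by
    have hle : Subgroup.zpowers z ⊔ Subgroup.zpowers w ≤ E :=
      sup_le hZE.le (by rw [Subgroup.zpowers_le]; exact hwE)
    have hdvd : Nat.card (Subgroup.zpowers z ⊔ Subgroup.zpowers w : Subgroup U) ∣ p ^ 2 := by
      rw [← hEcard]
      exact Subgroup.card_dvd_of_le hle
    obtain ⟨k, hk, hk2⟩ := (Nat.dvd_prime_pow hpP).mp hdvd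
    have hZle : Subgroup.zpowers z ≤ Subgroup.zpowers z ⊔ Subgroup.zpowers w := le_sup_left
    have hk1 : 1 < k := by
      by_contra hcon
      push Not at hcon
      have h1 : Nat.card (Subgroup.zpowers z ⊔ Subgroup.zpowers w : Subgroup U) ≤
          Nat.card (Subgroup.zpowers z) := by
        rw [hk2, hZcard]
        calc p ^ k ≤ p ^ 1 := Nat.pow_le_pow_right hpP.pos hcon
          _ = p := pow_one p
      have h2 := Subgroup.eq_of_le_of_card_ge hZle h1
      apply hwZ
      rw [h2]
      exact Subgroup.mem_sup_right (Subgroup.mem_zpowers w)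
    have hk' : k = 2 := by omega
    exact Subgroup.eq_of_le_of_card_ge hle (by rw [hk2, hk', hEcard])
  -- the commutator homomorphism
  let φ : U →* Subgroup.zpowers z :=
    { toFun := fun g => ⟨⁅w, g⁆, hwc g⟩
      map_one' := by
        apply Subtype.ext
        show ⁅w, (1 : U)⁆ = 1
        exact commutatorElement_one_right w
      map_mul' := by
        intro g h
        apply Subtype.ext
        show ⁅w, g * h⁆ = ⁅w, g⁆ * ⁅w, h⁆
        have e1 : ⁅w, g * h⁆ = ⁅w, g⁆ * (g * ⁅w, h⁆ * g⁻¹) := by
          simp only [commutatorElement_def]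
          group
        have e2 : g * ⁅w, h⁆ * g⁻¹ = ⁅w, h⁆ := by
          rw [(Subgroup.mem_center_iff.mp (hZc (hwc h))) g, mul_inv_cancel_right]
        rw [e1, e2] }
  have hker : φ.ker ≤ Subgroup.centralizer (E : Set U) := by
    intro g hg
    have h1 : ⁅w, g⁆ = 1 := congrArg Subtype.val (MonoidHom.mem_ker.mp hg)
    have h2 : w * g = g * w := (commutatorElement_eq_one_iff_commute.mp h1).eq
    have hle : Subgroup.zpowers z ⊔ Subgroup.zpowers w ≤ Subgroup.centralizer {g} := by
      refine sup_le ?_ ?_
      · rw [Subgroup.zpowers_le, Subgroup.mem_centralizer_singleton_iff]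
        exact ((Subgroup.mem_center_iff.mp hzc) g).symm
      · rw [Subgroup.zpowers_le, Subgroup.mem_centralizer_singleton_iff]
        exact h2
    rw [hgen] at hle
    refine Subgroup.mem_centralizer_iff.mpr ?_
    intro e he
    exact Subgroup.mem_centralizer_singleton_iff.mp (hle he)
  have h1 : (Subgroup.centralizer (E : Set U)).index ∣ φ.ker.index := Subgroup.index_dvd_of_le hker
  have h2 : φ.ker.index ≤ p := by
    rw [Subgroup.index_ker]
    calc Nat.card φ.range ≤ Nat.card (Subgroup.zpowers z) := Subgroup.card_le_card_group _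
      _ = p := hZcard
  have h3 : 0 < φ.ker.index := Nat.pos_of_ne_zero Subgroup.index_ne_zero_of_finite
  exact (Nat.le_of_dvd h3 h1).trans h2

/-- Elementary abelian subgroups of a subgroup are elementary abelian subgroups of the group. -/
theorem rank_subgroup {R : Type*} [Group R] {p m : ℕ} (K : Subgroup R)
    (hrk : ∀ E : Subgroup R, Cfsg.IsElementaryAbelian p E → Nat.card E ≤ m) :
    ∀ E' : Subgroup K, Cfsg.IsElementaryAbelian p E' → Nat.card E' ≤ m := by
  intro E' hE'
  have h1 : Cfsg.IsElementaryAbelian p (E'.map K.subtype) := by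
    refine ⟨⟨⟨fun a b => Subtype.ext ?_⟩⟩, ?_⟩
    · obtain ⟨a', ha', hae⟩ := a.2
      obtain ⟨b', hb', hbe⟩ := b.2
      have h := hE'.1.is_comm.comm (⟨a', ha'⟩ : E') ⟨b', hb'⟩
      have h' : a' * b' = b' * a' := congrArg Subtype.val h
      show (a : R) * (b : R) = (b : R) * (a : R)
      rw [← hae, ← hbe]
      exact congrArg Subtype.val h'
    · rintro _ ⟨a', ha', rfl⟩
      have := hE'.2 a' ha'
      exact congrArg Subtype.val this
  have h2 := hrk _ h1
  rwa [Subgroup.card_map_of_injective K.subtype_injective] at h2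

/-- (`p` odd) A group of exponent `p` in which elementary abelian subgroups have order at most
`p ^ 2` has order at most `p ^ 3`. -/
theorem card_le_of_exponent_of_rank {U : Type u} [Group U] [Finite U] {p : ℕ} [Fact p.Prime]
    (hp : p ≠ 2) (hexp : ∀ u : U, u ^ p = 1)
    (hrk : ∀ E : Subgroup U, Cfsg.IsElementaryAbelian p E → Nat.card E ≤ p ^ 2) :
    Nat.card U ≤ p ^ 3 := by
  have hpP : p.Prime := Fact.out
  have hU : IsPGroup p U := fun u => ⟨1, by rw [pow_one]; exact hexp u⟩
  by_cases hc : IsCyclic U
  · obtain ⟨g, hg⟩ := hc.exists_generator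
    have h1 : Nat.card U = orderOf g := (orderOf_eq_card_of_forall_mem_zpowers hg).symm
    have h2 : orderOf g ≤ p := Nat.le_of_dvd hpP.pos (orderOf_dvd_of_pow_eq_one (hexp g))
    rw [h1]
    calc orderOf g ≤ p := h2
      _ = p ^ 1 := (pow_one p).symm
      _ ≤ p ^ 3 := Nat.pow_le_pow_right hpP.pos (by norm_num)
  · obtain ⟨E, hEn, hE, hEcard⟩ := Cfsg.Agent.S0126.result hp hU hc
    have hCE : Subgroup.centralizer (E : Set U) ≤ E := by
      intro c hc
      by_contra hcE
      have hcomm : ∀ e ∈ E, c * e = e * c := fun e he =>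
        ((Subgroup.mem_centralizer_iff.mp hc) e he).symm
      have h1 := hrk _ (isElementaryAbelian_sup_zpowers p E hE c (hexp c) hcomm)
      rw [card_sup_zpowers E c hcE (hexp c) hcomm, hEcard] at h1
      have := hpP.one_lt
      have h3 : 0 < p ^ 2 := by positivity
      nlinarith
    have h1 := Subgroup.card_mul_index (Subgroup.centralizer (E : Set U))
    have h2 := index_centralizer_le hU E hEcard
    have h3 : Nat.card (Subgroup.centralizer (E : Set U)) ≤ p ^ 2 := by
      rw [← hEcard]
      exact Subgroup.card_le_of_le hCE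
    calc Nat.card U = Nat.card (Subgroup.centralizer (E : Set U)) *
          (Subgroup.centralizer (E : Set U)).index := h1.symm
      _ ≤ p ^ 2 * p := Nat.mul_le_mul h3 h2
      _ = p ^ 3 := by ring

end centralizer

section ucs

/-- A normal subgroup of order at most `p ^ k` of a finite `p`-group lies in the `k`-th term of
the upper central series. -/
theorem le_upperCentralSeries_of_card_le (p : ℕ) [Fact p.Prime] :
    ∀ (k : ℕ) (R : Type u) [Group R] [Finite R], IsPGroup p R → ∀ N : Subgroup R, N.Normal →
      Nat.card N ≤ p ^ k → N ≤ Subgroup.upperCentralSeries R k := by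
  have hpP : p.Prime := Fact.out
  intro k
  induction k with
  | zero =>
    intro R _ _ _ N _ hN
    rw [pow_zero] at hN
    have h1 : Nat.card N = 1 := le_antisymm hN Nat.card_pos
    rw [Subgroup.card_eq_one.mp h1]
    exact bot_le
  | succ k ih =>
    intro R _ _ hR N hNn hN
    by_cases hbot : N = ⊥
    · rw [hbot]; exact bot_le
    obtain ⟨z, hzN, hzc, hz1, -⟩ := exists_central_of_normal_ne_bot hR N hbot
    have hmapn : (N.map (QuotientGroup.mk' (Subgroup.center R))).Normal :=
      Subgroup.Normal.map hNn _ (QuotientGroup.mk'_surjective _)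
    have hcard : Nat.card (N.map (QuotientGroup.mk' (Subgroup.center R))) ≤ p ^ k := by
      have hdvd : Nat.card (N.map (QuotientGroup.mk' (Subgroup.center R))) ∣ Nat.card N :=
        Subgroup.card_map_dvd _ _
      obtain ⟨a, ha⟩ := (IsPGroup.iff_card.mp (hR.to_subgroup N))
      rw [ha] at hdvd hN
      obtain ⟨b, hb, hb2⟩ := (Nat.dvd_prime_pow hpP).mp hdvd
      have ha' : a ≤ k + 1 := (Nat.pow_le_pow_iff_right hpP.one_lt).mp hN
      have hba : b ≠ a := by
        rintro rfl
        have hsurj := MonoidHom.subgroupMap_surjective (QuotientGroup.mk' (Subgroup.center R)) N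
        have hbij := hsurj.bijective_of_nat_card_le (by rw [ha, hb2])
        have h1 : (QuotientGroup.mk' (Subgroup.center R)).subgroupMap N ⟨z, hzN⟩ =
            (QuotientGroup.mk' (Subgroup.center R)).subgroupMap N 1 := by
          apply Subtype.ext
          rw [map_one]
          show (QuotientGroup.mk' (Subgroup.center R)) z = 1
          exact (QuotientGroup.eq_one_iff z).mpr hzc
        have h2 := hbij.1 h1
        exact hz1 (congrArg Subtype.val h2)
      rw [hb2]
      exact Nat.pow_le_pow_right hpP.pos (by omega)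
    have h1 := ih (R ⧸ Subgroup.center R) (hR.to_quotient _) _ hmapn hcard
    rw [← Subgroup.comap_upperCentralSeries_quotient_center]
    exact Subgroup.map_le_iff_le_comap.mp h1

end ucs

end Cfsg.Agent.Lib.helper3
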