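import Mathlib
import Cfsg.Agent.Lib.helper1.Coprime
import Cfsg.Agent.Lib.helper3.SylowLemmas

/-!
# Basic lemmas for the Z-group / Frobenius action argument (B-G Theorem 3.6)
-/

set_option autoImplicit false

namespace Cfsg.Agent.Lib.helper3

open scoped commutatorElement Pointwise

variable {G : Type*} [Group G]

/-- The centralizer of a nonidentity element of a subgroup of prime order is the centralizer of the
subgroup. -/
theorem zg_centralizer_singleton_of_prime {R : Subgroup G} (hr : (Nat.card R).Prime) {x : G}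
    (hx : x ∈ R) (hx1 : x ≠ 1) :
    Subgroup.centralizer ({x} : Set G) = Subgroup.centralizer (R : Set G) := by
  have : Finite R := Nat.finite_of_card_ne_zero hr.ne_zero
  have hz : Subgroup.zpowers x = R := by
    apply Subgroup.eq_of_le_of_card_ge ((Subgroup.zpowers_le).mpr hx)
    have h1 : Nat.card (Subgroup.zpowers x) ∣ Nat.card R :=
      Subgroup.card_dvd_of_le ((Subgroup.zpowers_le).mpr hx)
    rcases (Nat.dvd_prime hr).mp h1 with h | h
    · exfalso
      rw [Nat.card_zpowers, orderOf_eq_one_iff] at h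
      exact hx1 h
    · exact h.ge
  apply le_antisymm
  · intro g hg
    rw [Subgroup.mem_centralizer_iff] at hg ⊢
    intro y hy
    rw [← hz] at hy
    obtain ⟨k, rfl⟩ := Subgroup.mem_zpowers_iff.mp hy
    have h1 : Commute x g := hg x rfl
    exact (h1.zpow_left k).eq
  · exact Subgroup.centralizer_le (by simpa using hx)

/-- `A` normalizes `⁅B, C⁆` if it normalizes `B` and `C`. -/
theorem zg_le_normalizer_commutator {A B C : Subgroup G}
    (hB : A ≤ Subgroup.normalizer (B : Set G)) (hC : A ≤ Subgroup.normalizer (C : Set G)) :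
    A ≤ Subgroup.normalizer ((⁅B, C⁆ : Subgroup G) : Set G) := by
  rw [Subgroup.le_normalizer_iff]
  intro a ha
  have h1 : ⁅B, C⁆ ≤ (⁅B, C⁆ : Subgroup G).comap (MulAut.conj a).toMonoidHom := by
    rw [Subgroup.commutator_le]
    intro b hb c hc
    rw [Subgroup.mem_comap]
    have e : (MulAut.conj a).toMonoidHom ⁅b, c⁆ = ⁅a * b * a⁻¹, a * c * a⁻¹⁆ := by
      show a * ⁅b, c⁆ * a⁻¹ = _
      rw [commutatorElement_def, commutatorElement_def]; group
    rw [e]
    exact Subgroup.commutator_mem_commutator (Subgroup.le_normalizer_iff.mp hB a ha b hb)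
      (Subgroup.le_normalizer_iff.mp hC a ha c hc)
  intro n hn
  have := h1 hn
  rw [Subgroup.mem_comap] at this
  simpa [MulAut.conj_apply] using this

/-- `A` normalizes `B ⊓ C` if it normalizes `B` and `C`. -/
theorem zg_le_normalizer_inf {A B C : Subgroup G}
    (hB : A ≤ Subgroup.normalizer (B : Set G)) (hC : A ≤ Subgroup.normalizer (C : Set G)) :
    A ≤ Subgroup.normalizer ((B ⊓ C : Subgroup G) : Set G) := by
  rw [Subgroup.le_normalizer_iff]
  intro a ha n hn
  exact ⟨Subgroup.le_normalizer_iff.mp hB a ha n hn.1, Subgroup.le_normalizer_iff.mp hC a ha n hn.2⟩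

/-- `A` normalizes `C_G(B)` if it normalizes `B`. -/
theorem zg_le_normalizer_centralizer {A B : Subgroup G}
    (hB : A ≤ Subgroup.normalizer (B : Set G)) :
    A ≤ Subgroup.normalizer ((Subgroup.centralizer (B : Set G) : Subgroup G) : Set G) :=
  hB.trans (normalizer_le_normalizer_centralizer B)

/-- `|AB| = |A||B|` if `B` normalizes `A` and `A ∩ B = 1`. -/
theorem zg_card_sup [Finite G] (A B : Subgroup G) (hBA : B ≤ Subgroup.normalizer (A : Set G))
    (h : A ⊓ B = ⊥) : Nat.card ↥(A ⊔ B) = Nat.card A * Nat.card B := by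
  have h1 := relIndex_inf_eq_of_le_normalizer B A hBA
  have h2 : Nat.card B * B.relIndex (B ⊔ A) = Nat.card ↥(B ⊔ A) :=
    card_mul_relIndex_of_le le_sup_left
  rw [inf_comm, h, Subgroup.relIndex_bot_left] at h1
  rw [sup_comm, ← h2, ← h1, mul_comm]

/-- Elements of order prime to the index of a normalized subgroup lie in it. -/
theorem zg_mem_of_coprime_relIndex [Finite G] (A B : Subgroup G)
    (hBA : B ≤ Subgroup.normalizer (A : Set G)) {b : G} (hb : b ∈ B)
    (hcop : (orderOf b).Coprime (A.relIndex B)) : b ∈ A := by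
  have : (A.subgroupOf B).Normal := Subgroup.normal_subgroupOf_of_le_normalizer hBA
  obtain ⟨y, hy⟩ : ∃ y : ↥B ⧸ A.subgroupOf B, y = QuotientGroup.mk' (A.subgroupOf B) ⟨b, hb⟩ :=
    ⟨_, rfl⟩
  have h1 : orderOf y ∣ orderOf b := by
    apply orderOf_dvd_of_pow_eq_one
    rw [hy, ← map_pow]
    have : (⟨b, hb⟩ : ↥B) ^ orderOf b = 1 := by
      apply Subtype.ext
      simp [pow_orderOf_eq_one]
    rw [this, map_one]
  have h2 : orderOf y ∣ A.relIndex B := by
    have : Nat.card (↥B ⧸ A.subgroupOf B) = A.relIndex B := rfl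
    rw [← this]
    exact orderOf_dvd_natCard y
  have h3 : orderOf y = 1 := Nat.eq_one_of_dvd_coprimes hcop h1 h2
  rw [orderOf_eq_one_iff, hy, QuotientGroup.mk'_apply, QuotientGroup.eq_one_iff] at h3
  exact Subgroup.mem_subgroupOf.mp h3

/-- Coprime action on an abelian group: `C_A(B) ∩ [A, B] = 1`. -/
theorem zg_inf_commutator_eq_bot [Finite G] (A B : Subgroup G)
    (hA : ∀ a ∈ A, ∀ b ∈ A, a * b = b * a) (hBA : B ≤ Subgroup.normalizer (A : Set G))
    (hcop : (Nat.card A).Coprime (Nat.card B)) :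
    (A ⊓ Subgroup.centralizer (B : Set G)) ⊓ ⁅A, B⁆ = ⊥ := by
  classical
  let _ : CommGroup ↥A :=
    { (inferInstance : Group ↥A) with mul_comm := fun x y => Subtype.ext (hA x x.2 y y.2) }
  let _ : Fintype ↥B := Fintype.ofFinite _
  have hn : ∀ b ∈ B, ∀ a ∈ A, b * a * b⁻¹ ∈ A := Subgroup.le_normalizer_iff.mp hBA
  let f : ↥B → (↥A →* ↥A) := fun b =>
    { toFun := fun a => ⟨(b : G) * a * (b : G)⁻¹, hn b b.2 a a.2⟩
      map_one' := by apply Subtype.ext; simp
      map_mul' := by intro x y; apply Subtype.ext; simp }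
  let τ : ↥A →* ↥A := ∏ b : ↥B, f b
  have hτ : ∀ a : ↥A, τ a = ∏ b : ↥B, f b a := by
    intro a
    simp only [τ]
    rw [MonoidHom.finsetProd_apply]
  have hτf : ∀ (b₀ : ↥B) (a : ↥A), τ (f b₀ a) = τ a := by
    intro b₀ a
    rw [hτ, hτ]
    apply Fintype.prod_equiv (Equiv.mulRight b₀)
    intro b
    apply Subtype.ext
    simp [f, mul_assoc]
  have hker : ⁅A, B⁆ ≤ (τ.ker).map A.subtype := by
    rw [Subgroup.commutator_le]
    intro a ha b hb
    refine ⟨(⟨a, ha⟩ : ↥A) * (f ⟨b, hb⟩ ⟨a, ha⟩)⁻¹, ?_, ?_⟩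
    · rw [SetLike.mem_coe, MonoidHom.mem_ker, map_mul, map_inv, hτf, mul_inv_cancel]
    · simp [f, commutatorElement_def, mul_assoc]
  rw [eq_bot_iff]
  intro x hx
  obtain ⟨⟨hxA, hxC⟩, hxK⟩ := hx
  obtain ⟨y, hy, hyx⟩ := hker hxK
  have hyx' : y = ⟨x, hxA⟩ := Subtype.ext hyx
  rw [SetLike.mem_coe, MonoidHom.mem_ker, hyx', hτ] at hy
  have h1 : ∀ b : ↥B, f b ⟨x, hxA⟩ = ⟨x, hxA⟩ := by
    intro b
    apply Subtype.ext
    have := Subgroup.mem_centralizer_iff.mp hxC b b.2
    simp only [f, MonoidHom.coe_mk, OneHom.coe_mk]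
    rw [this]; group
  simp only [h1, Finset.prod_const, Finset.card_univ] at hy
  have h2 : x ^ Nat.card B = 1 := by
    have := congrArg Subtype.val hy
    rw [Nat.card_eq_fintype_card]
    simpa using this
  have h3 : x ^ Nat.card A = 1 := by
    have h := congrArg Subtype.val (pow_card_eq_one' (G := ↥A) (x := ⟨x, hxA⟩))
    rw [Subgroup.coe_pow] at h
    exact h
  have h4 : orderOf x ∣ 1 := by
    have := Nat.dvd_gcd (orderOf_dvd_of_pow_eq_one h3) (orderOf_dvd_of_pow_eq_one h2)
    rwa [hcop] at this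
  rw [Subgroup.mem_bot, ← orderOf_eq_one_iff]
  exact Nat.dvd_one.mp h4

/-- A `p`-subgroup of a subgroup all of whose Sylow subgroups are cyclic is cyclic. -/
theorem zg_isCyclic_of_isPGroup [Finite G] {p : ℕ} [Fact p.Prime] (Z B : Subgroup G)
    [hZ : IsZGroup ↥Z] (hBZ : B ≤ Z) (hB : IsPGroup p B) : IsCyclic ↥B := by
  have hB' : IsPGroup p ↥(B.subgroupOf Z) :=
    hB.of_equiv (Subgroup.subgroupOfEquivOfLe hBZ).symm
  have hc : IsCyclic ↥(B.subgroupOf Z) := IsPGroup.isCyclic_of_isZGroup hB'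
  exact isCyclic_of_injective (Subgroup.subgroupOfEquivOfLe hBZ).symm.toMonoidHom
    (Subgroup.subgroupOfEquivOfLe hBZ).symm.injective

/-- In a finite cyclic group the elements with `a ^ p = 1` lie in the subgroup generated by any
nonidentity one of them. -/
theorem zg_mem_zpowers_of_cyclic {C : Type*} [Group C] [Finite C] [IsCyclic C] {p : ℕ}
    (hp : p.Prime) {x y : C} (hx : x ^ p = 1) (hx1 : x ≠ 1) (hy : y ^ p = 1) :
    y ∈ Subgroup.zpowers x := by
  classical
  let _ : Fintype C := Fintype.ofFinite _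
  have hox : orderOf x = p := by
    rcases (Nat.dvd_prime hp).mp (orderOf_dvd_of_pow_eq_one hx) with h | h
    · exact absurd (orderOf_eq_one_iff.mp h) hx1
    · exact h
  have h1 : (Finset.univ.filter (fun a : C => a ∈ Subgroup.zpowers x)) ⊆
      Finset.univ.filter (fun a : C => a ^ p = 1) := by
    intro a ha
    simp only [Finset.mem_filter, Finset.mem_univ, true_and] at ha ⊢
    obtain ⟨k, rfl⟩ := Subgroup.mem_zpowers_iff.mp ha
    rw [← zpow_natCast, ← zpow_mul, mul_comm, zpow_mul, zpow_natCast, hx, one_zpow]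
  have h2 : (Finset.univ.filter (fun a : C => a ^ p = 1)).card ≤ p :=
    IsCyclic.card_pow_eq_one_le hp.pos
  have h3 : (Finset.univ.filter (fun a : C => a ∈ Subgroup.zpowers x)).card = p := by
    rw [← hox, ← Nat.card_zpowers, Nat.card_eq_fintype_card, Fintype.card_subtype]
  have h4 := Finset.eq_of_subset_of_card_le h1 (by rw [h3]; exact h2)
  have h5 : y ∈ Finset.univ.filter (fun a : C => a ^ p = 1) := by simp [hy]
  rw [← h4] at h5
  simpa using h5

end Cfsg.Agent.Lib.helper3
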