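import Mathlib
import Cfsg.Agent.S1446
import Cfsg.Agent.Lib.helper3.ZgBase

/-!
# Frobenius actions on a module with a one-dimensional fixed space: the scalar lemma
-/

set_option autoImplicit false

namespace Cfsg.Agent.Lib.helper3

open scoped commutatorElement Pointwise

variable {G : Type*} [Group G]

theorem zg_isNilpotent_of_comm (M : Subgroup G) (hM : ∀ a ∈ M, ∀ b ∈ M, a * b = b * a) :
    Group.IsNilpotent ↥M := by
  let _ : CommGroup ↥M :=
    { (inferInstance : Group ↥M) with mul_comm := fun x y => Subtype.ext (hM x x.2 y y.2) }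
  exact CommGroup.isNilpotent

/-- Wrapper around S1446: a Frobenius group `K R` (`R` of prime order) acting coprimely on an
abelian group `M` with `C_M(K) = 1` has `|M| = |C_M(R)| ^ |R|`. -/
theorem zg_frob {X : Type*} [Group X] [Finite X] [Group.IsSolvable X] (hodd : Odd (Nat.card X))
    (K R M : Subgroup X) (hr : (Nat.card R).Prime) (hK1 : K ≠ ⊥)
    (hRK : R ≤ Subgroup.normalizer (K : Set X))
    (hKfix : K ⊓ Subgroup.centralizer (R : Set X) = ⊥) (hM1 : M ≠ ⊥)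
    (hMc : ∀ a ∈ M, ∀ b ∈ M, a * b = b * a)
    (hKM : K ≤ Subgroup.normalizer (M : Set X)) (hRM : R ≤ Subgroup.normalizer (M : Set X))
    (hcopK : (Nat.card K).Coprime (Nat.card M)) (hcopR : (Nat.card R).Coprime (Nat.card M))
    (hCK : M ⊓ Subgroup.centralizer (K : Set X) = ⊥) :
    Nat.card M = Nat.card ↥(M ⊓ Subgroup.centralizer (R : Set X)) ^ Nat.card R := by
  have hR1 : R ≠ ⊥ := by
    intro h
    rw [h, Subgroup.card_bot] at hr
    exact Nat.not_prime_one hr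
  have hKR : K ⊓ R = ⊥ := by
    rw [eq_bot_iff]
    intro x hx
    by_cases hx1 : x = 1
    · rw [hx1]; exact Subgroup.one_mem _
    · have h1 := zg_centralizer_singleton_of_prime hr hx.2 hx1
      have h2 : x ∈ Subgroup.centralizer ({x} : Set X) := by
        rw [Subgroup.mem_centralizer_iff]; intro y hy; rw [Set.mem_singleton_iff.mp hy]
      rw [h1] at h2
      rw [← hKfix]
      exact ⟨hx.1, h2⟩
  have hcard : Nat.card ↥(K ⊔ R) = Nat.card K * Nat.card R := zg_card_sup K R hRK hKR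
  have h := Cfsg.Agent.S1446.result K R M hK1 hR1 hKR hRK
    (fun r hr' hr1 => by rw [zg_centralizer_singleton_of_prime hr hr' hr1]; exact hKfix)
    inferInstance (Odd.of_dvd_nat hodd (Subgroup.card_subgroup_dvd_card _)) hM1
    (zg_isNilpotent_of_comm M hMc) hKM hRM
    (by rw [hcard]; exact Nat.Coprime.mul_left hcopK hcopR) hCK
    (fun x hx hx1 => by rw [zg_centralizer_singleton_of_prime hr hx hx1])
  exact h.2.1

/-- The standing hypotheses on the module `V` and the group `R₀` of prime order. -/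
structure ZgCtx [Finite G] (p : ℕ) (V R₀ : Subgroup G) : Prop where
  hp : p.Prime
  odd : Odd (Nat.card G)
  comm : ∀ a ∈ V, ∀ b ∈ V, a * b = b * a
  exp : ∀ a ∈ V, a ^ p = 1
  prime : (Nat.card R₀).Prime
  ne : Nat.card R₀ ≠ p
  norm : R₀ ≤ Subgroup.normalizer (V : Set G)
  fix : Nat.card ↥(V ⊓ Subgroup.centralizer (R₀ : Set G)) ≤ p

section ctx

variable [Finite G] {p : ℕ} {V R₀ : Subgroup G}

theorem ZgCtx.isPGroup (h : ZgCtx p V R₀) : IsPGroup p V := by
  intro x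
  refine ⟨1, ?_⟩
  apply Subtype.ext
  simpa using h.exp x x.2

theorem ZgCtx.isPGroup_le (h : ZgCtx p V R₀) {U : Subgroup G} (hU : U ≤ V) : IsPGroup p U :=
  h.isPGroup.to_le hU

theorem ZgCtx.coprime_card (h : ZgCtx p V R₀) {U E : Subgroup G} (hU : U ≤ V)
    (hE : (Nat.card E).Coprime p) : (Nat.card E).Coprime (Nat.card U) := by
  have : Fact p.Prime := ⟨h.hp⟩
  obtain ⟨n, hn⟩ := (IsPGroup.iff_card).mp (h.isPGroup_le hU)
  rw [hn]
  exact Nat.Coprime.pow_right n hE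

theorem ZgCtx.coprime_R (h : ZgCtx p V R₀) : (Nat.card R₀).Coprime p :=
  (Nat.coprime_primes h.prime h.hp).mpr h.ne

/-- The fixed points of `R₀` on a nontrivial invariant subgroup `U` of `[V, E]`, `E R₀` Frobenius:
`|U| = p ^ r`. -/
theorem ZgCtx.card_eq [Group.IsSolvable G] (h : ZgCtx p V R₀) (E : Subgroup G)
    (hEV : E ≤ Subgroup.normalizer (V : Set G)) (hRE : R₀ ≤ Subgroup.normalizer (E : Set G))
    (hEcop : (Nat.card E).Coprime p) (hEfix : E ⊓ Subgroup.centralizer (R₀ : Set G) = ⊥)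
    (U : Subgroup G) (hUV : U ≤ ⁅V, E⁆) (hEU : E ≤ Subgroup.normalizer (U : Set G))
    (hRU : R₀ ≤ Subgroup.normalizer (U : Set G)) (hU1 : U ≠ ⊥) :
    Nat.card U = p ^ Nat.card R₀ ∧ Nat.card ↥(U ⊓ Subgroup.centralizer (R₀ : Set G)) = p := by
  have : Fact p.Prime := ⟨h.hp⟩
  have hWV : ⁅V, E⁆ ≤ V := Cfsg.Agent.Lib.helper1.commutator_le_of_le_normalizer hEV
  have hUV' : U ≤ V := hUV.trans hWV
  have hE1 : E ≠ ⊥ := by
    intro hE
    rw [hE, Subgroup.commutator_bot_right] at hUV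
    exact hU1 (le_bot_iff.mp hUV)
  have hCK : U ⊓ Subgroup.centralizer (E : Set G) = ⊥ := by
    have h1 := zg_inf_commutator_eq_bot V E h.comm hEV (h.coprime_card le_rfl hEcop).symm
    rw [eq_bot_iff, ← h1]
    intro x hx
    exact ⟨⟨hUV' hx.1, hx.2⟩, hUV hx.1⟩
  have hf := zg_frob h.odd E R₀ U h.prime hE1 hRE hEfix hU1
    (fun a ha b hb => h.comm a (hUV' ha) b (hUV' hb)) hEU hRU (h.coprime_card hUV' hEcop)
    (h.coprime_card hUV' h.coprime_R) hCK
  have hle : Nat.card ↥(U ⊓ Subgroup.centralizer (R₀ : Set G)) ≤ p :=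
    (Nat.le_of_dvd (Nat.card_pos) (Subgroup.card_dvd_of_le
      (inf_le_inf_right _ hUV'))).trans h.fix
  obtain ⟨n, hn⟩ := (IsPGroup.iff_card).mp (h.isPGroup_le (inf_le_left.trans hUV' :
    U ⊓ Subgroup.centralizer (R₀ : Set G) ≤ V))
  have hn1 : n ≤ 1 := by
    by_contra hcon
    have h2 : p ^ 2 ≤ p ^ n := Nat.pow_le_pow_right h.hp.pos (by omega)
    have h3 : p < p ^ 2 := by
      have := h.hp.one_lt
      nlinarith
    omega
  have hn0 : n ≠ 0 := by
    intro h0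
    rw [h0, pow_zero] at hn
    rw [hn, one_pow] at hf
    exact hU1 ((Subgroup.card_eq_one).mp hf)
  have hn' : n = 1 := by omega
  rw [hn', pow_one] at hn
  rw [hn] at hf
  exact ⟨hf, hn⟩

/-- `[V, E]` is irreducible under `E R₀`. -/
theorem ZgCtx.irred [Group.IsSolvable G] (h : ZgCtx p V R₀) (E : Subgroup G)
    (hEV : E ≤ Subgroup.normalizer (V : Set G)) (hRE : R₀ ≤ Subgroup.normalizer (E : Set G))
    (hEcop : (Nat.card E).Coprime p) (hEfix : E ⊓ Subgroup.centralizer (R₀ : Set G) = ⊥)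
    (U : Subgroup G) (hUV : U ≤ ⁅V, E⁆) (hEU : E ≤ Subgroup.normalizer (U : Set G))
    (hRU : R₀ ≤ Subgroup.normalizer (U : Set G)) (hU1 : U ≠ ⊥) : U = ⁅V, E⁆ := by
  have h1 := (h.card_eq E hEV hRE hEcop hEfix U hUV hEU hRU hU1).1
  have hW1 : (⁅V, E⁆ : Subgroup G) ≠ ⊥ := by
    intro hW
    rw [hW] at hUV
    exact hU1 (le_bot_iff.mp hUV)
  have h2 := (h.card_eq E hEV hRE hEcop hEfix ⁅V, E⁆ le_rfl
    (zg_le_normalizer_commutator hEV Subgroup.le_normalizer)
    (zg_le_normalizer_commutator h.norm hRE) hW1).1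
  exact Subgroup.eq_of_le_of_card_ge hUV (by rw [h1, h2])

/-- An element commuting with `E` and `R₀` acts on `[V, E]` as a power map. -/
theorem ZgCtx.scalar [Group.IsSolvable G] (h : ZgCtx p V R₀) (E : Subgroup G)
    (hEV : E ≤ Subgroup.normalizer (V : Set G)) (hRE : R₀ ≤ Subgroup.normalizer (E : Set G))
    (hEcop : (Nat.card E).Coprime p) (hEfix : E ⊓ Subgroup.centralizer (R₀ : Set G) = ⊥)
    (z : G) (hzV : z ∈ Subgroup.normalizer (V : Set G))
    (hzR : z ∈ Subgroup.centralizer (R₀ : Set G)) (hzE : z ∈ Subgroup.centralizer (E : Set G)) :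
    ∃ k : ℕ, ∀ v ∈ ⁅V, E⁆, z * v * z⁻¹ = v ^ k := by
  classical
  obtain ⟨W, hW⟩ : ∃ W : Subgroup G, W = ⁅V, E⁆ := ⟨_, rfl⟩
  rw [← hW]
  by_cases hW1 : W = ⊥
  · refine ⟨1, fun v hv => ?_⟩
    rw [hW1, Subgroup.mem_bot] at hv
    rw [hv]; simp
  have hWV : W ≤ V := hW ▸ Cfsg.Agent.Lib.helper1.commutator_le_of_le_normalizer hEV
  have hEW : E ≤ Subgroup.normalizer (W : Set G) :=
    hW ▸ zg_le_normalizer_commutator hEV Subgroup.le_normalizer
  have hRW : R₀ ≤ Subgroup.normalizer (W : Set G) :=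
    hW ▸ zg_le_normalizer_commutator h.norm hRE
  have hzW : Subgroup.zpowers z ≤ Subgroup.normalizer (W : Set G) := by
    rw [hW]
    exact zg_le_normalizer_commutator ((Subgroup.zpowers_le).mpr hzV)
      ((Subgroup.zpowers_le).mpr (Subgroup.centralizer_le_normalizer _ hzE))
  have hzW' : ∀ w ∈ W, z * w * z⁻¹ ∈ W :=
    Subgroup.le_normalizer_iff.mp hzW z (Subgroup.mem_zpowers z)
  have hc := (h.card_eq E hEV hRE hEcop hEfix W (hW ▸ le_rfl) hEW hRW hW1).2
  -- a generator of the fixed points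
  have hnt : Nontrivial ↥(W ⊓ Subgroup.centralizer (R₀ : Set G)) := by
    rw [← Finite.one_lt_card_iff_nontrivial, hc]; exact h.hp.one_lt
  obtain ⟨⟨v₀, hv₀⟩, hv₀1⟩ := exists_ne (1 : ↥(W ⊓ Subgroup.centralizer (R₀ : Set G)))
  have hv₀1' : v₀ ≠ 1 := fun hh => hv₀1 (Subtype.ext hh)
  have hv₀p : v₀ ^ p = 1 := h.exp v₀ (hWV hv₀.1)
  have hov : orderOf v₀ = p := by
    rcases (Nat.dvd_prime h.hp).mp (orderOf_dvd_of_pow_eq_one hv₀p) with h' | h'
    · exact absurd (orderOf_eq_one_iff.mp h') hv₀1'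
    · exact h'
  have hzp : Subgroup.zpowers v₀ = W ⊓ Subgroup.centralizer (R₀ : Set G) := by
    apply Subgroup.eq_of_le_of_card_ge ((Subgroup.zpowers_le).mpr hv₀)
    rw [hc, Nat.card_zpowers, hov]
  have hzv : z * v₀ * z⁻¹ ∈ Subgroup.zpowers v₀ := by
    rw [hzp]
    exact ⟨hzW' v₀ hv₀.1, Subgroup.mul_mem _ (Subgroup.mul_mem _ hzR hv₀.2)
      (Subgroup.inv_mem _ hzR)⟩
  rw [← mem_powers_iff_mem_zpowers] at hzv
  obtain ⟨k, hk⟩ := hzv
  refine ⟨k, ?_⟩
  -- the subgroup where `z` acts as the `k`-th power map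
  let U : Subgroup G :=
    { carrier := {v | v ∈ W ∧ z * v * z⁻¹ = v ^ k}
      one_mem' := ⟨Subgroup.one_mem _, by simp⟩
      mul_mem' := by
        rintro a b ⟨ha, ha'⟩ ⟨hb, hb'⟩
        refine ⟨Subgroup.mul_mem _ ha hb, ?_⟩
        have hab : Commute a b := h.comm a (hWV ha) b (hWV hb)
        rw [hab.mul_pow, ← ha', ← hb']; group
      inv_mem' := by
        rintro a ⟨ha, ha'⟩
        refine ⟨Subgroup.inv_mem _ ha, ?_⟩
        rw [inv_pow, ← ha']; group }
  have hUW : U ≤ W := fun v hv => hv.1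
  have hEc : ∀ e ∈ E, e * z = z * e := fun e he => Subgroup.mem_centralizer_iff.mp hzE e he
  have hRc : ∀ e ∈ R₀, e * z = z * e := fun e he => Subgroup.mem_centralizer_iff.mp hzR e he
  have hinv : ∀ A : Subgroup G, A ≤ Subgroup.normalizer (W : Set G) → (∀ e ∈ A, e * z = z * e) →
      A ≤ Subgroup.normalizer (U : Set G) := by
    intro A hA hAc
    rw [Subgroup.le_normalizer_iff]
    rintro e he v ⟨hv, hv'⟩
    refine ⟨Subgroup.le_normalizer_iff.mp hA e he v hv, ?_⟩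
    have h1 : z * (e * v * e⁻¹) * z⁻¹ = e * (z * v * z⁻¹) * e⁻¹ := by
      have h2 : z * e = e * z := (hAc e he).symm
      have h3 : e⁻¹ * z⁻¹ = z⁻¹ * e⁻¹ := by rw [← mul_inv_rev, ← mul_inv_rev, h2]
      calc z * (e * v * e⁻¹) * z⁻¹ = (z * e) * v * (e⁻¹ * z⁻¹) := by group
        _ = (e * z) * v * (z⁻¹ * e⁻¹) := by rw [h2, h3]
        _ = e * (z * v * z⁻¹) * e⁻¹ := by group
    rw [h1, hv', conj_pow]
  have hU1 : U ≠ ⊥ := by
    intro hU
    have : v₀ ∈ U := ⟨hv₀.1, hk.symm⟩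
    rw [hU, Subgroup.mem_bot] at this
    exact hv₀1' this
  have hUeq := h.irred E hEV hRE hEcop hEfix U (hW ▸ hUW) (hinv E hEW hEc) (hinv R₀ hRW hRc) hU1
  intro v hv
  have : v ∈ U := by rw [hUeq, ← hW]; exact hv
  exact this.2

end ctx

end Cfsg.Agent.Lib.helper3
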