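import Mathlib
import Cfsg.Agent.Lib.helper3.ZgScalar

/-!
# Fixed points of `R₀` on a class-two group acting faithfully on `V` are central
-/

set_option autoImplicit false

namespace Cfsg.Agent.Lib.helper3

open scoped commutatorElement Pointwise

variable {G : Type*} [Group G] [Finite G] {p : ℕ} {V R₀ : Subgroup G}

/-- Let `D` be an `R₀`-invariant `p'`-group of class at most two acting faithfully on `V`, with
`C_D(R₀)` abelian.  Then `C_D(R₀) ≤ Z(D)`. -/
theorem ZgCtx.centralizer_le_center [Group.IsSolvable G] (h : ZgCtx p V R₀) (D : Subgroup G)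
    (hDV : D ≤ Subgroup.normalizer (V : Set G)) (hRD : R₀ ≤ Subgroup.normalizer (D : Set G))
    (hDcop : (Nat.card D).Coprime p) (hDr : (Nat.card D).Coprime (Nat.card R₀))
    (hDf : D ⊓ Subgroup.centralizer (V : Set G) = ⊥)
    (hcl : ∀ a ∈ D, ∀ b ∈ D, ∀ c ∈ D, ⁅a, b⁆ * c = c * ⁅a, b⁆)
    (hab : ∀ a ∈ D ⊓ Subgroup.centralizer (R₀ : Set G),
      ∀ b ∈ D ⊓ Subgroup.centralizer (R₀ : Set G), a * b = b * a) :
    D ⊓ Subgroup.centralizer (R₀ : Set G) ≤ Subgroup.centralizer (D : Set G) := by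
  classical
  intro z hz
  obtain ⟨hzD, hzR⟩ := Subgroup.mem_inf.mp hz
  obtain ⟨Z, hZ⟩ : ∃ Z : Subgroup G, Z = D ⊓ Subgroup.centralizer (D : Set G) := ⟨_, rfl⟩
  have hZD : Z ≤ D := hZ ▸ inf_le_left
  have hZc : ∀ a ∈ Z, ∀ d ∈ D, a * d = d * a := by
    intro a ha d hd
    rw [hZ] at ha
    exact (Subgroup.mem_centralizer_iff.mp (Subgroup.mem_inf.mp ha).2 d hd).symm
  have hZab : ∀ a ∈ Z, ∀ b ∈ Z, a * b = b * a := fun a ha b hb => hZc a ha b (hZD hb)
  have hRZ : R₀ ≤ Subgroup.normalizer (Z : Set G) :=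
    hZ ▸ zg_le_normalizer_inf hRD (zg_le_normalizer_centralizer hRD)
  have hcopZ : (Nat.card Z).Coprime (Nat.card R₀) :=
    Nat.Coprime.coprime_dvd_left (Subgroup.card_dvd_of_le hZD) hDr
  obtain ⟨E, hE⟩ : ∃ E : Subgroup G, E = ⁅Z, R₀⁆ := ⟨_, rfl⟩
  have hEZ : E ≤ Z := hE ▸ Cfsg.Agent.Lib.helper1.commutator_le_of_le_normalizer hRZ
  have hED : E ≤ D := hEZ.trans hZD
  have hEV : E ≤ Subgroup.normalizer (V : Set G) := hED.trans hDV
  have hRE : R₀ ≤ Subgroup.normalizer (E : Set G) :=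
    hE ▸ Cfsg.Agent.Lib.helper1.right_le_normalizer_commutator hRZ
  have hEcop : (Nat.card E).Coprime p :=
    Nat.Coprime.coprime_dvd_left (Subgroup.card_dvd_of_le hED) hDcop
  have hEfix : E ⊓ Subgroup.centralizer (R₀ : Set G) = ⊥ := by
    have h1 := zg_inf_commutator_eq_bot Z R₀ hZab hRZ hcopZ
    rw [eq_bot_iff, ← h1]
    intro x hx
    obtain ⟨hx1, hx2⟩ := Subgroup.mem_inf.mp hx
    exact Subgroup.mem_inf.mpr ⟨Subgroup.mem_inf.mpr ⟨hEZ hx1, hx2⟩, hE ▸ hx1⟩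
  have hDE : D ≤ Subgroup.centralizer (E : Set G) := by
    intro d hd
    rw [Subgroup.mem_centralizer_iff]
    intro e he
    exact hZc e (hEZ he) d hd
  -- commutators are in `Z`
  have hcomZ : ∀ a ∈ D, ∀ b ∈ D, ⁅a, b⁆ ∈ Z := by
    intro a ha b hb
    rw [hZ]
    refine Subgroup.mem_inf.mpr ⟨?_, ?_⟩
    · rw [commutatorElement_def]
      exact Subgroup.mul_mem _ (Subgroup.mul_mem _ (Subgroup.mul_mem _ ha hb)
        (Subgroup.inv_mem _ ha)) (Subgroup.inv_mem _ hb)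
    · rw [Subgroup.mem_centralizer_iff]
      intro c hc
      exact (hcl a ha b hb c hc).symm
  -- `ψ d = z⁻¹ d⁻¹ z d`
  have hψ : ∀ d : G, z⁻¹ * d⁻¹ * z * d = ⁅z⁻¹, d⁻¹⁆ := by
    intro d; rw [commutatorElement_def]; group
  have hψZ : ∀ d ∈ D, z⁻¹ * d⁻¹ * z * d ∈ Z := by
    intro d hd
    rw [hψ]
    exact hcomZ _ (Subgroup.inv_mem _ hzD) _ (Subgroup.inv_mem _ hd)
  -- Step 1: `R₀` centralizes `ψ d`
  have hstep1 : ∀ d ∈ D, z⁻¹ * d⁻¹ * z * d ∈ Subgroup.centralizer (R₀ : Set G) := by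
    intro d hd
    by_cases hE1 : E = ⊥
    · have h1 : Z ≤ Subgroup.centralizer (R₀ : Set G) := by
        rw [← Subgroup.commutator_eq_bot_iff_le_centralizer, ← hE]; exact hE1
      exact h1 (hψZ d hd)
    · obtain ⟨W, hW⟩ : ∃ W : Subgroup G, W = ⁅V, E⁆ := ⟨_, rfl⟩
      obtain ⟨k, hk⟩ := h.scalar E hEV hRE hEcop hEfix z (hDV hzD) hzR (hDE hzD)
      rw [← hW] at hk
      have hDW : D ≤ Subgroup.normalizer (W : Set G) :=
        hW ▸ zg_le_normalizer_commutator hDV (hDE.trans (Subgroup.centralizer_le_normalizer _))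
      have hRW : R₀ ≤ Subgroup.normalizer (W : Set G) :=
        hW ▸ zg_le_normalizer_commutator h.norm hRE
      -- `ψ d` centralizes `W`
      have hcW : z⁻¹ * d⁻¹ * z * d ∈ Subgroup.centralizer (W : Set G) := by
        rw [Subgroup.mem_centralizer_iff]
        intro v hv
        have hv' : d * v * d⁻¹ ∈ W := Subgroup.le_normalizer_iff.mp hDW d hd v hv
        have h1 : z * (d * v * d⁻¹) * z⁻¹ = d * (z * v * z⁻¹) * d⁻¹ := by
          rw [hk _ hv', hk v hv, conj_pow]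
        have h2 : v * (z⁻¹ * d⁻¹ * z * d) = (z⁻¹ * d⁻¹) * (d * (z * v * z⁻¹) * d⁻¹) * (z * d) := by
          group
        rw [h2, ← h1]; group
      -- `E ⊓ C(W) = ⊥`
      have hEW : E ⊓ Subgroup.centralizer (W : Set G) = ⊥ := by
        by_contra hne
        obtain ⟨E', hE'⟩ : ∃ E' : Subgroup G, E' = E ⊓ Subgroup.centralizer (W : Set G) :=
          ⟨_, rfl⟩
        rw [← hE'] at hne
        have hE'E : E' ≤ E := hE' ▸ inf_le_left
        have hE'V : E' ≤ Subgroup.normalizer (V : Set G) := hE'E.trans hEV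
        have hRE' : R₀ ≤ Subgroup.normalizer (E' : Set G) :=
          hE' ▸ zg_le_normalizer_inf hRE (zg_le_normalizer_centralizer hRW)
        have hE'cop : (Nat.card E').Coprime p :=
          Nat.Coprime.coprime_dvd_left (Subgroup.card_dvd_of_le hE'E) hEcop
        have hE'fix : E' ⊓ Subgroup.centralizer (R₀ : Set G) = ⊥ := by
          rw [eq_bot_iff, ← hEfix]
          exact inf_le_inf_right _ hE'E
        obtain ⟨W', hW'⟩ : ∃ W' : Subgroup G, W' = ⁅V, E'⁆ := ⟨_, rfl⟩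
        have hW'W : W' ≤ W := by
          rw [hW, hW']; exact Subgroup.commutator_mono le_rfl hE'E
        have hW'1 : W' ≠ ⊥ := by
          intro hb
          rw [hW', Subgroup.commutator_eq_bot_iff_le_centralizer] at hb
          have h1 : E' ≤ D ⊓ Subgroup.centralizer (V : Set G) := by
            intro e he
            refine Subgroup.mem_inf.mpr ⟨hED (hE'E he), ?_⟩
            rw [Subgroup.mem_centralizer_iff]
            intro v hv
            exact (Subgroup.mem_centralizer_iff.mp (hb hv) e he).symm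
          rw [hDf] at h1
          exact hne (le_bot_iff.mp h1)
        have hEE' : E ≤ Subgroup.normalizer (E' : Set G) := by
          have : E ≤ Subgroup.centralizer (E' : Set G) := by
            intro e he
            rw [Subgroup.mem_centralizer_iff]
            intro e' he'
            exact hZab e' (hEZ (hE'E he')) e (hEZ he)
          exact this.trans (Subgroup.centralizer_le_normalizer _)
        have hEW' : E ≤ Subgroup.normalizer (W' : Set G) :=
          hW' ▸ zg_le_normalizer_commutator hEV hEE'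
        have hRW' : R₀ ≤ Subgroup.normalizer (W' : Set G) :=
          hW' ▸ zg_le_normalizer_commutator h.norm hRE'
        have heq : W' = W := by
          rw [hW]
          exact h.irred E hEV hRE hEcop hEfix W' (hW ▸ hW'W) hEW' hRW' hW'1
        have h2 := zg_inf_commutator_eq_bot V E' h.comm hE'V
          (h.coprime_card le_rfl hE'cop).symm
        have h3 : W' ≤ (V ⊓ Subgroup.centralizer (E' : Set G)) ⊓ ⁅V, E'⁆ := by
          intro w hw
          refine Subgroup.mem_inf.mpr ⟨Subgroup.mem_inf.mpr ⟨?_, ?_⟩, hW' ▸ hw⟩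
          · exact Cfsg.Agent.Lib.helper1.commutator_le_of_le_normalizer hE'V (hW' ▸ hw)
          · rw [Subgroup.mem_centralizer_iff]
            intro e he
            have he' : e ∈ Subgroup.centralizer (W : Set G) := by
              have := he
              rw [hE'] at this
              exact (Subgroup.mem_inf.mp this).2
            exact (Subgroup.mem_centralizer_iff.mp he' w (heq ▸ hw)).symm
        rw [h2] at h3
        exact hW'1 (le_bot_iff.mp h3)
      obtain ⟨Z₃, hZ₃⟩ : ∃ Z₃ : Subgroup G, Z₃ = Z ⊓ Subgroup.centralizer (W : Set G) :=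
        ⟨_, rfl⟩
      have hRZ₃ : R₀ ≤ Subgroup.normalizer (Z₃ : Set G) :=
        hZ₃ ▸ zg_le_normalizer_inf hRZ (zg_le_normalizer_centralizer hRW)
      have h1 : ⁅Z₃, R₀⁆ ≤ E ⊓ Subgroup.centralizer (W : Set G) := by
        apply le_inf
        · rw [hE]; exact Subgroup.commutator_mono (hZ₃ ▸ inf_le_left) le_rfl
        · exact (Cfsg.Agent.Lib.helper1.commutator_le_of_le_normalizer hRZ₃).trans
            (hZ₃ ▸ inf_le_right)
      rw [hEW, le_bot_iff, Subgroup.commutator_eq_bot_iff_le_centralizer] at h1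
      exact h1 (hZ₃ ▸ Subgroup.mem_inf.mpr ⟨hψZ d hd, hcW⟩)
  -- Step 2
  have hmul : ∀ d₁ ∈ D, ∀ d₂ ∈ D, z⁻¹ * (d₁ * d₂)⁻¹ * z * (d₁ * d₂) =
      (z⁻¹ * d₁⁻¹ * z * d₁) * (z⁻¹ * d₂⁻¹ * z * d₂) := by
    intro d₁ hd₁ d₂ hd₂
    have h1 := hZc _ (hψZ d₁ hd₁) d₂ hd₂
    have h2 := hZc _ (hψZ d₁ hd₁) _ (hZD (hψZ d₂ hd₂))
    calc z⁻¹ * (d₁ * d₂)⁻¹ * z * (d₁ * d₂)
        = z⁻¹ * d₂⁻¹ * z * ((z⁻¹ * d₁⁻¹ * z * d₁) * d₂) := by group
      _ = z⁻¹ * d₂⁻¹ * z * (d₂ * (z⁻¹ * d₁⁻¹ * z * d₁)) := by rw [h1]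
      _ = (z⁻¹ * d₂⁻¹ * z * d₂) * (z⁻¹ * d₁⁻¹ * z * d₁) := by group
      _ = _ := h2.symm
  have hconj : ∀ d ∈ D, ∀ a ∈ R₀, z⁻¹ * (a * d * a⁻¹)⁻¹ * z * (a * d * a⁻¹) =
      z⁻¹ * d⁻¹ * z * d := by
    intro d hd a ha
    have h1 : a * z = z * a := Subgroup.mem_centralizer_iff.mp hzR a ha
    have h2 := Subgroup.mem_centralizer_iff.mp (hstep1 d hd) a ha
    have h3 : a * z⁻¹ = z⁻¹ * a := (Commute.inv_right (h1 : Commute a z)).eq
    have e1 : a * z * a⁻¹ = z := by rw [h1]; group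
    have e2 : a * z⁻¹ * a⁻¹ = z⁻¹ := by rw [h3]; group
    calc z⁻¹ * (a * d * a⁻¹)⁻¹ * z * (a * d * a⁻¹)
        = (a * z⁻¹ * a⁻¹) * (a * d⁻¹ * a⁻¹) * (a * z * a⁻¹) * (a * d * a⁻¹) := by
          rw [e1, e2]; group
      _ = a * (z⁻¹ * d⁻¹ * z * d) * a⁻¹ := by group
      _ = (z⁻¹ * d⁻¹ * z * d) * a * a⁻¹ := by rw [h2]
      _ = _ := by group
  let T : Subgroup G :=
    { carrier := {d | d ∈ D ∧ z⁻¹ * d⁻¹ * z * d = 1}
      one_mem' := ⟨Subgroup.one_mem _, by group⟩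
      mul_mem' := by
        rintro a b ⟨ha, ha'⟩ ⟨hb, hb'⟩
        exact ⟨Subgroup.mul_mem _ ha hb, by rw [hmul a ha b hb, ha', hb', one_mul]⟩
      inv_mem' := by
        rintro a ⟨ha, ha'⟩
        refine ⟨Subgroup.inv_mem _ ha, ?_⟩
        have h1 := hmul a ha a⁻¹ (Subgroup.inv_mem _ ha)
        rw [ha', one_mul] at h1
        rw [← h1]; group }
  have hcomT : ⁅D, R₀⁆ ≤ T := by
    rw [Subgroup.commutator_le]
    intro d hd a ha
    have hd' : a * d⁻¹ * a⁻¹ ∈ D :=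
      Subgroup.le_normalizer_iff.mp hRD a ha _ (Subgroup.inv_mem _ hd)
    have e : ⁅d, a⁆ = d * (a * d⁻¹ * a⁻¹) := by rw [commutatorElement_def]; group
    refine ⟨by rw [e]; exact Subgroup.mul_mem _ hd hd', ?_⟩
    rw [e, hmul d hd _ hd', hconj _ (Subgroup.inv_mem _ hd) a ha, ← hmul d hd _
      (Subgroup.inv_mem _ hd)]
    group
  rw [Subgroup.mem_centralizer_iff]
  intro d hd
  -- decompose `d = t * c`
  have hRN : R₀ ≤ Subgroup.normalizer ((⁅D, R₀⁆ : Subgroup G) : Set G) :=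
    Cfsg.Agent.Lib.helper1.right_le_normalizer_commutator hRD
  have hcomD : ⁅D, R₀⁆ ≤ D := Cfsg.Agent.Lib.helper1.commutator_le_of_le_normalizer hRD
  obtain ⟨c, hc, hcd⟩ := Cfsg.Agent.Lib.helper1.coset_fixed R₀ ⁅D, R₀⁆ hRN
    (Nat.Coprime.coprime_dvd_right (Subgroup.card_dvd_of_le hcomD) hDr.symm)
    (Or.inr inferInstance) d (by
      intro a ha
      have e : a * d * a⁻¹ * d⁻¹ = ⁅a, d⁆ := by rw [commutatorElement_def]
      rw [e, Subgroup.commutator_comm]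
      exact Subgroup.commutator_mem_commutator ha hd)
  have hcD : c ∈ D := by
    have : c = (c * d⁻¹) * d := by group
    rw [this]
    exact Subgroup.mul_mem _ (hcomD hcd) hd
  have hdT : d * c⁻¹ ∈ T := by
    have : d * c⁻¹ = (c * d⁻¹)⁻¹ := by group
    rw [this]
    exact Subgroup.inv_mem _ (hcomT hcd)
  have hcz : z⁻¹ * c⁻¹ * z * c = 1 := by
    have := hab z (Subgroup.mem_inf.mpr ⟨hzD, hzR⟩) c (Subgroup.mem_inf.mpr ⟨hcD, hc⟩)
    calc z⁻¹ * c⁻¹ * z * c = z⁻¹ * c⁻¹ * (z * c) := by group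
      _ = z⁻¹ * c⁻¹ * (c * z) := by rw [this]
      _ = 1 := by group
  have hd1 : z⁻¹ * d⁻¹ * z * d = 1 := by
    have e : d = (d * c⁻¹) * c := by group
    rw [e, hmul _ hdT.1 c hcD, hdT.2, hcz, one_mul]
  calc d * z = z * d * (z⁻¹ * d⁻¹ * z * d)⁻¹ := by group
    _ = z * d := by rw [hd1, inv_one, mul_one]

end Cfsg.Agent.Lib.helper3
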