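import Mathlib
import Cfsg.Agent.Lib.helper3.ZgCenter

/-!
# The abelian case of the minimal configuration
-/

set_option autoImplicit false

namespace Cfsg.Agent.Lib.helper3

open scoped commutatorElement Pointwise
open Cfsg.Agent.Lib.helper1 (mem_conj_smul conj_mem_conj_smul card_conj_smul conj_smul_conj_smul
  conj_smul_eq_of_mem_normalizer mem_normalizer_of_conj_smul_eq)

variable {G : Type*} [Group G] [Finite G]

/-- If `R₀` acts fixed-point-freely on `P` and centralizes `D`, then `P` centralizes `D`. -/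
theorem zg_centralizes_of_fixed [Group.IsSolvable G] (P R₀ D : Subgroup G)
    (hRP : R₀ ≤ Subgroup.normalizer (P : Set G)) (hPD : P ≤ Subgroup.normalizer (D : Set G))
    (hPfix : P ⊓ Subgroup.centralizer (R₀ : Set G) = ⊥)
    (hcop : (Nat.card R₀).Coprime (Nat.card P))
    (hDR : D ≤ Subgroup.centralizer (R₀ : Set G)) : P ≤ Subgroup.centralizer (D : Set G) := by
  have h1 := Cfsg.Agent.Lib.helper1.commutator_sup_fixed R₀ P hRP hcop (Or.inr inferInstance)
  rw [hPfix, sup_bot_eq] at h1
  rw [← h1, Subgroup.commutator_le]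
  intro x hx a ha
  rw [Subgroup.mem_centralizer_iff]
  intro d hd
  have hx' : x⁻¹ * d * x ∈ D := by
    have := Subgroup.le_normalizer_iff.mp hPD x⁻¹ (Subgroup.inv_mem _ hx) d hd
    simpa using this
  have h2 : a * d = d * a := Subgroup.mem_centralizer_iff.mp (hDR hd) a ha
  have h3 : a * (x⁻¹ * d * x) = (x⁻¹ * d * x) * a :=
    Subgroup.mem_centralizer_iff.mp (hDR hx') a ha
  have h2' : a⁻¹ * d = d * a⁻¹ := (Commute.inv_left (h2 : Commute a d)).eq
  rw [commutatorElement_def]
  calc d * (x * a * x⁻¹ * a⁻¹) = x * ((x⁻¹ * d * x) * a) * x⁻¹ * a⁻¹ := by group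
    _ = x * (a * (x⁻¹ * d * x)) * x⁻¹ * a⁻¹ := by rw [h3]
    _ = x * a * x⁻¹ * (d * a⁻¹) := by group
    _ = x * a * x⁻¹ * (a⁻¹ * d) := by rw [h2']
    _ = x * a * x⁻¹ * a⁻¹ * d := by group

/-- If `D = Y Y'` is abelian with `C_W(D) = 1` (coprime action), then `C_W(Y') ≤ [W, Y]`. -/
theorem zg_inf_centralizer_le_commutator [Group.IsSolvable G] (W Y Y' D : Subgroup G)
    (hDab : ∀ a ∈ D, ∀ b ∈ D, a * b = b * a) (hY : Y ≤ D) (hY' : Y' ≤ D) (hsup : D ≤ Y ⊔ Y')
    (hDW : D ≤ Subgroup.normalizer (W : Set G)) (hcop : (Nat.card Y).Coprime (Nat.card W))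
    (hfix : W ⊓ Subgroup.centralizer (D : Set G) = ⊥) :
    W ⊓ Subgroup.centralizer (Y' : Set G) ≤ ⁅W, Y⁆ := by
  obtain ⟨K, hK⟩ : ∃ K : Subgroup G, K = W ⊓ Subgroup.centralizer (Y' : Set G) := ⟨_, rfl⟩
  rw [← hK]
  have hYY' : Y ≤ Subgroup.normalizer (Y' : Set G) := by
    have : Y ≤ Subgroup.centralizer (Y' : Set G) := by
      intro y hy
      rw [Subgroup.mem_centralizer_iff]
      intro y' hy'
      exact hDab y' (hY' hy') y (hY hy)
    exact this.trans (Subgroup.centralizer_le_normalizer _)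
  have hYK : Y ≤ Subgroup.normalizer (K : Set G) :=
    hK ▸ zg_le_normalizer_inf (hY.trans hDW) (zg_le_normalizer_centralizer hYY')
  have hKW : K ≤ W := hK ▸ inf_le_left
  have h1 := Cfsg.Agent.Lib.helper1.commutator_sup_fixed Y K hYK
    (Nat.Coprime.coprime_dvd_right (Subgroup.card_dvd_of_le hKW) hcop) (Or.inr inferInstance)
  have h2 : K ⊓ Subgroup.centralizer (Y : Set G) = ⊥ := by
    rw [eq_bot_iff, ← hfix]
    intro v hv
    obtain ⟨hvK, hvY⟩ := Subgroup.mem_inf.mp hv
    rw [hK] at hvK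
    obtain ⟨hvW, hvY'⟩ := Subgroup.mem_inf.mp hvK
    refine Subgroup.mem_inf.mpr ⟨hvW, ?_⟩
    have h3 : Y ⊔ Y' ≤ Subgroup.centralizer ({v} : Set G) := by
      apply sup_le
      · intro y hy
        rw [Subgroup.mem_centralizer_iff]
        intro w hw
        rw [Set.mem_singleton_iff.mp hw]
        exact (Subgroup.mem_centralizer_iff.mp hvY y hy).symm
      · intro y hy
        rw [Subgroup.mem_centralizer_iff]
        intro w hw
        rw [Set.mem_singleton_iff.mp hw]
        exact (Subgroup.mem_centralizer_iff.mp hvY' y hy).symm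
    rw [Subgroup.mem_centralizer_iff]
    intro d hd
    exact (Subgroup.mem_centralizer_iff.mp (h3 (hsup hd)) v rfl).symm
  rw [h2, sup_bot_eq] at h1
  rw [← h1]
  exact Subgroup.commutator_mono hKW le_rfl

/-- **The abelian case.**  An elementary abelian `q`-group `D`, minimal among the `P R₀`-invariant
subgroups not centralized by `P`, cannot act faithfully on `V`. -/
theorem ZgCtx.abelian_case [Group.IsSolvable G] {p : ℕ} {V R₀ : Subgroup G} (h : ZgCtx p V R₀)
    (D P : Subgroup G) {q : ℕ} (hq : q.Prime)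
    (hDV : D ≤ Subgroup.normalizer (V : Set G)) (hPV : P ≤ Subgroup.normalizer (V : Set G))
    (hPD : P ≤ Subgroup.normalizer (D : Set G)) (hRD : R₀ ≤ Subgroup.normalizer (D : Set G))
    (hRP : R₀ ≤ Subgroup.normalizer (P : Set G))
    (hDcop : (Nat.card D).Coprime p) (hDr : (Nat.card D).Coprime (Nat.card R₀))
    (hP : IsPGroup p P) (hPfix : P ⊓ Subgroup.centralizer (R₀ : Set G) = ⊥)
    (hDf : D ⊓ Subgroup.centralizer (V : Set G) = ⊥)
    (hDab : ∀ a ∈ D, ∀ b ∈ D, a * b = b * a) (hDq : ∀ a ∈ D, a ^ q = 1)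
    (hDcyc : IsCyclic ↥(D ⊓ Subgroup.centralizer (R₀ : Set G)))
    (hmin : ∀ D' : Subgroup G, D' ≤ D → D' ≠ D → P ≤ Subgroup.normalizer (D' : Set G) →
      R₀ ≤ Subgroup.normalizer (D' : Set G) → P ≤ Subgroup.centralizer (D' : Set G))
    (hDP : D ⊓ Subgroup.centralizer (P : Set G) = ⊥) (hD1 : D ≠ ⊥) : False := by
  classical
  have : Fact p.Prime := ⟨h.hp⟩
  have hcopRP : (Nat.card R₀).Coprime (Nat.card P) := by
    obtain ⟨n, hn⟩ := (IsPGroup.iff_card).mp hP
    rw [hn]; exact Nat.Coprime.pow_right n h.coprime_R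
  have hcopPD : (Nat.card P).Coprime (Nat.card D) := by
    obtain ⟨n, hn⟩ := (IsPGroup.iff_card).mp hP
    rw [hn]; exact Nat.Coprime.pow_left n hDcop.symm
  have hP1 : P ≠ ⊥ := by
    intro hP1
    rw [hP1] at hDP
    have : D ≤ D ⊓ Subgroup.centralizer (((⊥ : Subgroup G) : Subgroup G) : Set G) := by
      intro d hd
      refine Subgroup.mem_inf.mpr ⟨hd, ?_⟩
      rw [Subgroup.mem_centralizer_iff]
      intro x hx
      rw [SetLike.mem_coe, Subgroup.mem_bot] at hx
      rw [hx]; simp
    rw [hDP] at this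
    exact hD1 (le_bot_iff.mp this)
  -- `D₀ = [D, R₀]`
  obtain ⟨D₀, hD₀⟩ : ∃ D₀ : Subgroup G, D₀ = ⁅D, R₀⁆ := ⟨_, rfl⟩
  have hD₀D : D₀ ≤ D := hD₀ ▸ Cfsg.Agent.Lib.helper1.commutator_le_of_le_normalizer hRD
  have hRD₀ : R₀ ≤ Subgroup.normalizer (D₀ : Set G) :=
    hD₀ ▸ Cfsg.Agent.Lib.helper1.right_le_normalizer_commutator hRD
  have hD₀fix : D₀ ⊓ Subgroup.centralizer (R₀ : Set G) = ⊥ := by
    have h1 := zg_inf_commutator_eq_bot D R₀ hDab hRD hDr
    rw [eq_bot_iff, ← h1]
    intro x hx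
    obtain ⟨hx1, hx2⟩ := Subgroup.mem_inf.mp hx
    exact Subgroup.mem_inf.mpr ⟨Subgroup.mem_inf.mpr ⟨hD₀D hx1, hx2⟩, hD₀ ▸ hx1⟩
  have hD₀V : D₀ ≤ Subgroup.normalizer (V : Set G) := hD₀D.trans hDV
  have hD₀cop : (Nat.card D₀).Coprime p :=
    Nat.Coprime.coprime_dvd_left (Subgroup.card_dvd_of_le hD₀D) hDcop
  have hDcD : ∀ Y : Subgroup G, Y ≤ D → D ≤ Subgroup.centralizer (Y : Set G) := by
    intro Y hY d hd
    rw [Subgroup.mem_centralizer_iff]
    intro y hy
    exact hDab y (hY hy) d hd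
  have hDnY : ∀ Y : Subgroup G, Y ≤ D → D ≤ Subgroup.normalizer (Y : Set G) :=
    fun Y hY => (hDcD Y hY).trans (Subgroup.centralizer_le_normalizer _)
  -- the case `D₀ = ⊥`
  by_cases hD₀1 : D₀ = ⊥
  · have h1 : D ≤ Subgroup.centralizer (R₀ : Set G) := by
      rw [← Subgroup.commutator_eq_bot_iff_le_centralizer, ← hD₀]; exact hD₀1
    have h2 := zg_centralizes_of_fixed P R₀ D hRP hPD hPfix hcopRP h1
    have h3 : D ≤ D ⊓ Subgroup.centralizer (P : Set G) := by
      intro d hd
      refine Subgroup.mem_inf.mpr ⟨hd, ?_⟩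
      rw [Subgroup.mem_centralizer_iff]
      intro x hx
      exact (Subgroup.mem_centralizer_iff.mp (h2 hx) d hd).symm
    rw [hDP] at h3
    exact hD1 (le_bot_iff.mp h3)
  obtain ⟨W, hW⟩ : ∃ W : Subgroup G, W = ⁅V, D₀⁆ := ⟨_, rfl⟩
  obtain ⟨W₁, hW₁⟩ : ∃ W₁ : Subgroup G, W₁ = ⁅V, D⁆ := ⟨_, rfl⟩
  have hW₁V : W₁ ≤ V := hW₁ ▸ Cfsg.Agent.Lib.helper1.commutator_le_of_le_normalizer hDV
  have hWW₁ : W ≤ W₁ := by rw [hW, hW₁]; exact Subgroup.commutator_mono le_rfl hD₀D
  have hDW₁ : D ≤ Subgroup.normalizer (W₁ : Set G) :=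
    hW₁ ▸ zg_le_normalizer_commutator hDV Subgroup.le_normalizer
  have hPW₁ : P ≤ Subgroup.normalizer (W₁ : Set G) :=
    hW₁ ▸ zg_le_normalizer_commutator hPV hPD
  have hRW₁ : R₀ ≤ Subgroup.normalizer (W₁ : Set G) :=
    hW₁ ▸ zg_le_normalizer_commutator h.norm hRD
  have hW₁ab : ∀ a ∈ W₁, ∀ b ∈ W₁, a * b = b * a :=
    fun a ha b hb => h.comm a (hW₁V ha) b (hW₁V hb)
  have hW₁fix : W₁ ⊓ Subgroup.centralizer (D : Set G) = ⊥ := by
    have h1 := zg_inf_commutator_eq_bot V D h.comm hDV (h.coprime_card le_rfl hDcop).symm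
    rw [eq_bot_iff, ← h1]
    intro x hx
    obtain ⟨hx1, hx2⟩ := Subgroup.mem_inf.mp hx
    exact Subgroup.mem_inf.mpr ⟨Subgroup.mem_inf.mpr ⟨hW₁V hx1, hx2⟩, hW₁ ▸ hx1⟩
  have hcopYW : ∀ Y : Subgroup G, Y ≤ D → (Nat.card Y).Coprime (Nat.card W₁) := fun Y hY =>
    h.coprime_card hW₁V (Nat.Coprime.coprime_dvd_left (Subgroup.card_dvd_of_le hY) hDcop)
  have hW1 : W ≠ ⊥ := by
    intro hb
    rw [hW, Subgroup.commutator_eq_bot_iff_le_centralizer] at hb
    have h1 : D₀ ≤ D ⊓ Subgroup.centralizer (V : Set G) := by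
      intro e he
      refine Subgroup.mem_inf.mpr ⟨hD₀D he, ?_⟩
      rw [Subgroup.mem_centralizer_iff]
      intro v hv
      exact (Subgroup.mem_centralizer_iff.mp (hb hv) e he).symm
    rw [hDf] at h1
    exact hD₀1 (le_bot_iff.mp h1)
  have hirr := fun U hU1 hU2 hU3 hU4 => h.irred D₀ hD₀V hRD₀ hD₀cop hD₀fix U (hW ▸ hU1) hU2 hU3 hU4
  -- Key: `P` normalizes `W`
  have hPW : P ≤ Subgroup.normalizer (W : Set G) := by
    by_cases hV₄ : W₁ ⊓ Subgroup.centralizer (D₀ : Set G) = ⊥
    · have h1 := Cfsg.Agent.Lib.helper1.commutator_sup_fixed D₀ W₁ (hD₀D.trans hDW₁)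
        (hcopYW D₀ hD₀D) (Or.inr inferInstance)
      rw [hV₄, sup_bot_eq] at h1
      have h2 : W₁ ≤ W := by
        rw [← h1, hW]; exact Subgroup.commutator_mono hW₁V le_rfl
      rw [le_antisymm hWW₁ h2]; exact hPW₁
    · by_cases hPD₀ : P ≤ Subgroup.normalizer (D₀ : Set G)
      · rw [hW]; exact zg_le_normalizer_commutator hPV hPD₀
      · exfalso
        obtain ⟨x₀, hx₀P, hx₀N⟩ := SetLike.not_le_iff_exists.mp hPD₀
        -- cardinalities
        have hCq : Nat.card ↥(D ⊓ Subgroup.centralizer (R₀ : Set G)) ∣ q := by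
          obtain ⟨g, hg⟩ := hDcyc.exists_generator
          have h1 : orderOf g ∣ q := by
            apply orderOf_dvd_of_pow_eq_one
            apply Subtype.ext
            have := hDq (g : G) (Subgroup.mem_inf.mp g.2).1
            simpa using this
          rwa [orderOf_eq_card_of_forall_mem_zpowers hg] at h1
        have hsupD : D₀ ⊔ (D ⊓ Subgroup.centralizer (R₀ : Set G)) = D := by
          have := Cfsg.Agent.Lib.helper1.commutator_sup_fixed R₀ D hRD hDr.symm (Or.inr inferInstance)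
          rw [← hD₀] at this
          exact this
        have hcardD : Nat.card D = Nat.card D₀ * Nat.card ↥(D ⊓ Subgroup.centralizer (R₀ : Set G)) := by
          have h1 := zg_card_sup D₀ (D ⊓ Subgroup.centralizer (R₀ : Set G))
            (inf_le_left.trans (hDnY D₀ hD₀D)) (by
              rw [← inf_assoc, inf_eq_left.mpr hD₀D]; exact hD₀fix)
          rw [hsupD] at h1
          exact h1
        have hCq' : Nat.card ↥(D ⊓ Subgroup.centralizer (R₀ : Set G)) = q := by
          rcases (Nat.dvd_prime hq).mp hCq with h1 | h1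
          · exfalso
            rw [h1, mul_one] at hcardD
            have : D₀ = D := Subgroup.eq_of_le_of_card_ge hD₀D hcardD.le
            exact hPD₀ (this ▸ hPD)
          · exact h1
        rw [hCq'] at hcardD
        -- two distinct "hyperplanes" generate `D`
        have hyp : ∀ Z Z' : Subgroup G, Z ≤ D → Z' ≤ D → Nat.card Z = Nat.card D₀ →
            Nat.card Z' = Nat.card D₀ → Z ≠ Z' → D ≤ Z ⊔ Z' := by
          intro Z Z' hZ hZ' hcZ hcZ' hne
          have h1 : Nat.card Z * Z.relIndex (Z ⊔ Z') = Nat.card ↥(Z ⊔ Z') :=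
            card_mul_relIndex_of_le le_sup_left
          have h2 : Nat.card ↥(Z ⊔ Z') ∣ Nat.card D := Subgroup.card_dvd_of_le (sup_le hZ hZ')
          rw [← h1, hcardD, hcZ] at h2
          have h3 : Z.relIndex (Z ⊔ Z') ∣ q :=
            (Nat.mul_dvd_mul_iff_left Nat.card_pos).mp h2
          rcases (Nat.dvd_prime hq).mp h3 with h4 | h4
          · exfalso
            have h5 : Z ⊔ Z' ≤ Z := Subgroup.relIndex_eq_one.mp h4
            have h6 : Z' ≤ Z := le_sup_right.trans h5
            exact hne (Subgroup.eq_of_le_of_card_ge h6 (by rw [hcZ, hcZ'])).symm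
          · have h5 : Nat.card ↥(Z ⊔ Z') = Nat.card D := by rw [← h1, h4, hcZ, hcardD]
            exact (Subgroup.eq_of_le_of_card_ge (sup_le hZ hZ') h5.ge).ge
        -- conjugates of `D₀`
        have hconjD : ∀ g : G, g ∈ Subgroup.normalizer (D : Set G) → ∀ Z : Subgroup G, Z ≤ D →
            MulAut.conj g • Z ≤ D := by
          intro g hg Z hZ x hx
          rw [mem_conj_smul] at hx
          have := (Subgroup.mem_normalizer_iff.mp hg _).mp (hZ hx)
          have e : g * (g⁻¹ * x * g) * g⁻¹ = x := by group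
          rwa [e] at this
        have hVV : ∀ g : G, g ∈ Subgroup.normalizer (W₁ : Set G) → ∀ Z : Subgroup G,
            ∀ v ∈ W₁ ⊓ Subgroup.centralizer (Z : Set G),
            g * v * g⁻¹ ∈ W₁ ⊓ Subgroup.centralizer ((MulAut.conj g • Z : Subgroup G) : Set G) := by
          intro g hg Z v hv
          obtain ⟨hv1, hv2⟩ := Subgroup.mem_inf.mp hv
          refine Subgroup.mem_inf.mpr ⟨(Subgroup.mem_normalizer_iff.mp hg v).mp hv1, ?_⟩
          rw [Subgroup.mem_centralizer_iff]
          intro y hy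
          rw [SetLike.mem_coe, mem_conj_smul] at hy
          have h1 := Subgroup.mem_centralizer_iff.mp hv2 _ hy
          calc y * (g * v * g⁻¹) = g * ((g⁻¹ * y * g) * v) * g⁻¹ := by group
            _ = g * (v * (g⁻¹ * y * g)) * g⁻¹ := by rw [h1]
            _ = g * v * g⁻¹ * y := by group
        obtain ⟨v₄, hv₄, hv₄1⟩ := (Subgroup.ne_bot_iff_exists_ne_one
          (H := W₁ ⊓ Subgroup.centralizer (D₀ : Set G))).mp hV₄ |>.imp (fun a ha => ha) |> fun ⟨a, ha⟩ =>
            (⟨(a : G), a.2, fun hh => ha (Subtype.ext hh)⟩ : ∃ v : G,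
              v ∈ W₁ ⊓ Subgroup.centralizer (D₀ : Set G) ∧ v ≠ 1)
        -- (c2)
        have hc2 : ∀ x ∈ P, MulAut.conj x • D₀ ≠ D₀ →
            W₁ ⊓ Subgroup.centralizer ((MulAut.conj x • D₀ : Subgroup G) : Set G) ≠ ⊥ ∧
            W₁ ⊓ Subgroup.centralizer ((MulAut.conj x • D₀ : Subgroup G) : Set G) ≤ W := by
          intro x hx hne
          constructor
          · intro hb
            have h1 := hVV x (hPW₁ hx) D₀ v₄ hv₄
            rw [hb, Subgroup.mem_bot] at h1
            apply hv₄1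
            have e : v₄ = x⁻¹ * (x * v₄ * x⁻¹) * x := by group
            rw [e, h1]; group
          · have h1 := zg_inf_centralizer_le_commutator W₁ D₀ (MulAut.conj x • D₀) D hDab hD₀D
              (hconjD x (hPD hx) D₀ hD₀D)
              (by
                rw [sup_comm]
                exact hyp _ _ (hconjD x (hPD hx) D₀ hD₀D) hD₀D (card_conj_smul x D₀) rfl hne)
              hDW₁ (hcopYW D₀ hD₀D) hW₁fix
            refine h1.trans ?_
            rw [hW]; exact Subgroup.commutator_mono hW₁V le_rfl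
        -- (c3)
        have hc3 : ∀ x ∈ P, MulAut.conj x • D₀ ≠ D₀ → ∀ a ∈ R₀, a ≠ 1 →
            MulAut.conj a • (MulAut.conj x • D₀) ≠ MulAut.conj x • D₀ := by
          intro x hx hne a ha ha1 heq
          have hR : R₀ ≤ Subgroup.normalizer ((MulAut.conj x • D₀ : Subgroup G) : Set G) := by
            have h1 : Subgroup.zpowers a ≤
                Subgroup.normalizer ((MulAut.conj x • D₀ : Subgroup G) : Set G) :=
              (Subgroup.zpowers_le).mpr (mem_normalizer_of_conj_smul_eq heq)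
            have h2 : Subgroup.zpowers a = R₀ := by
              apply Subgroup.eq_of_le_of_card_ge ((Subgroup.zpowers_le).mpr ha)
              have h3 : Nat.card (Subgroup.zpowers a) ∣ Nat.card R₀ :=
                Subgroup.card_dvd_of_le ((Subgroup.zpowers_le).mpr ha)
              rcases (Nat.dvd_prime h.prime).mp h3 with h4 | h4
              · exfalso
                rw [Nat.card_zpowers, orderOf_eq_one_iff] at h4
                exact ha1 h4
              · exact h4.ge
            rwa [h2] at h1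
          obtain ⟨P₀, hP₀⟩ : ∃ P₀ : Subgroup G, P₀ = P ⊓ Subgroup.normalizer (D₀ : Set G) :=
            ⟨_, rfl⟩
          have hRP₀ : R₀ ≤ Subgroup.normalizer (P₀ : Set G) :=
            hP₀ ▸ zg_le_normalizer_inf hRP (hRD₀.trans Subgroup.le_normalizer)
          have hkey : ∀ a' ∈ R₀, a' * x⁻¹ * a'⁻¹ * (x⁻¹)⁻¹ ∈ P₀ := by
            intro a' ha'
            rw [hP₀, inv_inv]
            refine Subgroup.mem_inf.mpr ⟨?_, ?_⟩
            · have := Subgroup.le_normalizer_iff.mp hRP a' ha' x⁻¹ (Subgroup.inv_mem _ hx)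
              exact Subgroup.mul_mem _ this hx
            · apply mem_normalizer_of_conj_smul_eq
              have e1 : MulAut.conj a'⁻¹ • (MulAut.conj x • D₀) = MulAut.conj x • D₀ :=
                conj_smul_eq_of_mem_normalizer (hR (Subgroup.inv_mem _ ha'))
              have e2 : MulAut.conj a' • D₀ = D₀ := conj_smul_eq_of_mem_normalizer (hRD₀ ha')
              have e3 : MulAut.conj x⁻¹ • (MulAut.conj x • D₀) = D₀ := by
                rw [conj_smul_conj_smul, inv_mul_cancel, map_one, one_smul]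
              calc MulAut.conj (a' * x⁻¹ * a'⁻¹ * x) • D₀
                  = MulAut.conj a' • (MulAut.conj x⁻¹ • (MulAut.conj a'⁻¹ •
                      (MulAut.conj x • D₀))) := by
                    rw [conj_smul_conj_smul, conj_smul_conj_smul, conj_smul_conj_smul]
                _ = D₀ := by rw [e1, e3, e2]
          have hcopRP₀ : (Nat.card R₀).Coprime (Nat.card P₀) :=
            Nat.Coprime.coprime_dvd_right (Subgroup.card_dvd_of_le (hP₀ ▸ inf_le_left)) hcopRP
          obtain ⟨c, hc, hcx⟩ := Cfsg.Agent.Lib.helper1.coset_fixed R₀ P₀ hRP₀ hcopRP₀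
            (Or.inr inferInstance) x⁻¹ hkey
          rw [inv_inv] at hcx
          have hcP : c ∈ P := by
            have e : c = (c * x) * x⁻¹ := by group
            rw [e]
            exact Subgroup.mul_mem _ ((hP₀ ▸ inf_le_left : P₀ ≤ P) hcx) (Subgroup.inv_mem _ hx)
          have hc1 : c = 1 := by
            have : c ∈ P ⊓ Subgroup.centralizer (R₀ : Set G) := Subgroup.mem_inf.mpr ⟨hcP, hc⟩
            rwa [hPfix, Subgroup.mem_bot] at this
          rw [hc1, one_mul, hP₀] at hcx
          exact hne (conj_smul_eq_of_mem_normalizer (Subgroup.mem_inf.mp hcx).2)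
        -- moving conjugates by `R₀`
        have hmove : ∀ x ∈ P, ∀ a ∈ R₀, MulAut.conj a • (MulAut.conj x • D₀) =
            MulAut.conj (a * x * a⁻¹) • D₀ := by
          intro x _ a ha
          have e2 : MulAut.conj a • D₀ = D₀ := conj_smul_eq_of_mem_normalizer (hRD₀ ha)
          calc MulAut.conj a • (MulAut.conj x • D₀) = MulAut.conj (a * x) • D₀ :=
                conj_smul_conj_smul a x D₀
            _ = MulAut.conj (a * x * a⁻¹ * a) • D₀ := by congr 2; group
            _ = MulAut.conj (a * x * a⁻¹) • (MulAut.conj a • D₀) :=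
                (conj_smul_conj_smul _ a D₀).symm
            _ = _ := by rw [e2]
        have hmoveP : ∀ x ∈ P, ∀ a ∈ R₀, a * x * a⁻¹ ∈ P := fun x hx a ha =>
          Subgroup.le_normalizer_iff.mp hRP a ha x hx
        have hmovene : ∀ x ∈ P, MulAut.conj x • D₀ ≠ D₀ → ∀ a ∈ R₀,
            MulAut.conj (a * x * a⁻¹) • D₀ ≠ D₀ := by
          intro x hx hne a ha heq
          rw [← hmove x hx a ha] at heq
          apply hne
          have e1 : MulAut.conj a⁻¹ • (MulAut.conj a • (MulAut.conj x • D₀)) =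
              MulAut.conj x • D₀ := by
            rw [conj_smul_conj_smul, inv_mul_cancel, map_one, one_smul]
          rw [← e1, heq]
          exact conj_smul_eq_of_mem_normalizer (Subgroup.inv_mem _ (hRD₀ ha))
        -- (c4)
        have hc4 : ∀ x ∈ P, MulAut.conj x • D₀ ≠ D₀ →
            W ≤ Subgroup.closure {v | v ∈ W₁ ∧ ∃ a ∈ R₀, v ∈ Subgroup.centralizer
              ((MulAut.conj a • (MulAut.conj x • D₀) : Subgroup G) : Set G)} := by
          intro x hx hne
          obtain ⟨S, hS⟩ : ∃ S : Set G, S = {v | v ∈ W₁ ∧ ∃ a ∈ R₀, v ∈ Subgroup.centralizer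
              ((MulAut.conj a • (MulAut.conj x • D₀) : Subgroup G) : Set G)} := ⟨_, rfl⟩
          rw [← hS]
          have hBW : Subgroup.closure S ≤ W := by
            rw [Subgroup.closure_le]
            intro v hv
            rw [hS] at hv
            obtain ⟨hv1, a, ha, hv2⟩ := hv
            rw [hmove x hx a ha] at hv2
            exact (hc2 _ (hmoveP x hx a ha) (hmovene x hx hne a ha)).2
              (Subgroup.mem_inf.mpr ⟨hv1, hv2⟩)
          have hB1 : Subgroup.closure S ≠ ⊥ := by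
            intro hb
            apply (hc2 x hx hne).1
            rw [eq_bot_iff]
            intro v hv
            obtain ⟨hv1, hv2⟩ := Subgroup.mem_inf.mp hv
            rw [← hb]
            apply Subgroup.subset_closure
            rw [hS]
            refine ⟨hv1, 1, Subgroup.one_mem _, ?_⟩
            rw [map_one, one_smul]; exact hv2
          have hYD : ∀ a ∈ R₀, MulAut.conj a • (MulAut.conj x • D₀) ≤ D := fun a ha =>
            hconjD a (hRD ha) _ (hconjD x (hPD hx) D₀ hD₀D)
          have hD₀B : D₀ ≤ Subgroup.normalizer ((Subgroup.closure S : Subgroup G) : Set G) := by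
            rw [Subgroup.le_normalizer_closure_iff]
            intro d hd v hv
            apply Subgroup.subset_closure
            rw [hS] at hv ⊢
            obtain ⟨hv1, a, ha, hv2⟩ := hv
            have h1 := hVV d (hDW₁ (hD₀D hd)) _ v (Subgroup.mem_inf.mpr ⟨hv1, hv2⟩)
            rw [conj_smul_eq_of_mem_normalizer (hDnY _ (hYD a ha) (hD₀D hd))] at h1
            exact ⟨(Subgroup.mem_inf.mp h1).1, a, ha, (Subgroup.mem_inf.mp h1).2⟩
          have hRB : R₀ ≤ Subgroup.normalizer ((Subgroup.closure S : Subgroup G) : Set G) := by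
            rw [Subgroup.le_normalizer_closure_iff]
            intro a' ha' v hv
            apply Subgroup.subset_closure
            rw [hS] at hv ⊢
            obtain ⟨hv1, a, ha, hv2⟩ := hv
            have h1 := hVV a' (hRW₁ ha') _ v (Subgroup.mem_inf.mpr ⟨hv1, hv2⟩)
            rw [conj_smul_conj_smul] at h1
            exact ⟨(Subgroup.mem_inf.mp h1).1, a' * a, Subgroup.mul_mem _ ha' ha,
              (Subgroup.mem_inf.mp h1).2⟩
          have := hirr _ hBW hD₀B hRB hB1
          rw [this, hW]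
        -- (c5)
        have hc5 : ∀ x' ∈ P, MulAut.conj x' • D₀ ≠ D₀ →
            ∃ a ∈ R₀, MulAut.conj x' • D₀ = MulAut.conj a • (MulAut.conj x₀ • D₀) := by
          intro x' hx' hne'
          by_contra hcon
          push Not at hcon
          have hx₀ne : MulAut.conj x₀ • D₀ ≠ D₀ := fun hh => hx₀N (mem_normalizer_of_conj_smul_eq hh)
          have h1 := (hc2 x' hx' hne').2.trans (hc4 x₀ hx₀P hx₀ne)
          have hY'D : MulAut.conj x' • D₀ ≤ D := hconjD x' (hPD hx') D₀ hD₀D
          have h2 : Subgroup.closure {v | v ∈ W₁ ∧ ∃ a ∈ R₀, v ∈ Subgroup.centralizer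
              ((MulAut.conj a • (MulAut.conj x₀ • D₀) : Subgroup G) : Set G)} ≤
              ⁅W₁, MulAut.conj x' • D₀⁆ := by
            rw [Subgroup.closure_le]
            rintro v ⟨hv1, a, ha, hv2⟩
            have hZD : MulAut.conj a • (MulAut.conj x₀ • D₀) ≤ D :=
              hconjD a (hRD ha) _ (hconjD x₀ (hPD hx₀P) D₀ hD₀D)
            exact zg_inf_centralizer_le_commutator W₁ (MulAut.conj x' • D₀)
              (MulAut.conj a • (MulAut.conj x₀ • D₀)) D hDab hY'D hZD
              (hyp _ _ hY'D hZD (card_conj_smul x' D₀)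
                (by rw [card_conj_smul, card_conj_smul]) (hcon a ha))
              hDW₁ (hcopYW _ hY'D) hW₁fix (Subgroup.mem_inf.mpr ⟨hv1, hv2⟩)
          have h3 := zg_inf_commutator_eq_bot W₁ (MulAut.conj x' • D₀) hW₁ab
            (hY'D.trans hDW₁) (hcopYW _ hY'D).symm
          apply (hc2 x' hx' hne').1
          rw [eq_bot_iff, ← h3]
          intro v hv
          exact Subgroup.mem_inf.mpr ⟨hv, h2 (h1 hv)⟩
        -- (c6) counting the orbit
        let act : MulAction ↥P (Subgroup G) :=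
          MulAction.compHom (Subgroup G) ((MulAut.conj : G →* MulAut G).comp P.subtype)
        have hsmul : ∀ x : ↥P, x • D₀ = MulAut.conj (x : G) • D₀ := fun x => rfl
        have hodd1 : Odd (MulAction.orbit ↥P D₀).ncard := by
          rw [← MulAction.index_stabilizer]
          exact Odd.of_dvd_nat (Odd.of_dvd_nat h.odd (Subgroup.card_subgroup_dvd_card P))
            (Subgroup.index_dvd_card _)
        have hx₀ne : MulAut.conj x₀ • D₀ ≠ D₀ := fun hh => hx₀N (mem_normalizer_of_conj_smul_eq hh)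
        obtain ⟨ψ, hψ⟩ : ∃ ψ : ↥R₀ → Subgroup G, ψ = fun a : ↥R₀ =>
            MulAut.conj (a : G) • (MulAut.conj x₀ • D₀) := ⟨_, rfl⟩
        have hψinj : Function.Injective ψ := by
          intro a b hab
          rw [hψ] at hab
          simp only at hab
          by_contra hne
          have h1 : MulAut.conj ((b : G)⁻¹ * a) • (MulAut.conj x₀ • D₀) = MulAut.conj x₀ • D₀ := by
            rw [← conj_smul_conj_smul, hab, conj_smul_conj_smul, inv_mul_cancel, map_one, one_smul]
          refine hc3 x₀ hx₀P hx₀ne _ (Subgroup.mul_mem _ (Subgroup.inv_mem _ b.2) a.2) ?_ h1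
          intro h2
          apply hne
          apply Subtype.ext
          calc (a : G) = (b : G) * ((b : G)⁻¹ * a) := by group
            _ = b := by rw [h2, mul_one]
        have horb : MulAction.orbit ↥P D₀ = insert D₀ (Set.range ψ) := by
          ext Z
          constructor
          · rintro ⟨x, rfl⟩
            show x • D₀ ∈ _
            rw [hsmul]
            by_cases hZ : MulAut.conj (x : G) • D₀ = D₀
            · rw [hZ]; exact Set.mem_insert _ _
            · obtain ⟨a, ha, hZa⟩ := hc5 x x.2 hZ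
              refine Set.mem_insert_of_mem _ ⟨⟨a, ha⟩, ?_⟩
              rw [hψ, hZa]
          · intro hZ
            rcases Set.mem_insert_iff.mp hZ with hZ | ⟨a, rfl⟩
            · rw [hZ]; exact MulAction.mem_orbit_self D₀
            · refine ⟨⟨(a : G) * x₀ * (a : G)⁻¹, hmoveP x₀ hx₀P a a.2⟩, ?_⟩
              show (⟨(a : G) * x₀ * (a : G)⁻¹, _⟩ : ↥P) • D₀ = ψ a
              rw [hsmul, hψ]
              exact (hmove x₀ hx₀P a a.2).symm
        have hnot : D₀ ∉ Set.range ψ := by
          rintro ⟨a, ha⟩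
          rw [hψ] at ha
          simp only at ha
          rw [hmove x₀ hx₀P a a.2] at ha
          exact hmovene x₀ hx₀P hx₀ne a a.2 ha
        rw [horb, Set.ncard_insert_of_notMem hnot (Set.toFinite _),
          Set.ncard_range_of_injective hψinj] at hodd1
        have hodd2 : Odd (Nat.card R₀) :=
          Odd.of_dvd_nat h.odd (Subgroup.card_subgroup_dvd_card R₀)
        obtain ⟨m, hm⟩ := hodd1
        obtain ⟨n, hn⟩ := hodd2
        omega
  have hRW : R₀ ≤ Subgroup.normalizer (W : Set G) :=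
    hW ▸ zg_le_normalizer_commutator h.norm hRD₀
  -- Step B: `C_D(R₀) = 1`
  have hfix0 : D ⊓ Subgroup.centralizer (R₀ : Set G) = ⊥ := by
    rw [eq_bot_iff]
    intro z hz
    obtain ⟨hzD, hzR⟩ := Subgroup.mem_inf.mp hz
    obtain ⟨k, hk⟩ := h.scalar D₀ hD₀V hRD₀ hD₀cop hD₀fix z (hDV hzD) hzR (hDcD D₀ hD₀D hzD)
    rw [← hW] at hk
    obtain ⟨D₃, hD₃⟩ : ∃ D₃ : Subgroup G, D₃ = D ⊓ Subgroup.centralizer (W : Set G) := ⟨_, rfl⟩
    have hD₃ne : D₃ ≠ D := by
      intro heq
      have h1 : D₀ ≤ Subgroup.centralizer (W : Set G) := by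
        intro d hd
        have : d ∈ D₃ := heq ▸ hD₀D hd
        rw [hD₃] at this
        exact (Subgroup.mem_inf.mp this).2
      have h2 := zg_inf_commutator_eq_bot V D₀ h.comm hD₀V (h.coprime_card le_rfl hD₀cop).symm
      apply hW1
      rw [eq_bot_iff, ← h2]
      intro w hw
      refine Subgroup.mem_inf.mpr ⟨Subgroup.mem_inf.mpr ⟨hW₁V (hWW₁ hw), ?_⟩, hW ▸ hw⟩
      rw [Subgroup.mem_centralizer_iff]
      intro d hd
      exact (Subgroup.mem_centralizer_iff.mp (h1 hd) w hw).symm
    have hPD₃ : P ≤ Subgroup.normalizer (D₃ : Set G) :=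
      hD₃ ▸ zg_le_normalizer_inf hPD (zg_le_normalizer_centralizer hPW)
    have hRD₃ : R₀ ≤ Subgroup.normalizer (D₃ : Set G) :=
      hD₃ ▸ zg_le_normalizer_inf hRD (zg_le_normalizer_centralizer hRW)
    have hPc := hmin D₃ (hD₃ ▸ inf_le_left) hD₃ne hPD₃ hRD₃
    have hD₃bot : D₃ = ⊥ := by
      rw [eq_bot_iff, ← hDP]
      intro d hd
      refine Subgroup.mem_inf.mpr ⟨(hD₃ ▸ inf_le_left : D₃ ≤ D) hd, ?_⟩
      rw [Subgroup.mem_centralizer_iff]
      intro x hx
      exact (Subgroup.mem_centralizer_iff.mp (hPc hx) d hd).symm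
    have hzP : z ∈ Subgroup.centralizer (P : Set G) := by
      rw [Subgroup.mem_centralizer_iff]
      intro x hx
      have hz' : x * z * x⁻¹ ∈ D := Subgroup.le_normalizer_iff.mp hPD x hx z hzD
      have hc : z⁻¹ * (x * z * x⁻¹) ∈ D₃ := by
        rw [hD₃]
        refine Subgroup.mem_inf.mpr ⟨Subgroup.mul_mem _ (Subgroup.inv_mem _ hzD) hz', ?_⟩
        rw [Subgroup.mem_centralizer_iff]
        intro v hv
        have hv' : x⁻¹ * v * x ∈ W := by
          have := Subgroup.le_normalizer_iff.mp hPW x⁻¹ (Subgroup.inv_mem _ hx) v hv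
          simpa using this
        have h1 : x * z * x⁻¹ * v * (x * z * x⁻¹)⁻¹ = v ^ k := by
          calc x * z * x⁻¹ * v * (x * z * x⁻¹)⁻¹ = x * (z * (x⁻¹ * v * x) * z⁻¹) * x⁻¹ := by group
            _ = x * (x⁻¹ * v * x) ^ k * x⁻¹ := by rw [hk _ hv']
            _ = (x * (x⁻¹ * v * x) * x⁻¹) ^ k := (conj_pow).symm
            _ = v ^ k := by congr 1; group
        have h2 : z * v * z⁻¹ = v ^ k := hk v hv
        calc v * (z⁻¹ * (x * z * x⁻¹)) = z⁻¹ * (z * v * z⁻¹) * (x * z * x⁻¹) := by group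
          _ = z⁻¹ * (x * z * x⁻¹ * v * (x * z * x⁻¹)⁻¹) * (x * z * x⁻¹) := by rw [h2, h1]
          _ = z⁻¹ * (x * z * x⁻¹) * v := by group
      rw [hD₃bot, Subgroup.mem_bot] at hc
      calc x * z = z * (z⁻¹ * (x * z * x⁻¹)) * x := by group
        _ = z * x := by rw [hc, mul_one]
    have : z ∈ D ⊓ Subgroup.centralizer (P : Set G) := Subgroup.mem_inf.mpr ⟨hzD, hzP⟩
    rwa [hDP] at this
  have hf := zg_frob h.odd P R₀ D h.prime hP1 hRP hPfix hD1 hDab hPD hRD hcopPD hDr.symm hDP
  rw [hfix0, Subgroup.card_bot, one_pow] at hf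
  exact hD1 ((Subgroup.card_eq_one).mp hf)

end Cfsg.Agent.Lib.helper3
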