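import Mathlib
import Cfsg.Agent.Lib.helper3.ZgAbel
import Cfsg.Agent.Lib.helper60.BG36N

/-!
# The core lemma: a `p`-group on which `R₀` acts fixed-point-freely centralizes `Q`
-/

set_option autoImplicit false

namespace Cfsg.Agent.Lib.helper3

open scoped commutatorElement Pointwise

variable {G : Type*} [Group G] [Finite G]

/-- **The core lemma.**  Let `V` be an elementary abelian `p`-group on which `R₀` (of prime
order) acts with `|C_V(R₀)| ≤ p`, `Q` a `q`-group (`q ≠ p`) acting faithfully on `V`, and `P` a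
`p`-group normalizing `V` and `Q`, all normalized by `R₀`, with `C_P(R₀) = 1` and `C_Q(R₀)`
cyclic.  Then `P` centralizes `Q`. -/
theorem ZgCtx.centralizes [Group.IsSolvable G] {p : ℕ} {V R₀ : Subgroup G} (h : ZgCtx p V R₀)
    {q : ℕ} (hq : q.Prime) (hqp : q ≠ p) (Q P : Subgroup G)
    (hQ : IsPGroup q Q) (hP : IsPGroup p P)
    (hQV : Q ≤ Subgroup.normalizer (V : Set G)) (hPV : P ≤ Subgroup.normalizer (V : Set G))
    (hPQ : P ≤ Subgroup.normalizer (Q : Set G))
    (hRQ : R₀ ≤ Subgroup.normalizer (Q : Set G)) (hRP : R₀ ≤ Subgroup.normalizer (P : Set G))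
    (hQcop : (Nat.card Q).Coprime (Nat.card R₀))
    (hPfix : P ⊓ Subgroup.centralizer (R₀ : Set G) = ⊥)
    (hQf : Q ⊓ Subgroup.centralizer (V : Set G) = ⊥)
    (hQcyc : IsCyclic ↥(Q ⊓ Subgroup.centralizer (R₀ : Set G))) :
    P ≤ Subgroup.centralizer (Q : Set G) := by
  classical
  have hpF : Fact p.Prime := ⟨h.hp⟩
  have hqF : Fact q.Prime := ⟨hq⟩
  have hqp' : Nat.Coprime q p := (Nat.coprime_primes hq h.hp).mpr hqp
  have key : ∀ n : ℕ, ∀ D : Subgroup G, Nat.card D = n → D ≤ Q →
      P ≤ Subgroup.normalizer (D : Set G) → R₀ ≤ Subgroup.normalizer (D : Set G) →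
      P ≤ Subgroup.centralizer (D : Set G) := by
    intro n
    induction n using Nat.strong_induction_on with
    | _ n ih =>
    intro D hDn hDQ hPD hRD
    by_contra hcon
    have hmin : ∀ D' : Subgroup G, D' ≤ D → D' ≠ D → P ≤ Subgroup.normalizer (D' : Set G) →
        R₀ ≤ Subgroup.normalizer (D' : Set G) → P ≤ Subgroup.centralizer (D' : Set G) := by
      intro D' hD'D hne hPD' hRD'
      refine ih (Nat.card D') ?_ D' rfl (hD'D.trans hDQ) hPD' hRD'
      rw [← hDn]
      by_contra hlt
      push Not at hlt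
      exact hne (Subgroup.eq_of_le_of_card_ge hD'D hlt)
    have hDq : IsPGroup q D := hQ.to_le hDQ
    obtain ⟨nD, hnD⟩ := (IsPGroup.iff_card).mp hDq
    obtain ⟨nP, hnP⟩ := (IsPGroup.iff_card).mp hP
    have hDcop : (Nat.card D).Coprime p := by
      rw [hnD]; exact Nat.Coprime.pow_left nD hqp'
    have hDr : (Nat.card D).Coprime (Nat.card R₀) :=
      Nat.Coprime.coprime_dvd_left (Subgroup.card_dvd_of_le hDQ) hQcop
    have hcopPD : (Nat.card P).Coprime (Nat.card D) := by
      rw [hnP]; exact Nat.Coprime.pow_left nP hDcop.symm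
    have hDV : D ≤ Subgroup.normalizer (V : Set G) := hDQ.trans hQV
    have hDf : D ⊓ Subgroup.centralizer (V : Set G) = ⊥ := by
      rw [eq_bot_iff, ← hQf]
      exact inf_le_inf_right _ hDQ
    have hDcyc : IsCyclic ↥(D ⊓ Subgroup.centralizer (R₀ : Set G)) := by
      have hle : D ⊓ Subgroup.centralizer (R₀ : Set G) ≤ Q ⊓ Subgroup.centralizer (R₀ : Set G) :=
        inf_le_inf_right _ hDQ
      exact isCyclic_of_injective (Subgroup.inclusion hle) (Subgroup.inclusion_injective hle)
    have hD1 : D ≠ ⊥ := by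
      intro hD1
      apply hcon
      rw [hD1]
      intro x _
      rw [Subgroup.mem_centralizer_iff]
      intro y hy
      rw [SetLike.mem_coe, Subgroup.mem_bot] at hy
      rw [hy]; simp
    -- `D = [D, P]`
    have hcomm : ⁅D, P⁆ = D := by
      by_contra hne
      have hle : ⁅D, P⁆ ≤ D := Cfsg.Agent.Lib.helper1.commutator_le_of_le_normalizer hPD
      have h1 := hmin ⁅D, P⁆ hle hne (zg_le_normalizer_commutator hPD Subgroup.le_normalizer)
        (zg_le_normalizer_commutator hRD hRP)
      have h2 : ⁅⁅D, P⁆, P⁆ = ⊥ := by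
        rw [Subgroup.commutator_comm, Subgroup.commutator_eq_bot_iff_le_centralizer]
        exact h1
      rw [Cfsg.Agent.Lib.helper1.commutator_commutator_eq P D hPD hcopPD
        (Or.inr inferInstance)] at h2
      apply hcon
      rw [← Subgroup.commutator_eq_bot_iff_le_centralizer, Subgroup.commutator_comm]
      exact h2
    by_cases hab : ∀ a ∈ D, ∀ b ∈ D, a * b = b * a
    · -- abelian case
      have hDP : D ⊓ Subgroup.centralizer (P : Set G) = ⊥ := by
        have h1 := zg_inf_commutator_eq_bot D P hab hPD hcopPD.symm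
        rw [hcomm] at h1
        rw [eq_bot_iff, ← h1]
        exact le_inf le_rfl inf_le_left
      -- `Ω₁(D)`
      let Ω : Subgroup G :=
        { carrier := {d | d ∈ D ∧ d ^ q = 1}
          one_mem' := ⟨Subgroup.one_mem _, one_pow _⟩
          mul_mem' := by
            rintro a b ⟨ha, ha'⟩ ⟨hb, hb'⟩
            refine ⟨Subgroup.mul_mem _ ha hb, ?_⟩
            rw [(show Commute a b from hab a ha b hb).mul_pow, ha', hb', one_mul]
          inv_mem' := by
            rintro a ⟨ha, ha'⟩
            exact ⟨Subgroup.inv_mem _ ha, by rw [inv_pow, ha', inv_one]⟩ }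
      have hΩmem : ∀ d, d ∈ Ω ↔ d ∈ D ∧ d ^ q = 1 := fun d => Iff.rfl
      have hΩD : Ω ≤ D := fun d hd => ((hΩmem d).mp hd).1
      have hnormΩ : ∀ A : Subgroup G, A ≤ Subgroup.normalizer (D : Set G) →
          A ≤ Subgroup.normalizer (Ω : Set G) := by
        intro A hA
        rw [Subgroup.le_normalizer_iff]
        intro a ha d hd
        obtain ⟨hd1, hd2⟩ := (hΩmem d).mp hd
        refine (hΩmem _).mpr ⟨Subgroup.le_normalizer_iff.mp hA a ha d hd1, ?_⟩
        rw [conj_pow, hd2, mul_one, mul_inv_cancel]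
      have hΩeq : Ω = D := by
        by_contra hne
        have h1 := hmin Ω hΩD hne (hnormΩ P hPD) (hnormΩ R₀ hRD)
        have h2 : Ω = ⊥ := by
          rw [eq_bot_iff, ← hDP]
          intro d hd
          refine Subgroup.mem_inf.mpr ⟨hΩD hd, ?_⟩
          rw [Subgroup.mem_centralizer_iff]
          intro x hx
          exact (Subgroup.mem_centralizer_iff.mp (h1 hx) d hd).symm
        have h3 : q ∣ Nat.card D := by
          rw [hnD]
          rcases Nat.eq_zero_or_pos nD with h0 | h0
          · exfalso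
            rw [h0, pow_zero] at hnD
            exact hD1 ((Subgroup.card_eq_one).mp hnD)
          · exact dvd_pow_self q (Nat.pos_iff_ne_zero.mp h0)
        obtain ⟨x, hx⟩ := exists_prime_orderOf_dvd_card' q h3
        have hx1 : (x : G) ∈ Ω := by
          refine (hΩmem _).mpr ⟨x.2, ?_⟩
          have : x ^ q = 1 := by rw [← hx]; exact pow_orderOf_eq_one x
          have := congrArg Subtype.val this
          simpa using this
        rw [h2, Subgroup.mem_bot] at hx1
        have hx2 : x = 1 := Subtype.ext hx1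
        rw [hx2, orderOf_one] at hx
        exact hq.one_lt.ne hx
      have hDqexp : ∀ a ∈ D, a ^ q = 1 := by
        intro a ha
        have : a ∈ Ω := hΩeq ▸ ha
        exact ((hΩmem a).mp this).2
      exact h.abelian_case D P hq hDV hPV hPD hRD hRP hDcop hDr hP hPfix hDf hab hDqexp hDcyc
        hmin hDP hD1
    · exact hab (Cfsg.Agent.Lib.helper60.BG36.zg_nonabelian_case h D P hq hqp hDq hP hDV hPD hRD hRP hDr hPfix hDf hDcyc
        hmin hcomm)
  exact key (Nat.card Q) Q rfl le_rfl hPQ hRQ

end Cfsg.Agent.Lib.helper3
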