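import Mathlib
import Cfsg.Agent.Lib.helper3.ZgMin
import Cfsg.Agent.Lib.helper90.ZgFin

/-!
# Gluing the core lemma to the final configuration of B-G Theorem 3.6
-/

set_option autoImplicit false

namespace Cfsg.Agent.Lib.helper3

open scoped commutatorElement Pointwise

/-- The standing context holds in the final configuration. -/
theorem zg_ctx {G : Type*} [Group G] [Finite G] {p : ℕ} [Fact p.Prime]
    (H R R₀ V : Subgroup G) [H.Normal] [V.Normal] (hodd : Odd (Nat.card G))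
    (hcop : (Nat.card H).Coprime (Nat.card R)) (hR₀ : R₀ ≤ R) (hr : (Nat.card R₀).Prime)
    (hZ : IsZGroup ↥(H ⊓ Subgroup.centralizer (R₀ : Set G))) (hVH : V ≤ H) (hVne : V ≠ H)
    (hVc : ∀ a ∈ V, ∀ b ∈ V, a * b = b * a) (hVexp : ∀ a ∈ V, a ^ p = 1)
    (hCV : H ⊓ Subgroup.centralizer (V : Set G) ≤ V) : ZgCtx p V R₀ := by
  classical
  have hp : p.Prime := Fact.out
  have hVp : IsPGroup p V := by
    intro x
    refine ⟨1, ?_⟩
    apply Subtype.ext
    simpa using hVexp x x.2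
  have hV1 : V ≠ ⊥ := by
    intro hV1
    apply hVne
    apply le_antisymm hVH
    refine le_trans ?_ hCV
    intro x hx
    refine Subgroup.mem_inf.mpr ⟨hx, ?_⟩
    rw [Subgroup.mem_centralizer_iff]
    intro y hy
    rw [hV1, SetLike.mem_coe, Subgroup.mem_bot] at hy
    rw [hy]; simp
  refine ⟨hp, hodd, hVc, hVexp, hr, ?_, ?_, ?_⟩
  · intro hrp
    obtain ⟨n, hn⟩ := (IsPGroup.iff_card).mp hVp
    have hn0 : n ≠ 0 := by
      intro h0
      rw [h0, pow_zero] at hn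
      exact hV1 ((Subgroup.card_eq_one).mp hn)
    have h1 : p ∣ Nat.card H :=
      (dvd_pow_self p hn0).trans (hn ▸ Subgroup.card_dvd_of_le hVH)
    have h2 : p ∣ Nat.card R := hrp ▸ Subgroup.card_dvd_of_le hR₀
    exact hp.one_lt.ne' (Nat.eq_one_of_dvd_coprimes hcop h1 h2)
  · rw [Subgroup.normalizer_eq_top]; exact le_top
  · have hle : V ⊓ Subgroup.centralizer (R₀ : Set G) ≤ H ⊓ Subgroup.centralizer (R₀ : Set G) :=
      inf_le_inf_right _ hVH
    have hcyc : IsCyclic ↥(V ⊓ Subgroup.centralizer (R₀ : Set G)) :=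
      zg_isCyclic_of_isPGroup (H ⊓ Subgroup.centralizer (R₀ : Set G)) _ hle
        (hVp.to_le inf_le_left)
    obtain ⟨g, hg⟩ := hcyc.exists_generator
    have h1 : g ^ p = 1 := by
      apply Subtype.ext
      simpa using hVexp g (Subgroup.mem_inf.mp g.2).1
    have h2 : Nat.card ↥(V ⊓ Subgroup.centralizer (R₀ : Set G)) = orderOf g := by
      rw [← Nat.card_zpowers]
      have : Subgroup.zpowers g = ⊤ := (Subgroup.eq_top_iff' _).mpr hg
      rw [this, Subgroup.card_top]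
    rw [h2]
    exact Nat.le_of_dvd hp.pos (orderOf_dvd_of_pow_eq_one h1)

/-- The final configuration of B-G Theorem 3.6 (the hypothesis `hfin` of `helper30.zg_main`). -/
theorem zg_fin.{u} {p : ℕ} [Fact p.Prime] (G : Type u) [Group G] [Finite G] [Group.IsSolvable G]
    (H R R₀ V : Subgroup G) [H.Normal] [V.Normal]
    (hodd : Odd (Nat.card G)) (hHR : H ⊔ R = ⊤) (hcop : (Nat.card H).Coprime (Nat.card R))
    (hR₀ : R₀ ≤ R) (hr : (Nat.card R₀).Prime)
    (hZ : IsZGroup ↥(H ⊓ Subgroup.centralizer (R₀ : Set G))) (hHc : ⁅H, R⁆ = H) (hVH : V ≤ H)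
    (hVne : V ≠ H) (hVc : ∀ a ∈ V, ∀ b ∈ V, a * b = b * a) (hVexp : ∀ a ∈ V, a ^ p = 1)
    (hVmax : ∀ T : Subgroup G, T ≤ H → H ≤ Subgroup.normalizer (T : Set G) → IsPGroup p T → T ≤ V)
    (hOp' : ∀ T : Subgroup G, T ≤ H → H ≤ Subgroup.normalizer (T : Set G) →
      (Nat.card T).Coprime p → T = ⊥)
    (hCV : H ⊓ Subgroup.centralizer (V : Set G) ≤ V)
    (hIH : ∀ N₀ : Subgroup G, N₀.Normal → N₀ ≤ H → N₀ ≠ ⊥ → ∃ L M : Subgroup G, N₀ ≤ L ∧ L ≤ M ∧
        M ≤ H ∧ H ≤ Subgroup.normalizer (L : Set G) ∧ H ≤ Subgroup.normalizer (M : Set G) ∧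
        (N₀.relIndex L).Coprime p ∧ (∃ m : ℕ, L.relIndex M = p ^ m) ∧ (M.relIndex H).Coprime p) :
    (V.relIndex H).Coprime p := by
  have hctx : ZgCtx p V R₀ := zg_ctx H R R₀ V hodd hcop hR₀ hr hZ hVH hVne hVc hVexp hCV
  exact Cfsg.Agent.Lib.helper90.zg_final_config H R R₀ V hodd hHR hcop hR₀ hr hZ hHc hVH hVne hVc
    hVexp hVmax hOp' hCV hIH
    (fun q Q P hq hqp hQ hP hQV hPV hPQ hRQ hRP hQcop hPfix hQf hQcyc =>
      hctx.centralizes hq hqp Q P hQ hP hQV hPV hPQ hRQ hRP hQcop hPfix hQf hQcyc)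

end Cfsg.Agent.Lib.helper3
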