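import Mathlib
import Cfsg.Prelude.Def_OddOrderLocal

/-!
# Bender–Glauberman section 13: shared interface (helper3)

`Hyp1417 G` and `Hyp1424 G` are the statements of S1417 (B-G 12.5) and S1424 (B-G 13.2 (a)-(c)) for a
fixed group `G`, as `Prop`s, so that the pieces of S1425 (B-G 13.3) and S1427 (B-G 13.5) can be
written before those two statements land.  Given the landed statements,
`Hyp1417 G = fun M hM p _ hp A hA => Cfsg.Agent.S1417.result hG M hM p hp A hA` and similarly for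
`Hyp1424 G`.
-/

set_option autoImplicit false

namespace Cfsg.Agent.Lib.helper3

/-- The statement of S1417 (B-G Theorem 12.5) for the group `G`. -/
def Hyp1417 (G : Type*) [Group G] : Prop :=
  ∀ (M : Subgroup G), IsCoatom M → ∀ (p : ℕ) [Fact p.Prime], p ∈ Cfsg.tau2 M → ∀ (A : Subgroup G),
    (A ≤ M ∧ Cfsg.IsElementaryAbelian p A ∧ Nat.card A = p ^ 2) →
    Group.IsNilpotent (Cfsg.sigmaCore M) ∧
      (∀ P : Sylow p M, IsMulCommutative (P : Subgroup M) ∧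
        (A ≤ (P : Subgroup M).map M.subtype →
          (∀ x ∈ (P : Subgroup M).map M.subtype, x ^ p = 1 ↔ x ∈ A) ∧
          ¬ Subgroup.normalizer ((((P : Subgroup M).map M.subtype : Subgroup G)) : Set G) ≤ M)) ∧
      M ≤ Subgroup.normalizer ((Cfsg.sigmaCore M ⊔ A : Subgroup G) : Set G) ∧
      Cfsg.sigmaCore M ⊓ Subgroup.centralizer (A : Set G) = ⊥ ∧
      (∀ Mstar : Subgroup G, IsCoatom Mstar → Mstar ≠ M → A ≤ Mstar → Cfsg.sigmaCore M ⊓ Mstar = ⊥) ∧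
      ∃ A₁ : Subgroup G, A₁ ≤ A ∧ Nat.card A₁ = p ∧ Cfsg.sigmaCore M ⊓ Subgroup.centralizer (A₁ : Set G) = ⊥

/-- The statement of S1424 (B-G Lemma 13.2 (a)-(c)) for the group `G`. -/
def Hyp1424 (G : Type*) [Group G] : Prop :=
  ∀ (M : Subgroup G), IsCoatom M → ∀ (q : ℕ) [Fact q.Prime], q ∈ Cfsg.sigma M → ∀ (X : Subgroup G),
    IsPGroup q X → X ≠ ⊥ → X ≤ M →
    ∀ (Mstar : Subgroup G), IsCoatom Mstar → Mstar ≠ M → Subgroup.normalizer (X : Set G) ≤ Mstar →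
    ∀ (S : Sylow q ↥(M ⊓ Mstar)), X ≤ (S : Subgroup ↥(M ⊓ Mstar)).map (M ⊓ Mstar).subtype →
    (∀ g : G, Mstar ≠ M.map (MulAut.conj g).toMonoidHom) ∧
      Subgroup.normalizer (((S : Subgroup ↥(M ⊓ Mstar)).map (M ⊓ Mstar).subtype : Subgroup G) : Set G) ≤ M ∧
      ¬ q ∣ ((S : Subgroup ↥(M ⊓ Mstar)).map (M ⊓ Mstar).subtype).relIndex Mstar

end Cfsg.Agent.Lib.helper3
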