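import Mathlib
import Cfsg.Prelude.Def_OddOrderLocal
import Cfsg.Agent.Lib.helper3.BG13Defs
import Cfsg.Agent.Lib.helper13.BG11a
import Cfsg.Agent.Lib.helper13.Thompson
import Cfsg.Agent.Lib.helper8.BGTwelve
import Cfsg.Agent.Lib.helper1.Coprime
import Cfsg.Agent.S1350
import Cfsg.Agent.S1414

/-!
# B-G section 13: the cross-centralizing lemma (helper3)

`bg_cross_centralize`: if `p ∈ σ(H) \ σ(M)` for maximal subgroups `M`, `H`, then a `p`-subgroup `P` of
`H` centralizes every `P`-invariant subgroup of `M_σ ∩ H`.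

Also: `σ(M)` in terms of subgroups of `G` (`mem_sigma_of_sylow`, `exists_sylow_of_mem_sigma`) and its
invariance under conjugation (`mem_sigma_map_conj`, `sigma_map_conj`).
-/

set_option autoImplicit false

namespace Cfsg.Agent.Lib.helper3

open Cfsg
open scoped Pointwise commutatorElement

variable {G : Type*} [Group G] [Finite G]

/-- `p ∈ σ(M)` from a Sylow `p`-subgroup `X` of `M` (given as a subgroup of `G`) with `N_G(X) ≤ M`. -/
theorem mem_sigma_of_sylow {M : Subgroup G} {p : ℕ} (hp : p.Prime) (X : Subgroup G) (hXM : X ≤ M)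
    (hX : IsPGroup p X) (hX1 : X ≠ ⊥) (hidx : ¬ p ∣ X.relIndex M)
    (hN : Subgroup.normalizer (X : Set G) ≤ M) : p ∈ sigma M := by
  have : Fact p.Prime := ⟨hp⟩
  refine ⟨hp, ?_, ?_⟩
  · have h1 : p ∣ Nat.card X := by
      obtain ⟨n, hn⟩ := IsPGroup.iff_card.mp hX
      rcases Nat.eq_zero_or_pos n with h0 | h0
      · exfalso
        apply hX1
        rw [h0, pow_zero] at hn
        exact (Subgroup.card_eq_one).mp hn
      · rw [hn]; exact dvd_pow_self p (by omega)
    exact h1.trans (Subgroup.card_dvd_of_le hXM)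
  · have hX' : IsPGroup p (X.subgroupOf M) :=
      hX.comap_of_injective M.subtype M.subtype_injective
    have hidx' : ¬ p ∣ (X.subgroupOf M).index := hidx
    refine ⟨hX'.toSylow hidx', ?_⟩
    have h2 : ((hX'.toSylow hidx' : Sylow p M) : Subgroup M).map M.subtype = X := by
      rw [IsPGroup.toSylow_coe]
      exact Subgroup.map_subgroupOf_eq_of_le hXM
    rw [h2]
    exact hN

/-- `p ∈ σ(M)` gives a Sylow `p`-subgroup `X` of `M`, as a subgroup of `G`, with `N_G(X) ≤ M`. -/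
theorem exists_sylow_of_mem_sigma {M : Subgroup G} {p : ℕ} (h : p ∈ sigma M) :
    ∃ X : Subgroup G, X ≤ M ∧ IsPGroup p X ∧ X ≠ ⊥ ∧ ¬ p ∣ X.relIndex M ∧
      Subgroup.normalizer (X : Set G) ≤ M := by
  obtain ⟨hp, hdvd, P, hN⟩ := h
  have : Fact p.Prime := ⟨hp⟩
  refine ⟨(P : Subgroup M).map M.subtype, Subgroup.map_subtype_le _, P.2.map _, ?_, ?_, hN⟩
  · intro h0
    have h1 : (P : Subgroup M) = ⊥ := by
      rw [eq_bot_iff]
      intro y hy
      have : (M.subtype y) ∈ (P : Subgroup M).map M.subtype := ⟨y, hy, rfl⟩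
      rw [h0, Subgroup.mem_bot] at this
      rw [Subgroup.mem_bot]
      exact M.subtype_injective (by simpa using this)
    exact P.ne_bot_of_dvd_card hdvd h1
  · have h1 : ((P : Subgroup M).map M.subtype).subgroupOf M = (P : Subgroup M) := by
      ext y
      rw [Subgroup.mem_subgroupOf]
      constructor
      · rintro ⟨z, hz, hzy⟩
        have : z = y := M.subtype_injective hzy
        rwa [← this]
      · intro hy
        exact ⟨y, hy, rfl⟩
    rw [Subgroup.relIndex, h1]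
    exact P.not_dvd_index

omit [Finite G] in
/-- `σ` is invariant under conjugation (one direction). -/
theorem mem_sigma_map_conj [Finite G] {M : Subgroup G} (g : G) {p : ℕ} (h : p ∈ sigma M) :
    p ∈ sigma (M.map (MulAut.conj g).toMonoidHom) := by
  obtain ⟨X, hXM, hX, hX1, hidx, hN⟩ := exists_sylow_of_mem_sigma h
  refine mem_sigma_of_sylow h.1 (X.map (MulAut.conj g).toMonoidHom) (Subgroup.map_mono hXM)
    (hX.map _) (Cfsg.Agent.Lib.helper13.map_conj_ne_bot g hX1) ?_ ?_
  · rw [Subgroup.relIndex_map_map_of_injective X M (MulAut.conj g).injective]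
    exact hidx
  · rw [Cfsg.Agent.Lib.helper13.normalizer_map_conj]
    exact Subgroup.map_mono hN

/-- `σ` is invariant under conjugation. -/
theorem sigma_map_conj (M : Subgroup G) (g : G) :
    sigma (M.map (MulAut.conj g).toMonoidHom) = sigma M := by
  ext p
  constructor
  · intro h
    have h1 := mem_sigma_map_conj g⁻¹ h
    have h2 : (M.map (MulAut.conj g).toMonoidHom).map (MulAut.conj g⁻¹).toMonoidHom = M := by
      have := Cfsg.Agent.Lib.helper13.map_conj_inv_map_conj M g⁻¹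
      rwa [inv_inv] at this
    rwa [h2] at h1
  · exact mem_sigma_map_conj g

/-- If a prime of `β(H)` lies in `σ(M)`, then `H` is a conjugate of `M`. -/
theorem conj_of_beta_mem_sigma (hG : IsMinSimpleOddOrder G) (M H : Subgroup G) (hM : IsCoatom M)
    (hH : IsCoatom H) {r : ℕ} (hrH : r ∈ beta H) (hrM : r ∈ sigma M) :
    ∃ g : G, H = M.map (MulAut.conj g).toMonoidHom := by
  have hU := Cfsg.Agent.Lib.helper13.bgx_uniq hG
  have hrα : r ∈ alpha H := hrH.1
  have hrp : r.Prime := hrα.1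
  have : Fact r.Prime := ⟨hrp⟩
  obtain ⟨R⟩ : Nonempty (Sylow r H) := inferInstance
  obtain ⟨K, hK⟩ : ∃ K : Subgroup G, K = (R : Subgroup H).map H.subtype := ⟨_, rfl⟩
  have hKH : K ≤ H := hK ▸ Subgroup.map_subtype_le _
  have hKr : IsPGroup r K := hK ▸ R.2.map _
  have hr2 : ¬ PRankLE r 2 K := by
    intro h
    apply hrα.2
    apply Cfsg.Agent.Lib.helper30.prankLE_of_sylow r 2 R
    rw [hK] at h
    exact (Cfsg.Agent.Lib.helper26.prankLE_map_iff H.subtype H.subtype_injective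
      (R : Subgroup H)).mp h
  have hr1 : ¬ PRankLE r 1 K := by
    intro h
    apply hr2
    intro A hA hexp
    exact (h A hA hexp).trans (Nat.pow_le_pow_right hrp.pos (by norm_num))
  have hKtop : K ≠ ⊤ := by
    intro h
    exact hH.1 (top_le_iff.mp (h ▸ hKH))
  have hUK : InUniqueMaximal K :=
    hU K hKtop (fun h => hr1 (h r hrp)) (Or.inl (fun h => hr2 (h r hrp)))
  -- a Sylow `r`-subgroup of `G` inside `M`
  obtain ⟨Q⟩ : Nonempty (Sylow r M) := inferInstance
  have hQi := Cfsg.Agent.Lib.helper13.sigma_sylow_index M hrM Q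
  have hQr : IsPGroup r ((Q : Subgroup M).map M.subtype) := Q.2.map _
  obtain ⟨g, hg⟩ := Cfsg.Agent.Lib.helper13.exists_conj_map_le_sylow hKr (hQr.toSylow hQi)
  have hg' : K.map (MulAut.conj g).toMonoidHom ≤ M := by
    have hco : ((hQr.toSylow hQi : Sylow r G) : Subgroup G) = (Q : Subgroup M).map M.subtype :=
      IsPGroup.toSylow_coe hQr hQi
    rw [hco] at hg
    exact hg.trans (Subgroup.map_subtype_le _)
  have hKle : K ≤ M.map (MulAut.conj g⁻¹).toMonoidHom := by
    intro y hy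
    rw [Cfsg.Agent.Lib.helper13.sf_mem_map_conj_iff, inv_inv]
    apply hg'
    exact ⟨y, hy, by simp [MulAut.conj_apply]⟩
  refine ⟨g⁻¹, ?_⟩
  exact hUK.unique ⟨hH, hKH⟩ ⟨Cfsg.Agent.Lib.helper13.sf_isCoatom_map_conj hM g⁻¹, hKle⟩

/-- **Cross-centralizing lemma.**  `M`, `H` maximal, `p ∈ σ(H) \ σ(M)`, `P ≤ H` a `p`-group and
`C ≤ M_σ ∩ H` a `P`-invariant subgroup.  Then `P` centralizes `C`. -/
theorem bg_cross_centralize (hG : IsMinSimpleOddOrder G)
    (M H : Subgroup G) (hM : IsCoatom M) (hH : IsCoatom H) (p : ℕ) [Fact p.Prime]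
    (hpM : p ∉ sigma M) (hpH : p ∈ sigma H)
    (P : Subgroup G) (hP : IsPGroup p P) (hPH : P ≤ H)
    (C : Subgroup G) (hCM : C ≤ sigmaCore M) (hCH : C ≤ H)
    (hPC : P ≤ Subgroup.normalizer (C : Set G)) :
    C ≤ Subgroup.centralizer (P : Set G) := by
  classical
  have hpp : p.Prime := Fact.out
  have hU := Cfsg.Agent.Lib.helper13.bgx_uniq hG
  have hF := Cfsg.Agent.Lib.helper13.bgx_fus hG
  have hPHs : P ≤ sigmaCore H :=
    Cfsg.Agent.Lib.helper8.bg_pgroup_le_sigmaCore hG hU hF H hH hpH P hPH hP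
  have hHsn : H ≤ Subgroup.normalizer (sigmaCore H : Set G) :=
    Cfsg.Agent.Lib.helper13.le_normalizer_sigmaCore H
  have hσM := (Cfsg.Agent.S1350.result hG M hM).1
  have hσH := (Cfsg.Agent.S1350.result hG H hH).1
  -- primes of `C` lie in `σ(M)`
  have hCσ : ∀ r : ℕ, r.Prime → r ∣ Nat.card C → r ∈ sigma M := fun r hr hrC =>
    hσM.2.1 r hr (hrC.trans (Subgroup.card_dvd_of_le hCM))
  -- key: `P` centralizes `C ⊓ H_σ`
  have key : ∀ c ∈ C ⊓ sigmaCore H, ∀ x ∈ P, c * x * c⁻¹ * x⁻¹ = 1 := by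
    intro c hc x hx
    by_contra hne
    obtain ⟨hcC, hcH⟩ := Subgroup.mem_inf.mp hc
    have hxH : x ∈ sigmaCore H := hPHs hx
    have hgC : c * x * c⁻¹ * x⁻¹ ∈ C := by
      have h1 : x * c⁻¹ * x⁻¹ ∈ C :=
        (Subgroup.mem_normalizer_iff.mp (hPC hx) c⁻¹).mp (C.inv_mem hcC)
      have : c * x * c⁻¹ * x⁻¹ = c * (x * c⁻¹ * x⁻¹) := by group
      rw [this]; exact C.mul_mem hcC h1
    have hgH : c * x * c⁻¹ * x⁻¹ ∈ sigmaCore H :=
      (sigmaCore H).mul_mem ((sigmaCore H).mul_mem ((sigmaCore H).mul_mem hcH hxH)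
        ((sigmaCore H).inv_mem hcH)) ((sigmaCore H).inv_mem hxH)
    obtain ⟨g, hgdef⟩ : ∃ g : G, g = c * x * c⁻¹ * x⁻¹ := ⟨_, rfl⟩
    rw [← hgdef] at hne hgC hgH
    have hord : orderOf g ≠ 1 := fun h => hne (orderOf_eq_one_iff.mp h)
    obtain ⟨r, hr, hrg⟩ := Nat.exists_prime_and_dvd hord
    have : Fact r.Prime := ⟨hr⟩
    have hrC : r ∣ Nat.card C := by
      have h1 : orderOf (⟨g, hgC⟩ : C) = orderOf g := by
        rw [← Subgroup.orderOf_coe]
      have h2 := orderOf_dvd_natCard (⟨g, hgC⟩ : C)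
      rw [h1] at h2
      exact hrg.trans h2
    have hrM : r ∈ sigma M := hCσ r hr hrC
    have hrHs : r ∣ Nat.card (sigmaCore H) := by
      have h1 : orderOf (⟨g, hgH⟩ : sigmaCore H) = orderOf g := by
        rw [← Subgroup.orderOf_coe]
      have h2 := orderOf_dvd_natCard (⟨g, hgH⟩ : sigmaCore H)
      rw [h1] at h2
      exact hrg.trans h2
    have hrH : r ∣ Nat.card H := hrHs.trans (Subgroup.card_dvd_of_le hσH.1)
    have hrβ : r ∉ beta H := by
      intro hβ
      obtain ⟨u, hu⟩ := conj_of_beta_mem_sigma hG M H hM hH hβ hrM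
      apply hpM
      rw [hu, sigma_map_conj] at hpH
      exact hpH
    have hrp : r ≠ p := by
      rintro rfl
      exact hpM hrM
    obtain ⟨R, N, hNn, hNR⟩ := ((Cfsg.Agent.S1414.result hG H hH).2.2.2.2 r hr hrH hrβ).2.1
    -- `r ∤ |N|`
    have hNcard : ¬ r ∣ Nat.card N := by
      have h1 : Nat.card N = (R : Subgroup (sigmaCore H)).index := by
        have h2 := hNR.card_mul_card
        have h3 := Subgroup.card_mul_index (R : Subgroup (sigmaCore H))
        have h4 : Nat.card (R : Subgroup (sigmaCore H)) ≠ 0 := Nat.card_pos.ne'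
        rw [← h3, mul_comm] at h2
        exact Nat.eq_of_mul_eq_mul_left (Nat.pos_of_ne_zero h4) h2
      rw [h1]
      exact R.not_dvd_index
    -- `x ∈ N`
    have hxN : (⟨x, hxH⟩ : sigmaCore H) ∈ N := by
      have hidx : N.index = Nat.card (R : Subgroup (sigmaCore H)) := by
        have h2 := hNR.card_mul_card
        have h3 := Subgroup.card_mul_index N
        rw [← h3] at h2
        exact (Nat.eq_of_mul_eq_mul_left Nat.card_pos h2).symm
      obtain ⟨k, hk⟩ := IsPGroup.iff_card.mp R.2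
      obtain ⟨j, hj⟩ := (IsPGroup.iff_orderOf.mp hP) ⟨x, hx⟩
      have hox : orderOf x = p ^ j := by
        rw [← hj, ← Subgroup.orderOf_coe]
      rw [← QuotientGroup.eq_one_iff]
      have h5 : orderOf ((⟨x, hxH⟩ : sigmaCore H) : sigmaCore H ⧸ N) ∣ r ^ k := by
        have := orderOf_dvd_natCard ((⟨x, hxH⟩ : sigmaCore H) : sigmaCore H ⧸ N)
        rwa [← Subgroup.index_eq_card, hidx, hk] at this
      have h6 : orderOf ((⟨x, hxH⟩ : sigmaCore H) : sigmaCore H ⧸ N) ∣ p ^ j := by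
        apply orderOf_dvd_of_pow_eq_one
        rw [← QuotientGroup.mk_pow]
        have : (⟨x, hxH⟩ : sigmaCore H) ^ (p ^ j) = 1 := by
          apply Subtype.ext
          simp only [Subgroup.coe_pow, Subgroup.coe_one]
          rw [← hox]; exact pow_orderOf_eq_one x
        rw [this]; rfl
      have h7 : orderOf ((⟨x, hxH⟩ : sigmaCore H) : sigmaCore H ⧸ N) = 1 := by
        have hcop : (r ^ k).Coprime (p ^ j) :=
          Nat.Coprime.pow _ _ ((Nat.coprime_primes hr hpp).mpr hrp)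
        exact Nat.eq_one_of_dvd_coprimes hcop h5 h6
      exact orderOf_eq_one_iff.mp h7
    -- `g ∈ N`
    have hgN : (⟨g, hgH⟩ : sigmaCore H) ∈ N := by
      have h1 : (⟨g, hgH⟩ : sigmaCore H) =
          (⟨c, hcH⟩ * ⟨x, hxH⟩ * ⟨c, hcH⟩⁻¹) * (⟨x, hxH⟩ : sigmaCore H)⁻¹ := by
        apply Subtype.ext
        simp [hgdef]
      rw [h1]
      exact N.mul_mem (hNn.conj_mem _ hxN _) (N.inv_mem hxN)
    apply hNcard
    have h1 : orderOf (⟨⟨g, hgH⟩, hgN⟩ : N) = orderOf g := by
      rw [← Subgroup.orderOf_coe, ← Subgroup.orderOf_coe]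
    have h2 := orderOf_dvd_natCard (⟨⟨g, hgH⟩, hgN⟩ : N)
    rw [h1] at h2
    exact hrg.trans h2
  -- coprime action
  have hcop : (Nat.card P).Coprime (Nat.card C) := by
    obtain ⟨n, hn⟩ := IsPGroup.iff_card.mp hP
    rw [hn]
    apply Nat.Coprime.pow_left
    rw [Nat.Prime.coprime_iff_not_dvd hpp]
    intro h
    exact hpM (hCσ p hpp h)
  have hPsolv : Group.IsSolvable P := by
    have : Group.IsNilpotent P := hP.isNilpotent
    infer_instance
  have h1 := Cfsg.Agent.Lib.helper1.commutator_commutator_eq P C hPC hcop (Or.inl hPsolv)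
  have hCP : ⁅C, P⁆ ≤ C ⊓ sigmaCore H := by
    rw [Subgroup.commutator_le]
    intro c hc x hx
    refine Subgroup.mem_inf.mpr ⟨?_, ?_⟩
    · have h2 : x * c⁻¹ * x⁻¹ ∈ C :=
        (Subgroup.mem_normalizer_iff.mp (hPC hx) c⁻¹).mp (C.inv_mem hc)
      have : ⁅c, x⁆ = c * (x * c⁻¹ * x⁻¹) := by rw [commutatorElement_def]; group
      rw [this]; exact C.mul_mem hc h2
    · have hxH : x ∈ sigmaCore H := hPHs hx
      have h2 : c * x * c⁻¹ ∈ sigmaCore H :=
        (Subgroup.mem_normalizer_iff.mp (hHsn (hCH hc)) x).mp hxH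
      rw [commutatorElement_def]
      exact (sigmaCore H).mul_mem h2 ((sigmaCore H).inv_mem hxH)
  have h2 : ⁅⁅C, P⁆, P⁆ = ⊥ := by
    rw [eq_bot_iff, Subgroup.commutator_le]
    intro d hd x hx
    rw [Subgroup.mem_bot, commutatorElement_def]
    exact key d (hCP hd) x hx
  rw [h2] at h1
  intro c hc
  rw [Subgroup.mem_centralizer_iff]
  intro x hx
  have h3 : ⁅c, x⁆ ∈ ⁅C, P⁆ := Subgroup.commutator_mem_commutator hc hx
  rw [← h1, Subgroup.mem_bot, commutatorElement_def] at h3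
  have : c * x = (c * x * c⁻¹ * x⁻¹) * (x * c) := by group
  rw [this, h3, one_mul]

end Cfsg.Agent.Lib.helper3
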