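import Mathlib
import Cfsg.Prelude.Def_OddOrderLocal
import Cfsg.Agent.S1430
import Cfsg.Agent.S1378
import Cfsg.Agent.S1350
import Cfsg.Agent.Lib.helper3.BGCross
import Cfsg.Agent.Lib.helper25.BG1367
import Cfsg.Agent.Lib.helper59.BG1431Fin
import Cfsg.Agent.Lib.helper89.BG1432

/-!
# The pair lemma for B-G 14.7, part A (helper3): piece PA `pair_kappa` of `tools/S1366_Skel.lean.txt`

`M` a maximal subgroup, `K ≠ 1` a Hall `κ(M)`-subgroup, `X ≤ K` of prime order, `N` a maximal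
subgroup containing `N_G(X)`.  Then `N` is not conjugate to `M`, `σ(M) ∩ σ(N) = ∅`, `X ≤ N_σ`,
`K K* ≤ N` and `K* = C_{M_σ}(K)` is a `κ(N)`-group.
-/

set_option autoImplicit false

namespace Cfsg.Agent.Lib.helper3.BG1366

open Cfsg

variable {G : Type*} [Group G]

/-- The frozen statement S1430 for all `M`, `K` (from the landed `S1430`). -/
theorem h1430 [Finite G] (hG : IsMinSimpleOddOrder G) : Cfsg.Agent.Lib.helper69.H1430 G :=
  fun M hM K hK hK1 => Cfsg.Agent.S1430.result hG M hM K hK hK1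

/-- The first clause of S1431 for all `M`, `K`. -/
theorem h1431a [Finite G] (hG : IsMinSimpleOddOrder G) : Cfsg.Agent.Lib.helper89.BG1432.H1431a G :=
  fun M hM K hK hK1 =>
    (Cfsg.Agent.Lib.helper59.BG1431.s1431_of_h1430 hG (h1430 hG) M hM K hK hK1).1

theorem map_conj_one_eq (Y : Subgroup G) : Y.map (MulAut.conj (1 : G)).toMonoidHom = Y := by
  ext z
  simp

theorem cent_singleton_le_cent_zpowers (y : G) :
    Subgroup.centralizer ({y} : Set G) ≤
      Subgroup.centralizer ((Subgroup.zpowers y : Subgroup G) : Set G) := by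
  intro g hg
  rw [Subgroup.mem_centralizer_iff] at hg ⊢
  intro h hh
  obtain ⟨n, rfl⟩ := Subgroup.mem_zpowers_iff.mp hh
  have hc : Commute y g := hg y rfl
  exact (hc.zpow_left n).eq

/-- A prime-order element of `K*` has its centralizer inside `M`, and `M` is the only maximal
subgroup containing it. -/
theorem cent_singleton_uniq [Finite G] (hG : IsMinSimpleOddOrder G) (M : Subgroup G)
    (hM : IsCoatom M) (K : Subgroup G) (hK : IsPiHallOf (kappa M) K M) (hK1 : K ≠ ⊥) (y : G)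
    (hy : y ∈ sigmaCore M ⊓ Subgroup.centralizer (K : Set G)) (hyp : (orderOf y).Prime) :
    Subgroup.centralizer ({y} : Set G) ≤ M := by
  have hY : Subgroup.zpowers y ≤ sigmaCore M ⊓ Subgroup.centralizer (K : Set G) :=
    Subgroup.zpowers_le.mpr hy
  have hYp : (Nat.card (Subgroup.zpowers y)).Prime := by rw [Nat.card_zpowers]; exact hyp
  exact (cent_singleton_le_cent_zpowers y).trans
    (Cfsg.Agent.Lib.helper25.BG1367.cent_uniq hG (h1430 hG) M hM K hK hK1 _ hY hYp).1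

/-- PIECE PA.  (P1)-(P3): `N ≥ N_G(X)` is not conjugate to `M`, `σ(M) ∩ σ(N) = ∅`, `K K* ≤ N`,
and `K*` is a `κ(N)`-group. -/
theorem pair_kappa [Finite G] (hG : IsMinSimpleOddOrder G) (M : Subgroup G) (hM : IsCoatom M)
    (K : Subgroup G) (hK : IsPiHallOf (kappa M) K M) (hK1 : K ≠ ⊥) (X : Subgroup G) (hXK : X ≤ K)
    (hXp : (Nat.card X).Prime) (N : Subgroup G) (hN : IsCoatom N)
    (hXN : Subgroup.normalizer (X : Set G) ≤ N) :
    (∀ g : G, N ≠ M.map (MulAut.conj g).toMonoidHom) ∧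
    (∀ q : ℕ, q ∈ sigma M → q ∉ sigma N) ∧
    X ≤ sigmaCore N ∧
    K ⊔ (sigmaCore M ⊓ Subgroup.centralizer (K : Set G)) ≤ N ∧
    (∀ q : ℕ, q.Prime → q ∣ Nat.card ↥(sigmaCore M ⊓ Subgroup.centralizer (K : Set G)) → q ∈ kappa N) := by
  have h30 := h1430 hG
  obtain ⟨-, -, h30c⟩ := h30 M hM K hK hK1
  obtain ⟨hNX, -, hXσ'⟩ := h30c X hXK hXp
  have hXσ : X ≤ sigmaCore N := hXσ' N hN hXN
  obtain ⟨hHallM, -, -⟩ := Cfsg.Agent.S1350.result hG M hM
  obtain ⟨hHallN, -, -⟩ := Cfsg.Agent.S1350.result hG N hN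
  have hpκ : Nat.card X ∈ kappa M := hK.2.1 _ hXp (Subgroup.card_dvd_of_le hXK)
  have hpσM : Nat.card X ∉ sigma M := hpκ.2.2.1
  have hpσN : Nat.card X ∈ sigma N := hHallN.2.1 _ hXp (Subgroup.card_dvd_of_le hXσ)
  have hconj : ∀ g : G, N ≠ M.map (MulAut.conj g).toMonoidHom := by
    intro g hg
    apply hpσM
    rw [hg, Cfsg.Agent.Lib.helper3.sigma_map_conj] at hpσN
    exact hpσN
  have hσ : ∀ q : ℕ, q ∈ sigma M → q ∉ sigma N := by
    intro q hqM hqN
    obtain ⟨g, hg⟩ := (Cfsg.Agent.S1378.result hG).2 M N hM hN ⟨q, hqM, hqN⟩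
    exact hconj g hg
  have hZN : K ⊔ (sigmaCore M ⊓ Subgroup.centralizer (K : Set G)) ≤ N := by
    rw [← hNX]; exact inf_le_right.trans hXN
  refine ⟨hconj, hσ, hXσ, hZN, ?_⟩
  intro q hq hqdvd
  have : Fact q.Prime := ⟨hq⟩
  obtain ⟨y0, hy0⟩ := exists_prime_orderOf_dvd_card' q hqdvd
  have hyKs : (y0 : G) ∈ sigmaCore M ⊓ Subgroup.centralizer (K : Set G) := y0.2
  have hyo : orderOf (y0 : G) = q := by rw [Subgroup.orderOf_coe]; exact hy0
  have hy1 : (y0 : G) ≠ 1 := by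
    intro h
    rw [h, orderOf_one] at hyo
    exact hq.one_lt.ne hyo
  -- an element `x ≠ 1` of `X`
  have hX1 : X ≠ ⊥ := by
    intro h
    rw [h, Subgroup.card_bot] at hXp
    exact Nat.not_prime_one hXp
  obtain ⟨x, hxX, hx1⟩ := Cfsg.Agent.Lib.helper29.exists_ne_one_of_ne_bot hX1
  have hxK : x ∈ K := hXK hxX
  have hcomm : (y0 : G) * x = x * (y0 : G) :=
    ((Subgroup.mem_centralizer_iff.mp (Subgroup.mem_inf.mp hyKs).2) x hxK).symm
  have hyN : (y0 : G) ∈ N ⊓ Subgroup.centralizer ({x} : Set G) := by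
    refine Subgroup.mem_inf.mpr ⟨hZN (le_sup_right (a := K) hyKs), ?_⟩
    exact Subgroup.mem_centralizer_singleton_iff.mpr hcomm
  have hqσM : q ∈ sigma M :=
    hHallM.2.1 q hq (hqdvd.trans (Subgroup.card_dvd_of_le inf_le_left))
  have hσy : ∀ r : ℕ, r.Prime → r ∣ orderOf (y0 : G) → r ∉ sigma N := by
    intro r hr hrdvd
    rw [hyo] at hrdvd
    rw [(Nat.prime_dvd_prime_iff_eq hr hq).mp hrdvd]
    exact hσ q hqσM
  rcases Cfsg.Agent.Lib.helper89.BG1432.s1432_of hG h30 (h1431a hG) N hN x (hXσ hxX) hx1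
    (y0 : G) hyN hy1 hσy with ⟨hκ, -⟩ | ⟨-, -, -, huniq⟩
  · exact hκ q hq (by rw [hyo])
  · exfalso
    have hcM : Subgroup.centralizer ({(y0 : G)} : Set G) ≤ M :=
      cent_singleton_uniq hG M hM K hK hK1 _ hyKs (by rw [hyo]; exact hq)
    have hMN : M = N := huniq M hM hcM
    apply hconj 1
    rw [map_conj_one_eq, hMN]

end Cfsg.Agent.Lib.helper3.BG1366
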