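import Mathlib
import Cfsg.Prelude.Def_OddOrderLocal
import Cfsg.Agent.Lib.helper3.BG1366PA
import Cfsg.Agent.Lib.helper13.BGZhat
import Cfsg.Agent.Lib.helper71.BGTenA
import Cfsg.Agent.Lib.helper90.BG1428S
import Cfsg.Agent.Lib.lead.Hall

/-!
# The pair lemma for B-G 14.7, part B (helper3): piece PB `pair_struct` of `tools/S1366_Skel.lean.txt`

With `M`, `K`, `X`, `N` as in `pair_kappa` and `K' ≥ K*` a Hall `κ(N)`-subgroup of `N`:
`K' K'* = K K*`, `K'* = C_{N_σ}(K') = K ∩ N_σ` and `K' = K* (K ∩ K')`.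

Also: `hallOf_conj_le` (a `π`-subgroup of a solvable subgroup `M` is `M`-conjugate into a given
Hall `π`-subgroup of `M`).
-/

set_option autoImplicit false

namespace Cfsg.Agent.Lib.helper3.BG1366

open Cfsg

variable {G : Type*} [Group G]

/-- Hall containment: a `π`-subgroup `Y` of a solvable subgroup `M` is `M`-conjugate into a given
Hall `π`-subgroup `H` of `M`. -/
theorem hallOf_conj_le [Finite G] {π : Set ℕ} {H M : Subgroup G} (hMs : Group.IsSolvable M)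
    (hH : IsPiHallOf π H M) {Y : Subgroup G} (hYM : Y ≤ M)
    (hY : ∀ p : ℕ, p.Prime → p ∣ Nat.card Y → p ∈ π) :
    ∃ m ∈ M, ∀ y ∈ Y, m * y * m⁻¹ ∈ H := by
  have := hMs
  have hH' : IsPiHall π (H.subgroupOf M) := by
    constructor
    · intro p hp hdvd
      rw [Nat.card_congr (Subgroup.subgroupOfEquivOfLe hH.1).toEquiv] at hdvd
      exact hH.2.1 p hp hdvd
    · intro p hp hpπ hdvd
      exact hH.2.2 p hp hpπ hdvd
  have hYnum : Cfsg.Agent.Lib.lead.PiNum π (Nat.card (Y.subgroupOf M)) := by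
    intro p hp hdvd
    rw [Nat.card_congr (Subgroup.subgroupOfEquivOfLe hYM).toEquiv] at hdvd
    exact hY p hp hdvd
  obtain ⟨g, hg⟩ := (Cfsg.Agent.Lib.lead.hall_solvable π ↥M).2 (H.subgroupOf M) (Y.subgroupOf M)
    hH' hYnum
  refine ⟨((g⁻¹ : M) : G), (g⁻¹ : M).2, fun y hy => ?_⟩
  have h1 : (⟨y, hYM hy⟩ : M) ∈ (H.subgroupOf M).map (MulAut.conj g).toMonoidHom :=
    hg (Subgroup.mem_subgroupOf.mpr hy)
  obtain ⟨h, hh, hhe⟩ := Subgroup.mem_map.mp h1
  have h2 : (h : G) ∈ H := Subgroup.mem_subgroupOf.mp hh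
  have h3 : (g : G) * (h : G) * (g : G)⁻¹ = y := by
    have := congrArg Subtype.val hhe
    simpa using this
  have h4 : ((g⁻¹ : M) : G) * y * ((g⁻¹ : M) : G)⁻¹ = (h : G) := by
    rw [← h3]
    simp only [Subgroup.coe_inv]
    group
  rw [h4]
  exact h2

/-- PIECE PB.  (P4)-(P6): structure of a Hall `κ(N)`-subgroup `K' ≥ K*`. -/
theorem pair_struct [Finite G] (hG : IsMinSimpleOddOrder G) (M : Subgroup G) (hM : IsCoatom M)
    (K : Subgroup G) (hK : IsPiHallOf (kappa M) K M) (hK1 : K ≠ ⊥) (X : Subgroup G) (hXK : X ≤ K)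
    (hXp : (Nat.card X).Prime) (N : Subgroup G) (hN : IsCoatom N)
    (hXN : Subgroup.normalizer (X : Set G) ≤ N)
    (hNM : N ≠ M) (hσ : ∀ q : ℕ, q ∈ sigma M → q ∉ sigma N) (hXσ : X ≤ sigmaCore N)
    (hZN : K ⊔ (sigmaCore M ⊓ Subgroup.centralizer (K : Set G)) ≤ N)
    (K' : Subgroup G) (hK' : IsPiHallOf (kappa N) K' N)
    (hKs : sigmaCore M ⊓ Subgroup.centralizer (K : Set G) ≤ K') :
    K' ⊔ (sigmaCore N ⊓ Subgroup.centralizer (K' : Set G)) =
        K ⊔ (sigmaCore M ⊓ Subgroup.centralizer (K : Set G)) ∧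
    sigmaCore N ⊓ Subgroup.centralizer (K' : Set G) = K ⊓ sigmaCore N ∧
    K' = (sigmaCore M ⊓ Subgroup.centralizer (K : Set G)) ⊔ (K ⊓ K') := by
  have h30 := h1430 hG
  obtain ⟨hMa, -, hMc⟩ := h30 M hM K hK hK1
  obtain ⟨hNXeq, hNKeq, -⟩ := hMc X hXK hXp
  obtain ⟨hcommM, -, hKs1, -⟩ := Cfsg.Agent.Lib.helper13.bgz_setup hG h30 M hM K hK hK1
  have hK'1 : K' ≠ ⊥ := by
    intro h
    rw [h] at hKs
    exact hKs1 (le_bot_iff.mp hKs)
  obtain ⟨hNa, -, hNc⟩ := h30 N hN K' hK' hK'1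
  obtain ⟨-, h31b, -, -⟩ :=
    Cfsg.Agent.Lib.helper59.BG1431.s1431_of_h1430 hG h30 M hM K hK hK1
  obtain ⟨hHallM, -, -⟩ := Cfsg.Agent.S1350.result hG M hM
  obtain ⟨hHallN, -, -⟩ := Cfsg.Agent.S1350.result hG N hN
  have hMsn := Subgroup.le_normalizer_iff.mp
    (Cfsg.Agent.Lib.helper71.BGA.le_normalizer_sigmaCore M)
  have hNsn := Subgroup.le_normalizer_iff.mp
    (Cfsg.Agent.Lib.helper71.BGA.le_normalizer_sigmaCore N)
  -- `M_σ ∩ N_σ = 1`
  have hMN : sigmaCore M ⊓ sigmaCore N = ⊥ :=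
    disjoint_iff.mp (Subgroup.disjoint_of_coprime_natCard
      (Nat.coprime_of_dvd fun k hk h1 h2 => hσ k (hHallM.2.1 k hk h1) (hHallN.2.1 k hk h2)))
  -- an element `y` of prime order `q` in `K*`
  have hcard : Nat.card ↥(sigmaCore M ⊓ Subgroup.centralizer (K : Set G)) ≠ 1 :=
    fun h => hKs1 (Subgroup.card_eq_one.mp h)
  obtain ⟨q, hq, hqdvd⟩ := Nat.exists_prime_and_dvd hcard
  have hqf : Fact q.Prime := ⟨hq⟩
  obtain ⟨y0, hy0⟩ := exists_prime_orderOf_dvd_card' q hqdvd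
  obtain ⟨y, hyKs, hyo⟩ : ∃ y : G, y ∈ sigmaCore M ⊓ Subgroup.centralizer (K : Set G) ∧
      orderOf y = q := ⟨(y0 : G), y0.2, by rw [Subgroup.orderOf_coe]; exact hy0⟩
  have hy1 : y ≠ 1 := by
    intro h
    rw [h, orderOf_one] at hyo
    exact hq.one_lt.ne hyo
  have hyMs : y ∈ sigmaCore M := (Subgroup.mem_inf.mp hyKs).1
  have hyK' : y ∈ K' := hKs hyKs
  have hyN : y ∈ N := hK'.1 hyK'
  have hcyM : Subgroup.centralizer ({y} : Set G) ≤ M :=
    cent_singleton_uniq hG M hM K hK hK1 y hyKs (by rw [hyo]; exact hq)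
  have hNay := hNa y hyK' hy1
  -- an element `x ≠ 1` of `X`
  have hX1 : X ≠ ⊥ := by
    intro h
    rw [h, Subgroup.card_bot] at hXp
    exact Nat.not_prime_one hXp
  obtain ⟨x, hxX, hx1⟩ := Cfsg.Agent.Lib.helper29.exists_ne_one_of_ne_bot hX1
  have hxK : x ∈ K := hXK hxX
  -- `M ∩ N_σ ≤ K'*`
  have hMNs : M ⊓ sigmaCore N ≤ sigmaCore N ⊓ Subgroup.centralizer (K' : Set G) := by
    intro d hd
    obtain ⟨hdM, hdNs⟩ := Subgroup.mem_inf.mp hd
    rw [← hNay]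
    refine Subgroup.mem_inf.mpr ⟨hdNs, Subgroup.mem_centralizer_singleton_iff.mpr ?_⟩
    have h1 : d * y * d⁻¹ * y⁻¹ ∈ sigmaCore M :=
      (sigmaCore M).mul_mem (hMsn d hdM y hyMs) ((sigmaCore M).inv_mem hyMs)
    have h2 : d * y * d⁻¹ * y⁻¹ ∈ sigmaCore N := by
      have e : d * y * d⁻¹ * y⁻¹ = d * (y * d⁻¹ * y⁻¹) := by group
      rw [e]
      exact (sigmaCore N).mul_mem hdNs (hNsn y hyN d⁻¹ ((sigmaCore N).inv_mem hdNs))
    have h3 : d * y * d⁻¹ * y⁻¹ ∈ sigmaCore M ⊓ sigmaCore N := ⟨h1, h2⟩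
    rw [hMN, Subgroup.mem_bot] at h3
    have e : d * y = (d * y * d⁻¹ * y⁻¹) * (y * d) := by group
    rw [e, h3, one_mul]
  -- `K'* ≤ M`
  have hK'sM : sigmaCore N ⊓ Subgroup.centralizer (K' : Set G) ≤ M := by
    rw [← hNay]; exact inf_le_right.trans hcyM
  -- `K'*` is a `κ(M)`-group
  have hK'sκ : ∀ r : ℕ, r.Prime →
      r ∣ Nat.card ↥(sigmaCore N ⊓ Subgroup.centralizer (K' : Set G)) → r ∈ kappa M := by
    intro r hr hrdvd
    have hrf : Fact r.Prime := ⟨hr⟩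
    obtain ⟨d0, hd0⟩ := exists_prime_orderOf_dvd_card' r hrdvd
    obtain ⟨d, hdK's, hdo⟩ : ∃ d : G, d ∈ sigmaCore N ⊓ Subgroup.centralizer (K' : Set G) ∧
        orderOf d = r := ⟨(d0 : G), d0.2, by rw [Subgroup.orderOf_coe]; exact hd0⟩
    have hd1 : d ≠ 1 := by
      intro h
      rw [h, orderOf_one] at hdo
      exact hr.one_lt.ne hdo
    have hdcy : d ∈ Subgroup.centralizer ({y} : Set G) := by
      have h := hdK's
      rw [← hNay] at h
      exact (Subgroup.mem_inf.mp h).2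
    have hdM : d ∈ M ⊓ Subgroup.centralizer ({y} : Set G) :=
      Subgroup.mem_inf.mpr ⟨hK'sM hdK's, hdcy⟩
    have hrσN : r ∈ sigma N :=
      hHallN.2.1 r hr (hrdvd.trans (Subgroup.card_dvd_of_le inf_le_left))
    have hσd : ∀ s : ℕ, s.Prime → s ∣ orderOf d → s ∉ sigma M := by
      intro s hs hsd
      rw [hdo] at hsd
      rw [(Nat.prime_dvd_prime_iff_eq hs hr).mp hsd]
      exact fun h => hσ r h hrσN
    rcases Cfsg.Agent.Lib.helper89.BG1432.s1432_of hG h30 (h1431a hG) M hM y hyMs hy1 d hdM hd1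
      hσd with ⟨hκ, -⟩ | ⟨-, -, -, huniq⟩
    · exact hκ r hr (by rw [hdo])
    · exfalso
      have hcN : Subgroup.centralizer ({d} : Set G) ≤ N :=
        cent_singleton_uniq hG N hN K' hK' hK'1 d hdK's (by rw [hdo]; exact hr)
      exact hNM (huniq N hN hcN)
  -- `X ≤ K'*`
  have hXK's : X ≤ sigmaCore N ⊓ Subgroup.centralizer (K' : Set G) :=
    (le_inf (hXK.trans hK.1) hXσ).trans hMNs
  -- `K'* ≤ K`
  have hK'sK : sigmaCore N ⊓ Subgroup.centralizer (K' : Set G) ≤ K := by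
    obtain ⟨m, hmM, hm⟩ := hallOf_conj_le (hG.2.2.2 M hM.1) hK hK'sM hK'sκ
    have hmx : m * x * m⁻¹ ∈ K := hm x (hXK's hxX)
    have hmZ : m ∈ K ⊔ (sigmaCore M ⊓ Subgroup.centralizer (K : Set G)) := by
      by_contra hmZ
      have h3 : m * x * m⁻¹ ∈ K ⊓ K.map (MulAut.conj m).toMonoidHom :=
        Subgroup.mem_inf.mpr ⟨hmx, ⟨x, hxK, by simp⟩⟩
      rw [h31b m hmM hmZ, Subgroup.mem_bot] at h3
      apply hx1
      have e : x = m⁻¹ * (m * x * m⁻¹) * m := by group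
      rw [e, h3]; group
    have hmNK : m ∈ Subgroup.normalizer (K : Set G) := by
      have h : m ∈ M ⊓ Subgroup.normalizer (K : Set G) := by rw [hNKeq]; exact hmZ
      exact (Subgroup.mem_inf.mp h).2
    intro d hd
    exact (Subgroup.mem_normalizer_iff.mp hmNK d).mpr (hm d hd)
  -- the subgroup `Y = ⟨y⟩` and `N_G(Y) ≤ M`
  have hYKs : Subgroup.zpowers y ≤ sigmaCore M ⊓ Subgroup.centralizer (K : Set G) :=
    Subgroup.zpowers_le.mpr hyKs
  have hYcard : Nat.card (Subgroup.zpowers y) = q := by rw [Nat.card_zpowers]; exact hyo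
  have hYp : (Nat.card (Subgroup.zpowers y)).Prime := by rw [hYcard]; exact hq
  obtain ⟨hNNY, -, -⟩ := hNc (Subgroup.zpowers y) (hYKs.trans hKs) hYp
  obtain ⟨L, hL, hNL⟩ :=
    Cfsg.Agent.Lib.helper90.BG1428.s_exists_coatom_normalizer_le hG (Subgroup.zpowers y) q hq hYcard
  have hcu := Cfsg.Agent.Lib.helper25.BG1367.cent_uniq hG h30 M hM K hK hK1 _ hYKs hYp
  have hLM : L = M := hcu.2 L hL ((Subgroup.centralizer_le_normalizer _).trans hNL)
  have hNYM : Subgroup.normalizer ((Subgroup.zpowers y : Subgroup G) : Set G) ≤ M := by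
    rw [← hLM]; exact hNL
  have hK'M : K' ≤ M := by
    have h : K' ≤ N ⊓ Subgroup.normalizer ((Subgroup.zpowers y : Subgroup G) : Set G) := by
      rw [hNNY]; exact le_sup_left
    exact (h.trans inf_le_right).trans hNYM
  -- `K ≤ K' K'*`
  have hKZ' : K ≤ K' ⊔ (sigmaCore N ⊓ Subgroup.centralizer (K' : Set G)) := by
    rw [← hNNY]
    refine le_inf (le_sup_left.trans hZN) fun k hk => ?_
    apply Subgroup.centralizer_le_normalizer
    rw [Subgroup.mem_centralizer_iff]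
    intro h hh
    exact ((Subgroup.mem_centralizer_iff.mp (Subgroup.mem_inf.mp (hYKs hh)).2) k hk).symm
  -- `K' ≤ K K*`
  have hK'Z : K' ≤ K ⊔ (sigmaCore M ⊓ Subgroup.centralizer (K : Set G)) := by
    rw [← hNXeq]
    refine le_inf hK'M fun k' hk' => ?_
    apply Subgroup.centralizer_le_normalizer
    rw [Subgroup.mem_centralizer_iff]
    intro h hh
    exact ((Subgroup.mem_centralizer_iff.mp (Subgroup.mem_inf.mp (hXK's hh)).2) k' hk').symm
  refine ⟨?_, ?_, ?_⟩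
  · exact le_antisymm (sup_le hK'Z (hK'sK.trans le_sup_left))
      (sup_le hKZ' (hKs.trans le_sup_left))
  · exact le_antisymm (le_inf hK'sK inf_le_left) ((inf_le_inf_right _ hK.1).trans hMNs)
  · apply le_antisymm
    · intro k' hk'
      obtain ⟨a, ha, b, hb, rfl⟩ := Cfsg.Agent.Lib.helper13.bgz_decomp hcommM (hK'Z hk')
      have hbK' : b ∈ K' := hKs hb
      have haK' : a ∈ K' := by
        have e : a = a * b * b⁻¹ := by group
        rw [e]; exact K'.mul_mem hk' (K'.inv_mem hbK')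
      exact Subgroup.mul_mem _
        (Subgroup.mem_sup_right (Subgroup.mem_inf.mpr ⟨ha, haK'⟩))
        (Subgroup.mem_sup_left hb)
    · exact sup_le hKs inf_le_right

end Cfsg.Agent.Lib.helper3.BG1366
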