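import Mathlib
import Cfsg.Prelude.Def_OddOrderLocal
import Cfsg.Agent.Lib.helper8.BG1355
import Cfsg.Agent.Lib.helper29.Basic
import Cfsg.Agent.Lib.helper29.FittingHall
import Cfsg.Agent.Lib.helper69.BGKappaB
import Cfsg.Agent.Lib.helper86.BG1424
import Cfsg.Agent.Lib.helper25.BG1428B2M
import Cfsg.Agent.Lib.helper3.ZgBase
import Cfsg.Agent.Lib.helper3.BGCross
import Cfsg.Agent.Lib.helper3.BG1366PB
import Cfsg.Agent.S1350
import Cfsg.Agent.S1352
import Cfsg.Agent.S1358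
import Cfsg.Agent.S1361
import Cfsg.Agent.S1362
import Cfsg.Agent.S1429

/-!
# Statement S1390: complements of `M_F` for maximal subgroups of Type I and II

* Type II case (`typeII_case`), unconditional: the Type II data `(W₁, U₂, W₂)` give
  `σ(M) = π(M_F)`, `M_σ = M_F`, `κ(M) = π(W₁)`, so `(W₁, U₂)` is a standard factorisation; the given
  complement `U` is an `M'`-conjugate of `U₂`, and the landed S1358, S1361, S1362 apply.
* Type I case (`typeI_case`), from the frozen statements S1351 and S1364: a standard factorisation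
  `(K, U_d)` has `K = 1` (a Frobenius element `u ∈ U₀` of prime order `p ∣ |K|` would centralise a
  non-identity element of `K* ≤ M_F`), then `M_σ` is nilpotent (S1429), `M_σ = M_F`, and `(1, U)` is a
  standard factorisation.
-/

set_option autoImplicit false

namespace Cfsg.Agent.Lib.helper3.BG1390

open Cfsg Subgroup

variable {G : Type*} [Group G]

/-- `M` is fixed by conjugation with its own elements. -/
theorem map_conj_self {M : Subgroup G} {m : G} (hm : m ∈ M) :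
    M.map (MulAut.conj m).toMonoidHom = M := by
  apply le_antisymm
  · rintro _ ⟨a, ha, rfl⟩
    exact M.mul_mem (M.mul_mem hm ha) (M.inv_mem hm)
  · intro a ha
    refine ⟨m⁻¹ * a * m, M.mul_mem (M.mul_mem (M.inv_mem hm) ha) hm, ?_⟩
    show m * (m⁻¹ * a * m) * m⁻¹ = a
    group

/-- A subgroup normalised by `m` is fixed by conjugation with `m`. -/
theorem map_conj_of_mem_normalizer {N : Subgroup G} {m : G} (hm : m ∈ normalizer (N : Set G)) :
    N.map (MulAut.conj m).toMonoidHom = N := by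
  apply le_antisymm
  · rintro _ ⟨a, ha, rfl⟩
    exact (mem_normalizer_iff.mp hm a).mp ha
  · intro a ha
    refine ⟨m⁻¹ * a * m, ?_, ?_⟩
    · have h := (mem_normalizer_iff.mp (inv_mem hm) a).mp ha
      rwa [inv_inv] at h
    · show m * (m⁻¹ * a * m) * m⁻¹ = a
      group

/-- A standard factorisation may be conjugated by an element of `M`. -/
theorem sigmaDecomp_conj {M K U : Subgroup G} (h : IsSigmaDecomposition M K U)
    (hnorm : M ≤ normalizer (sigmaCore M : Set G)) {m : G} (hm : m ∈ M) :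
    IsSigmaDecomposition M (K.map (MulAut.conj m).toMonoidHom)
      (U.map (MulAut.conj m).toMonoidHom) := by
  have hMc := map_conj_self hm
  have hσc := map_conj_of_mem_normalizer (hnorm hm)
  have hinj : Function.Injective (MulAut.conj m).toMonoidHom := (MulAut.conj m).injective
  refine ⟨?_, ⟨?_, ?_, ?_⟩, ⟨?_, ?_, ?_, ?_⟩, ?_⟩
  · have := h.cyclic
    exact isCyclic_of_surjective ((MulAut.conj m).toMonoidHom.subgroupMap K)
      ((MulAut.conj m).toMonoidHom.subgroupMap_surjective K)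
  · calc K.map (MulAut.conj m).toMonoidHom ≤ M.map (MulAut.conj m).toMonoidHom :=
        map_mono h.hall.1
      _ = M := hMc
  · intro p hp hd
    rw [card_map_of_injective hinj] at hd
    exact h.hall.2.1 p hp hd
  · intro p hp hκ hd
    apply h.hall.2.2 p hp hκ
    have e : (K.map (MulAut.conj m).toMonoidHom).relIndex M = K.relIndex M := by
      conv_lhs => rw [← hMc]
      exact relIndex_map_map_of_injective K M hinj
    rwa [e] at hd
  · calc U.map (MulAut.conj m).toMonoidHom ≤ M.map (MulAut.conj m).toMonoidHom :=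
        map_mono h.compl.1
      _ = M := hMc
  · refine sup_le ?_ (le_sup_right.trans h.compl.2.1)
    calc K.map (MulAut.conj m).toMonoidHom ≤ M.map (MulAut.conj m).toMonoidHom :=
        map_mono h.hall.1
      _ = M := hMc
  · have e : K.map (MulAut.conj m).toMonoidHom ⊔ sigmaCore M =
        (K ⊔ sigmaCore M).map (MulAut.conj m).toMonoidHom := by
      rw [Subgroup.map_sup, hσc]
    rw [e, ← Subgroup.map_inf_eq _ _ _ hinj, h.compl.2.2.1, Subgroup.map_bot]
  · intro x hx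
    have hx' : m⁻¹ * x * m ∈ M := M.mul_mem (M.mul_mem (M.inv_mem hm) hx) hm
    obtain ⟨a, ha, b, hb, e⟩ := h.compl.2.2.2 _ hx'
    have e' : K.map (MulAut.conj m).toMonoidHom ⊔ sigmaCore M =
        (K ⊔ sigmaCore M).map (MulAut.conj m).toMonoidHom := by
      rw [Subgroup.map_sup, hσc]
    refine ⟨m * a * m⁻¹, ⟨a, ha, rfl⟩, m * b * m⁻¹, ?_, ?_⟩
    · rw [e']
      exact ⟨b, hb, rfl⟩
    · have : x = m * (m⁻¹ * x * m) * m⁻¹ := by group
      rw [this, e]
      group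
  · rw [Cfsg.Agent.Lib.helper13.normalizer_map_conj]
    exact map_mono h.normal

/-- The three conclusions, from a standard factorisation with `M_σ = M_F`. -/
theorem concl_of_decomp [Finite G] (hG : IsMinSimpleOddOrder G) (M : Subgroup G) (hM : IsCoatom M)
    (K U : Subgroup G) (hKU : IsSigmaDecomposition M K U)
    (hσF : sigmaCore M = fittingHallOf M) :
    (∀ (p : ℕ), p.Prime → ∀ P : Sylow p U,
        IsMulCommutative (P : Subgroup U) ∧ PRankLE p 2 (P : Subgroup U)) ∧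
      (∀ X : Set G, X ⊆ (U : Set G) \ {1} → X.Nonempty →
        fittingHallOf M ⊓ centralizer X ≠ ⊥ →
        centralizer X ≤ M ∧ ∀ L : Subgroup G, IsCoatom L → centralizer X ≤ L → L = M) ∧
      IsTISubset (sigmaA M U \ (sigmaCore M : Set G)) := by
  refine ⟨Cfsg.Agent.S1358.result hG M hM K U hKU, ?_, Cfsg.Agent.S1362.result hG M hM K U hKU⟩
  intro X hXU hXne hXc
  have h1 := Cfsg.Agent.S1361.result hG M hM K U hKU (closure X)
    ((closure_le U).2 (fun x hx => (hXU hx).1)) ?_ ?_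
  · rwa [centralizer_closure] at h1
  · obtain ⟨x, hx⟩ := hXne
    intro h
    have h2 : x ∈ closure X := subset_closure hx
    rw [h, mem_bot] at h2
    exact (hXU hx).2 h2
  · rw [centralizer_closure, hσF]
    exact hXc

/-- The set `A(M) \ A₁(M)` in the language of types is `A(M) \ M_σ` of the standard
factorisation. -/
theorem typeSet_eq (M U D : Subgroup G) (hσF : sigmaCore M = fittingHallOf M) (hDM : D ≤ M)
    (hsup : U ⊔ fittingHallOf M = D) :
    {a : G | a ∈ D ∧ a ≠ 1 ∧ ∃ x ∈ fittingHallOf M, x ≠ 1 ∧ a * x = x * a} \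
        ((fittingHallOf M : Set G) \ {1}) = sigmaA M U \ (sigmaCore M : Set G) := by
  ext a
  simp only [Set.mem_sdiff, Set.mem_ofPred_eq, sigmaA, sigmaHat, Set.mem_inter_iff, SetLike.mem_coe,
    Set.mem_singleton_iff, hσF, hsup]
  constructor
  · rintro ⟨⟨haD, ha1, x, hx, hx1, hax⟩, hn⟩
    exact ⟨⟨⟨hDM haD, x, hx, hx1, hax⟩, haD⟩, fun h => hn ⟨h, ha1⟩⟩
  · rintro ⟨⟨⟨haM, x, hx, hx1, hax⟩, haD⟩, hn⟩
    exact ⟨⟨haD, fun h => hn (h ▸ one_mem _), x, hx, hx1, hax⟩, fun h => hn h.1⟩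

/-- A subgroup with the same exponent contains elements of every prime order. -/
theorem exists_order_in_sub {H : Type*} [Group H] [Finite H] (U U₀ : Subgroup H)
    (hexp : Monoid.exponent U₀ = Monoid.exponent U) {q : ℕ} (hq : q.Prime)
    (hqU : q ∣ Nat.card U) : ∃ u : H, u ∈ U₀ ∧ orderOf u = q := by
  haveI : Fact q.Prime := ⟨hq⟩
  obtain ⟨g, hg⟩ := exists_prime_orderOf_dvd_card' (G := U) q hqU
  have h1 : q ∣ Monoid.exponent U := hg ▸ Monoid.order_dvd_exponent g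
  rw [← hexp] at h1
  have h2 : q ∣ Nat.card U₀ := h1.trans Group.exponent_dvd_nat_card
  obtain ⟨u, hu⟩ := exists_prime_orderOf_dvd_card' (G := U₀) q h2
  exact ⟨u, u.2, by rw [Subgroup.orderOf_coe]; exact hu⟩

/-- Two complements of `M_F` inside a solvable `D ≤ M` are conjugate in `D`. -/
theorem compl_conj [Finite G] {F D U U₂ : Subgroup G} (hsol : Group.IsSolvable ↥D)
    (hcop : (Nat.card F).Coprime (Nat.card U₂)) (hU : IsComplIn F U D)
    (hU₂ : IsComplIn F U₂ D) :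
    ∃ m ∈ D, U₂.map (MulAut.conj m).toMonoidHom = U := by
  have hc1 := Cfsg.Agent.Lib.helper29.IsComplIn.card_mul hU
  have hc2 := Cfsg.Agent.Lib.helper29.IsComplIn.card_mul hU₂
  have hcU : Nat.card U = Nat.card U₂ :=
    Nat.eq_of_mul_eq_mul_left Nat.card_pos (hc1.trans hc2.symm)
  have hHall : IsPiHallOf {q | ¬ q ∣ Nat.card F} U D := by
    refine ⟨hU.2.1, fun q hq hd => ?_, fun q hq hq' hd => ?_⟩
    · intro h
      exact hq.one_lt.ne' (Nat.eq_one_of_dvd_coprimes hcop h (hcU ▸ hd))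
    · apply hq'
      rwa [← Cfsg.Agent.Lib.helper29.IsComplIn.card_left hU] at hd
  obtain ⟨m, hm, hmU⟩ := Cfsg.Agent.Lib.helper3.BG1366.hallOf_conj_le hsol hHall
    (Y := U₂) hU₂.2.1 (fun q hq hd h => hq.one_lt.ne' (Nat.eq_one_of_dvd_coprimes hcop h hd))
  refine ⟨m, hm, ?_⟩
  apply eq_of_le_of_card_ge
  · rintro _ ⟨y, hy, rfl⟩
    exact hmU y hy
  · rw [card_map_of_injective (MulAut.conj m).injective, hcU]

/-- Coprimality of `|M_F|` and a complement inside `D ≤ M`. -/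
theorem coprime_card_compl [Finite G] {M D U : Subgroup G} (hDM : D ≤ M)
    (hU : IsComplIn (fittingHallOf M) U D) :
    (Nat.card (fittingHallOf M)).Coprime (Nat.card U) := by
  have h := Cfsg.Agent.Lib.helper29.fittingHallOf_coprime M
  rw [← relIndex_mul_relIndex _ _ _ hU.1 hDM, ← Cfsg.Agent.Lib.helper29.IsComplIn.card_right hU] at h
  exact Nat.Coprime.coprime_mul_right_right h

/-- With type-P data and `|W₁|` prime, an element of `M` of order `|W₁|` centralises a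
non-identity element of `M_F`. -/
theorem cent_of_order_p [Finite G] (M W₁ U₂ W₂ : Subgroup G) (hMs : Group.IsSolvable ↥M)
    (hP : IsTypePWith M W₁ U₂ W₂) (hW₁p : (Nat.card W₁).Prime) {x : G} (hxM : x ∈ M)
    (hx : orderOf x = Nat.card W₁) :
    ∃ y ∈ fittingHallOf M, y ≠ 1 ∧ x * y = y * x := by
  have hHall : IsPiHallOf {q | q = Nat.card W₁} W₁ M := by
    refine ⟨hP.W₁_compl.2.1, fun q hq hd => ?_, fun q hq hq' hd => ?_⟩
    · exact (Nat.prime_dvd_prime_iff_eq hq hW₁p).mp hd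
    · rw [Set.mem_ofPred_eq] at hq'
      rw [hq'] at hd
      exact (Nat.Prime.coprime_iff_not_dvd hW₁p).mp hP.W₁_hall hd
  obtain ⟨m, hm, hmx⟩ := Cfsg.Agent.Lib.helper3.BG1366.hallOf_conj_le hMs hHall
    (Y := zpowers x) ((zpowers_le).2 hxM) (fun q hq hd => by
      rw [Nat.card_zpowers, hx] at hd
      exact (Nat.prime_dvd_prime_iff_eq hq hW₁p).mp hd)
  have hk : m * x * m⁻¹ ∈ W₁ := hmx x (mem_zpowers x)
  obtain ⟨y₀, hy₀1⟩ := (Subgroup.ne_bot_iff_exists_ne_one).mp hP.selfNormalizing.2.1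
  have hcomm := hP.selfNormalizing.2.2.2.1 _ hk (y₀ : G) y₀.2
  have hy₀F : (y₀ : G) ∈ fittingHallOf M := (hP.W₂_le y₀.2).1
  have hmn : m⁻¹ ∈ normalizer (fittingHallOf M : Set G) :=
    Cfsg.Agent.Lib.helper29.le_normalizer_fittingHallOf M (M.inv_mem hm)
  refine ⟨m⁻¹ * (y₀ : G) * m, ?_, ?_, ?_⟩
  · have h := (mem_normalizer_iff.mp hmn (y₀ : G)).mp hy₀F
    rwa [inv_inv] at h
  · intro h
    apply hy₀1
    have h2 : (y₀ : G) = m * (m⁻¹ * (y₀ : G) * m) * m⁻¹ := by group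
    rw [h, mul_one, mul_inv_cancel] at h2
    exact Subtype.ext h2
  · have e1 : x * (m⁻¹ * (y₀ : G) * m) = m⁻¹ * (m * x * m⁻¹ * (y₀ : G)) * m := by group
    have e2 : m⁻¹ * (y₀ : G) * m * x = m⁻¹ * ((y₀ : G) * (m * x * m⁻¹)) * m := by group
    rw [e1, e2, hcomm]

/-- A group of Frobenius type admits no type-P data with `|W₁|` prime. -/
theorem typeF_typeP_false [Finite G] (M W₁ U₂ W₂ : Subgroup G) (hF : IsOfTypeF ↥M)
    (hP : IsTypePWith M W₁ U₂ W₂) (hW₁p : (Nat.card W₁).Prime) : False := by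
  obtain ⟨hsol, -, -, -, U', -, hcompl, -, ⟨U₀, hU₀le, hexp, hfpf⟩⟩ := hF
  have hFD : fittingHallOf M ≤ ⁅M, M⁆ :=
    (le_sup_left.trans_eq hP.fitting_eq).trans hP.fitting_le
  have c1 := Cfsg.Agent.Lib.helper29.IsComplIn.card_mul hP.W₁_compl
  have c3 : (Nat.card W₁).Coprime (Nat.card ↥⁅M, M⁆) := by
    have h := hP.W₁_hall
    rwa [← Cfsg.Agent.Lib.helper29.IsComplIn.card_left hP.W₁_compl] at h
  have hpF : ¬ Nat.card W₁ ∣ Nat.card (fittingHall ↥M) := by
    rw [← Cfsg.Agent.Lib.helper29.card_fittingHallOf]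
    intro h
    exact hW₁p.one_lt.ne' (Nat.eq_one_of_dvd_coprimes c3 dvd_rfl (h.trans (card_dvd_of_le hFD)))
  have hpU' : Nat.card W₁ ∣ Nat.card U' := by
    have h1 := hcompl.card_mul_card
    have h2 : Nat.card W₁ ∣ Nat.card ↥M := by rw [← c1]; exact dvd_mul_left _ _
    rw [← h1] at h2
    exact (hW₁p.dvd_mul.mp h2).resolve_left hpF
  obtain ⟨u, huU₀, huo⟩ := exists_order_in_sub U' U₀ hexp hW₁p hpU'
  have huo' : orderOf (u : G) = Nat.card W₁ := by rw [Subgroup.orderOf_coe]; exact huo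
  obtain ⟨y, hy, hy1, hxy⟩ := cent_of_order_p M W₁ U₂ W₂ hsol hP hW₁p u.2 huo'
  obtain ⟨y', hy', rfl⟩ := hy
  have hu1 : u ≠ 1 := by
    intro h
    rw [h, orderOf_one] at huo
    exact hW₁p.one_lt.ne huo
  have h3 := hfpf u huU₀ hu1 y' hy' (Subtype.ext hxy)
  apply hy1
  rw [h3]
  rfl

/-- Type II data: `M_σ = M_F` and `(W₁, U₂)` is a standard factorisation. -/
theorem typeII_facts [Finite G] (hG : IsMinSimpleOddOrder G) (M : Subgroup G) (hM : IsCoatom M)
    (W₁ U₂ W₂ : Subgroup G) (hP : IsTypePWith M W₁ U₂ W₂) (hW₁p : (Nat.card W₁).Prime)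
    (hU₂ab : IsMulCommutative U₂) (hNU₂ : ¬ normalizer (U₂ : Set G) ≤ M)
    (hF' : IsOfTypeF ↥⁅M, M⁆) (hFeq : fittingHallOf ⁅M, M⁆ = fittingHallOf M) :
    sigmaCore M = fittingHallOf M ∧ IsSigmaDecomposition M W₁ U₂ := by
  have hDM : ⁅M, M⁆ ≤ M := hP.W₁_compl.1
  have hW₁M : W₁ ≤ M := hP.W₁_compl.2.1
  have hFD : fittingHallOf M ≤ ⁅M, M⁆ := hP.U_compl.1
  have hU₂D : U₂ ≤ ⁅M, M⁆ := hP.U_compl.2.1
  have hU₂M : U₂ ≤ M := hU₂D.trans hDM
  have hσD := Cfsg.Agent.Lib.helper8.BG1355.sigmaCore_le_commutator hG M hM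
  have hσM : sigmaCore M ≤ M := hσD.trans hDM
  have hHall := (Cfsg.Agent.S1350.result hG M hM).1
  have c1 := Cfsg.Agent.Lib.helper29.IsComplIn.card_mul hP.W₁_compl
  have c2 := Cfsg.Agent.Lib.helper29.IsComplIn.card_mul hP.U_compl
  have c3 : (Nat.card W₁).Coprime (Nat.card ↥⁅M, M⁆) := by
    have h := hP.W₁_hall
    rwa [← Cfsg.Agent.Lib.helper29.IsComplIn.card_left hP.W₁_compl] at h
  have hpD : ¬ Nat.card W₁ ∣ Nat.card ↥⁅M, M⁆ := (Nat.Prime.coprime_iff_not_dvd hW₁p).mp c3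
  have cFU : (Nat.card (fittingHallOf M)).Coprime (Nat.card U₂) :=
    coprime_card_compl hDM hP.U_compl
  have hpU₂ : ¬ Nat.card W₁ ∣ Nat.card U₂ := fun h => hpD (by rw [← c2]; exact h.mul_left _)
  have hpF : ¬ Nat.card W₁ ∣ Nat.card (fittingHallOf M) :=
    fun h => hpD (by rw [← c2]; exact h.mul_right _)
  -- (a) `p ∉ σ(M)`
  have hpσ : Nat.card W₁ ∉ sigma M := by
    intro hσ
    apply hHall.2.2 _ hW₁p hσ
    rw [← relIndex_mul_relIndex _ _ _ hσD hDM, ← Cfsg.Agent.Lib.helper29.IsComplIn.card_right hP.W₁_compl]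
    exact dvd_mul_left _ _
  -- (b) no prime of `U₂` lies in `σ(M)`
  have hUσ : ∀ r : ℕ, r.Prime → r ∣ Nat.card U₂ → r ∉ sigma M := by
    intro r hr hrU hσ
    haveI : Fact r.Prime := ⟨hr⟩
    apply hNU₂
    obtain ⟨R⟩ : Nonempty (Sylow r ↥U₂) := inferInstance
    have hRn : (R : Subgroup ↥U₂).Normal := ⟨fun n hn g => by
      have e : g * n * g⁻¹ = n := by rw [hU₂ab.is_comm.comm g n, mul_inv_cancel_right]
      rwa [e]⟩
    haveI hchar : (R : Subgroup ↥U₂).Characteristic := Sylow.characteristic_of_normal R hRn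
    refine (Cfsg.Agent.Lib.helper1.normalizer_le_normalizer_map_of_characteristic U₂
      (R : Subgroup ↥U₂)).trans ?_
    have hR'U : (R : Subgroup ↥U₂).map U₂.subtype ≤ U₂ := map_subtype_le _
    have hR'M : (R : Subgroup ↥U₂).map U₂.subtype ≤ M := hR'U.trans hU₂M
    have hR'p : IsPGroup r ((R : Subgroup ↥U₂).map U₂.subtype) := R.isPGroup'.map _
    have hrel : U₂.relIndex M = Nat.card (fittingHallOf M) * Nat.card W₁ := by
      have h1 := Cfsg.Agent.Lib.helper3.card_mul_relIndex_of_le hU₂M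
      rw [← c1, ← c2] at h1
      have h2 : Nat.card U₂ * U₂.relIndex M =
          Nat.card U₂ * (Nat.card (fittingHallOf M) * Nat.card W₁) := by rw [h1]; ring
      exact Nat.eq_of_mul_eq_mul_left Nat.card_pos h2
    have hidx : ¬ r ∣ ((R : Subgroup ↥U₂).map U₂.subtype).relIndex M := by
      rw [← relIndex_mul_relIndex _ _ _ hR'U hU₂M, Cfsg.Agent.Lib.helper71.BGA.relIndex_map_subtype, hrel]
      intro h
      rcases (Nat.Prime.dvd_mul hr).mp h with h | h
      · exact R.not_dvd_index h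
      · rcases (Nat.Prime.dvd_mul hr).mp h with h | h
        · exact hr.one_lt.ne' (Nat.eq_one_of_dvd_coprimes cFU h hrU)
        · have e := (Nat.prime_dvd_prime_iff_eq hr hW₁p).mp h
          exact hpU₂ (e ▸ hrU)
    have hR'' : IsPGroup r (((R : Subgroup ↥U₂).map U₂.subtype).subgroupOf M) :=
      hR'p.comap_of_injective M.subtype M.subtype_injective
    have h2 := Cfsg.Agent.Lib.helper86.BG1424.sigma_normalizer_le hσ (hR''.toSylow hidx)
    have e : ((hR''.toSylow hidx : Sylow r ↥M) : Subgroup ↥M) =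
        ((R : Subgroup ↥U₂).map U₂.subtype).subgroupOf M := rfl
    rw [e, Subgroup.map_subgroupOf_eq_of_le hR'M] at h2
    exact h2
  -- (c) `M_σ = M_F`
  have hσF : sigmaCore M = fittingHallOf M := by
    symm
    apply eq_of_le_of_card_ge (Cfsg.Agent.Lib.helper8.BG1355.fittingHallOf_le_sigmaCore hG M hM)
    apply Nat.le_of_dvd Nat.card_pos
    have hdvd : Nat.card (sigmaCore M) ∣
        Nat.card (fittingHallOf M) * (Nat.card U₂ * Nat.card W₁) := by
      rw [← mul_assoc, c2, c1]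
      exact card_dvd_of_le hσM
    refine Nat.Coprime.dvd_of_dvd_mul_right ?_ hdvd
    apply Nat.coprime_of_dvd
    intro k hk h1 h2
    have hkσ : k ∈ sigma M := hHall.2.1 k hk h1
    rcases (Nat.Prime.dvd_mul hk).mp h2 with h | h
    · exact hUσ k hk h hkσ
    · have e := (Nat.prime_dvd_prime_iff_eq hk hW₁p).mp h
      exact hpσ (e ▸ hkσ)
  have hsolM : Group.IsSolvable ↥M := hG.2.2.2 M hM.1
  -- (d) `p ∈ κ(M)`
  have hpκ : Nat.card W₁ ∈ kappa M := by
    haveI : Fact (Nat.card W₁).Prime := ⟨hW₁p⟩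
    have hpM : Nat.card W₁ ∣ Nat.card ↥M := by rw [← c1]; exact dvd_mul_left _ _
    refine ⟨hW₁p, hpM, hpσ, fun P => ?_⟩
    have hfac : (Nat.card ↥M).factorization (Nat.card W₁) = 1 := by
      rw [← c1, Nat.factorization_mul Nat.card_pos.ne' hW₁p.ne_zero, Finsupp.add_apply,
        Nat.factorization_eq_zero_of_not_dvd hpD, hW₁p.factorization_self]
    have hPc : Nat.card (P : Subgroup ↥M) = Nat.card W₁ := by
      rw [Sylow.card_eq_multiplicity, hfac, pow_one]
    refine ⟨isCyclic_of_prime_card hPc, ?_⟩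
    have hPne : (P : Subgroup ↥M) ≠ ⊥ := P.ne_bot_of_dvd_card hpM
    obtain ⟨x, hx1⟩ := (Subgroup.ne_bot_iff_exists_ne_one).mp hPne
    have hxo : orderOf x = Nat.card W₁ := by
      have h1 : orderOf x ∣ Nat.card W₁ := by
        have h0 := orderOf_dvd_natCard x
        rwa [hPc] at h0
      rcases (Nat.dvd_prime hW₁p).mp h1 with h | h
      · exact absurd (orderOf_eq_one_iff.mp h) hx1
      · exact h
    have hxo' : orderOf (((x : ↥M) : G)) = Nat.card W₁ := by
      rw [Subgroup.orderOf_coe, Subgroup.orderOf_coe]; exact hxo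
    obtain ⟨y, hy, hy1, hxy⟩ := cent_of_order_p M W₁ U₂ W₂ hsolM hP hW₁p (x : ↥M).2 hxo'
    refine ⟨(x : ↥M), x.2, fun h => hx1 (Subtype.ext h), y, by rw [hσF]; exact hy, hy1, hxy⟩
  -- (e) no prime of `U₂` lies in `κ(M)`
  have hUκ : ∀ q : ℕ, q.Prime → q ∣ Nat.card U₂ → q ∉ kappa M := by
    intro q hq hqU hκ
    haveI : Fact q.Prime := ⟨hq⟩
    obtain ⟨hsolD, -, -, -, U'', -, hcompl, -, ⟨U₀, hU₀le, hexp, hfpf⟩⟩ := hF'
    have hcU'' : Nat.card U'' = Nat.card U₂ := by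
      have h1 := hcompl.card_mul_card
      rw [← Cfsg.Agent.Lib.helper29.card_fittingHallOf, hFeq, ← c2] at h1
      exact Nat.eq_of_mul_eq_mul_left Nat.card_pos h1
    obtain ⟨u, huU₀, huo⟩ := exists_order_in_sub U'' U₀ hexp hq (hcU'' ▸ hqU)
    have huM : (u : G) ∈ M := hDM u.2
    have huo' : orderOf (⟨(u : G), huM⟩ : ↥M) = q := by
      rw [Subgroup.orderOf_mk, Subgroup.orderOf_coe]; exact huo
    have hzp : IsPGroup q (zpowers (⟨(u : G), huM⟩ : ↥M)) :=
      IsPGroup.of_card (n := 1) (by rw [Nat.card_zpowers, huo', pow_one])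
    obtain ⟨Q, hQ⟩ := hzp.exists_le_sylow
    obtain ⟨hcyc, x, hxQ, hx1, y, hyσ, hy1, hxy⟩ := hκ.2.2.2 Q
    have huQ : (⟨(u : G), huM⟩ : ↥M) ∈ (Q : Subgroup ↥M) := hQ (mem_zpowers _)
    have hqx : q ∣ orderOf x := by
      obtain ⟨k, hk⟩ := Q.isPGroup' ⟨x, hxQ⟩
      have h1 : orderOf x ∣ q ^ k := by
        apply orderOf_dvd_of_pow_eq_one
        have := congrArg Subtype.val hk
        simpa using this
      obtain ⟨j, -, hj⟩ := (Nat.dvd_prime_pow hq).mp h1
      rcases Nat.eq_zero_or_pos j with h0 | h0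
      · rw [h0, pow_zero] at hj
        exact absurd (orderOf_eq_one_iff.mp hj) hx1
      · rw [hj]; exact dvd_pow_self q (by omega)
    have hmem := Cfsg.Agent.Lib.helper25.BG1428.mem_zpowers_of_isCyclic hcyc hxQ huQ
      (orderOf_dvd_iff_pow_eq_one.mp (huo' ▸ hqx))
    obtain ⟨k, hk⟩ := hmem
    have huy : (u : G) * y = y * (u : G) := by
      have h1 : (u : G) = ((x : ↥M) : G) ^ k := by
        have := congrArg Subtype.val hk
        simpa using this.symm
      have h2 : Commute ((x : ↥M) : G) y := hxy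
      rw [h1]
      exact (h2.zpow_left k).eq
    rw [hσF, ← hFeq] at hyσ
    obtain ⟨y', hy', rfl⟩ := hyσ
    have hu1 : u ≠ 1 := by
      intro h
      rw [h, orderOf_one] at huo
      exact hq.one_lt.ne huo
    have h3 := hfpf u huU₀ hu1 y' hy' (Subtype.ext huy)
    apply hy1
    rw [h3]
    rfl
  -- (f) the standard factorisation
  have hHallK : IsPiHallOf (kappa M) W₁ M := by
    refine ⟨hW₁M, fun q hq hd => ?_, fun q hq hκ hd => ?_⟩
    · have e := (Nat.prime_dvd_prime_iff_eq hq hW₁p).mp hd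
      exact e ▸ hpκ
    · rw [← Cfsg.Agent.Lib.helper29.IsComplIn.card_left hP.W₁_compl, ← c2] at hd
      rcases (Nat.Prime.dvd_mul hq).mp hd with h | h
      · apply hκ.2.2.1
        rw [Cfsg.Agent.Lib.helper29.card_fittingHallOf] at h
        exact Cfsg.Agent.Lib.helper26.BG1375.mem_sigma_of_dvd_card_fittingHall hG hM hq h
      · exact hUκ q hq h hκ
  refine ⟨hσF, ⟨hP.W₁_cyclic, hHallK, ?_, hP.U_normal⟩⟩
  have hFW : fittingHallOf M ⊓ W₁ = ⊥ := by
    rw [eq_bot_iff, ← hP.W₁_compl.2.2.1]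
    exact inf_le_inf_right _ hFD
  have hcs : Nat.card ↥(fittingHallOf M ⊔ W₁) = Nat.card (fittingHallOf M) * Nat.card W₁ :=
    Cfsg.Agent.Lib.helper3.zg_card_sup _ _
      (hW₁M.trans (Cfsg.Agent.Lib.helper29.le_normalizer_fittingHallOf M)) hFW
  rw [hσF, sup_comm]
  apply Cfsg.Agent.Lib.helper69.bgk_isComplIn_of_card hU₂M
    (sup_le (Cfsg.Agent.Lib.helper29.fittingHallOf_le M) hW₁M)
  · apply disjoint_iff.mp
    apply Subgroup.disjoint_of_coprime_natCard
    rw [hcs]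
    apply Nat.Coprime.mul_right cFU.symm
    exact ((Nat.Prime.coprime_iff_not_dvd hW₁p).mpr hpU₂).symm
  · rw [hcs, ← c1, ← c2]
    ring

/-- **S1390, Type II case** (unconditional). -/
theorem typeII_case [Finite G] (hG : IsMinSimpleOddOrder G) (M : Subgroup G) (hM : IsCoatom M)
    (U : Subgroup G) (hII : IsOfTypeII M) (hU : IsComplIn (fittingHallOf M) U ⁅M, M⁆) :
    (∀ (p : ℕ), p.Prime → ∀ P : Sylow p U,
        IsMulCommutative (P : Subgroup U) ∧ PRankLE p 2 (P : Subgroup U)) ∧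
      (∀ X : Set G, X ⊆ (U : Set G) \ {1} → X.Nonempty →
        fittingHallOf M ⊓ centralizer X ≠ ⊥ →
        centralizer X ≤ M ∧ ∀ L : Subgroup G, IsCoatom L → centralizer X ≤ L → L = M) ∧
      IsTISubset (typeA M \ typeA1 M) := by
  obtain ⟨W₁, U₂, W₂, hP, -, hW₁p, -, hU₂ab, hNU₂, hF', hFeq⟩ := id hII
  obtain ⟨hσF, hdec⟩ := typeII_facts hG M hM W₁ U₂ W₂ hP hW₁p hU₂ab hNU₂ hF' hFeq
  have hDM : ⁅M, M⁆ ≤ M := hP.W₁_compl.1
  have hcop := coprime_card_compl hDM hP.U_compl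
  have hnorm : M ≤ normalizer (sigmaCore M : Set G) := by
    rw [hσF]; exact Cfsg.Agent.Lib.helper29.le_normalizer_fittingHallOf M
  obtain ⟨m, hm, hmU⟩ := compl_conj hF'.1 hcop hU hP.U_compl
  have hdec' := sigmaDecomp_conj hdec hnorm (hDM hm)
  rw [hmU] at hdec'
  obtain ⟨h1, h2, h3⟩ := concl_of_decomp hG M hM _ U hdec' hσF
  refine ⟨h1, h2, ?_⟩
  have hnI : ¬ IsOfTypeI M := fun hI => typeF_typeP_false M W₁ U₂ W₂ hI.1 hP hW₁p
  have hnIII : ¬ (IsOfTypeIII M ∨ IsOfTypeIV M) := by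
    have key : ∀ W₁' U₃ W₂' : Subgroup G, IsTypePWith M W₁' U₃ W₂' →
        normalizer (U₃ : Set G) ≤ M → False := by
      intro W₁' U₃ W₂' hP' hN
      obtain ⟨m', hm', e⟩ := compl_conj hF'.1 hcop hP'.U_compl hP.U_compl
      rw [← e, Cfsg.Agent.Lib.helper13.normalizer_map_conj] at hN
      apply hNU₂
      intro g hg
      have h4 : m' * g * m'⁻¹ ∈ M := hN ⟨g, hg, rfl⟩
      have h5 : g = m'⁻¹ * (m' * g * m'⁻¹) * m' := by group
      rw [h5]
      exact M.mul_mem (M.mul_mem (M.inv_mem (hDM hm')) h4) (hDM hm')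
    rintro (⟨W₁', U₃, W₂', hP', -, -, -, -, hN⟩ | ⟨W₁', U₃, W₂', hP', -, -, -, -, hN⟩)
    · exact key W₁' U₃ W₂' hP' hN
    · exact key W₁' U₃ W₂' hP' hN
  have hcore : typeCore M = fittingHallOf M := by
    unfold typeCore; rw [if_neg hnIII]
  have hsup : U ⊔ fittingHallOf M = ⁅M, M⁆ := by
    apply le_antisymm (sup_le hU.2.1 hU.1)
    intro x hx
    obtain ⟨a, ha, b, hb, rfl⟩ := hU.2.2.2 x hx
    exact mul_mem (mem_sup_right ha) (mem_sup_left hb)
  have hA : typeA M \ typeA1 M = sigmaA M U \ (sigmaCore M : Set G) := by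
    unfold typeA typeA1
    rw [if_neg hnI, hcore]
    exact typeSet_eq M U ⁅M, M⁆ hσF hDM hsup
  rw [hA]
  exact h3

/-- **S1390, Type I case**, from the frozen statements S1351 and S1364. -/
theorem typeI_case [Finite G] (hG : IsMinSimpleOddOrder G)
    (hex : ∀ M : Subgroup G, IsCoatom M → ∃ K : Subgroup G, IsPiHallOf (kappa M) K M)
    (h51 : Cfsg.Agent.Lib.helper8.BG1355.H1351 G) (h64 : Cfsg.Agent.Lib.helper8.BG1355.H1364 G)
    (M : Subgroup G) (hM : IsCoatom M)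
    (U : Subgroup G) (hI : IsOfTypeI M) (hU : IsComplIn (fittingHallOf M) U M) :
    (∀ (p : ℕ), p.Prime → ∀ P : Sylow p U,
        IsMulCommutative (P : Subgroup U) ∧ PRankLE p 2 (P : Subgroup U)) ∧
      (∀ X : Set G, X ⊆ (U : Set G) \ {1} → X.Nonempty →
        fittingHallOf M ⊓ centralizer X ≠ ⊥ →
        centralizer X ≤ M ∧ ∀ L : Subgroup G, IsCoatom L → centralizer X ≤ L → L = M) ∧
      IsTISubset (typeA M \ typeA1 M) := by
  obtain ⟨K, hK⟩ := hex M hM
  have hKc := h51 M hM K hK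
  obtain ⟨⟨Ud, hdec⟩, -⟩ := Cfsg.Agent.S1352.result hG M hM K hKc hK
  obtain ⟨hsol, -, -, -, U', -, hcompl, -, ⟨U₀, hU₀le, hexp, hfpf⟩⟩ := id hI.1
  have hHall := (Cfsg.Agent.S1350.result hG M hM).1
  -- `K = 1`
  have hK1 : K = ⊥ := by
    by_contra hne
    obtain ⟨hks1, hksF⟩ := h64 M hM K Ud hdec hne
    obtain ⟨y, hy1⟩ := (Subgroup.ne_bot_iff_exists_ne_one).mp hks1
    have hKcard : Nat.card K ≠ 1 := fun h => hne (Subgroup.card_eq_one.mp h)
    obtain ⟨p, hp, hpK⟩ := Nat.exists_prime_and_dvd hKcard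
    have hpκ := hK.2.1 p hp hpK
    have hpF : ¬ p ∣ Nat.card (fittingHall ↥M) := fun h =>
      hpκ.2.2.1 (Cfsg.Agent.Lib.helper26.BG1375.mem_sigma_of_dvd_card_fittingHall hG hM hp h)
    have hpU' : p ∣ Nat.card U' := by
      have h1 := hcompl.card_mul_card
      have h2 : p ∣ Nat.card ↥M := hpκ.2.1
      rw [← h1] at h2
      exact (hp.dvd_mul.mp h2).resolve_left hpF
    obtain ⟨u, huU₀, huo⟩ := exists_order_in_sub U' U₀ hexp hp hpU'
    have huo' : orderOf (u : G) = p := by rw [Subgroup.orderOf_coe]; exact huo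
    obtain ⟨m, hm, hmK⟩ := Cfsg.Agent.Lib.helper3.BG1366.hallOf_conj_le hsol hK
      (Y := zpowers (u : G)) ((zpowers_le).2 u.2) (fun q hq hd => by
        rw [Nat.card_zpowers, huo'] at hd
        exact ((Nat.prime_dvd_prime_iff_eq hq hp).mp hd) ▸ hpκ)
    have hk : m * (u : G) * m⁻¹ ∈ K := hmK _ (mem_zpowers _)
    have hyc : (m * (u : G) * m⁻¹) * (y : G) = (y : G) * (m * (u : G) * m⁻¹) :=
      (mem_centralizer_iff.mp y.2.2) _ hk
    have hyF : (y : G) ∈ fittingHallOf M := hksF y.2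
    have hmn : m⁻¹ ∈ normalizer (fittingHallOf M : Set G) :=
      Cfsg.Agent.Lib.helper29.le_normalizer_fittingHallOf M (M.inv_mem hm)
    have hy'F : m⁻¹ * (y : G) * m ∈ fittingHallOf M := by
      have h := (mem_normalizer_iff.mp hmn (y : G)).mp hyF
      rwa [inv_inv] at h
    obtain ⟨y', hy', hy'e⟩ := hy'F
    have hu1 : u ≠ 1 := by
      intro h
      rw [h, orderOf_one] at huo
      exact hp.one_lt.ne huo
    have hcomm : u * y' = y' * u := by
      apply Subtype.ext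
      show (u : G) * (y' : G) = (y' : G) * (u : G)
      have e0 : (y' : G) = m⁻¹ * (y : G) * m := hy'e
      have e1 : (u : G) * (m⁻¹ * (y : G) * m) = m⁻¹ * (m * (u : G) * m⁻¹ * (y : G)) * m := by
        group
      have e2 : m⁻¹ * (y : G) * m * (u : G) = m⁻¹ * ((y : G) * (m * (u : G) * m⁻¹)) * m := by
        group
      rw [e0, e1, e2, hyc]
    have h3 := hfpf u huU₀ hu1 y' hy' hcomm
    apply hy1
    have e0 : (y' : G) = m⁻¹ * (y : G) * m := hy'e
    rw [h3] at e0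
    have e4 : (y : G) = m * (m⁻¹ * (y : G) * m) * m⁻¹ := by group
    rw [← e0] at e4
    apply Subtype.ext
    rw [e4]
    simp
  subst hK1
  -- `κ(M) = ∅`
  have hκ : ∀ q : ℕ, q ∉ kappa M := by
    intro q hq
    apply hK.2.2 q hq.1 hq
    rw [relIndex_bot_left]
    exact hq.2.1
  -- a prime outside `σ(M)`
  have hσD := Cfsg.Agent.Lib.helper8.BG1355.sigmaCore_le_commutator hG M hM
  have hlt := Cfsg.Agent.Lib.helper8.BG1355.commutator_lt hG M hM
  have hrel : (sigmaCore M).relIndex M ≠ 1 := by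
    intro h
    exact (lt_of_le_of_lt hσD hlt).not_ge (relIndex_eq_one.mp h)
  obtain ⟨q, hq, hqd⟩ := Nat.exists_prime_and_dvd hrel
  have hqM : q ∣ Nat.card ↥M := hqd.trans (relIndex_dvd_card _ _)
  have hqσ : q ∉ sigma M := fun h => hHall.2.2 q hq h hqd
  haveI : Fact q.Prime := ⟨hq⟩
  obtain ⟨S⟩ : Nonempty (Sylow q ↥M) := inferInstance
  have hnil := (Cfsg.Agent.S1429.result hG M hM
    (fun h => hκ q (h q hq hqM hqσ)) q hqM
    (fun h => h.elim hqσ (hκ q)) S).2.2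
  have hσF := Cfsg.Agent.Lib.helper26.BG1375.sigmaCore_eq_fittingHallOf hG hM hnil
  -- `(1, U)` is a standard factorisation
  have hdecU : IsSigmaDecomposition M ⊥ U := by
    refine ⟨hdec.cyclic, hK, ?_, bot_le⟩
    rw [bot_sup_eq, hσF]
    apply Cfsg.Agent.Lib.helper69.bgk_isComplIn_of_card hU.2.1 hU.1
    · rw [inf_comm]; exact hU.2.2.1
    · rw [mul_comm]; exact Cfsg.Agent.Lib.helper29.IsComplIn.card_mul hU
  obtain ⟨h1, h2, h3⟩ := concl_of_decomp hG M hM _ U hdecU hσF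
  refine ⟨h1, h2, ?_⟩
  have hnIII : ¬ (IsOfTypeIII M ∨ IsOfTypeIV M) := by
    rintro (⟨W₁, U₃, W₂, hP, -, hp, -⟩ | ⟨W₁, U₃, W₂, hP, -, hp, -⟩)
    · exact typeF_typeP_false M W₁ U₃ W₂ hI.1 hP hp
    · exact typeF_typeP_false M W₁ U₃ W₂ hI.1 hP hp
  have hcore : typeCore M = fittingHallOf M := by
    unfold typeCore; rw [if_neg hnIII]
  have hsup : U ⊔ fittingHallOf M = M := by
    apply le_antisymm (sup_le hU.2.1 hU.1)
    intro x hx
    obtain ⟨a, ha, b, hb, rfl⟩ := hU.2.2.2 x hx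
    exact mul_mem (mem_sup_right ha) (mem_sup_left hb)
  have hA : typeA M \ typeA1 M = sigmaA M U \ (sigmaCore M : Set G) := by
    unfold typeA typeA1
    rw [if_pos hI, hcore]
    exact typeSet_eq M U M hσF le_rfl hsup
  rw [hA]
  exact h3

end Cfsg.Agent.Lib.helper3.BG1390
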