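import Mathlib
import Cfsg.Prelude.Def_Transfer

/-!
Definitions for the split of S4395 (universal minimal non-`p`-nilpotent group, Gol'fand).
-/

set_option autoImplicit false

namespace Cfsg.Agent.Lib.helper3.Gf

/-- minimal non-`p`-nilpotent: no normal `p`-complement, but every proper subgroup has one. -/
def MNP (p : ℕ) (G : Type*) [Group G] : Prop :=
  ¬ Cfsg.HasNormalPComplement p G ∧ ∀ K : Subgroup G, K ≠ ⊤ → Cfsg.HasNormalPComplement p ↥K

/-- `N` consists of non-generators: a subgroup that together with `N` generates the group is the whole group. -/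
def NonGen {G : Type*} [Group G] (N : Subgroup G) : Prop :=
  ∀ S : Subgroup G, S ⊔ N = ⊤ → S = ⊤

/-- Cover data: `N ≤ P` with `N` central in `K`, `P` a normal `p`-subgroup, `P/N` elementary abelian,
`K = P⟨y⟩`, `yP` of order exactly `q ^ r` in `K/P`, `y ^ q` trivial on `P/N`, `y` non-trivial and
irreducible on `P/N`. (With `N = ⊥`: `K` is a minimal non-nilpotent group with abelian Sylow `p`.) -/
structure Cov (p q r : ℕ) {K : Type*} [Group K] (N P : Subgroup K) (y : K) : Prop where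
  N_le_P : N ≤ P
  N_central : N ≤ Subgroup.center K
  P_normal : P.Normal
  P_pgroup : IsPGroup p ↥P
  comm_mem : ∀ u ∈ P, ∀ v ∈ P, u * v * u⁻¹ * v⁻¹ ∈ N
  pow_mem : ∀ u ∈ P, u ^ p ∈ N
  sup_top : P ⊔ Subgroup.zpowers y = ⊤
  ord_dvd : ∀ k : ℕ, y ^ k ∈ P → q ^ r ∣ k
  ord_mem : y ^ (q ^ r) ∈ P
  yq : ∀ u ∈ P, y ^ q * u * (y ^ q)⁻¹ * u⁻¹ ∈ N
  nontriv : ∃ u ∈ P, y * u * y⁻¹ * u⁻¹ ∉ N
  irr : ∀ W : Subgroup K, N ≤ W → W ≤ P → (∀ w ∈ W, y * w * y⁻¹ ∈ W) → W = N ∨ W = P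

/-- the commutators and the `p`-th powers of the elements of `P` -/
def CP (p : ℕ) {K : Type*} [Group K] (P : Subgroup K) : Set K :=
  {g | ∃ u ∈ P, ∃ v ∈ P, g = u * v * u⁻¹ * v⁻¹} ∪ {g | ∃ u ∈ P, g = u ^ p}

/-- An additive group of exponent `p` with an automorphism `T`, `T ^ q = 1`, `T ≠ 1`, without proper
non-zero `T`-invariant subgroups. -/
structure Irr (p q : ℕ) {V : Type*} [AddCommGroup V] (T : V ≃+ V) : Prop where
  exp : ∀ v : V, p • v = 0
  pow : ∀ v : V, (⇑T)^[q] v = v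
  ne : ∃ v : V, T v ≠ v
  irr : ∀ W : AddSubgroup V, (∀ w ∈ W, T w ∈ W) → W = ⊥ ∨ W = ⊤

/-- `β` is a biadditive, alternating, `T`-invariant form with values in `ZMod p`. -/
def InvAlt {V : Type*} [AddCommGroup V] (p : ℕ) (T : V ≃+ V) (β : V → V → ZMod p) : Prop :=
  (∀ u u' v, β (u + u') v = β u v + β u' v) ∧ (∀ u v v', β u (v + v') = β u v + β u v') ∧
  (∀ v, β v v = 0) ∧ (∀ u v, β (T u) (T v) = β u v)

end Cfsg.Agent.Lib.helper3.Gf
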