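import Mathlib

/-!
Racer copy (helper3) of piece ARITH2 of the split S5977C (architect helper2): valuation comparison.
-/

set_option autoImplicit false

namespace Cfsg.Agent.Lib.helper3

theorem h3_padicVal_prod_range (r : ℕ) [Fact r.Prime] (f : ℕ → ℕ) (n : ℕ) (hf : ∀ j, f j ≠ 0) :
    padicValNat r (∏ j ∈ Finset.range n, f j) = ∑ j ∈ Finset.range n, padicValNat r (f j) := by
  induction n with
  | zero => simp
  | succ n ih =>
    rw [Finset.prod_range_succ, Finset.sum_range_succ,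
      padicValNat.mul (Finset.prod_ne_zero_iff.mpr (fun j _ => hf j)) (hf n), ih]

end Cfsg.Agent.Lib.helper3

namespace Cfsg.Agent.Lib.helper2

open Cfsg.Agent.Lib.helper3 in
/-- ARITH2 (racer copy by helper3) -/
theorem h3_qfc_arith_val (q d r : ℕ) (hq : 2 ≤ q) (hd : 2 ≤ d) [Fact r.Prime] (hr2 : r ≠ 2)
    (hrq : ¬ r ∣ q) (h4 : 4 ∣ orderOf ((q : ℕ) : ZMod r)) (s : Bool) (NK h : ℕ)
    (hcnt : Even d → q ^ (d - 1) * (if s then q ^ d - 1 else q ^ d + 1) = q * NK)
    (hlb : (∑ t ∈ (Finset.range d).filter (fun t => orderOf ((q ^ 2 : ℕ) : ZMod r) ∣ t),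
          padicValNat r ((q ^ 2) ^ t - 1)) +
        (if orderOf ((q ^ 2 : ℕ) : ZMod r) ∣ d ∧ r ∣ NK then padicValNat r ((q ^ 2) ^ d - 1)
          else 0) ≤ padicValNat r h) :
    padicValNat r (2 * q ^ (d * (d - 1)) * (if s then q ^ d - 1 else q ^ d + 1) *
        ∏ j ∈ Finset.range (d - 1), (q ^ (2 * (j + 1)) - 1)) ≤ padicValNat r h := by
  have hr : r.Prime := Fact.out
  have hq1 : ∀ k : ℕ, 1 ≤ q ^ k := fun k => Nat.one_le_pow _ _ (by omega)
  have hqd : 4 ≤ q ^ d := by
    calc 4 = 2 ^ 2 := by norm_num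
      _ ≤ q ^ 2 := Nat.pow_le_pow_left hq 2
      _ ≤ q ^ d := Nat.pow_le_pow_right (by omega) hd
  set X : ℕ := (if s then q ^ d - 1 else q ^ d + 1) with hX
  have hX0 : X ≠ 0 := by
    rw [hX]; split_ifs <;> omega
  have hfac : ∀ j : ℕ, q ^ (2 * (j + 1)) - 1 ≠ 0 := by
    intro j
    have : 4 ≤ q ^ (2 * (j + 1)) := by
      calc 4 = 2 ^ 2 := by norm_num
        _ ≤ q ^ 2 := Nat.pow_le_pow_left hq 2
        _ ≤ q ^ (2 * (j + 1)) := Nat.pow_le_pow_right (by omega) (by omega)
    omega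
  have hP0 : (∏ j ∈ Finset.range (d - 1), (q ^ (2 * (j + 1)) - 1)) ≠ 0 :=
    Finset.prod_ne_zero_iff.mpr (fun j _ => hfac j)
  have hq0 : q ^ (d * (d - 1)) ≠ 0 := by have := hq1 (d * (d - 1)); omega
  have hv2 : padicValNat r 2 = 0 := by
    apply padicValNat.eq_zero_of_not_dvd
    intro h2
    exact hr2 ((Nat.prime_dvd_prime_iff_eq hr Nat.prime_two).mp h2)
  have hvq : padicValNat r (q ^ (d * (d - 1))) = 0 := by
    apply padicValNat.eq_zero_of_not_dvd
    intro hdv
    exact hrq (hr.dvd_of_dvd_pow hdv)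
  -- the valuation of the order
  have hval : padicValNat r (2 * q ^ (d * (d - 1)) * X *
        ∏ j ∈ Finset.range (d - 1), (q ^ (2 * (j + 1)) - 1)) =
      padicValNat r X + ∑ j ∈ Finset.range (d - 1), padicValNat r (q ^ (2 * (j + 1)) - 1) := by
    rw [padicValNat.mul (by positivity) hP0, padicValNat.mul (by positivity) hX0,
      padicValNat.mul (by norm_num) hq0, hv2, hvq,
      h3_padicVal_prod_range r (fun j => q ^ (2 * (j + 1)) - 1) (d - 1) hfac]
    ring
  rw [hval]
  -- the product part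
  set g : ℕ → ℕ := fun t => padicValNat r ((q ^ 2) ^ t - 1) with hg
  have hg0 : ∀ t, ¬ orderOf ((q ^ 2 : ℕ) : ZMod r) ∣ t → g t = 0 := by
    intro t ht
    apply padicValNat.eq_zero_of_not_dvd
    intro hdv
    apply ht
    apply orderOf_dvd_of_pow_eq_one
    have h0 : (((q ^ 2) ^ t - 1 : ℕ) : ZMod r) = 0 := (ZMod.natCast_eq_zero_iff _ _).mpr hdv
    have h1 : 1 ≤ (q ^ 2) ^ t := Nat.one_le_pow _ _ (by positivity)
    rw [Nat.cast_sub h1] at h0
    push_cast at h0 ⊢
    exact sub_eq_zero.mp h0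
  have hsum1 : ∑ j ∈ Finset.range (d - 1), padicValNat r (q ^ (2 * (j + 1)) - 1) ≤
      ∑ t ∈ (Finset.range d).filter (fun t => orderOf ((q ^ 2 : ℕ) : ZMod r) ∣ t), g t := by
    have e1 : ∑ j ∈ Finset.range (d - 1), padicValNat r (q ^ (2 * (j + 1)) - 1) =
        ∑ j ∈ Finset.range (d - 1), g (j + 1) := by
      apply Finset.sum_congr rfl
      intro j _
      simp only [hg, pow_mul]
    have e2 : ∑ t ∈ Finset.range d, g t = ∑ j ∈ Finset.range (d - 1), g (j + 1) + g 0 := by
      obtain ⟨e, rfl⟩ : ∃ e, d = e + 1 := ⟨d - 1, by omega⟩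
      simp only [Nat.add_sub_cancel]
      rw [Finset.sum_range_succ']
    have e3 : ∑ t ∈ (Finset.range d).filter (fun t => orderOf ((q ^ 2 : ℕ) : ZMod r) ∣ t), g t =
        ∑ t ∈ Finset.range d, g t := by
      rw [Finset.sum_filter]
      apply Finset.sum_congr rfl
      intro t _
      split_ifs with ht
      · rfl
      · exact (hg0 t ht).symm
    rw [e1, e3, e2]
    omega
  -- the factor X
  have hXle : padicValNat r X ≤
      (if orderOf ((q ^ 2 : ℕ) : ZMod r) ∣ d ∧ r ∣ NK then padicValNat r ((q ^ 2) ^ d - 1)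
          else 0) := by
    by_cases hrX : r ∣ X
    · -- X divides q^(2d) - 1
      have hXdvd : X ∣ (q ^ 2) ^ d - 1 := by
        have hmul : (q ^ d - 1) * (q ^ d + 1) = (q ^ 2) ^ d - 1 := by
          have h1 := hq1 d
          rw [← pow_mul, mul_comm 2 d, pow_mul]
          obtain ⟨c, hc⟩ : ∃ c, q ^ d = c + 1 := ⟨q ^ d - 1, by omega⟩
          rw [hc]
          simp only [Nat.add_sub_cancel]
          have : (c + 1) ^ 2 = c * (c + 1 + 1) + 1 := by ring
          rw [this, Nat.add_sub_cancel]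
        rw [hX, ← hmul]
        split_ifs
        · exact Dvd.intro _ rfl
        · exact Dvd.intro_left _ rfl
      have hbig0 : (q ^ 2) ^ d - 1 ≠ 0 := by
        have : 4 ≤ (q ^ 2) ^ d := by
          rw [← pow_mul]
          calc 4 = 2 ^ 2 := by norm_num
            _ ≤ q ^ 2 := Nat.pow_le_pow_left hq 2
            _ ≤ q ^ (2 * d) := Nat.pow_le_pow_right (by omega) (by omega)
        omega
      have hrbig : r ∣ (q ^ 2) ^ d - 1 := dvd_trans hrX hXdvd
      have hord2 : orderOf ((q ^ 2 : ℕ) : ZMod r) ∣ d := by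
        by_contra hcon
        have := hg0 d hcon
        have h1 : 1 ≤ padicValNat r ((q ^ 2) ^ d - 1) :=
          one_le_padicValNat_of_dvd hbig0 hrbig
        simp only [hg] at this
        omega
      -- d is even
      have hqpow : ((q : ℕ) : ZMod r) ^ (2 * d) = 1 := by
        have h0 : (((q ^ 2) ^ d - 1 : ℕ) : ZMod r) = 0 := (ZMod.natCast_eq_zero_iff _ _).mpr hrbig
        have h1 : 1 ≤ (q ^ 2) ^ d := Nat.one_le_pow _ _ (by positivity)
        rw [Nat.cast_sub h1] at h0
        push_cast at h0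
        rw [pow_mul]
        exact sub_eq_zero.mp h0
      have hdeven : Even d := by
        have h1 : orderOf ((q : ℕ) : ZMod r) ∣ 2 * d := orderOf_dvd_of_pow_eq_one hqpow
        have h2 : 4 ∣ 2 * d := dvd_trans h4 h1
        rw [Nat.even_iff]
        omega
      have hNK : r ∣ NK := by
        have h1 := hcnt hdeven
        have h2 : r ∣ q * NK := by
          rw [← h1]
          exact Dvd.dvd.mul_left hrX _
        rcases (Nat.Prime.dvd_mul hr).mp h2 with h3 | h3
        · exact absurd h3 hrq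
        · exact h3
      rw [if_pos ⟨hord2, hNK⟩]
      obtain ⟨Y, hY⟩ := hXdvd
      have hY0 : Y ≠ 0 := by
        rintro rfl
        rw [mul_zero] at hY
        exact hbig0 hY
      rw [hY, padicValNat.mul hX0 hY0]
      omega
    · rw [padicValNat.eq_zero_of_not_dvd hrX]
      exact Nat.zero_le _
  calc padicValNat r X + ∑ j ∈ Finset.range (d - 1), padicValNat r (q ^ (2 * (j + 1)) - 1)
      ≤ (if orderOf ((q ^ 2 : ℕ) : ZMod r) ∣ d ∧ r ∣ NK then padicValNat r ((q ^ 2) ^ d - 1)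
          else 0) +
        ∑ t ∈ (Finset.range d).filter (fun t => orderOf ((q ^ 2 : ℕ) : ZMod r) ∣ t), g t :=
        Nat.add_le_add hXle hsum1
    _ ≤ padicValNat r h := by
        rw [add_comm]
        exact hlb

end Cfsg.Agent.Lib.helper2
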