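import Mathlib
import Cfsg.Prelude.Def_GeometricClasses
import Cfsg.Agent.Lib.helper24.SfoDefs

/-!
Racer copy (helper3) of the leaf SUMD (`qfu_diag_count_sum`) of the sub-split `s5977u`
(architect helper2): verbatim Skel statement under the prefixed name `h3_qfu_diag_count_sum`.
-/

set_option autoImplicit false

namespace Cfsg.Agent.Lib.helper3

theorem h3_ringChar_ne_two {E : Type*} [Field E] (h2 : (2 : E) ≠ 0) : ringChar E ≠ 2 := by
  intro h
  apply h2
  have := ringChar.Nat.cast_ringChar (R := E)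
  rw [h] at this
  exact_mod_cast this

/-- The number of solutions of `c * x ^ 2 = t` in a finite field of odd characteristic. -/
theorem h3_card_sq_eq {E : Type*} [Field E] [Fintype E] [DecidableEq E] (h2 : (2 : E) ≠ 0)
    (c t : E) (hc : c ≠ 0) :
    (Nat.card {x : E // c * x ^ 2 = t} : ℤ) = quadraticChar E (t / c) + 1 := by
  rw [← quadraticChar_card_sqrts (h3_ringChar_ne_two h2) (t / c)]
  have e : {x : E // c * x ^ 2 = t} ≃ ↥({x : E | x ^ 2 = t / c} : Set E) :=
    Equiv.subtypeEquivRight (fun x => by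
      simp only [Set.mem_setOf_eq]
      rw [eq_div_iff hc, mul_comm])
  rw [Nat.card_congr e, Nat.card_eq_fintype_card, Set.toFinset_card]

theorem h3_pair_two {E : Type*} [Field E] [Fintype E] (h2 : (2 : E) ≠ 0) (c c' : E)
    (hc : c ≠ 0) (hc' : c' ≠ 0) (hns : ∀ s : E, c ≠ s ^ 2 * c') (t : E) :
    Nat.card {x : E // c * x ^ 2 = t} + Nat.card {x : E // c' * x ^ 2 = t} = 2 := by
  classical
  have h1 := h3_card_sq_eq h2 c t hc
  have h2' := h3_card_sq_eq h2 c' t hc'
  have hχ : quadraticChar E (c / c') = -1 := by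
    rw [quadraticChar_neg_one_iff_not_isSquare]
    rintro ⟨s, hs⟩
    apply hns s
    rw [div_eq_iff hc'] at hs
    rw [hs]; ring
  have hmul : quadraticChar E (t / c') = quadraticChar E (t / c) * quadraticChar E (c / c') := by
    rw [← map_mul]
    congr 1
    field_simp
  have h3 : (Nat.card {x : E // c * x ^ 2 = t} : ℤ) + Nat.card {x : E // c' * x ^ 2 = t} = 2 := by
    rw [h1, h2', hmul, hχ]; ring
  exact_mod_cast h3

theorem h3_count_split {E : Type*} [Field E] [Fintype E] {m : ℕ} (c : E) :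
    Nat.card {x : Fin (m + 1) → E // ∑ j, (if j = Fin.last m then c else 1) * x j ^ 2 = 1} =
      ∑ y : Fin m → E, Nat.card {a : E // c * a ^ 2 = 1 - ∑ j, y j ^ 2} := by
  classical
  let e₀ : (Fin (m + 1) → E) ≃ (Fin m → E) × E :=
    (Fin.snocEquiv (fun _ => E)).symm.trans (Equiv.prodComm _ _)
  have he1 : ∀ x : Fin (m + 1) → E, (e₀ x).1 = fun j => x (Fin.castSucc j) := fun x => rfl
  have he2 : ∀ x : Fin (m + 1) → E, (e₀ x).2 = x (Fin.last m) := fun x => rfl
  have h1 : ∀ x : Fin (m + 1) → E,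
      (∑ j, (if j = Fin.last m then c else 1) * x j ^ 2 = 1) ↔
        c * (e₀ x).2 ^ 2 = 1 - ∑ j, (e₀ x).1 j ^ 2 := by
    intro x
    rw [Fin.sum_univ_castSucc, he1, he2]
    have hs : ∑ j : Fin m, (if Fin.castSucc j = Fin.last m then c else 1) * x (Fin.castSucc j) ^ 2 =
        ∑ j : Fin m, x (Fin.castSucc j) ^ 2 := by
      refine Finset.sum_congr rfl (fun j _ => ?_)
      rw [if_neg (Fin.castSucc_ne_last j), one_mul]
    rw [hs, if_pos rfl]
    constructor <;> intro h <;> linear_combination h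
  rw [Nat.card_congr ((Equiv.subtypeEquiv e₀ h1).trans
    (Equiv.subtypeProdEquivSigmaSubtype
      (fun (y : Fin m → E) (a : E) => c * a ^ 2 = 1 - ∑ j, y j ^ 2)))]
  rw [Nat.card_sigma]

end Cfsg.Agent.Lib.helper3

namespace Cfsg.Agent.Lib.helper2

open Cfsg.Geo Matrix Cfsg.Agent.Lib.helper24

/-- SUMD -/
theorem h3_qfu_diag_count_sum {E : Type*} [Field E] [Fintype E] {m : ℕ} (h2 : (2 : E) ≠ 0)
    (c c' : E) (hc : c ≠ 0) (hc' : c' ≠ 0) (hns : ∀ s : E, c ≠ s ^ 2 * c') :
    sfoCount (fun x : Fin (m + 1) → E => ∑ j, (if j = Fin.last m then c else 1) * x j ^ 2) 1 +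
      sfoCount (fun x : Fin (m + 1) → E => ∑ j, (if j = Fin.last m then c' else 1) * x j ^ 2) 1 =
      2 * Fintype.card E ^ m := by
  classical
  show Nat.card {x : Fin (m + 1) → E // ∑ j, (if j = Fin.last m then c else 1) * x j ^ 2 = 1} +
    Nat.card {x : Fin (m + 1) → E // ∑ j, (if j = Fin.last m then c' else 1) * x j ^ 2 = 1} = _
  rw [Cfsg.Agent.Lib.helper3.h3_count_split c, Cfsg.Agent.Lib.helper3.h3_count_split c',
    ← Finset.sum_add_distrib]
  rw [Finset.sum_congr rfl (fun y _ =>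
    Cfsg.Agent.Lib.helper3.h3_pair_two h2 c c' hc hc' hns (1 - ∑ j, y j ^ 2))]
  rw [Finset.sum_const, Finset.card_univ, Fintype.card_fun, Fintype.card_fin, smul_eq_mul, mul_comm]

end Cfsg.Agent.Lib.helper2


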