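import Mathlib
import Cfsg.Prelude.Def_OddOrderLocal

/-!
Bender–Glauberman §11/§12 interface: the "exceptional maximal subgroup" hypothesis and the
results 10.9(b), 11.4, 11.7 stated as hypotheses (`BG109bHyp`, `BG114Hyp`, `BG117Hyp`).
-/

set_option autoImplicit false

namespace Cfsg.Agent.Lib.helper3

open Cfsg Subgroup

variable {G : Type*} [Group G]

/-- `M` is an exceptional maximal subgroup for `(p, A, A₀)` (B-G §11): `M` maximal, `p ∉ σ(M)`,
`A ≤ M` elementary abelian of order `p ^ 2`, `A₀ ≤ A` of order `p` with `N_G(A₀) ≤ M`. -/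
def BGExc (p : ℕ) (M A A₀ : Subgroup G) : Prop :=
  IsCoatom M ∧ p ∉ sigma M ∧ A ≤ M ∧ IsElementaryAbelian p A ∧ Nat.card A = p ^ 2 ∧
    A₀ ≤ A ∧ Nat.card A₀ = p ∧ normalizer (A₀ : Set G) ≤ M

/-- B-G Corollary 11.4, as a hypothesis: for `M` exceptional for `(p, A, A₀)`, every other maximal
subgroup containing `A` meets `M_σ` trivially. -/
def BG114Hyp (G : Type*) [Group G] : Prop :=
  ∀ (p : ℕ) (M A A₀ : Subgroup G), p.Prime → BGExc p M A A₀ →
    ∀ H : Subgroup G, IsCoatom H → A ≤ H → H ≠ M → H ⊓ sigmaCore M = ⊥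

/-- B-G Theorem 11.7, as a hypothesis: for `M` exceptional for `(p, A, A₀)`, `M_σ A ⊴ M`. -/
def BG117Hyp (G : Type*) [Group G] : Prop :=
  ∀ (p : ℕ) (M A A₀ : Subgroup G), p.Prime → BGExc p M A A₀ →
    M ≤ normalizer ((sigmaCore M ⊔ A : Subgroup G) : Set G)

/-- B-G Lemma 10.9(b), as a hypothesis: `A` a maximal elementary abelian `p`-subgroup of order
`p ^ 2`, `Q ∈ И*(A; q)`, `q ∣ |C_G(A)|`: some Sylow `p`-subgroup `S ≥ A` of `G` lies in
`N_G(Q)'`. -/
def BG109bHyp (G : Type*) [Group G] : Prop :=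
  ∀ (p q : ℕ) (A Q : Subgroup G), p.Prime → q.Prime → p ≠ q → IsElementaryAbelian p A →
    Nat.card A = p ^ 2 → (∀ B : Subgroup G, IsElementaryAbelian p B → A ≤ B → B = A) →
    Q ∈ maxInvSubgroups ⊤ A {q} → q ∣ Nat.card (centralizer (A : Set G)) →
    ∃ S : Subgroup G, IsPGroup p S ∧ ¬ p ∣ S.index ∧ A ≤ S ∧
      S ≤ ⁅normalizer (Q : Set G), normalizer (Q : Set G)⁆

end Cfsg.Agent.Lib.helper3
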