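import Mathlib
import Cfsg.Prelude.Def_OddOrderLocal
import Cfsg.Agent.Lib.helper3.BG1390
import Cfsg.Agent.S1351
import Cfsg.Agent.S1364

/-!
# The Type I dictionary (unconditional)

For a maximal subgroup `M` of Type I of a minimal simple group of odd order:
`κ(M) = ∅`, every Hall `κ(M)`-subgroup is trivial, `M_σ = M_F` is nilpotent, `typeCore M = M_F`,
`A₁(M) = M_σ ∖ {1}`, `A(M) = {a ∈ M ∖ {1} | a centralizes some x ∈ M_σ ∖ {1}}`, `A₀(M) = A(M)`,
and every complement `U` of `M_F` in `M` gives a standard factorisation `(1, U)`.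
-/

set_option autoImplicit false

namespace Cfsg.Agent.Lib.helper3.BGTypeI

open Cfsg Subgroup

variable {G : Type*} [Group G]

/-- A Hall `κ(M)`-subgroup of a Type I maximal subgroup is trivial. -/
theorem hall_kappa_eq_bot [Finite G] (hG : IsMinSimpleOddOrder G) (M : Subgroup G) (hM : IsCoatom M)
    (hI : IsOfTypeI M) (K : Subgroup G) (hK : IsPiHallOf (kappa M) K M) : K = ⊥ := by
  have hKc := (Cfsg.Agent.S1351.result hG M hM).2 K hK
  obtain ⟨⟨Ud, hdec⟩, -⟩ := Cfsg.Agent.S1352.result hG M hM K hKc hK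
  obtain ⟨hsol, -, -, -, U', -, hcompl, -, ⟨U₀, hU₀le, hexp, hfpf⟩⟩ := id hI.1
  by_contra hne
  have h64 := Cfsg.Agent.S1364.result hG M hM K Ud hdec hne
  have hks1 := h64.2.1
  have hksF := h64.2.2.1
  obtain ⟨y, hy1⟩ := (Subgroup.ne_bot_iff_exists_ne_one).mp hks1
  have hKcard : Nat.card K ≠ 1 := fun h => hne (Subgroup.card_eq_one.mp h)
  obtain ⟨p, hp, hpK⟩ := Nat.exists_prime_and_dvd hKcard
  have hpκ := hK.2.1 p hp hpK
  have hpF : ¬ p ∣ Nat.card (fittingHall ↥M) := fun h =>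
    hpκ.2.2.1 (Cfsg.Agent.Lib.helper26.BG1375.mem_sigma_of_dvd_card_fittingHall hG hM hp h)
  have hpU' : p ∣ Nat.card U' := by
    have h1 := hcompl.card_mul_card
    have h2 : p ∣ Nat.card ↥M := hpκ.2.1
    rw [← h1] at h2
    exact (hp.dvd_mul.mp h2).resolve_left hpF
  obtain ⟨u, huU₀, huo⟩ := Cfsg.Agent.Lib.helper3.BG1390.exists_order_in_sub U' U₀ hexp hp hpU'
  have huo' : orderOf (u : G) = p := by rw [Subgroup.orderOf_coe]; exact huo
  obtain ⟨m, hm, hmK⟩ := Cfsg.Agent.Lib.helper3.BG1366.hallOf_conj_le hsol hK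
    (Y := zpowers (u : G)) ((zpowers_le).2 u.2) (fun q hq hd => by
      rw [Nat.card_zpowers, huo'] at hd
      exact ((Nat.prime_dvd_prime_iff_eq hq hp).mp hd) ▸ hpκ)
  have hk : m * (u : G) * m⁻¹ ∈ K := hmK _ (mem_zpowers _)
  have hyc : (m * (u : G) * m⁻¹) * (y : G) = (y : G) * (m * (u : G) * m⁻¹) :=
    (mem_centralizer_iff.mp y.2.2) _ hk
  have hyF : (y : G) ∈ fittingHallOf M := hksF y.2
  have hmn : m⁻¹ ∈ normalizer (fittingHallOf M : Set G) :=
    Cfsg.Agent.Lib.helper29.le_normalizer_fittingHallOf M (M.inv_mem hm)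
  have hy'F : m⁻¹ * (y : G) * m ∈ fittingHallOf M := by
    have h := (mem_normalizer_iff.mp hmn (y : G)).mp hyF
    rwa [inv_inv] at h
  obtain ⟨y', hy', hy'e⟩ := hy'F
  have hu1 : u ≠ 1 := by
    intro h
    rw [h, orderOf_one] at huo
    exact hp.one_lt.ne huo
  have hcomm : u * y' = y' * u := by
    apply Subtype.ext
    show (u : G) * (y' : G) = (y' : G) * (u : G)
    have e0 : (y' : G) = m⁻¹ * (y : G) * m := hy'e
    have e1 : (u : G) * (m⁻¹ * (y : G) * m) = m⁻¹ * (m * (u : G) * m⁻¹ * (y : G)) * m := by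
      group
    have e2 : m⁻¹ * (y : G) * m * (u : G) = m⁻¹ * ((y : G) * (m * (u : G) * m⁻¹)) * m := by
      group
    rw [e0, e1, e2, hyc]
  have h3 := hfpf u huU₀ hu1 y' hy' hcomm
  apply hy1
  have e0 : (y' : G) = m⁻¹ * (y : G) * m := hy'e
  rw [h3] at e0
  have e4 : (y : G) = m * (m⁻¹ * (y : G) * m) * m⁻¹ := by group
  rw [← e0] at e4
  apply Subtype.ext
  rw [e4]
  simp

/-- `κ(M) = ∅` for a maximal subgroup of Type I. -/
theorem kappa_eq_empty [Finite G] (hG : IsMinSimpleOddOrder G) (M : Subgroup G) (hM : IsCoatom M)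
    (hI : IsOfTypeI M) : kappa M = ∅ := by
  obtain ⟨K, hK⟩ := (Cfsg.Agent.S1351.result hG M hM).1
  have hK1 := hall_kappa_eq_bot hG M hM hI K hK
  subst hK1
  ext q
  simp only [Set.mem_empty_iff_false, iff_false]
  intro hq
  apply hK.2.2 q hq.1 hq
  rw [relIndex_bot_left]
  exact hq.2.1

/-- `M_σ = M_F` for a maximal subgroup of Type I. -/
theorem sigmaCore_eq_fittingHallOf [Finite G] (hG : IsMinSimpleOddOrder G) (M : Subgroup G)
    (hM : IsCoatom M) (hI : IsOfTypeI M) : sigmaCore M = fittingHallOf M := by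
  have hκ : ∀ q : ℕ, q ∉ kappa M := by
    intro q hq
    rw [kappa_eq_empty hG M hM hI] at hq
    exact hq
  have hHall := (Cfsg.Agent.S1350.result hG M hM).1
  have hσD := Cfsg.Agent.Lib.helper8.BG1355.sigmaCore_le_commutator hG M hM
  have hlt := Cfsg.Agent.Lib.helper8.BG1355.commutator_lt hG M hM
  have hrel : (sigmaCore M).relIndex M ≠ 1 := by
    intro h
    exact (lt_of_le_of_lt hσD hlt).not_ge (relIndex_eq_one.mp h)
  obtain ⟨q, hq, hqd⟩ := Nat.exists_prime_and_dvd hrel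
  have hqM : q ∣ Nat.card ↥M := hqd.trans (relIndex_dvd_card _ _)
  have hqσ : q ∉ sigma M := fun h => hHall.2.2 q hq h hqd
  haveI : Fact q.Prime := ⟨hq⟩
  obtain ⟨S⟩ : Nonempty (Sylow q ↥M) := inferInstance
  have hnil := (Cfsg.Agent.S1429.result hG M hM
    (fun h => hκ q (h q hq hqM hqσ)) q hqM
    (fun h => h.elim hqσ (hκ q)) S).2.2
  exact Cfsg.Agent.Lib.helper26.BG1375.sigmaCore_eq_fittingHallOf hG hM hnil

/-- A maximal subgroup of Type I is neither of Type III nor of Type IV (indeed it has no type-P data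
with `W₁` of prime order). -/
theorem not_typeIII_or_IV [Finite G] (M : Subgroup G) (hI : IsOfTypeI M) :
    ¬ (IsOfTypeIII M ∨ IsOfTypeIV M) := by
  rintro (⟨W₁, U₃, W₂, hP, -, hp, -⟩ | ⟨W₁, U₃, W₂, hP, -, hp, -⟩)
  · exact Cfsg.Agent.Lib.helper3.BG1390.typeF_typeP_false M W₁ U₃ W₂ hI.1 hP hp
  · exact Cfsg.Agent.Lib.helper3.BG1390.typeF_typeP_false M W₁ U₃ W₂ hI.1 hP hp

/-- `typeCore M = M_F` for a maximal subgroup of Type I. -/
theorem typeCore_eq [Finite G] (M : Subgroup G) (hI : IsOfTypeI M) :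
    typeCore M = fittingHallOf M := by
  unfold typeCore; rw [if_neg (not_typeIII_or_IV M hI)]

/-- `typeCore M = M_σ` for a maximal subgroup of Type I. -/
theorem typeCore_eq_sigmaCore [Finite G] (hG : IsMinSimpleOddOrder G) (M : Subgroup G)
    (hM : IsCoatom M) (hI : IsOfTypeI M) : typeCore M = sigmaCore M := by
  rw [typeCore_eq M hI, sigmaCore_eq_fittingHallOf hG M hM hI]

/-- `A₁(M) = M_σ ∖ {1}` for a maximal subgroup of Type I. -/
theorem typeA1_eq [Finite G] (hG : IsMinSimpleOddOrder G) (M : Subgroup G)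
    (hM : IsCoatom M) (hI : IsOfTypeI M) : typeA1 M = (sigmaCore M : Set G) \ {1} := by
  unfold typeA1; rw [typeCore_eq_sigmaCore hG M hM hI]

/-- `A(M)` for a maximal subgroup of Type I, in terms of `M_σ`. -/
theorem typeA_eq [Finite G] (hG : IsMinSimpleOddOrder G) (M : Subgroup G)
    (hM : IsCoatom M) (hI : IsOfTypeI M) :
    typeA M = {a | a ∈ M ∧ a ≠ 1 ∧ ∃ x ∈ sigmaCore M, x ≠ 1 ∧ a * x = x * a} := by
  unfold typeA; rw [if_pos hI, sigmaCore_eq_fittingHallOf hG M hM hI]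

/-- `A₀(M) = A(M)` for a maximal subgroup of Type I. -/
theorem typeA0_eq (M : Subgroup G) (hI : IsOfTypeI M) : typeA0 M = typeA M := by
  unfold typeA0
  ext v
  simp only [Set.mem_union, Set.mem_setOf_eq]
  constructor
  · rintro (h | ⟨h, -⟩)
    · exact h
    · exact absurd hI h
  · intro h; exact Or.inl h

/-- For a maximal subgroup of Type I, every complement `U` of `M_F` in `M` gives a standard
factorisation `(1, U)`. -/
theorem sigmaDecomp_bot [Finite G] (hG : IsMinSimpleOddOrder G) (M : Subgroup G) (hM : IsCoatom M)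
    (hI : IsOfTypeI M) (U : Subgroup G) (hU : IsComplIn (fittingHallOf M) U M) :
    IsSigmaDecomposition M ⊥ U := by
  obtain ⟨K, hK⟩ := (Cfsg.Agent.S1351.result hG M hM).1
  have hK1 := hall_kappa_eq_bot hG M hM hI K hK
  subst hK1
  have hσF := sigmaCore_eq_fittingHallOf hG M hM hI
  refine ⟨isCyclic_of_subsingleton, hK, ?_, bot_le⟩
  rw [bot_sup_eq, hσF]
  apply Cfsg.Agent.Lib.helper69.bgk_isComplIn_of_card hU.2.1 hU.1
  · rw [inf_comm]; exact hU.2.2.1
  · rw [mul_comm]; exact Cfsg.Agent.Lib.helper29.IsComplIn.card_mul hU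

/-- For a maximal subgroup of Type I there is a standard factorisation `(1, U)` with `U ≠ 1`. -/
theorem exists_sigmaDecomp_bot [Finite G] (hG : IsMinSimpleOddOrder G) (M : Subgroup G)
    (hM : IsCoatom M) (hI : IsOfTypeI M) :
    ∃ U : Subgroup G, IsSigmaDecomposition M ⊥ U ∧ U ≠ ⊥ := by
  obtain ⟨K, hK⟩ := (Cfsg.Agent.S1351.result hG M hM).1
  have hK1 := hall_kappa_eq_bot hG M hM hI K hK
  subst hK1
  have hKc := (Cfsg.Agent.S1351.result hG M hM).2 ⊥ hK
  obtain ⟨⟨Ud, hdec⟩, -⟩ := Cfsg.Agent.S1352.result hG M hM ⊥ hKc hK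
  refine ⟨Ud, hdec, ?_⟩
  rintro rfl
  -- `M = M_σ`, against `M_σ ≤ M' < M`
  have hσD := Cfsg.Agent.Lib.helper8.BG1355.sigmaCore_le_commutator hG M hM
  have hlt := Cfsg.Agent.Lib.helper8.BG1355.commutator_lt hG M hM
  have hle : M ≤ sigmaCore M := by
    intro x hx
    obtain ⟨a, ha, b, hb, rfl⟩ := hdec.compl.2.2.2 x hx
    rw [Subgroup.mem_bot] at ha
    rw [ha, one_mul]
    have : b ∈ (⊥ : Subgroup G) ⊔ sigmaCore M := hb
    rwa [bot_sup_eq] at this
  exact (lt_of_le_of_lt (hle.trans hσD) hlt).false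

end Cfsg.Agent.Lib.helper3.BGTypeI
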