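import Mathlib

set_option autoImplicit false

/-!
# S4501, piece AR1 (`ar_plus`), helper3's parallel copy (pure arithmetic)

`x`, `u = (x-1)/2`, `v = (x+1)/4` are pairwise coprime numbers `> 1` all of whose prime factors
lie in `{p, q}`: impossible.
-/

namespace Cfsg.Agent.Lib.helper3.BW

/-- A prime divisor of `4 * p^a * q^b` is `2`, `p` or `q`. -/
theorem h3_prime_dvd_four_pq (p q a b ℓ : ℕ) (hp : p.Prime) (hq : q.Prime) (hℓ : ℓ.Prime)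
    (h : ℓ ∣ 4 * p ^ a * q ^ b) : ℓ = 2 ∨ ℓ = p ∨ ℓ = q := by
  rcases (Nat.Prime.dvd_mul hℓ).1 h with h2 | h2
  · rcases (Nat.Prime.dvd_mul hℓ).1 h2 with h3 | h3
    · left
      have h4 : ℓ ∣ 2 ^ 2 := by norm_num; exact h3
      exact (Nat.prime_dvd_prime_iff_eq hℓ Nat.prime_two).1 (hℓ.dvd_of_dvd_pow h4)
    · right; left
      exact (Nat.prime_dvd_prime_iff_eq hℓ hp).1 (hℓ.dvd_of_dvd_pow h3)
  · right; right
    exact (Nat.prime_dvd_prime_iff_eq hℓ hq).1 (hℓ.dvd_of_dvd_pow h2)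

/-- AR1 (sign `+`): `x`, `(x-1)/2`, `(x+1)/4` are three pairwise coprime divisors `≥ 2` of
`p^a q^b`. -/
theorem ar_plus (p q a b x cJ cP m : ℕ) (hp : p.Prime) (hq : q.Prime) (hp2 : p ≠ 2) (hq2 : q ≠ 2)
    (hx5 : 5 ≤ x) (hx4 : x % 4 = 3) (hxd : x ∣ 4 * p ^ a * q ^ b)
    (hcJ : cJ ∣ 4 * p ^ a * q ^ b) (hcP : 4 ∣ cP)
    (h1 : 4 * cJ = m * cP * (x + 1))
    (h2 : 8 * (4 * p ^ a * q ^ b) = m ^ 3 * cP * (x ^ 3 - x)) : False := by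
  obtain ⟨v, hv⟩ : ∃ v, x + 1 = 4 * v := ⟨(x + 1) / 4, by omega⟩
  obtain ⟨u, hu⟩ : ∃ u, u + 1 = 2 * v := ⟨2 * v - 1, by omega⟩
  have hxu : x = 2 * u + 1 := by omega
  have hv2 : 2 ≤ v := by omega
  have hu3 : 3 ≤ u := by omega
  -- no common prime factors
  have nxu : ∀ ℓ : ℕ, ℓ.Prime → ℓ ∣ x → ℓ ∣ u → False := by
    intro ℓ hℓ h h'
    have h3 : ℓ ∣ 2 * u + 1 := hxu ▸ h
    have h4 : ℓ ∣ 1 := (Nat.dvd_add_right (Dvd.dvd.mul_left h' 2)).1 h3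
    exact hℓ.one_lt.ne' (Nat.dvd_one.1 h4)
  have nxv : ∀ ℓ : ℕ, ℓ.Prime → ℓ ∣ x → ℓ ∣ v → False := by
    intro ℓ hℓ h h'
    have h3 : ℓ ∣ x + 1 := hv ▸ Dvd.dvd.mul_left h' 4
    have h4 : ℓ ∣ 1 := (Nat.dvd_add_right h).1 h3
    exact hℓ.one_lt.ne' (Nat.dvd_one.1 h4)
  have nuv : ∀ ℓ : ℕ, ℓ.Prime → ℓ ∣ u → ℓ ∣ v → False := by
    intro ℓ hℓ h h'
    have h3 : ℓ ∣ u + 1 := hu ▸ Dvd.dvd.mul_left h' 2
    have h4 : ℓ ∣ 1 := (Nat.dvd_add_right h).1 h3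
    exact hℓ.one_lt.ne' (Nat.dvd_one.1 h4)
  -- prime factors
  obtain ⟨ℓx, hℓx, hℓxd⟩ := Nat.exists_prime_and_dvd (show x ≠ 1 by omega)
  obtain ⟨ℓu, hℓu, hℓud⟩ := Nat.exists_prime_and_dvd (show u ≠ 1 by omega)
  obtain ⟨ℓv, hℓv, hℓvd⟩ := Nat.exists_prime_and_dvd (show v ≠ 1 by omega)
  have hx' : ℓx = p ∨ ℓx = q := by
    rcases h3_prime_dvd_four_pq p q a b ℓx hp hq hℓx (hℓxd.trans hxd) with h | h | h
    · exfalso
      rw [h] at hℓxd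
      omega
    · exact Or.inl h
    · exact Or.inr h
  have hu' : ℓu = p ∨ ℓu = q := by
    have e : x ^ 3 - x = u * (4 * (u + 1) * (2 * u + 1)) := by
      rw [hxu]
      apply Nat.sub_eq_of_eq_add
      ring
    have h3 : ℓu ∣ 8 * (4 * p ^ a * q ^ b) := by
      rw [h2, e]
      exact Dvd.dvd.mul_left (Dvd.dvd.mul_right hℓud _) _
    rcases (Nat.Prime.dvd_mul hℓu).1 h3 with h4 | h4
    · exfalso
      have h5 : ℓu ∣ 2 ^ 3 := by norm_num; exact h4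
      have h6 : ℓu = 2 := (Nat.prime_dvd_prime_iff_eq hℓu Nat.prime_two).1 (hℓu.dvd_of_dvd_pow h5)
      rw [h6] at hℓud
      omega
    · rcases h3_prime_dvd_four_pq p q a b ℓu hp hq hℓu h4 with h | h | h
      · exfalso
        rw [h] at hℓud
        omega
      · exact Or.inl h
      · exact Or.inr h
  have hv' : ℓv = p ∨ ℓv = q := by
    obtain ⟨c, hc⟩ := hcP
    have e1 : cJ = 4 * (m * c * v) := by
      have : 4 * cJ = 4 * (4 * (m * c * v)) := by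
        rw [h1, hv, hc]; ring
      omega
    have h3 : 4 * (m * c * v) ∣ 4 * (p ^ a * q ^ b) := by
      rw [← e1, ← mul_assoc]; exact hcJ
    have h4 : m * c * v ∣ p ^ a * q ^ b := Nat.dvd_of_mul_dvd_mul_left (by norm_num) h3
    have h5 : ℓv ∣ p ^ a * q ^ b := (hℓvd.trans (Dvd.intro_left _ rfl)).trans h4
    rcases (Nat.Prime.dvd_mul hℓv).1 h5 with h6 | h6
    · exact Or.inl ((Nat.prime_dvd_prime_iff_eq hℓv hp).1 (hℓv.dvd_of_dvd_pow h6))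
    · exact Or.inr ((Nat.prime_dvd_prime_iff_eq hℓv hq).1 (hℓv.dvd_of_dvd_pow h6))
  rcases hx' with rfl | rfl <;> rcases hu' with rfl | rfl <;> rcases hv' with rfl | rfl
  · exact nxu _ hℓx hℓxd hℓud
  · exact nxu _ hℓx hℓxd hℓud
  · exact nxv _ hℓx hℓxd hℓvd
  · exact nuv _ hℓu hℓud hℓvd
  · exact nuv _ hℓu hℓud hℓvd
  · exact nxv _ hℓx hℓxd hℓvd
  · exact nxu _ hℓx hℓxd hℓud
  · exact nxu _ hℓx hℓxd hℓud

end Cfsg.Agent.Lib.helper3.BW
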