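import Mathlib
import Cfsg.Agent.Lib.helper51.QdCoord
import Cfsg.Agent.Lib.helper11.QuadSection

/-!
# Recognising `Qd(p)` as a section

If a `p`-subgroup `U` (`p` odd) is normalized by a subgroup `K`, `U` maps onto the plane `𝔽_p²` and
`K` maps onto `SL₂(p)` compatibly with the natural action, then `Qd(p)` is involved in the group.
The extension is split off with a Frattini argument on a Sylow `2`-subgroup of the preimage of
`⟨-1⟩`.
-/

set_option autoImplicit false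

namespace Cfsg.Agent.Lib.helper3

open Cfsg Cfsg.Agent.Lib.helper51
open scoped Pointwise

/-- An element of a finite group mapping onto an involution-like element `s` (`s * s = 1`) can be
replaced by a `2`-element. -/
theorem exists_two_elt_map {K S : Type*} [Group K] [Finite K] [Group S] (φ : K →* S) (s : S)
    (hs : s * s = 1) (z₀ : K) (hz₀ : φ z₀ = s) :
    ∃ (z : K) (k : ℕ), φ z = s ∧ z ^ 2 ^ k = 1 := by
  have hpos : orderOf z₀ ≠ 0 := (orderOf_pos z₀).ne'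
  obtain ⟨k, m, hm, hkm⟩ := Nat.exists_eq_two_pow_mul_odd hpos
  refine ⟨z₀ ^ m, k, ?_, ?_⟩
  · obtain ⟨j, rfl⟩ := hm
    rw [map_pow, hz₀, pow_succ, pow_mul, sq, hs, one_pow, one_mul]
  · rw [← pow_mul, mul_comm, ← hkm, pow_orderOf_eq_one]

/-- Frattini supplement: for a normal subgroup `Y` and a `2`-element `z ∈ Y` there is a supplement
`N₁` of `Y` containing `z` such that all commutators `[v, z]`, `v ∈ N₁`, are `2`-elements. -/
theorem exists_frattini_supplement {K : Type*} [Group K] [Finite K] (Y : Subgroup K) [Y.Normal]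
    (z : K) (hzY : z ∈ Y) (k : ℕ) (hz : z ^ 2 ^ k = 1) :
    ∃ N₁ : Subgroup K, N₁ ⊔ Y = ⊤ ∧ z ∈ N₁ ∧
      ∀ v ∈ N₁, ∃ j : ℕ, (v * z * v⁻¹ * z⁻¹) ^ 2 ^ j = 1 := by
  have : Fact (Nat.Prime 2) := ⟨Nat.prime_two⟩
  have hzp : IsPGroup 2 (Subgroup.zpowers (⟨z, hzY⟩ : ↥Y)) := by
    rintro ⟨g, hg⟩
    obtain ⟨i, rfl⟩ := Subgroup.mem_zpowers_iff.mp hg
    refine ⟨k, ?_⟩
    apply Subtype.ext
    apply Subtype.ext
    simp only [Subgroup.coe_pow, Subgroup.coe_zpow, Subgroup.coe_one]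
    rw [← zpow_natCast, ← zpow_mul, mul_comm, zpow_mul, zpow_natCast, hz, one_zpow]
  obtain ⟨Q, hQ⟩ := hzp.exists_le_sylow
  have hzQ : z ∈ (Q : Subgroup ↥Y).map Y.subtype :=
    ⟨⟨z, hzY⟩, hQ (Subgroup.mem_zpowers _), rfl⟩
  refine ⟨Subgroup.normalizer (((Q : Subgroup ↥Y).map Y.subtype : Subgroup K) : Set K),
    Sylow.normalizer_sup_eq_top Q, Subgroup.le_normalizer hzQ, ?_⟩
  intro v hv
  have h1 : v * z * v⁻¹ ∈ (Q : Subgroup ↥Y).map Y.subtype :=
    (Subgroup.mem_normalizer_iff.mp hv z).mp hzQ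
  have h2 : v * z * v⁻¹ * z⁻¹ ∈ (Q : Subgroup ↥Y).map Y.subtype :=
    mul_mem h1 (inv_mem hzQ)
  have hQ2 : IsPGroup 2 ((Q : Subgroup ↥Y).map Y.subtype) := Q.2.map Y.subtype
  obtain ⟨j, hj⟩ := hQ2 ⟨_, h2⟩
  exact ⟨j, by simpa using congrArg Subtype.val hj⟩

/-- An element of a `p`-group (`p` odd) that is also a `2`-element is trivial. -/
theorem eq_one_of_mem_pgroup_of_two_pow {G : Type*} [Group G] {p : ℕ} [Fact p.Prime] (hp : p ≠ 2)
    (U : Subgroup G) (hU : IsPGroup p U) {w : G} (hw : w ∈ U) {j : ℕ} (hj : w ^ 2 ^ j = 1) :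
    w = 1 := by
  obtain ⟨i, hi⟩ := hU ⟨w, hw⟩
  have hi' : w ^ p ^ i = 1 := by simpa using congrArg Subtype.val hi
  have hcop : Nat.Coprime (p ^ i) (2 ^ j) :=
    Nat.Coprime.pow _ _ ((Nat.coprime_primes Fact.out Nat.prime_two).mpr hp)
  have := pow_gcd_eq_one.mpr ⟨hi', hj⟩
  rw [hcop, pow_one] at this
  exact this

section AffOf

variable {R : Type*} [CommRing R]

/-- The affine map `w ↦ g w + v`, as an element of the affine subgroup of `SL₃`. -/
noncomputable def affOf (g : Matrix.SpecialLinearGroup (Fin 2) R) (v : Fin 2 → R) :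
    ↥(affSubgroup R) :=
  mkAff (g.1 0 0) (g.1 0 1) (g.1 1 0) (g.1 1 1) (v 0) (v 1) (by
    have h := g.2
    rw [Matrix.det_fin_two] at h
    exact h)

theorem affOf_mul (g g' : Matrix.SpecialLinearGroup (Fin 2) R) (v v' : Fin 2 → R) :
    affOf g v * affOf g' v' = affOf (g * g') (v + Matrix.mulVec g.1 v') := by
  apply aff_ext
  · rw [affA_mul]
    simp [affOf, affA_mkAff, affB_mkAff, affC_mkAff, Matrix.mul_apply, Fin.sum_univ_two]
  · rw [affB_mul]
    simp [affOf, affA_mkAff, affB_mkAff, affD_mkAff, Matrix.mul_apply, Fin.sum_univ_two]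
  · rw [affX_mul]
    simp [affOf, affA_mkAff, affB_mkAff, affX_mkAff, affY_mkAff, Matrix.mulVec, dotProduct,
      Fin.sum_univ_two]
    ring
  · rw [affC_mul]
    simp [affOf, affA_mkAff, affC_mkAff, affD_mkAff, Matrix.mul_apply, Fin.sum_univ_two]
  · rw [affD_mul]
    simp [affOf, affB_mkAff, affC_mkAff, affD_mkAff, Matrix.mul_apply, Fin.sum_univ_two]
  · rw [affY_mul]
    simp [affOf, affC_mkAff, affD_mkAff, affX_mkAff, affY_mkAff, Matrix.mulVec, dotProduct,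
      Fin.sum_univ_two]
    ring

theorem exists_eq_affOf (a : ↥(affSubgroup R)) :
    ∃ (g : Matrix.SpecialLinearGroup (Fin 2) R) (v : Fin 2 → R), a = affOf g v := by
  refine ⟨⟨!![affA a, affB a; affC a, affD a], ?_⟩, ![affX a, affY a], ?_⟩
  · rw [Matrix.det_fin_two]
    simpa using aff_det a
  · apply aff_ext <;> simp [affOf, affA_mkAff, affB_mkAff, affC_mkAff, affD_mkAff, affX_mkAff,
      affY_mkAff]

end AffOf

section NegOne

variable (R : Type*) [CommRing R]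

/-- The negative identity of `SL₂`. -/
noncomputable def negOneSL2 : Matrix.SpecialLinearGroup (Fin 2) R :=
  ⟨!![-1, 0; 0, -1], by simp [Matrix.det_fin_two]⟩

theorem negOneSL2_mul_self : negOneSL2 R * negOneSL2 R = 1 := by
  apply Subtype.ext
  show (negOneSL2 R).1 * (negOneSL2 R).1 = 1
  ext i j
  fin_cases i <;> fin_cases j <;>
    simp [negOneSL2, Matrix.mul_apply, Fin.sum_univ_two]

theorem negOneSL2_comm (g : Matrix.SpecialLinearGroup (Fin 2) R) :
    g * negOneSL2 R = negOneSL2 R * g := by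
  apply Subtype.ext
  show g.1 * (negOneSL2 R).1 = (negOneSL2 R).1 * g.1
  ext i j
  fin_cases i <;> fin_cases j <;>
    simp [negOneSL2, Matrix.mul_apply, Fin.sum_univ_two]

theorem negOneSL2_mulVec (w : Fin 2 → R) : Matrix.mulVec (negOneSL2 R).1 w = -w := by
  funext i
  fin_cases i <;> simp [negOneSL2, Matrix.mulVec, dotProduct, Fin.sum_univ_two]

end NegOne

/-- **Recognition of `Qd(p)` as a section.**  Let `p` be odd, `U` a `p`-subgroup normalized by `K`,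
`c` a homomorphism of `U` onto the plane `𝔽_p²` and `φ` a homomorphism of `K` onto `SL₂(p)` such
that conjugation by `k ∈ K` on `U` corresponds under `c` to the matrix `φ k`.  Then `Qd(p)` is
involved in `G`. -/
theorem involves_qd_of_natural_data {G : Type*} [Group G] [Finite G] {p : ℕ} [Fact p.Prime]
    (hp : p ≠ 2) (U K : Subgroup G) (hU : IsPGroup p U)
    (hKU : K ≤ Subgroup.normalizer (U : Set G))
    (c : ↥U →* Multiplicative (Fin 2 → ZMod p)) (hc : Function.Surjective c)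
    (φ : ↥K →* Matrix.SpecialLinearGroup (Fin 2) (ZMod p)) (hφ : Function.Surjective φ)
    (heq : ∀ (k : ↥K) (u : ↥U) (h : (k : G) * u * (k : G)⁻¹ ∈ U),
      Multiplicative.toAdd (c ⟨(k : G) * u * (k : G)⁻¹, h⟩) =
        Matrix.mulVec (φ k).1 (Multiplicative.toAdd (c u))) :
    Cfsg.Involves ↥(Cfsg.qd p) G := by
  classical
  set ε := negOneSL2 (ZMod p) with hε
  have hεε : ε * ε = 1 := negOneSL2_mul_self (ZMod p)
  obtain ⟨z₀, hz₀⟩ := hφ ε
  obtain ⟨z, k, hzε, hzk⟩ := exists_two_elt_map φ ε hεε z₀ hz₀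
  let Y : Subgroup ↥K :=
    { carrier := {x | φ x = 1 ∨ φ x = ε}
      one_mem' := Or.inl (map_one φ)
      mul_mem' := by
        rintro a b (ha | ha) (hb | hb)
        · left; show φ (a * b) = 1; rw [map_mul, ha, hb, one_mul]
        · right; show φ (a * b) = ε; rw [map_mul, ha, hb, one_mul]
        · right; show φ (a * b) = ε; rw [map_mul, ha, hb, mul_one]
        · left; show φ (a * b) = 1; rw [map_mul, ha, hb, hεε]
      inv_mem' := by
        rintro a (ha | ha)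
        · left; show φ a⁻¹ = 1; rw [map_inv, ha, inv_one]
        · right; show φ a⁻¹ = ε; rw [map_inv, ha]; exact inv_eq_of_mul_eq_one_right hεε }
  have hYn : Y.Normal := by
    constructor
    rintro n (hn | hn) g
    · left
      show φ (g * n * g⁻¹) = 1
      rw [map_mul, map_mul, hn, mul_one, map_inv, mul_inv_cancel]
    · right
      show φ (g * n * g⁻¹) = ε
      rw [map_mul, map_mul, hn, hε, negOneSL2_comm, mul_assoc, map_inv, mul_inv_cancel, mul_one]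
  have hzY : z ∈ Y := Or.inr hzε
  obtain ⟨N₁, hsup, hzN, hcomm⟩ := exists_frattini_supplement Y z hzY k hzk
  have hφN : ∀ g : Matrix.SpecialLinearGroup (Fin 2) (ZMod p), ∃ n ∈ N₁, φ n = g := by
    intro g
    obtain ⟨x, rfl⟩ := hφ g
    have hx : x ∈ N₁ ⊔ Y := by rw [hsup]; trivial
    have hx' : x ∈ ((N₁ : Set ↥K) * (Y : Set ↥K)) := by
      rw [← Subgroup.mul_normal]; exact hx
    obtain ⟨n, hn, y, hy, rfl⟩ := Set.mem_mul.mp hx'
    rcases hy with hy | hy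
    · exact ⟨n, hn, by rw [map_mul, hy, mul_one]⟩
    · exact ⟨n * z, mul_mem hn hzN, by rw [map_mul, map_mul, hy, hzε]⟩
  have hUK : ∀ (x : ↥K) (u : G), u ∈ U → (x : G) * u * (x : G)⁻¹ ∈ U := fun x u hu =>
    (Subgroup.mem_normalizer_iff.mp (hKU x.2) u).mp hu
  have hkey : ∀ (n : ↥K) (hn : n ∈ N₁) (hnU : (n : G) ∈ U), c ⟨n, hnU⟩ = 1 ∧ φ n = 1 := by
    intro n hn hnU
    obtain ⟨j, hj⟩ := hcomm n hn
    have hwU : ((n * z * n⁻¹ * z⁻¹ : ↥K) : G) ∈ U := by
      have : ((n * z * n⁻¹ * z⁻¹ : ↥K) : G) = (n : G) * ((z : G) * (n : G)⁻¹ * (z : G)⁻¹) := by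
        simp [mul_assoc]
      rw [this]
      exact mul_mem hnU (hUK z _ (inv_mem hnU))
    have hw1 : ((n * z * n⁻¹ * z⁻¹ : ↥K) : G) = 1 :=
      eq_one_of_mem_pgroup_of_two_pow hp U hU hwU (by simpa using congrArg Subtype.val hj)
    have hzn : (z : G) * n * (z : G)⁻¹ = n := by
      have h1 : (n : G) * z * (n : G)⁻¹ * (z : G)⁻¹ = 1 := by simpa using hw1
      have h2 : (n : G) * z = z * n := by
        rw [mul_inv_eq_one, mul_inv_eq_iff_eq_mul] at h1
        exact h1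
      rw [← h2, mul_inv_cancel_right]
    have hc1 : c ⟨n, hnU⟩ = 1 := by
      have h1 := heq z ⟨n, hnU⟩ (by rw [hzn]; exact hnU)
      have h2 : (⟨(z : G) * n * (z : G)⁻¹, by rw [hzn]; exact hnU⟩ : ↥U) = ⟨n, hnU⟩ :=
        Subtype.ext hzn
      rw [h2, hzε, hε, negOneSL2_mulVec] at h1
      have h3 : Multiplicative.toAdd (c ⟨n, hnU⟩) = 0 := by
        funext i
        have h4 : Multiplicative.toAdd (c ⟨n, hnU⟩) i = -Multiplicative.toAdd (c ⟨n, hnU⟩) i :=
          congrFun h1 i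
        have h5 : (2 : ZMod p) * Multiplicative.toAdd (c ⟨n, hnU⟩) i = 0 := by
          linear_combination h4
        have h6 : (2 : ZMod p) ≠ 0 := by
          intro h
          have h7 : ((2 : ℕ) : ZMod p) = 0 := by exact_mod_cast h
          rw [ZMod.natCast_eq_zero_iff] at h7
          exact hp ((Nat.prime_dvd_prime_iff_eq Fact.out Nat.prime_two).mp h7)
        exact (mul_eq_zero.mp h5).resolve_left h6
      exact Multiplicative.toAdd.injective h3
    refine ⟨hc1, ?_⟩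
    have hfix : ∀ w : Fin 2 → ZMod p, Matrix.mulVec (φ n).1 w = w := by
      intro w
      obtain ⟨u, hu⟩ := hc (Multiplicative.ofAdd w)
      have h1 := heq n u (hUK n _ u.2)
      have h2 : (⟨(n : G) * u * (n : G)⁻¹, hUK n _ u.2⟩ : ↥U) = ⟨n, hnU⟩ * u * ⟨n, hnU⟩⁻¹ :=
        Subtype.ext (by simp)
      have h3 : c (⟨n, hnU⟩ * u * ⟨n, hnU⟩⁻¹) = c u := by
        rw [map_mul, map_mul, map_inv, hc1, inv_one, mul_one, one_mul]
      rw [h2, h3, hu] at h1
      exact h1.symm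
    ext i j
    have h1 := congrFun (hfix (Pi.single j 1)) i
    rw [Matrix.mulVec_single_one] at h1
    simpa [Matrix.one_apply, Pi.single_apply] using h1
  let M : Subgroup G :=
    { carrier := {m | ∃ u ∈ U, ∃ n : ↥K, n ∈ N₁ ∧ m = u * n}
      one_mem' := ⟨1, one_mem U, 1, one_mem N₁, by simp⟩
      mul_mem' := by
        rintro _ _ ⟨u, hu, n, hn, rfl⟩ ⟨u', hu', n', hn', rfl⟩
        refine ⟨u * ((n : G) * u' * (n : G)⁻¹), mul_mem hu (hUK n u' hu'), n * n',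
          mul_mem hn hn', ?_⟩
        simp [mul_assoc]
      inv_mem' := by
        rintro _ ⟨u, hu, n, hn, rfl⟩
        refine ⟨((n⁻¹ : ↥K) : G) * u⁻¹ * ((n⁻¹ : ↥K) : G)⁻¹, hUK n⁻¹ u⁻¹ (inv_mem hu), n⁻¹,
          inv_mem hn, ?_⟩
        simp [mul_assoc] }
  have hwd : ∀ (u u' : ↥U) (n n' : ↥K), n ∈ N₁ → n' ∈ N₁ → (u : G) * n = u' * n' →
      c u = c u' ∧ φ n = φ n' := by
    intro u u' n n' hn hn' h
    have hx : ((n' * n⁻¹ : ↥K) : G) = ((u'⁻¹ * u : ↥U) : G) := by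
      simp only [Subgroup.coe_mul, Subgroup.coe_inv]
      rw [eq_inv_mul_iff_mul_eq, ← mul_assoc, ← h, mul_assoc, mul_inv_cancel, mul_one]
    obtain ⟨h1, h2⟩ := hkey (n' * n⁻¹) (mul_mem hn' (inv_mem hn))
      (by rw [hx]; exact (u'⁻¹ * u).2)
    constructor
    · have h3 : (⟨((n' * n⁻¹ : ↥K) : G), by rw [hx]; exact (u'⁻¹ * u).2⟩ : ↥U) = u'⁻¹ * u :=
        Subtype.ext hx
      rw [h3, map_mul, map_inv, inv_mul_eq_one] at h1
      exact h1.symm
    · rw [map_mul, map_inv, mul_inv_eq_one] at h2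
      exact h2.symm
  have hdec : ∀ m : ↥M, ∃ (u : ↥U) (n : ↥K), n ∈ N₁ ∧ (m : G) = u * n := by
    rintro ⟨m, u, hu, n, hn, rfl⟩
    exact ⟨⟨u, hu⟩, n, hn, rfl⟩
  choose fu fn hfn hfm using hdec
  let ψ₀ : ↥M → ↥(affSubgroup (ZMod p)) := fun m =>
    affOf (φ (fn m)) (Multiplicative.toAdd (c (fu m)))
  have hψ₀ : ∀ (m : ↥M) (u : ↥U) (n : ↥K), n ∈ N₁ → (m : G) = u * n →
      ψ₀ m = affOf (φ n) (Multiplicative.toAdd (c u)) := by
    intro m u n hn hm
    obtain ⟨h1, h2⟩ := hwd (fu m) u (fn m) n (hfn m) hn ((hfm m).symm.trans hm)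
    show affOf (φ (fn m)) (Multiplicative.toAdd (c (fu m))) = _
    rw [h1, h2]
  have hmul : ∀ a b : ↥M, ψ₀ (a * b) = ψ₀ a * ψ₀ b := by
    intro a b
    have hnu : (fn a : G) * (fu b : G) * (fn a : G)⁻¹ ∈ U := hUK (fn a) _ (fu b).2
    have hab : ((a * b : ↥M) : G) = ((fu a * ⟨_, hnu⟩ : ↥U) : G) * ((fn a * fn b : ↥K) : G) := by
      simp only [Subgroup.coe_mul]
      rw [hfm a, hfm b]
      simp [mul_assoc]
    rw [hψ₀ a _ _ (hfn a) (hfm a), hψ₀ b _ _ (hfn b) (hfm b),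
      hψ₀ (a * b) (fu a * ⟨_, hnu⟩) (fn a * fn b) (mul_mem (hfn a) (hfn b)) hab, affOf_mul,
      map_mul φ, map_mul c, toAdd_mul, heq]
  let ψ : ↥M →* ↥(affSubgroup (ZMod p)) := MonoidHom.mk' ψ₀ hmul
  have hψs : Function.Surjective ψ := by
    intro a
    obtain ⟨g, v, rfl⟩ := exists_eq_affOf a
    obtain ⟨n, hn, rfl⟩ := hφN g
    obtain ⟨u, hu⟩ := hc (Multiplicative.ofAdd v)
    have hm : (u : G) * n ∈ M := ⟨u, u.2, n, hn, rfl⟩
    refine ⟨⟨_, hm⟩, ?_⟩
    show ψ₀ _ = _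
    rw [hψ₀ ⟨_, hm⟩ u n hn rfl, hu]
    rfl
  let e : ↥(affSubgroup (ZMod p)) ≃* ↥(qd p) := MulEquiv.subgroupCongr (qd_eq p).symm
  obtain ⟨L, hL, ⟨iso⟩⟩ := Cfsg.Agent.Lib.helper11.QuadPair.exists_section_of_surjective M
    (e.toMonoidHom.comp ψ) (e.surjective.comp hψs)
  exact ⟨M, L, hL, ⟨iso⟩⟩

end Cfsg.Agent.Lib.helper3
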