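import Mathlib
import Cfsg.Agent.Lib.helper3.QdRecog
import Cfsg.Agent.Lib.helper51.QdStruct
import Cfsg.Agent.Lib.helper87.SylowIn2

/-!
# `Qd(p)`-data: a fusion-theoretic criterion for involving `Qd(p)`

`QdDataAt p U N` says: the subgroup `U` has a homomorphism `c` onto the plane `𝔽_p²` such that every
matrix of `SL₂(p)` is induced (through `c`) by conjugation with some element of the set `N` which
maps `U` into itself.  For `p` odd and `U` a `p`-group this forces `Qd(p)` to be involved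
(`involves_qd_of_qdData`), and conversely (`exists_qdData_of_involves`).  The data can be moved
along injective homomorphisms (`QdDataAt.map`), along isomorphisms of `U` compatible with the
relevant conjugations (`QdDataAt.transfer`), and a `p`-centric frame `Q ≥ U` normalized by the
inducing elements can be found (`QdDataAt.exists_frame`).
-/

set_option autoImplicit false

namespace Cfsg.Agent.Lib.helper3

open Cfsg Cfsg.Agent.Lib.helper51 Cfsg.Agent.Lib.helper87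

/-- `U` carries `Qd(p)`-data with inducing elements taken from `N`. -/
def QdDataAt (p : ℕ) {X : Type*} [Group X] (U : Subgroup X) (N : Set X) : Prop :=
  ∃ c : ↥U →* Multiplicative (Fin 2 → ZMod p), Function.Surjective c ∧
    ∀ A : Matrix.SpecialLinearGroup (Fin 2) (ZMod p), ∃ n ∈ N,
      ∀ u : ↥U, ∃ h : n * (u : X) * n⁻¹ ∈ U,
        Multiplicative.toAdd (c ⟨n * u * n⁻¹, h⟩) =
          Matrix.mulVec A.1 (Multiplicative.toAdd (c u))

section Basic

variable {p : ℕ} {X : Type*} [Group X]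

theorem QdDataAt.mono {U : Subgroup X} {N N' : Set X} (h : QdDataAt p U N) (hN : N ⊆ N') :
    QdDataAt p U N' := by
  obtain ⟨c, hc, hA⟩ := h
  refine ⟨c, hc, fun A => ?_⟩
  obtain ⟨n, hn, h⟩ := hA A
  exact ⟨n, hN hn, h⟩

/-- Transfer of data along an isomorphism `e : U ≃* W` which intertwines the inducing conjugations
with conjugations of the target group. -/
theorem QdDataAt.transfer {Y : Type*} [Group Y] {U : Subgroup X} {N : Set X} {W : Subgroup Y}
    (h : QdDataAt p U N) (e : ↥U ≃* ↥W)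
    (hl : ∀ n ∈ N, (∀ u : ↥U, n * (u : X) * n⁻¹ ∈ U) → ∃ l : Y, ∀ (u : ↥U) (hu : n * (u : X) * n⁻¹ ∈ U),
      ∃ h' : l * (e u : Y) * l⁻¹ ∈ W, e ⟨n * u * n⁻¹, hu⟩ = ⟨l * (e u : Y) * l⁻¹, h'⟩) :
    QdDataAt p W Set.univ := by
  obtain ⟨c, hc, hA⟩ := h
  refine ⟨c.comp e.symm.toMonoidHom, hc.comp e.symm.surjective, fun A => ?_⟩
  obtain ⟨n, hn, hnA⟩ := hA A
  obtain ⟨l, hl'⟩ := hl n hn (fun u => (hnA u).1)
  refine ⟨l, Set.mem_univ _, fun w => ?_⟩
  obtain ⟨u, rfl⟩ := e.surjective w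
  obtain ⟨hu, hcu⟩ := hnA u
  obtain ⟨h', he⟩ := hl' u hu
  refine ⟨h', ?_⟩
  show Multiplicative.toAdd (c (e.symm ⟨l * (e u : Y) * l⁻¹, h'⟩)) =
    Matrix.mulVec A.1 (Multiplicative.toAdd (c (e.symm (e u))))
  rw [← he, e.symm_apply_apply, e.symm_apply_apply]
  exact hcu

/-- Data is carried along injective homomorphisms. -/
theorem QdDataAt.map {Y : Type*} [Group Y] {U : Subgroup X} {N : Set X} (h : QdDataAt p U N)
    (f : X →* Y) (hf : Function.Injective f) : QdDataAt p (U.map f) (f '' N) := by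
  obtain ⟨c, hc, hA⟩ := h
  set e := U.equivMapOfInjective f hf with he
  refine ⟨c.comp e.symm.toMonoidHom, hc.comp e.symm.surjective, fun A => ?_⟩
  obtain ⟨n, hn, hnA⟩ := hA A
  refine ⟨f n, Set.mem_image_of_mem f hn, fun w => ?_⟩
  obtain ⟨u, rfl⟩ := e.surjective w
  obtain ⟨hu, hcu⟩ := hnA u
  have hval : (e u : Y) = f u := Subgroup.coe_equivMapOfInjective_apply U f hf u
  have h1 : f n * (e u : Y) * (f n)⁻¹ = f (n * u * n⁻¹) := by
    rw [hval, map_mul, map_mul, map_inv]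
  have h' : f n * (e u : Y) * (f n)⁻¹ ∈ U.map f := by
    rw [h1]; exact Subgroup.mem_map_of_mem f hu
  refine ⟨h', ?_⟩
  have h2 : (⟨f n * (e u : Y) * (f n)⁻¹, h'⟩ : ↥(U.map f)) = e ⟨n * u * n⁻¹, hu⟩ := by
    apply Subtype.ext
    show f n * (e u : Y) * (f n)⁻¹ = (e ⟨n * u * n⁻¹, hu⟩ : Y)
    rw [h1]
    exact (Subgroup.coe_equivMapOfInjective_apply U f hf ⟨n * u * n⁻¹, hu⟩).symm
  show Multiplicative.toAdd (c (e.symm ⟨f n * (e u : Y) * (f n)⁻¹, h'⟩)) =
    Matrix.mulVec A.1 (Multiplicative.toAdd (c (e.symm (e u))))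
  rw [h2, e.symm_apply_apply, e.symm_apply_apply]
  exact hcu

/-- In a finite setting, an element conjugating a subgroup into itself normalizes it. -/
theorem mem_normalizer_of_conj_mem_of_finite {U : Subgroup X} [Finite U] {n : X}
    (h : ∀ u ∈ U, n * u * n⁻¹ ∈ U) : n ∈ Subgroup.normalizer (U : Set X) := by
  let f : ↥U → ↥U := fun u => ⟨n * u * n⁻¹, h u u.2⟩
  have hinj : Function.Injective f := by
    intro a b hab
    have := congrArg Subtype.val hab
    exact Subtype.ext (mul_left_cancel (mul_right_cancel this))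
  have hsurj : Function.Surjective f := Finite.injective_iff_surjective.mp hinj
  rw [Subgroup.mem_normalizer_iff]
  intro x
  refine ⟨h x, fun hx => ?_⟩
  obtain ⟨u, hu⟩ := hsurj ⟨n * x * n⁻¹, hx⟩
  have := congrArg Subtype.val hu
  have hux : (u : X) = x := mul_left_cancel (mul_right_cancel this)
  rw [← hux]; exact u.2

end Basic

section Recog

variable {p : ℕ} [Fact p.Prime] {X : Type*} [Group X] [Finite X]

theorem sl2_eq_of_mulVec_eq {A B : Matrix.SpecialLinearGroup (Fin 2) (ZMod p)}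
    (h : ∀ w : Fin 2 → ZMod p, Matrix.mulVec A.1 w = Matrix.mulVec B.1 w) : A = B := by
  apply Subtype.ext
  ext i j
  have := congrFun (h (Pi.single j 1)) i
  simpa [Matrix.mulVec_single] using this

/-- **`Qd(p)`-data forces `Qd(p)` to be involved** (`p` odd, `U` a `p`-group). -/
theorem involves_qd_of_qdData (hp : p ≠ 2) {U : Subgroup X} (hU : IsPGroup p U) {N : Set X}
    (h : QdDataAt p U N) : Cfsg.Involves ↥(Cfsg.qd p) X := by
  classical
  obtain ⟨c, hc, hA⟩ := h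
  let Pr : X → Matrix.SpecialLinearGroup (Fin 2) (ZMod p) → Prop := fun n A =>
    ∀ (u : ↥U) (h : n * (u : X) * n⁻¹ ∈ U), Multiplicative.toAdd (c ⟨n * u * n⁻¹, h⟩) =
      Matrix.mulVec A.1 (Multiplicative.toAdd (c u))
  have hnorm : ∀ {n : X}, n ∈ Subgroup.normalizer (U : Set X) → ∀ u : ↥U, n * (u : X) * n⁻¹ ∈ U :=
    fun hn u => (Subgroup.mem_normalizer_iff.mp hn _).mp u.2
  have hPr_one : Pr 1 1 := by
    intro u h
    have h1 : (⟨1 * (u : X) * 1⁻¹, h⟩ : ↥U) = u := Subtype.ext (by simp)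
    rw [h1]
    simp
  have hPr_mul : ∀ (n₁ n₂ : X) (A₁ A₂ : Matrix.SpecialLinearGroup (Fin 2) (ZMod p)),
      n₂ ∈ Subgroup.normalizer (U : Set X) → Pr n₁ A₁ → Pr n₂ A₂ → Pr (n₁ * n₂) (A₁ * A₂) := by
    intro n₁ n₂ A₁ A₂ hn₂ h₁ h₂ u h
    have hu₂ := hnorm hn₂ u
    have h3 : (⟨n₁ * n₂ * (u : X) * (n₁ * n₂)⁻¹, h⟩ : ↥U) =
        ⟨n₁ * ((⟨n₂ * (u : X) * n₂⁻¹, hu₂⟩ : ↥U) : X) * n₁⁻¹, by
          have : n₁ * (n₂ * (u : X) * n₂⁻¹) * n₁⁻¹ = n₁ * n₂ * (u : X) * (n₁ * n₂)⁻¹ := by group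
          rw [this]; exact h⟩ := Subtype.ext (by simp only; group)
    rw [h3, h₁ ⟨n₂ * (u : X) * n₂⁻¹, hu₂⟩ _, h₂ u hu₂, Matrix.mulVec_mulVec]
    rfl
  have hPr_uniq : ∀ (n : X) (A B : Matrix.SpecialLinearGroup (Fin 2) (ZMod p)),
      n ∈ Subgroup.normalizer (U : Set X) → Pr n A → Pr n B → A = B := by
    intro n A B hn hA' hB'
    apply sl2_eq_of_mulVec_eq
    intro w
    obtain ⟨u, hu⟩ := hc (Multiplicative.ofAdd w)
    have h1 := hA' u (hnorm hn u)
    have h2 := hB' u (hnorm hn u)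
    rw [hu] at h1 h2
    exact h1.symm.trans h2
  have hPr_inv : ∀ (n : X) (A : Matrix.SpecialLinearGroup (Fin 2) (ZMod p)),
      n ∈ Subgroup.normalizer (U : Set X) → Pr n A → Pr n⁻¹ A⁻¹ := by
    intro n A hn hA' u h
    have h1 := hA' ⟨n⁻¹ * (u : X) * n⁻¹⁻¹, h⟩ (by
      have : n * (n⁻¹ * (u : X) * n⁻¹⁻¹) * n⁻¹ = u := by group
      rw [this]; exact u.2)
    have h2 : (⟨n * ((⟨n⁻¹ * (u : X) * n⁻¹⁻¹, h⟩ : ↥U) : X) * n⁻¹, by
          have : n * (n⁻¹ * (u : X) * n⁻¹⁻¹) * n⁻¹ = u := by group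
          rw [this]; exact u.2⟩ : ↥U) = u := Subtype.ext (by simp only; group)
    rw [h2] at h1
    rw [h1, Matrix.mulVec_mulVec]
    have h3 : (A⁻¹ : Matrix.SpecialLinearGroup (Fin 2) (ZMod p)).1 * A.1 = 1 := by
      rw [← Matrix.SpecialLinearGroup.coe_mul, inv_mul_cancel, Matrix.SpecialLinearGroup.coe_one]
    rw [h3, Matrix.one_mulVec]
  let K : Subgroup X :=
    { carrier := {n | n ∈ Subgroup.normalizer (U : Set X) ∧ ∃ A, Pr n A}
      one_mem' := ⟨one_mem _, 1, hPr_one⟩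
      mul_mem' := by
        rintro a b ⟨ha, A, hA'⟩ ⟨hb, B, hB'⟩
        exact ⟨mul_mem ha hb, A * B, hPr_mul a b A B hb hA' hB'⟩
      inv_mem' := by
        rintro a ⟨ha, A, hA'⟩
        exact ⟨inv_mem ha, A⁻¹, hPr_inv a A ha hA'⟩ }
  have hKspec : ∀ k : ↥K, Pr (k : X) (Classical.choose k.2.2) := fun k => Classical.choose_spec k.2.2
  let φ : ↥K →* Matrix.SpecialLinearGroup (Fin 2) (ZMod p) :=
    { toFun := fun k => Classical.choose k.2.2
      map_one' := hPr_uniq 1 _ 1 (one_mem _) (hKspec 1) hPr_one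
      map_mul' := fun a b => hPr_uniq ((a : X) * (b : X)) _ _ (mul_mem a.2.1 b.2.1) (hKspec (a * b))
        (hPr_mul a b _ _ b.2.1 (hKspec a) (hKspec b)) }
  have hφ : Function.Surjective φ := by
    intro A
    obtain ⟨n, -, hnA⟩ := hA A
    have hn : n ∈ Subgroup.normalizer (U : Set X) :=
      mem_normalizer_of_conj_mem_of_finite (fun u hu => (hnA ⟨u, hu⟩).1)
    have hPrn : Pr n A := by
      intro u h
      obtain ⟨h', e⟩ := hnA u
      exact e
    exact ⟨⟨n, hn, A, hPrn⟩, hPr_uniq n _ _ hn (hKspec ⟨n, hn, A, hPrn⟩) hPrn⟩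
  exact involves_qd_of_natural_data hp U K hU (fun k hk => hk.1) c hc φ hφ
    (fun k u h => hKspec k u h)

end Recog

section FromInvolves

/-- The translation subgroup as a plane (multiplicative form). -/
noncomputable def affVHom (R : Type*) [CommRing R] : ↥(affV R) →* Multiplicative (Fin 2 → R) :=
  AddMonoidHom.toMultiplicativeRight (affVAddEquiv R).toAddMonoidHom

theorem affVHom_apply (R : Type*) [CommRing R] (v : ↥(affV R)) :
    Multiplicative.toAdd (affVHom R v) = ![affX v.1, affY v.1] := rfl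

theorem affVHom_surjective (R : Type*) [CommRing R] : Function.Surjective (affVHom R) := by
  intro w
  refine ⟨Additive.toMul ((affVAddEquiv R).symm (Multiplicative.toAdd w)), ?_⟩
  apply Multiplicative.toAdd.injective
  show (affVAddEquiv R) (Additive.ofMul (Additive.toMul
    ((affVAddEquiv R).symm (Multiplicative.toAdd w)))) = _
  simp

variable {p : ℕ} [Fact p.Prime]

/-- A finite group mapping onto the affine group `Qd(p)` carries `Qd(p)`-data. -/
theorem exists_qdData_of_surjective {Y : Type*} [Group Y] [Finite Y]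
    (π : Y →* ↥(affSubgroup (ZMod p))) (hπ : Function.Surjective π) :
    ∃ U : Subgroup Y, IsPGroup p U ∧ QdDataAt p U Set.univ := by
  classical
  set Vh : Subgroup Y := (affV (ZMod p)).comap π with hVh
  have hVhn : Vh.Normal := by rw [hVh]; infer_instance
  obtain ⟨P₀⟩ : Nonempty (Sylow p ↥Vh) := inferInstance
  set U : Subgroup Y := (P₀ : Subgroup ↥Vh).map Vh.subtype with hUdef
  have hUV : ∀ u : ↥U, π u ∈ affV (ZMod p) := by
    rintro ⟨_, y, -, rfl⟩
    exact y.2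
  have hUp : IsPGroup p U := P₀.isPGroup'.map _
  let ρ : ↥U →* ↥(affV (ZMod p)) := (π.comp U.subtype).codRestrict _ hUV
  let c : ↥U →* Multiplicative (Fin 2 → ZMod p) := (affVHom (ZMod p)).comp ρ
  have hcval : ∀ u : ↥U, Multiplicative.toAdd (c u) = ![affX (π u), affY (π u)] := fun u => rfl
  let π' : ↥Vh →* ↥(affV (ZMod p)) := (π.comp Vh.subtype).codRestrict _ (fun y => y.2)
  have hπ' : Function.Surjective π' := by
    intro t
    obtain ⟨y, hy⟩ := hπ t.1
    exact ⟨⟨y, by show π y ∈ affV _; rw [hy]; exact t.2⟩, Subtype.ext hy⟩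
  have hpV : IsPGroup p ↥(affV (ZMod p)) :=
    (isPGroup_affS (R := ZMod p) p).to_le affV_le_affS
  have htop : ((P₀.mapSurjective hπ' : Sylow p ↥(affV (ZMod p))) :
      Subgroup ↥(affV (ZMod p))) = ⊤ := by
    have h : IsPGroup p (⊤ : Subgroup ↥(affV (ZMod p))) := by
      intro g
      obtain ⟨k, hk⟩ := hpV (g : ↥(affV (ZMod p)))
      exact ⟨k, Subtype.ext (by simpa using hk)⟩
    exact ((P₀.mapSurjective hπ').is_maximal' h le_top).symm
  have hρsurj : Function.Surjective ρ := by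
    intro t
    have ht : t ∈ ((P₀.mapSurjective hπ' : Sylow p ↥(affV (ZMod p))) :
        Subgroup ↥(affV (ZMod p))) := by rw [htop]; trivial
    rw [Sylow.coe_mapSurjective] at ht
    obtain ⟨y, hy, rfl⟩ := ht
    exact ⟨⟨y.1, Subgroup.mem_map_of_mem _ hy⟩, Subtype.ext rfl⟩
  refine ⟨U, hUp, c, (affVHom_surjective _).comp hρsurj, fun A => ?_⟩
  obtain ⟨y₀, hy₀⟩ := hπ (affOf A 0)
  have hfr := Sylow.normalizer_sup_eq_top P₀
  have hy₀' : y₀ ∈ ((Subgroup.normalizer (U : Set Y) ⊔ Vh : Subgroup Y) : Set Y) := by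
    rw [hUdef, hfr]; trivial
  rw [Subgroup.mul_normal] at hy₀'
  obtain ⟨n, hn, v, hv, rfl⟩ := Set.mem_mul.mp hy₀'
  refine ⟨n, Set.mem_univ _, fun u => ?_⟩
  have hnu : n * (u : Y) * n⁻¹ ∈ U := (Subgroup.mem_normalizer_iff.mp hn _).mp u.2
  refine ⟨hnu, ?_⟩
  have hπn : π n = affOf A 0 * (π v)⁻¹ := by rw [← hy₀, map_mul, mul_inv_cancel_right]
  have hvV : (π v)⁻¹ ∈ affV (ZMod p) := inv_mem hv
  obtain ⟨a1, b1, c1, d1⟩ := hvV
  have hA' : affA (π n) = A.1 0 0 := by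
    rw [hπn, affA_mul, a1, c1]; simp [affOf, affA_mkAff]
  have hB' : affB (π n) = A.1 0 1 := by
    rw [hπn, affB_mul, b1, d1]; simp [affOf, affA_mkAff, affB_mkAff]
  have hC' : affC (π n) = A.1 1 0 := by
    rw [hπn, affC_mul, a1, c1]; simp [affOf, affC_mkAff, affD_mkAff]
  have hD' : affD (π n) = A.1 1 1 := by
    rw [hπn, affD_mul, b1, d1]; simp [affOf, affC_mkAff, affD_mkAff]
  have hconj : π (n * u * n⁻¹) = π n * π u * (π n)⁻¹ := by rw [map_mul, map_mul, map_inv]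
  rw [hcval, hcval]
  show ![affX (π (n * u * n⁻¹)), affY (π (n * u * n⁻¹))] = _
  rw [hconj, affX_conj_of_mem_affV _ (hUV u), affY_conj_of_mem_affV _ (hUV u), hA', hB', hC', hD']
  funext i
  fin_cases i <;> simp [Matrix.mulVec, dotProduct, Fin.sum_univ_two]

/-- **A finite group involving `Qd(p)` carries `Qd(p)`-data.** -/
theorem exists_qdData_of_involves {X : Type*} [Group X] [Finite X]
    (h : Cfsg.Involves ↥(Cfsg.qd p) X) :
    ∃ U : Subgroup X, IsPGroup p U ∧ QdDataAt p U Set.univ := by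
  obtain ⟨K, R, hR, ⟨e⟩⟩ := h
  let e' : ↥(Cfsg.qd p) ≃* ↥(affSubgroup (ZMod p)) := MulEquiv.subgroupCongr (qd_eq p)
  let π : ↥K →* ↥(affSubgroup (ZMod p)) :=
    e'.toMonoidHom.comp (e.toMonoidHom.comp (QuotientGroup.mk' (R.subgroupOf K)))
  have hπ : Function.Surjective π :=
    e'.surjective.comp (e.surjective.comp (QuotientGroup.mk'_surjective _))
  obtain ⟨U, hU, hdata⟩ := exists_qdData_of_surjective π hπ
  exact ⟨U.map K.subtype, hU.map _,
    (hdata.map K.subtype (Subgroup.subtype_injective K)).mono (Set.subset_univ _)⟩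

end FromInvolves

section Frame

variable {p : ℕ} [Fact p.Prime] {X : Type*} [Group X] [Finite X]

/-- **A `p`-centric frame.**  Data on a `p`-subgroup `U` can be realised by elements normalizing a
`p`-subgroup `Q ≥ U` which contains every `p`-element of its centralizer. -/
theorem QdDataAt.exists_frame {U : Subgroup X} (hU : IsPGroup p U) (h : QdDataAt p U Set.univ) :
    ∃ Q : Subgroup X, U ≤ Q ∧ IsPGroup p Q ∧
      (∀ x ∈ Subgroup.centralizer (Q : Set X), (∃ k : ℕ, x ^ p ^ k = 1) → x ∈ Q) ∧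
      QdDataAt p U (Subgroup.normalizer (Q : Set X) : Set X) := by
  classical
  obtain ⟨c, hc, hA⟩ := h
  let I : Subgroup X :=
    { carrier := {x | x ∈ Subgroup.normalizer (U : Set X) ∧
        ∀ (u : ↥U) (h : x * (u : X) * x⁻¹ ∈ U), c ⟨x * u * x⁻¹, h⟩ = c u}
      one_mem' := ⟨one_mem _, fun u h => congrArg c (Subtype.ext (by simp))⟩
      mul_mem' := by
        rintro a b ⟨ha, ha'⟩ ⟨hb, hb'⟩
        refine ⟨mul_mem ha hb, fun u h => ?_⟩
        have hub : b * (u : X) * b⁻¹ ∈ U := (Subgroup.mem_normalizer_iff.mp hb _).mp u.2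
        have h3 : (⟨a * b * (u : X) * (a * b)⁻¹, h⟩ : ↥U) =
            ⟨a * ((⟨b * (u : X) * b⁻¹, hub⟩ : ↥U) : X) * a⁻¹, by
              have : a * (b * (u : X) * b⁻¹) * a⁻¹ = a * b * (u : X) * (a * b)⁻¹ := by group
              rw [this]; exact h⟩ := Subtype.ext (by simp only; group)
        rw [h3, ha' _ _, hb' u hub]
      inv_mem' := by
        rintro a ⟨ha, ha'⟩
        refine ⟨inv_mem ha, fun u h => ?_⟩
        have hmem : a * (a⁻¹ * (u : X) * a⁻¹⁻¹) * a⁻¹ ∈ U := by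
          have : a * (a⁻¹ * (u : X) * a⁻¹⁻¹) * a⁻¹ = u := by group
          rw [this]; exact u.2
        have h1 := ha' ⟨a⁻¹ * (u : X) * a⁻¹⁻¹, h⟩ hmem
        have h2 : (⟨a * ((⟨a⁻¹ * (u : X) * a⁻¹⁻¹, h⟩ : ↥U) : X) * a⁻¹, hmem⟩ : ↥U) = u :=
          Subtype.ext (by simp only; group)
        rw [h2] at h1
        exact h1.symm }
  have hIN : I ≤ Subgroup.normalizer (U : Set X) := fun x hx => hx.1
  have hUI : U ≤ I := by
    intro x hx
    refine ⟨Subgroup.le_normalizer hx, fun u h => ?_⟩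
    have h1 : (⟨x * (u : X) * x⁻¹, h⟩ : ↥U) = ⟨x, hx⟩ * u * ⟨x, hx⟩⁻¹ := Subtype.ext rfl
    rw [h1, map_mul, map_mul, map_inv, mul_comm, inv_mul_cancel_left]
  have hCI : Subgroup.centralizer (U : Set X) ≤ I := by
    intro x hx
    refine ⟨Subgroup.centralizer_le_normalizer _ hx, fun u h => ?_⟩
    congr 1
    apply Subtype.ext
    have h1 := hx u u.2
    show x * u * x⁻¹ = u
    rw [← h1, mul_inv_cancel_right]
  obtain ⟨R⟩ : Nonempty (Sylow p ↥I) := inferInstance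
  set Q : Subgroup X := (R : Subgroup ↥I).map I.subtype with hQdef
  have hQI : Q ≤ I := Subgroup.map_subtype_le _
  have hsyl : ∃ R' : Sylow p ↥I, (R' : Subgroup ↥I) = Q.subgroupOf I :=
    ⟨R, by
      rw [hQdef]
      exact (Subgroup.comap_map_eq_self_of_injective (Subgroup.subtype_injective I) _).symm⟩
  obtain ⟨hQp, hmax⟩ := (sylowIn_iff hQI).mp hsyl
  have hUQ : U ≤ Q := by
    have h1 : IsPGroup p (U ⊔ Q : Subgroup X) :=
      IsPGroup.to_sup_of_normal_left' hU hQp (hQI.trans hIN)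
    have h2 : Nat.card (U ⊔ Q : Subgroup X) ≤ Nat.card Q := hmax _ (sup_le hUI hQI) h1
    have h3 : Q = U ⊔ Q := Subgroup.eq_of_le_of_card_ge le_sup_right h2
    rw [h3]; exact le_sup_left
  refine ⟨Q, hUQ, hQp, ?_, c, hc, fun A => ?_⟩
  · rintro x hx ⟨k, hk⟩
    have hxU : x ∈ Subgroup.centralizer (U : Set X) :=
      Subgroup.centralizer_le (by exact_mod_cast hUQ) hx
    have hZp : IsPGroup p (Subgroup.zpowers x) := by
      rintro ⟨y, hy⟩
      obtain ⟨j, rfl⟩ := Subgroup.mem_zpowers_iff.mp hy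
      refine ⟨k, Subtype.ext ?_⟩
      show (x ^ j) ^ p ^ k = 1
      rw [← zpow_natCast, ← zpow_mul, mul_comm, zpow_mul, zpow_natCast, hk, one_zpow]
    have hZI : Subgroup.zpowers x ≤ I := by rw [Subgroup.zpowers_le]; exact hCI hxU
    have hZN : Subgroup.zpowers x ≤ Subgroup.normalizer (Q : Set X) := by
      rw [Subgroup.zpowers_le]; exact Subgroup.centralizer_le_normalizer _ hx
    have h1 : IsPGroup p (Subgroup.zpowers x ⊔ Q : Subgroup X) :=
      IsPGroup.to_sup_of_normal_right' hZp hQp hZN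
    have h2 := hmax _ (sup_le hZI hQI) h1
    have h3 : Q = Subgroup.zpowers x ⊔ Q := Subgroup.eq_of_le_of_card_ge le_sup_right h2
    rw [h3]; exact Subgroup.mem_sup_left (Subgroup.mem_zpowers x)
  · obtain ⟨n, -, hnA⟩ := hA A
    have hn : n ∈ Subgroup.normalizer (U : Set X) :=
      mem_normalizer_of_conj_mem_of_finite (fun u hu => (hnA ⟨u, hu⟩).1)
    have hnI : ∀ x ∈ I, n * x * n⁻¹ ∈ I := by
      rintro x ⟨hx, hx'⟩
      refine ⟨mul_mem (mul_mem hn hx) (inv_mem hn), fun u h => ?_⟩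
      have hu' : n⁻¹ * (u : X) * n ∈ U := by
        have := (Subgroup.mem_normalizer_iff.mp (inv_mem hn) _).mp u.2
        simpa using this
      have hxu' : x * (n⁻¹ * (u : X) * n) * x⁻¹ ∈ U :=
        (Subgroup.mem_normalizer_iff.mp hx _).mp hu'
      obtain ⟨h1, e1⟩ := hnA ⟨x * (n⁻¹ * (u : X) * n) * x⁻¹, hxu'⟩
      obtain ⟨h2, e2⟩ := hnA ⟨n⁻¹ * (u : X) * n, hu'⟩
      have e3 : (⟨n * x * n⁻¹ * (u : X) * (n * x * n⁻¹)⁻¹, h⟩ : ↥U) =
          ⟨n * ((⟨x * (n⁻¹ * (u : X) * n) * x⁻¹, hxu'⟩ : ↥U) : X) * n⁻¹, h1⟩ :=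
        Subtype.ext (by simp only; group)
      have e4 : (⟨n * ((⟨n⁻¹ * (u : X) * n, hu'⟩ : ↥U) : X) * n⁻¹, h2⟩ : ↥U) = u :=
        Subtype.ext (by simp only; group)
      apply Multiplicative.toAdd.injective
      rw [e3, e1, hx' ⟨n⁻¹ * (u : X) * n, hu'⟩ hxu', ← e2, e4]
    have hKI : Q.map (MulAut.conj n).toMonoidHom ≤ I := by
      rintro _ ⟨q, hq, rfl⟩
      exact hnI q (hQI hq)
    obtain ⟨m, hmI, hm⟩ := exists_conj_le_of_sylowIn hsyl hKI (isPGroup_map_conj n hQp)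
    rw [Cfsg.Agent.Lib.helper87.map_conj_mul] at hm
    have hmn : m * n ∈ Subgroup.normalizer (Q : Set X) :=
      mem_normalizer_of_conj_mem_of_finite (fun q hq => hm (conj_mem_map_conj hq))
    refine ⟨m * n, hmn, fun u => ?_⟩
    obtain ⟨h1, e1⟩ := hnA u
    have h2 : m * (n * (u : X) * n⁻¹) * m⁻¹ ∈ U :=
      (Subgroup.mem_normalizer_iff.mp hmI.1 _).mp h1
    have h3 : m * n * (u : X) * (m * n)⁻¹ = m * (n * (u : X) * n⁻¹) * m⁻¹ := by group
    refine ⟨by rw [h3]; exact h2, ?_⟩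
    have h4 : (⟨m * n * (u : X) * (m * n)⁻¹, by rw [h3]; exact h2⟩ : ↥U) =
        ⟨m * ((⟨n * (u : X) * n⁻¹, h1⟩ : ↥U) : X) * m⁻¹, h2⟩ := Subtype.ext h3
    rw [h4, hmI.2 ⟨n * (u : X) * n⁻¹, h1⟩ h2]
    exact e1

end Frame

end Cfsg.Agent.Lib.helper3
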