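import Mathlib
import Cfsg.Agent.Lib.helper3.SylowLemmas
import Cfsg.Agent.Lib.helper3.QdData
import Cfsg.Agent.Lib.helper39.FusTools
import Cfsg.Agent.Lib.helper52.PRedTools

/-!
# Subgroups whose normalizer controls strong fusion

`NCtl P Q`: `Q ≤ P` and `N_G(Q)` controls strong fusion in `P` (for subgroups `A ≤ P`).
We prove basic facts (`P ≤ N_G(Q)`, existence of one of maximal order, transitivity) and that
such a `Q` lies in every "centric radical" subgroup `R ≤ P` (`NCtl.le_of_centric_radical`).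
-/

set_option autoImplicit false

namespace Cfsg.Agent.Lib.helper3

open Cfsg.Agent.Lib.helper39

variable {G : Type*} [Group G]

/-- `C.relIndex (R ⊔ C) = C.relIndex R` when `R` normalizes `C`. -/
theorem relIndex_sup_eq_of_le_normalizer (R C : Subgroup G)
    (h : R ≤ Subgroup.normalizer (C : Set G)) : C.relIndex (R ⊔ C) = C.relIndex R := by
  have := Subgroup.normal_subgroupOf_of_le_normalizer h
  have := Subgroup.normal_subgroupOf_sup_of_le_normalizer h
  exact (Nat.card_congr (QuotientGroup.quotientInfEquivProdNormalizerQuotient R C h).toEquiv).symm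

/-- Elements of `H ⊔ K` are products when `K` normalizes `H`. -/
theorem exists_mul_of_mem_sup_of_le_normalizer {H K : Subgroup G}
    (h : K ≤ Subgroup.normalizer (H : Set G)) {x : G} (hx : x ∈ H ⊔ K) :
    ∃ a ∈ H, ∃ b ∈ K, x = a * b := by
  have hle : H ⊔ K ≤ Subgroup.normalizer (H : Set G) := sup_le Subgroup.le_normalizer h
  have : (H.subgroupOf (H ⊔ K)).Normal :=
    (Subgroup.normal_subgroupOf_iff_le_normalizer le_sup_left).mpr hle
  have h1 : (⟨x, hx⟩ : ↥(H ⊔ K)) ∈
      (↑(H.subgroupOf (H ⊔ K) ⊔ K.subgroupOf (H ⊔ K)) : Set ↥(H ⊔ K)) := by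
    rw [← Subgroup.subgroupOf_sup le_sup_left le_sup_right, Subgroup.subgroupOf_self]
    trivial
  rw [Subgroup.normal_mul] at h1
  obtain ⟨a, ha, b, hb, hab⟩ := h1
  exact ⟨a, Subgroup.mem_subgroupOf.mp ha, b, Subgroup.mem_subgroupOf.mp hb,
    (congrArg Subtype.val hab).symm⟩

/-- `N_G(Q)` controls strong fusion in `P`. -/
def NCtl (P Q : Subgroup G) : Prop :=
  Q ≤ P ∧ ∀ A : Subgroup G, A ≤ P → ∀ g : G, (∀ a ∈ A, g * a * g⁻¹ ∈ P) →
    ∃ n ∈ Subgroup.normalizer (Q : Set G), ∀ a ∈ A, n * a * n⁻¹ = g * a * g⁻¹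

theorem nCtl_bot (P : Subgroup G) : NCtl P ⊥ := by
  refine ⟨bot_le, fun A _ g _ => ⟨g, ?_, fun a _ => rfl⟩⟩
  rw [Subgroup.mem_normalizer_iff]
  intro h
  simp

theorem NCtl.le_normalizer [Finite G] {P Q : Subgroup G} (h : NCtl P Q) :
    P ≤ Subgroup.normalizer (Q : Set G) := by
  intro x hx
  obtain ⟨n, hn, hna⟩ := h.2 P le_rfl x (fun a ha => P.mul_mem (P.mul_mem hx ha) (P.inv_mem hx))
  apply mem_normalizer_of_conj_mem_of_finite
  intro q hq
  rw [← hna q (h.1 hq)]
  exact (Subgroup.mem_normalizer_iff.mp hn q).mp hq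

theorem exists_max_nCtl [Finite G] (P : Subgroup G) :
    ∃ Q, NCtl P Q ∧ ∀ Q', NCtl P Q' → Nat.card Q' ≤ Nat.card Q := by
  have : Nonempty {Q : Subgroup G // NCtl P Q} := ⟨⟨⊥, nCtl_bot P⟩⟩
  obtain ⟨Q, hQ⟩ := Finite.exists_max
    (fun Q : {Q : Subgroup G // NCtl P Q} => Nat.card (Q : Subgroup G))
  exact ⟨Q.1, Q.2, fun Q' hQ' => hQ ⟨Q', hQ'⟩⟩

/-- Transitivity of control. -/
theorem NCtl.of_ctl {P Q R : Subgroup G} (h : NCtl P Q) (hR : R ≤ P)
    (hctl : ∀ A : Subgroup G, A ≤ P → ∀ g ∈ Subgroup.normalizer (Q : Set G),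
      (∀ a ∈ A, g * a * g⁻¹ ∈ P) →
      ∃ m ∈ Subgroup.normalizer (R : Set G), ∀ a ∈ A, m * a * m⁻¹ = g * a * g⁻¹) :
    NCtl P R := by
  refine ⟨hR, fun A hA g hg => ?_⟩
  obtain ⟨n, hn, hna⟩ := h.2 A hA g hg
  obtain ⟨m, hm, hma⟩ := hctl A hA n hn (fun a ha => by rw [hna a ha]; exact hg a ha)
  exact ⟨m, hm, fun a ha => (hma a ha).trans (hna a ha)⟩

/-- A subgroup whose normalizer controls strong fusion lies in every centric radical subgroup. -/
theorem NCtl.le_of_centric_radical [Finite G] {p : ℕ} [Fact p.Prime] (P : Sylow p G)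
    {Q : Subgroup G} (hQ : NCtl (P : Subgroup G) Q) (R : Subgroup G) (hRP : R ≤ (P : Subgroup G))
    (hsyl : ∃ S : Sylow p ↥(Subgroup.centralizer (R : Set G)),
      (S : Subgroup ↥(Subgroup.centralizer (R : Set G))).map
        (Subgroup.centralizer (R : Set G)).subtype = R ⊓ Subgroup.centralizer (R : Set G))
    (hrad : ∀ X : Subgroup G, X ≤ Subgroup.normalizer (R : Set G) →
      (∀ n ∈ Subgroup.normalizer (R : Set G), X.map (MulAut.conj n).toMonoidHom = X) →
      R ⊔ Subgroup.centralizer (R : Set G) ≤ X →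
      (∃ k : ℕ, (R ⊔ Subgroup.centralizer (R : Set G)).relIndex X = p ^ k) →
      X = R ⊔ Subgroup.centralizer (R : Set G)) : Q ≤ R := by
  classical
  have hPN := hQ.le_normalizer
  set C := Subgroup.centralizer (R : Set G) with hC
  set NR := Subgroup.normalizer (R : Set G) with hNR
  set M := R ⊔ C with hM
  have hRNR : R ≤ NR := Subgroup.le_normalizer
  have hCNR : C ≤ NR := Subgroup.centralizer_le_normalizer _
  have hNRC : NR ≤ Subgroup.normalizer (C : Set G) := normalizer_le_normalizer_centralizer R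
  have hMNR : M ≤ NR := sup_le hRNR hCNR
  have hNRM : NR ≤ Subgroup.normalizer (M : Set G) :=
    Cfsg.Agent.Lib.helper52.le_normalizer_sup le_rfl hNRC
  set NQR := Q ⊓ NR with hNQR
  set X := NQR ⊔ M with hX
  have hX1 : X ≤ NR := sup_le inf_le_right hMNR
  have hX2 : ∀ n ∈ NR, X.map (MulAut.conj n).toMonoidHom = X := by
    intro n hn
    refine cj_eq_self_iff.mpr ?_
    obtain ⟨h, hh, hha⟩ := hQ.2 R hRP n
      (fun a ha => hRP ((Subgroup.mem_normalizer_iff.mp hn a).mp ha))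
    have hhR : h ∈ NR := by
      apply mem_normalizer_of_conj_mem_of_finite
      intro a ha
      rw [hha a ha]
      exact (Subgroup.mem_normalizer_iff.mp hn a).mp ha
    have hc : h⁻¹ * n ∈ C := by
      rw [hC, Subgroup.mem_centralizer_iff]
      intro a ha
      have := hha a ha
      calc a * (h⁻¹ * n) = h⁻¹ * (h * a * h⁻¹) * n := by group
        _ = h⁻¹ * (n * a * n⁻¹) * n := by rw [this]
        _ = h⁻¹ * n * a := by group
    have hhX : h ∈ Subgroup.normalizer (X : Set G) := by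
      have h1 : h ∈ Subgroup.normalizer (NQR : Set G) := by
        apply mem_normalizer_of_conj_mem_of_finite
        intro x hx
        exact ⟨(Subgroup.mem_normalizer_iff.mp hh x).mp hx.1,
          NR.mul_mem (NR.mul_mem hhR hx.2) (NR.inv_mem hhR)⟩
      have h2 : h ∈ Subgroup.normalizer (M : Set G) := hNRM hhR
      have := Cfsg.Agent.Lib.helper52.le_normalizer_sup (R := Subgroup.zpowers h) (A := NQR)
        (B := M) (by rw [Subgroup.zpowers_le]; exact h1) (by rw [Subgroup.zpowers_le]; exact h2)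
      exact this (Subgroup.mem_zpowers h)
    have hcX : h⁻¹ * n ∈ Subgroup.normalizer (X : Set G) :=
      Subgroup.le_normalizer (Subgroup.mem_sup_right (Subgroup.mem_sup_right hc))
    have : n = h * (h⁻¹ * n) := by group
    rw [this]
    exact Subgroup.mul_mem _ hhX hcX
  have hX3 : M ≤ X := le_sup_right
  have hX4 : ∃ k : ℕ, M.relIndex X = p ^ k := by
    have hNQRM : NQR ≤ Subgroup.normalizer (M : Set G) := inf_le_right.trans hNRM
    have e1 : M.relIndex (NQR ⊔ M) = M.relIndex NQR :=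
      relIndex_sup_eq_of_le_normalizer NQR M hNQRM
    have hp' : IsPGroup p NQR := P.isPGroup'.to_le (inf_le_left.trans hQ.1)
    obtain ⟨a, ha⟩ := IsPGroup.iff_card.mp hp'
    have hdvd : M.relIndex NQR ∣ p ^ a := by
      rw [← ha]; exact Subgroup.relIndex_dvd_card M NQR
    obtain ⟨k, -, hk⟩ := (Nat.dvd_prime_pow Fact.out).mp hdvd
    exact ⟨k, by rw [hX, e1, hk]⟩
  have hXM : X = M := hrad X hX1 hX2 hX3 hX4
  have hNQRM : NQR ≤ M := by rw [← hXM]; exact le_sup_left
  -- `R` is a Sylow `p`-subgroup of `M`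
  have hRsyl : IsSylIn p R M := by
    refine ⟨le_sup_left, P.isPGroup'.to_le hRP, ?_⟩
    obtain ⟨S, hS⟩ := hsyl
    have h1 := (sylow_isSylIn S).2.2
    rw [hS] at h1
    rwa [relIndex_inf_eq_of_le_normalizer R C (hRNR.trans hNRC)] at h1
  have hNQRR : NQR ≤ R := by
    intro x hx
    have hxp : IsPGroup p (Subgroup.zpowers x) :=
      P.isPGroup'.to_le (by rw [Subgroup.zpowers_le]; exact hQ.1 hx.1)
    obtain ⟨h, hhM, hle⟩ := hRsyl.exists_cj_le hxp
      (by rw [Subgroup.zpowers_le]; exact hNQRM hx)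
    have h1 : h * x * h⁻¹ ∈ R := hle (conj_mem_cj.mpr (Subgroup.mem_zpowers x))
    have hhN : h ∈ NR := hMNR hhM
    have h2 := (Subgroup.mem_normalizer_iff.mp (NR.inv_mem hhN) (h * x * h⁻¹)).mp h1
    have : h⁻¹ * (h * x * h⁻¹) * h⁻¹⁻¹ = x := by group
    rwa [this] at h2
  -- normalizers grow
  by_contra hQR
  have hQRP : Q ⊔ R ≤ (P : Subgroup G) := sup_le hQ.1 hRP
  have hlt : R < Q ⊔ R :=
    lt_of_le_of_ne le_sup_right (fun h => hQR (by rw [h]; exact le_sup_left))
  have hgrow := lt_inf_normalizer_of_lt (P.isPGroup'.to_le hQRP) hlt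
  obtain ⟨y, hy, hyR⟩ := SetLike.exists_of_lt hgrow
  obtain ⟨q, hq, r, hr, rfl⟩ := exists_mul_of_mem_sup_of_le_normalizer (hRP.trans hPN) hy.1
  apply hyR
  have hqN : q ∈ NR := by
    have : q = (q * r) * r⁻¹ := by group
    rw [this]
    exact NR.mul_mem hy.2 (NR.inv_mem (hRNR hr))
  exact R.mul_mem (hNQRR ⟨hq, hqN⟩) hr

end Cfsg.Agent.Lib.helper3
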