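import Mathlib
import Cfsg.Agent.Lib.helper87.QdFac1
import Cfsg.Agent.Lib.helper3.QdData

/-!
# Control of fusion by `N(P ∩ X)` for a `p`-closed-mod-`Q C(Q)` normal subgroup `X`

Let `Q` be a normal `p`-subgroup of the finite group `L` with `C_P(Q) ≤ Q` (`P` a Sylow
`p`-subgroup), and `X` a normal subgroup of `L` containing `Q C_L(Q)` with `X / Q C_L(Q)` a
`p`-group.  Then `N_L(P ∩ X)` controls strong fusion in `P` (`ctl_inf_of_radical`), and
`X = (P ∩ X) Q C_L(Q)` (`exists_mul_of_pow_mem`).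
-/

set_option autoImplicit false

namespace Cfsg.Agent.Lib.helper3

section SylQuot

variable {K : Type*} [Group K] [Finite K] {p : ℕ} [Fact p.Prime]

/-- If `K / M` is a `p`-group, then `K = T M` for every Sylow `p`-subgroup `T`. -/
theorem exists_sylow_mul_of_quot_pgroup (M : Subgroup K) [M.Normal] (hM : IsPGroup p (K ⧸ M))
    (T : Sylow p K) (k : K) : ∃ t ∈ T, t⁻¹ * k ∈ M := by
  have hT : ((T.mapSurjective (QuotientGroup.mk'_surjective M) : Sylow p (K ⧸ M)) :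
      Subgroup (K ⧸ M)) = ⊤ :=
    ((T.mapSurjective (QuotientGroup.mk'_surjective M)).is_maximal' (Q := ⊤)
      (hM.to_subgroup ⊤) le_top).symm
  have hk : QuotientGroup.mk' M k ∈ ((T.mapSurjective (QuotientGroup.mk'_surjective M) :
      Sylow p (K ⧸ M)) : Subgroup (K ⧸ M)) := by rw [hT]; trivial
  rw [Sylow.coe_mapSurjective] at hk
  obtain ⟨t, ht, htk⟩ := hk
  exact ⟨t, ht, QuotientGroup.eq.mp htk⟩

end SylQuot

section Radical

variable {L : Type*} [Group L] [Finite L] {p : ℕ} [Fact p.Prime]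

/-- If `X / M` is a `p`-group (`M ≤ X` normal subgroups), then `X = (P ∩ X) M`. -/
theorem exists_mul_of_pow_mem (P : Sylow p L) (X M : Subgroup L) [X.Normal] [M.Normal]
    (hpow : ∀ x ∈ X, ∃ j : ℕ, x ^ p ^ j ∈ M) :
    ∀ x ∈ X, ∃ t ∈ (P : Subgroup L) ⊓ X, ∃ m ∈ M, x = t * m := by
  intro x hx
  obtain ⟨T, hT⟩ := Cfsg.Agent.Lib.helper52.exists_sylow_inf_normal P X
  have hq : IsPGroup p (↥X ⧸ M.subgroupOf X) := by
    intro y
    obtain ⟨y, rfl⟩ := QuotientGroup.mk_surjective y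
    obtain ⟨j, hj⟩ := hpow y y.2
    refine ⟨j, ?_⟩
    rw [← QuotientGroup.mk_pow, QuotientGroup.eq_one_iff]
    exact Subgroup.mem_subgroupOf.mpr (by simpa using hj)
  obtain ⟨t, ht, htk⟩ := exists_sylow_mul_of_quot_pgroup (M.subgroupOf X) hq T ⟨x, hx⟩
  have ht' : (t : L) ∈ (P : Subgroup L) ⊓ X := by
    have : t ∈ ((P : Subgroup L) ⊓ X).subgroupOf X := by rw [← hT]; exact ht
    exact Subgroup.mem_subgroupOf.mp this
  exact ⟨t, ht', (t : L)⁻¹ * x, Subgroup.mem_subgroupOf.mp htk, by group⟩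

/-- **Control of fusion by `N(P ∩ X)`.** -/
theorem ctl_inf_of_radical (P : Sylow p L) (Q : Subgroup L) [Q.Normal]
    (hQP : Q ≤ (P : Subgroup L))
    (hD : (P : Subgroup L) ⊓ Subgroup.centralizer (Q : Set L) ≤ Q)
    (X : Subgroup L) [hXn : X.Normal] (hQX : Q ⊔ Subgroup.centralizer (Q : Set L) ≤ X)
    (hpow : ∀ x ∈ X, ∃ j : ℕ, x ^ p ^ j ∈ Q ⊔ Subgroup.centralizer (Q : Set L))
    (A : Subgroup L) (hA : A ≤ (P : Subgroup L)) (g : L)
    (hg : ∀ a ∈ A, g * a * g⁻¹ ∈ (P : Subgroup L)) :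
    ∃ m ∈ Subgroup.normalizer ((((P : Subgroup L) ⊓ X : Subgroup L)) : Set L),
      ∀ a ∈ A, m * a * m⁻¹ = g * a * g⁻¹ := by
  classical
  obtain ⟨C, hC⟩ : ∃ C : Subgroup L, C = Subgroup.centralizer (Q : Set L) := ⟨_, rfl⟩
  rw [← hC] at hD hQX hpow
  have hCn : C.Normal := by rw [hC]; infer_instance
  have hcent : ∀ x ∈ (P : Subgroup L) ⊓ C, ∀ y ∈ C, x * y = y * x := by
    intro x hx y hy
    rw [hC] at hy
    exact Subgroup.mem_centralizer_iff.mp hy x (hD hx)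
  obtain ⟨O, hOn, hOC, hOP, hCdec⟩ :=
    Cfsg.Agent.Lib.helper87.exists_normal_pcomplement P C hcent
  obtain ⟨T, hT⟩ : ∃ T : Subgroup L, T = (P : Subgroup L) ⊓ X := ⟨_, rfl⟩
  rw [← hT]
  have hTP : T ≤ (P : Subgroup L) := by rw [hT]; exact inf_le_left
  have hTX : T ≤ X := by rw [hT]; exact inf_le_right
  have hmemT : ∀ x, x ∈ (P : Subgroup L) → x ∈ X → x ∈ T := by
    intro x h1 h2; rw [hT]; exact ⟨h1, h2⟩
  -- `X = T O`
  have hXdec : ∀ x ∈ X, ∃ t ∈ T, ∃ o ∈ O, x = t * o := by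
    intro x hx
    obtain ⟨t, ht, m, hm, rfl⟩ := exists_mul_of_pow_mem P X (Q ⊔ C) hpow x hx
    have hm' : m ∈ (↑(Q ⊔ C) : Set L) := hm
    rw [Subgroup.mul_normal] at hm'
    obtain ⟨q, hq, c, hc, rfl⟩ := hm'
    obtain ⟨z, hz, o, ho, rfl⟩ := hCdec c hc
    refine ⟨t * q * z, ?_, o, ho, by group⟩
    have hqT : q ∈ T := hmemT q (hQP hq) (hQX (Subgroup.mem_sup_left hq))
    have hzT : z ∈ T := hmemT z hz.1 (hQX (Subgroup.mem_sup_right hz.2))
    exact T.mul_mem (T.mul_mem (hmemT t ht.1 ht.2) hqT) hzT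
  -- the `p`-group `A (g⁻¹ T g)`
  obtain ⟨T', hT'⟩ : ∃ T' : Subgroup L, T' = T.map (MulAut.conj g⁻¹).toMonoidHom := ⟨_, rfl⟩
  have hmemT' : ∀ t ∈ T, g⁻¹ * t * g ∈ T' := by
    intro t ht
    rw [hT']
    refine ⟨t, ht, ?_⟩
    show g⁻¹ * t * g⁻¹⁻¹ = g⁻¹ * t * g
    rw [inv_inv]
  have hT'mem : ∀ x ∈ T', ∃ t ∈ T, x = g⁻¹ * t * g := by
    intro x hx
    rw [hT'] at hx
    obtain ⟨t, ht, rfl⟩ := hx
    refine ⟨t, ht, ?_⟩
    show g⁻¹ * t * g⁻¹⁻¹ = g⁻¹ * t * g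
    rw [inv_inv]
  have hTp : IsPGroup p T := P.isPGroup'.to_le hTP
  have hT'p : IsPGroup p T' := by rw [hT']; exact hTp.map _
  have hAp : IsPGroup p A := P.isPGroup'.to_le hA
  have hAT' : A ≤ Subgroup.normalizer (T' : Set L) := by
    intro a ha
    apply mem_normalizer_of_conj_mem_of_finite
    intro x hx
    obtain ⟨t, ht, rfl⟩ := hT'mem x hx
    have h1 : a * (g⁻¹ * t * g) * a⁻¹ = g⁻¹ * ((g * a * g⁻¹) * t * (g * a * g⁻¹)⁻¹) * g := by
      group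
    rw [h1]
    apply hmemT'
    apply hmemT
    · exact Subgroup.mul_mem _ (Subgroup.mul_mem _ (hg a ha) (hTP ht))
        (Subgroup.inv_mem _ (hg a ha))
    · exact hXn.conj_mem _ (hTX ht) _
  have hsup : IsPGroup p (A ⊔ T' : Subgroup L) :=
    IsPGroup.to_sup_of_normal_right' hAp hT'p hAT'
  have hle : A ⊔ T' ≤ (P : Subgroup L) ⊔ O := by
    refine sup_le (hA.trans le_sup_left) ?_
    intro x hx
    obtain ⟨t, ht, rfl⟩ := hT'mem x hx
    have hx' : g⁻¹ * t * g ∈ X := by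
      have := hXn.conj_mem t (hTX ht) g⁻¹
      rwa [inv_inv] at this
    obtain ⟨t₁, ht₁, o, ho, he⟩ := hXdec _ hx'
    rw [he]
    exact Subgroup.mul_mem _ (Subgroup.mem_sup_left (hTP ht₁)) (Subgroup.mem_sup_right ho)
  obtain ⟨o, ho, hoP⟩ :=
    Cfsg.Agent.Lib.helper87.exists_conj_mem_sylow_of_le_sup P O (A ⊔ T') hsup hle
  -- `o` centralizes `A`
  have hoA : ∀ a ∈ A, o * a * o⁻¹ = a := by
    intro a ha
    have h1 : o * a * o⁻¹ * a⁻¹ ∈ O := by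
      have : o * a * o⁻¹ * a⁻¹ = o * (a * o⁻¹ * a⁻¹) := by group
      rw [this]
      exact O.mul_mem ho (hOn.conj_mem _ (O.inv_mem ho) a)
    have h2 : o * a * o⁻¹ * a⁻¹ ∈ (P : Subgroup L) :=
      Subgroup.mul_mem _ (hoP a (Subgroup.mem_sup_left ha)) (Subgroup.inv_mem _ (hA ha))
    exact mul_inv_eq_one.mp (hOP _ h1 h2)
  -- `o g⁻¹` normalizes `T`
  have hnorm : o * g⁻¹ ∈ Subgroup.normalizer (T : Set L) := by
    apply mem_normalizer_of_conj_mem_of_finite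
    intro t ht
    have h2 := hoP _ (Subgroup.mem_sup_right (hmemT' t ht))
    have h3 : o * g⁻¹ * t * (o * g⁻¹)⁻¹ = o * (g⁻¹ * t * g) * o⁻¹ := by group
    rw [h3]
    apply hmemT _ h2
    apply hXn.conj_mem
    have := hXn.conj_mem t (hTX ht) g⁻¹
    rwa [inv_inv] at this
  refine ⟨(o * g⁻¹)⁻¹, Subgroup.inv_mem _ hnorm, fun a ha => ?_⟩
  have h5 : o⁻¹ * a * o = a := by
    calc o⁻¹ * a * o = o⁻¹ * (o * a * o⁻¹) * o := by rw [hoA a ha]
      _ = a := by group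
  have h4 : (o * g⁻¹)⁻¹ * a * (o * g⁻¹)⁻¹⁻¹ = g * (o⁻¹ * a * o) * g⁻¹ := by group
  rw [h4, h5]

end Radical

end Cfsg.Agent.Lib.helper3
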