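import Mathlib
import Cfsg.Agent.Lib.helper3.QdData

/-!
# No `SL₂(p)`-section in automizers forces `Qd(p)`-freeness

If for no `p`-subgroup `Q` of `G` the group `N_G(Q)/C_G(Q)` has a section isomorphic to `SL₂(p)`,
then `Qd(p)` is not involved in `G` (`not_involves_qd_of_no_sl2_section`).
-/

set_option autoImplicit false

namespace Cfsg.Agent.Lib.helper3

open Cfsg

theorem not_involves_qd_of_no_sl2_section {G : Type*} [Group G] [Finite G] {p : ℕ}
    [Fact p.Prime]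
    (hfree : ∀ Q : Subgroup G, IsPGroup p ↥Q →
      ¬ ∃ (H K : Subgroup G) (_ : (K.subgroupOf H).Normal),
      Subgroup.centralizer (Q : Set G) ≤ K ∧ K ≤ H ∧ H ≤ Subgroup.normalizer (Q : Set G) ∧
      Nonempty ((↥H ⧸ K.subgroupOf H) ≃* Matrix.SpecialLinearGroup (Fin 2) (ZMod p))) :
    ¬ Cfsg.Involves ↥(Cfsg.qd p) G := by
  classical
  intro hinv
  obtain ⟨U, hU, c, hc, hA⟩ := exists_qdData_of_involves hinv
  apply hfree U hU
  let Pr : G → Matrix.SpecialLinearGroup (Fin 2) (ZMod p) → Prop := fun n A =>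
    ∀ (u : ↥U) (h : n * (u : G) * n⁻¹ ∈ U), Multiplicative.toAdd (c ⟨n * u * n⁻¹, h⟩) =
      Matrix.mulVec A.1 (Multiplicative.toAdd (c u))
  have hnorm : ∀ {n : G}, n ∈ Subgroup.normalizer (U : Set G) → ∀ u : ↥U, n * (u : G) * n⁻¹ ∈ U :=
    fun hn u => (Subgroup.mem_normalizer_iff.mp hn _).mp u.2
  have hPr_one : Pr 1 1 := by
    intro u h
    have h1 : (⟨1 * (u : G) * 1⁻¹, h⟩ : ↥U) = u := Subtype.ext (by simp)
    rw [h1]
    simp
  have hPr_mul : ∀ (n₁ n₂ : G) (A₁ A₂ : Matrix.SpecialLinearGroup (Fin 2) (ZMod p)),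
      n₂ ∈ Subgroup.normalizer (U : Set G) → Pr n₁ A₁ → Pr n₂ A₂ → Pr (n₁ * n₂) (A₁ * A₂) := by
    intro n₁ n₂ A₁ A₂ hn₂ h₁ h₂ u h
    have hu₂ := hnorm hn₂ u
    have h3 : (⟨n₁ * n₂ * (u : G) * (n₁ * n₂)⁻¹, h⟩ : ↥U) =
        ⟨n₁ * ((⟨n₂ * (u : G) * n₂⁻¹, hu₂⟩ : ↥U) : G) * n₁⁻¹, by
          have : n₁ * (n₂ * (u : G) * n₂⁻¹) * n₁⁻¹ = n₁ * n₂ * (u : G) * (n₁ * n₂)⁻¹ := by group
          rw [this]; exact h⟩ := Subtype.ext (by simp only; group)
    rw [h3, h₁ ⟨n₂ * (u : G) * n₂⁻¹, hu₂⟩ _, h₂ u hu₂, Matrix.mulVec_mulVec]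
    rfl
  have hPr_uniq : ∀ (n : G) (A B : Matrix.SpecialLinearGroup (Fin 2) (ZMod p)),
      n ∈ Subgroup.normalizer (U : Set G) → Pr n A → Pr n B → A = B := by
    intro n A B hn hA' hB'
    apply sl2_eq_of_mulVec_eq
    intro w
    obtain ⟨u, hu⟩ := hc (Multiplicative.ofAdd w)
    have h1 := hA' u (hnorm hn u)
    have h2 := hB' u (hnorm hn u)
    rw [hu] at h1 h2
    exact h1.symm.trans h2
  have hPr_inv : ∀ (n : G) (A : Matrix.SpecialLinearGroup (Fin 2) (ZMod p)),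
      n ∈ Subgroup.normalizer (U : Set G) → Pr n A → Pr n⁻¹ A⁻¹ := by
    intro n A hn hA' u h
    have h1 := hA' ⟨n⁻¹ * (u : G) * n⁻¹⁻¹, h⟩ (by
      have : n * (n⁻¹ * (u : G) * n⁻¹⁻¹) * n⁻¹ = u := by group
      rw [this]; exact u.2)
    have h2 : (⟨n * ((⟨n⁻¹ * (u : G) * n⁻¹⁻¹, h⟩ : ↥U) : G) * n⁻¹, by
          have : n * (n⁻¹ * (u : G) * n⁻¹⁻¹) * n⁻¹ = u := by group
          rw [this]; exact u.2⟩ : ↥U) = u := Subtype.ext (by simp only; group)
    rw [h2] at h1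
    rw [h1, Matrix.mulVec_mulVec]
    have h3 : (A⁻¹ : Matrix.SpecialLinearGroup (Fin 2) (ZMod p)).1 * A.1 = 1 := by
      rw [← Matrix.SpecialLinearGroup.coe_mul, inv_mul_cancel, Matrix.SpecialLinearGroup.coe_one]
    rw [h3, Matrix.one_mulVec]
  let H : Subgroup G :=
    { carrier := {n | n ∈ Subgroup.normalizer (U : Set G) ∧ ∃ A, Pr n A}
      one_mem' := ⟨one_mem _, 1, hPr_one⟩
      mul_mem' := by
        rintro a b ⟨ha, A, hA'⟩ ⟨hb, B, hB'⟩
        exact ⟨mul_mem ha hb, A * B, hPr_mul a b A B hb hA' hB'⟩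
      inv_mem' := by
        rintro a ⟨ha, A, hA'⟩
        exact ⟨inv_mem ha, A⁻¹, hPr_inv a A ha hA'⟩ }
  have hHspec : ∀ k : ↥H, Pr (k : G) (Classical.choose k.2.2) := fun k => Classical.choose_spec k.2.2
  let φ : ↥H →* Matrix.SpecialLinearGroup (Fin 2) (ZMod p) :=
    { toFun := fun k => Classical.choose k.2.2
      map_one' := hPr_uniq 1 _ 1 (one_mem _) (hHspec 1) hPr_one
      map_mul' := fun a b => hPr_uniq ((a : G) * (b : G)) _ _ (mul_mem a.2.1 b.2.1) (hHspec (a * b))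
        (hPr_mul a b _ _ b.2.1 (hHspec a) (hHspec b)) }
  have hφ : Function.Surjective φ := by
    intro A
    obtain ⟨n, -, hnA⟩ := hA A
    have hn : n ∈ Subgroup.normalizer (U : Set G) :=
      mem_normalizer_of_conj_mem_of_finite (fun u hu => (hnA ⟨u, hu⟩).1)
    have hPrn : Pr n A := by
      intro u h
      obtain ⟨h', e⟩ := hnA u
      exact e
    exact ⟨⟨n, hn, A, hPrn⟩, hPr_uniq n _ _ hn (hHspec ⟨n, hn, A, hPrn⟩) hPrn⟩
  have hK : (φ.ker.map H.subtype).subgroupOf H = φ.ker := by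
    ext x
    rw [Subgroup.mem_subgroupOf]
    constructor
    · rintro ⟨y, hy, hxy⟩
      have : y = x := Subtype.ext hxy
      rwa [← this]
    · intro hx
      exact ⟨x, hx, rfl⟩
  have hKn : ((φ.ker.map H.subtype).subgroupOf H).Normal := by rw [hK]; infer_instance
  refine ⟨H, φ.ker.map H.subtype, hKn, ?_, Subgroup.map_subtype_le _, fun k hk => hk.1, ?_⟩
  · intro x hx
    have hxn : x ∈ Subgroup.normalizer (U : Set G) := Subgroup.centralizer_le_normalizer _ hx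
    have hPrx : Pr x 1 := by
      intro u h
      have h1 : (⟨x * (u : G) * x⁻¹, h⟩ : ↥U) = u := by
        apply Subtype.ext
        show x * (u : G) * x⁻¹ = u
        have := Subgroup.mem_centralizer_iff.mp hx (u : G) u.2
        rw [← this]; group
      rw [h1]
      simp
    refine ⟨⟨x, hxn, 1, hPrx⟩, ?_, rfl⟩
    exact MonoidHom.mem_ker.mpr (hPr_uniq x _ _ hxn (hHspec ⟨x, hxn, 1, hPrx⟩) hPrx)
  · exact ⟨(QuotientGroup.quotientMulEquivOfEq hK).trans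
      (QuotientGroup.quotientKerEquivOfSurjective φ hφ)⟩

end Cfsg.Agent.Lib.helper3
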