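import Mathlib
import Cfsg.Prelude.Def_Transfer
import Cfsg.Agent.Lib.helper3.ElemAb

/-!
# Extraspecial groups: symplectic bases and the isomorphism classification (helper3)

Setting: `ESData p z` says that `z` is a central element of order `p`, that every commutator is a
power of `z`, and that the centre is `⟨z⟩`.  Every extraspecial `p`-group has such a `z`
(`exists_esdata`).

* `ESData.comm_mul_left/right`, `comm_pow_left/right`, `comm_inv_left/right`: the commutator is
  bimultiplicative.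
* `stepSub C x y = C ⊓ C(x) ⊓ C(y)`; `ESData.step_decomp`, `step_unique`, `stepEquiv`, `step_card`:
  if `⁅x, y⁆ = z` then every `g ∈ C` is uniquely `x ^ a * y ^ b * c`, `a, b < p`, `c ∈ stepSub C x y`.
* `IsSymplBasis z x y`: `⁅x i, y i⁆ = z` and all other pairs commute.
* `ESData.exists_symplectic_basis`: a symplectic basis generating `E` modulo `⟨z⟩`,
  `|E| = p ^ (2 k + 1)`.
* `card_closure_le`, `mulEquiv_of_symplectic_basis`: two groups with symplectic bases of the same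
  length and the same `p`-th power data are isomorphic (graph argument in `E₁ × E₂`).
-/

set_option autoImplicit false
open scoped commutatorElement

namespace Cfsg.Agent.Lib.helper3

/-- `z` is central of order `p`, all commutators are powers of `z`, and the centre is `⟨z⟩`. -/
structure ESData (p : ℕ) {E : Type*} [Group E] (z : E) : Prop where
  central : ∀ g : E, g * z = z * g
  order : orderOf z = p
  comm : ∀ g h : E, ⁅g, h⁆ ∈ Subgroup.zpowers z
  center : ∀ g : E, (∀ h : E, g * h = h * g) → g ∈ Subgroup.zpowers z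

theorem exists_esdata {E : Type*} [Group E] {p : ℕ} [Fact p.Prime] (h : Cfsg.IsExtraspecial p E) :
    ∃ z : E, ESData p z := by
  obtain ⟨⟨_, _, hcomm⟩, hcard⟩ := h
  have hpP : p.Prime := Fact.out
  have : Finite (Subgroup.center E) :=
    Nat.finite_of_card_ne_zero (by rw [hcard]; exact hpP.ne_zero)
  have : Nontrivial (Subgroup.center E) :=
    Finite.one_lt_card_iff_nontrivial.mp (by rw [hcard]; exact hpP.one_lt)
  obtain ⟨z₀, hz₀⟩ : ∃ z₀ : Subgroup.center E, z₀ ≠ 1 := exists_ne 1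
  have key : ∀ g : E, g ∈ Subgroup.center E → g ∈ Subgroup.zpowers (z₀ : E) := by
    intro g hg
    have h2 : (⟨g, hg⟩ : Subgroup.center E) ∈ Subgroup.zpowers z₀ :=
      mem_zpowers_of_prime_card hcard hz₀
    obtain ⟨n, hn⟩ := Subgroup.mem_zpowers_iff.mp h2
    refine Subgroup.mem_zpowers_iff.mpr ⟨n, ?_⟩
    have := congrArg Subtype.val hn
    simpa using this
  refine ⟨(z₀ : E), ?_, ?_, ?_, ?_⟩
  · intro g
    exact Subgroup.mem_center_iff.mp z₀.2 g
  · rw [Subgroup.orderOf_coe]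
    exact orderOf_eq_prime (by rw [← hcard]; exact pow_card_eq_one') hz₀
  · intro g h
    apply key
    rw [← hcomm, commutator_def]
    exact Subgroup.commutator_mem_commutator (Subgroup.mem_top g) (Subgroup.mem_top h)
  · intro g hg
    apply key
    exact Subgroup.mem_center_iff.mpr (fun h => (hg h).symm)

namespace ESData

variable {E : Type*} [Group E] {p : ℕ} {z : E}

theorem zpowers_le_center (hz : ESData p z) : Subgroup.zpowers z ≤ Subgroup.center E := by
  rw [Subgroup.zpowers_le]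
  exact Subgroup.mem_center_iff.mpr hz.central

theorem comm_central (hz : ESData p z) (g h k : E) : ⁅g, h⁆ * k = k * ⁅g, h⁆ :=
  (Subgroup.mem_center_iff.mp (hz.zpowers_le_center (hz.comm g h)) k).symm

theorem comm_mul_left (hz : ESData p z) (g h u : E) : ⁅g * h, u⁆ = ⁅g, u⁆ * ⁅h, u⁆ := by
  have h1 := hz.comm_central h u (g⁻¹)
  have e : ⁅g * h, u⁆ = g * (⁅h, u⁆ * g⁻¹) * ⁅g, u⁆ := by
    simp only [commutatorElement_def]; group
  rw [e, h1, mul_inv_cancel_left, hz.comm_central h u]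

theorem comm_mul_right (hz : ESData p z) (u g h : E) : ⁅u, g * h⁆ = ⁅u, g⁆ * ⁅u, h⁆ := by
  rw [← commutatorElement_inv (g * h) u, hz.comm_mul_left, mul_inv_rev, commutatorElement_inv,
    commutatorElement_inv, hz.comm_central]

theorem comm_pow_left (hz : ESData p z) (g u : E) (n : ℕ) : ⁅g ^ n, u⁆ = ⁅g, u⁆ ^ n := by
  induction n with
  | zero => simp
  | succ n ih => rw [pow_succ, hz.comm_mul_left, ih, pow_succ]

theorem comm_pow_right (hz : ESData p z) (u g : E) (n : ℕ) : ⁅u, g ^ n⁆ = ⁅u, g⁆ ^ n := by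
  induction n with
  | zero => simp
  | succ n ih => rw [pow_succ, hz.comm_mul_right, ih, pow_succ]

theorem comm_inv_left (hz : ESData p z) (g u : E) : ⁅g⁻¹, u⁆ = ⁅g, u⁆⁻¹ := by
  have h := hz.comm_mul_left g g⁻¹ u
  rw [mul_inv_cancel, commutatorElement_one_left] at h
  exact eq_inv_of_mul_eq_one_right h.symm

theorem comm_inv_right (hz : ESData p z) (u g : E) : ⁅u, g⁻¹⁆ = ⁅u, g⁆⁻¹ := by
  have h := hz.comm_mul_right u g g⁻¹
  rw [mul_inv_cancel, commutatorElement_one_right] at h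
  exact eq_inv_of_mul_eq_one_right h.symm

theorem pow_p_eq_one (hz : ESData p z) : z ^ p = 1 := by
  rw [← hz.order]; exact pow_orderOf_eq_one z

theorem ne_one (hz : ESData p z) [Fact p.Prime] : z ≠ 1 := by
  intro h
  have hpP : p.Prime := Fact.out
  have := hz.order
  rw [h, orderOf_one] at this
  exact hpP.one_lt.ne this

theorem comm_pow_eq_one (hz : ESData p z) (g u : E) : ⁅g, u⁆ ^ p = 1 := by
  obtain ⟨n, hn⟩ := Subgroup.mem_zpowers_iff.mp (hz.comm g u)
  rw [← hn, ← zpow_natCast, ← zpow_mul, mul_comm, zpow_mul, zpow_natCast, hz.pow_p_eq_one,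
    one_zpow]

theorem pow_p_mem (hz : ESData p z) (g : E) : g ^ p ∈ Subgroup.zpowers z := by
  apply hz.center
  intro h
  have := hz.comm_pow_left g h p
  rw [hz.comm_pow_eq_one] at this
  exact commutatorElement_eq_one_iff_mul_comm.mp this

theorem exists_lt_pow_eq (hz : ESData p z) [Fact p.Prime] {w : E}
    (hw : w ∈ Subgroup.zpowers z) : ∃ a < p, z ^ a = w := by
  obtain ⟨n, hn⟩ := Subgroup.mem_zpowers_iff.mp hw
  have hpP : p.Prime := Fact.out
  have hp0 : (0 : ℤ) < p := by exact_mod_cast hpP.pos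
  have h1 := Int.emod_lt_of_pos n hp0
  have h2 := Int.emod_nonneg n hp0.ne'
  refine ⟨(n % (p : ℤ)).toNat, by omega, ?_⟩
  rw [← zpow_natCast, Int.toNat_of_nonneg h2, ← hn, ← hz.order]
  exact zpow_mod_orderOf z n

theorem pow_inj (hz : ESData p z) {a b : ℕ} (ha : a < p) (hb : b < p) (h : z ^ a = z ^ b) :
    a = b := by
  have := pow_injOn_Iio_orderOf (x := z)
  rw [hz.order] at this
  exact this ha hb h

end ESData

/-- The subgroup of `C` centralizing `x` and `y`. -/
def stepSub {E : Type*} [Group E] (C : Subgroup E) (x y : E) : Subgroup E :=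
  C ⊓ Subgroup.centralizer {x, y}

theorem mem_stepSub {E : Type*} [Group E] {C : Subgroup E} {x y g : E} :
    g ∈ stepSub C x y ↔ g ∈ C ∧ x * g = g * x ∧ y * g = g * y := by
  simp [stepSub, Subgroup.mem_centralizer_iff]

theorem stepSub_le {E : Type*} [Group E] (C : Subgroup E) (x y : E) : stepSub C x y ≤ C :=
  inf_le_left

namespace ESData

variable {E : Type*} [Group E] {p : ℕ} {z : E}

theorem comm_form_y (hz : ESData p z) {C : Subgroup E} {x y : E} (hxy : ⁅x, y⁆ = z) (a b : ℕ)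
    {c : E} (hc : c ∈ stepSub C x y) : ⁅x ^ a * y ^ b * c, y⁆ = z ^ a := by
  have hcy : ⁅c, y⁆ = 1 := commutatorElement_eq_one_iff_mul_comm.mpr (mem_stepSub.mp hc).2.2.symm
  rw [hz.comm_mul_left, hz.comm_mul_left, hz.comm_pow_left, hz.comm_pow_left, hxy, hcy,
    commutatorElement_self, one_pow, mul_one, mul_one]

theorem comm_form_x (hz : ESData p z) {C : Subgroup E} {x y : E} (hxy : ⁅x, y⁆ = z) (a b : ℕ)
    {c : E} (hc : c ∈ stepSub C x y) : ⁅x, x ^ a * y ^ b * c⁆ = z ^ b := by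
  have hcx : ⁅x, c⁆ = 1 := commutatorElement_eq_one_iff_mul_comm.mpr (mem_stepSub.mp hc).2.1
  rw [hz.comm_mul_right, hz.comm_mul_right, hz.comm_pow_right, hz.comm_pow_right, hxy, hcx,
    commutatorElement_self, one_pow, mul_one, one_mul]

theorem step_decomp (hz : ESData p z) [Fact p.Prime] {C : Subgroup E} {x y : E} (hx : x ∈ C)
    (hy : y ∈ C) (hxy : ⁅x, y⁆ = z) {g : E} (hg : g ∈ C) :
    ∃ a < p, ∃ b < p, ∃ c ∈ stepSub C x y, g = x ^ a * y ^ b * c := by
  obtain ⟨a, ha, hza⟩ := hz.exists_lt_pow_eq (hz.comm g y)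
  obtain ⟨b, hb, hzb⟩ := hz.exists_lt_pow_eq (hz.comm x g)
  refine ⟨a, ha, b, hb, (x ^ a * y ^ b)⁻¹ * g, ?_, by group⟩
  rw [mem_stepSub]
  refine ⟨C.mul_mem (C.inv_mem (C.mul_mem (C.pow_mem hx a) (C.pow_mem hy b))) hg, ?_, ?_⟩
  · apply commutatorElement_eq_one_iff_mul_comm.mp
    rw [hz.comm_mul_right, hz.comm_inv_right, hz.comm_mul_right, hz.comm_pow_right,
      hz.comm_pow_right, hxy, commutatorElement_self, one_pow, one_mul, ← hzb, inv_mul_cancel]
  · symm
    apply commutatorElement_eq_one_iff_mul_comm.mp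
    rw [hz.comm_mul_left, hz.comm_inv_left, hz.comm_mul_left, hz.comm_pow_left,
      hz.comm_pow_left, hxy, commutatorElement_self, one_pow, mul_one, ← hza, inv_mul_cancel]

theorem step_unique (hz : ESData p z) {C : Subgroup E} {x y : E} (hxy : ⁅x, y⁆ = z)
    {a a' b b' : ℕ} (ha : a < p) (ha' : a' < p) (hb : b < p) (hb' : b' < p) {c c' : E}
    (hc : c ∈ stepSub C x y) (hc' : c' ∈ stepSub C x y)
    (h : x ^ a * y ^ b * c = x ^ a' * y ^ b' * c') : a = a' ∧ b = b' ∧ c = c' := by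
  have h1 : z ^ a = z ^ a' := by
    rw [← hz.comm_form_y hxy a b hc, ← hz.comm_form_y hxy a' b' hc', h]
  have h2 : z ^ b = z ^ b' := by
    rw [← hz.comm_form_x hxy a b hc, ← hz.comm_form_x hxy a' b' hc', h]
  have e1 := hz.pow_inj ha ha' h1
  have e2 := hz.pow_inj hb hb' h2
  subst e1 e2
  exact ⟨rfl, rfl, mul_left_cancel h⟩

/-- The normal form bijection `(a, b, c) ↦ x ^ a * y ^ b * c`. -/
noncomputable def stepEquiv (hz : ESData p z) [Fact p.Prime] {C : Subgroup E} {x y : E}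
    (hx : x ∈ C) (hy : y ∈ C) (hxy : ⁅x, y⁆ = z) : Fin p × Fin p × stepSub C x y ≃ C :=
  Equiv.ofBijective
    (fun t => ⟨x ^ (t.1 : ℕ) * y ^ (t.2.1 : ℕ) * (t.2.2 : E),
      C.mul_mem (C.mul_mem (C.pow_mem hx _) (C.pow_mem hy _)) (stepSub_le C x y t.2.2.2)⟩)
    (by
      constructor
      · rintro ⟨a, b, c⟩ ⟨a', b', c'⟩ h
        have h' := congrArg Subtype.val h
        obtain ⟨e1, e2, e3⟩ := hz.step_unique hxy a.2 a'.2 b.2 b'.2 c.2 c'.2 h'
        have e1' : a = a' := Fin.ext e1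
        have e2' : b = b' := Fin.ext e2
        have e3' : c = c' := Subtype.ext e3
        rw [e1', e2', e3']
      · rintro ⟨g, hg⟩
        obtain ⟨a, ha, b, hb, c, hc, rfl⟩ := hz.step_decomp hx hy hxy hg
        exact ⟨(⟨a, ha⟩, ⟨b, hb⟩, ⟨c, hc⟩), rfl⟩)

theorem stepEquiv_apply (hz : ESData p z) [Fact p.Prime] {C : Subgroup E} {x y : E}
    (hx : x ∈ C) (hy : y ∈ C) (hxy : ⁅x, y⁆ = z) (t : Fin p × Fin p × stepSub C x y) :
    ((hz.stepEquiv hx hy hxy t : C) : E) = x ^ (t.1 : ℕ) * y ^ (t.2.1 : ℕ) * (t.2.2 : E) := rfl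

theorem step_card (hz : ESData p z) [Fact p.Prime] [Finite E] {C : Subgroup E} {x y : E}
    (hx : x ∈ C) (hy : y ∈ C) (hxy : ⁅x, y⁆ = z) :
    Nat.card C = p ^ 2 * Nat.card (stepSub C x y) := by
  rw [← Nat.card_congr (hz.stepEquiv hx hy hxy), Nat.card_prod, Nat.card_prod, Nat.card_fin]
  ring

end ESData

/-- `⁅x i, y i⁆ = z` and all other pairs among the `x i`, `y j` commute. -/
def IsSymplBasis {E : Type*} [Group E] (z : E) {k : ℕ} (x y : Fin k → E) : Prop :=
  (∀ i, ⁅x i, y i⁆ = z) ∧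
    ∀ i j, i ≠ j → x i * x j = x j * x i ∧ x i * y j = y j * x i ∧ y i * y j = y j * y i

theorem isSymplBasis_cons {E : Type*} [Group E] {z : E} {k : ℕ} {x y : Fin k → E}
    (h : IsSymplBasis z x y) {x₀ y₀ : E} (h0 : ⁅x₀, y₀⁆ = z)
    (hc : ∀ i, x₀ * x i = x i * x₀ ∧ x₀ * y i = y i * x₀ ∧ y₀ * x i = x i * y₀ ∧
      y₀ * y i = y i * y₀) :
    IsSymplBasis z (Fin.cons x₀ x : Fin (k + 1) → E) (Fin.cons y₀ y : Fin (k + 1) → E) := by
  refine ⟨fun i => ?_, fun i j hij => ?_⟩
  · refine Fin.cases ?_ (fun i => ?_) i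
    · simpa using h0
    · simpa using h.1 i
  · induction i using Fin.cases with
    | zero =>
      induction j using Fin.cases with
      | zero => exact absurd rfl hij
      | succ j =>
        simp only [Fin.cons_zero, Fin.cons_succ]
        exact ⟨(hc j).1, (hc j).2.1, (hc j).2.2.2⟩
    | succ i =>
      induction j using Fin.cases with
      | zero =>
        simp only [Fin.cons_zero, Fin.cons_succ]
        exact ⟨(hc i).1.symm, (hc i).2.2.1.symm, (hc i).2.2.2.symm⟩
      | succ j =>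
        simp only [Fin.cons_succ]
        exact h.2 i j (fun e => hij (by rw [e]))

/-- A symplectic basis of `C` modulo an abelian subgroup `A` centralizing it. -/
def BasisFor {E : Type*} [Group E] (p : ℕ) (z : E) (C : Subgroup E) (k : ℕ) (x y : Fin k → E)
    (A : Subgroup E) : Prop :=
  IsSymplBasis z x y ∧ (∀ i, x i ∈ C ∧ y i ∈ C) ∧ A ≤ C ∧ z ∈ A ∧
    (∀ a ∈ A, ∀ b ∈ A, a * b = b * a) ∧ (∀ a ∈ A, ∀ i, x i * a = a * x i ∧ y i * a = a * y i) ∧
    C = Subgroup.closure (Set.range x ∪ Set.range y) ⊔ A ∧ Nat.card C = p ^ (2 * k) * Nat.card A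

theorem basisFor_abelian {E : Type*} [Group E] (p : ℕ) {z : E} {C : Subgroup E} (hzC : z ∈ C)
    (hab : ∀ a ∈ C, ∀ b ∈ C, a * b = b * a) :
    BasisFor p z C 0 (Fin.elim0 : Fin 0 → E) (Fin.elim0 : Fin 0 → E) C := by
  refine ⟨⟨fun i => i.elim0, fun i => i.elim0⟩, fun i => i.elim0, le_rfl, hzC, hab,
    fun _ _ i => i.elim0, ?_, by simp⟩
  have : Set.range (Fin.elim0 : Fin 0 → E) = ∅ := Set.range_eq_empty _
  rw [this, Set.union_self, Subgroup.closure_empty, bot_sup_eq]

theorem ESData.basisFor_step {E : Type*} [Group E] {p : ℕ} {z : E} (hz : ESData p z)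
    [Fact p.Prime] [Finite E] {C : Subgroup E} {x y : E} (hx : x ∈ C) (hy : y ∈ C)
    (hxy : ⁅x, y⁆ = z) {k : ℕ} {x' y' : Fin k → E} {A : Subgroup E}
    (h : BasisFor p z (stepSub C x y) k x' y' A) :
    BasisFor p z C (k + 1) (Fin.cons x x' : Fin (k + 1) → E) (Fin.cons y y' : Fin (k + 1) → E)
      A := by
  obtain ⟨hb, hmem, hAC, hzA, hAab, hAc, hgen, hcard⟩ := h
  have hle := stepSub_le C x y
  refine ⟨isSymplBasis_cons hb hxy ?_, ?_, hAC.trans hle, hzA, hAab, ?_, ?_, ?_⟩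
  · intro i
    have h1 := mem_stepSub.mp (hmem i).1
    have h2 := mem_stepSub.mp (hmem i).2
    exact ⟨h1.2.1, h2.2.1, h1.2.2, h2.2.2⟩
  · intro i
    refine Fin.cases ?_ (fun i => ?_) i
    · simpa using ⟨hx, hy⟩
    · simpa using ⟨hle (hmem i).1, hle (hmem i).2⟩
  · intro a ha i
    refine Fin.cases ?_ (fun i => ?_) i
    · have h1 := mem_stepSub.mp (hAC ha)
      simpa using ⟨h1.2.1, h1.2.2⟩
    · simpa using hAc a ha i
  · have hxm : x ∈ Subgroup.closure (Set.range (Fin.cons x x' : Fin (k + 1) → E) ∪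
        Set.range (Fin.cons y y' : Fin (k + 1) → E)) :=
      Subgroup.subset_closure (Or.inl ⟨0, by simp⟩)
    have hym : y ∈ Subgroup.closure (Set.range (Fin.cons x x' : Fin (k + 1) → E) ∪
        Set.range (Fin.cons y y' : Fin (k + 1) → E)) :=
      Subgroup.subset_closure (Or.inr ⟨0, by simp⟩)
    have hsub : Subgroup.closure (Set.range x' ∪ Set.range y') ≤
        Subgroup.closure (Set.range (Fin.cons x x' : Fin (k + 1) → E) ∪
        Set.range (Fin.cons y y' : Fin (k + 1) → E)) := by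
      apply Subgroup.closure_mono
      rintro g (⟨i, rfl⟩ | ⟨i, rfl⟩)
      · exact Or.inl ⟨i.succ, by simp⟩
      · exact Or.inr ⟨i.succ, by simp⟩
    apply le_antisymm
    · intro g hg
      obtain ⟨a, _, b, _, c, hc, rfl⟩ := hz.step_decomp hx hy hxy hg
      rw [hgen] at hc
      refine Subgroup.mul_mem _ (Subgroup.mul_mem _ ?_ ?_) ?_
      · exact Subgroup.mem_sup_left (Subgroup.pow_mem _ hxm a)
      · exact Subgroup.mem_sup_left (Subgroup.pow_mem _ hym b)
      · exact (sup_le_sup_right hsub A) hc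
    · refine sup_le ?_ (hAC.trans hle)
      rw [Subgroup.closure_le]
      rintro g (⟨i, rfl⟩ | ⟨i, rfl⟩)
      · refine Fin.cases ?_ (fun i => ?_) i
        · simpa using hx
        · simpa using hle (hmem i).1
      · refine Fin.cases ?_ (fun i => ?_) i
        · simpa using hy
        · simpa using hle (hmem i).2
  · rw [hz.step_card hx hy hxy, hcard]
    ring

/-- In a non-abelian subgroup `C` there are `x, y ∈ C` with `⁅x, y⁆ = z`. -/
theorem ESData.exists_pair {E : Type*} [Group E] {p : ℕ} {z : E} (hz : ESData p z)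
    [Fact p.Prime] {C : Subgroup E} (hab : ¬ ∀ a ∈ C, ∀ b ∈ C, a * b = b * a) :
    ∃ x ∈ C, ∃ y ∈ C, ⁅x, y⁆ = z := by
  have hpP : p.Prime := Fact.out
  push Not at hab
  obtain ⟨x, hx, y', hy', hne⟩ := hab
  obtain ⟨a, ha, hza⟩ := hz.exists_lt_pow_eq (hz.comm x y')
  have ha0 : a ≠ 0 := by
    rintro rfl
    rw [pow_zero] at hza
    exact hne (commutatorElement_eq_one_iff_mul_comm.mp hza.symm)
  have hcop : Nat.Coprime a p := by
    rw [Nat.coprime_comm, Nat.Prime.coprime_iff_not_dvd hpP]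
    intro hd
    have := Nat.le_of_dvd (Nat.pos_of_ne_zero ha0) hd
    omega
  obtain ⟨b, -, hb⟩ := Nat.exists_mul_mod_eq_one_of_coprime hcop hpP.one_lt
  refine ⟨x, hx, y' ^ b, C.pow_mem hy' b, ?_⟩
  rw [hz.comm_pow_right, ← hza, ← pow_mul]
  conv_rhs => rw [← pow_one z]
  rw [pow_eq_pow_iff_modEq, hz.order]
  show a * b % p = 1 % p
  rw [hb, Nat.mod_eq_of_lt hpP.one_lt]

theorem ESData.stepSub_card_lt {E : Type*} [Group E] {p : ℕ} {z : E} (hz : ESData p z)
    [Fact p.Prime] [Finite E] {C : Subgroup E} {x y : E} (hx : x ∈ C) (hy : y ∈ C)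
    (hxy : ⁅x, y⁆ = z) : Nat.card (stepSub C x y) < Nat.card C := by
  have hpP : p.Prime := Fact.out
  rw [hz.step_card hx hy hxy]
  have h1 : 0 < Nat.card (stepSub C x y) := Nat.card_pos
  have h2 : 2 ≤ p ^ 2 := by nlinarith [hpP.two_le]
  nlinarith

theorem ESData.mem_stepSub_z {E : Type*} [Group E] {p : ℕ} {z : E} (hz : ESData p z)
    {C : Subgroup E} (hzC : z ∈ C) (x y : E) : z ∈ stepSub C x y :=
  mem_stepSub.mpr ⟨hzC, hz.central x, hz.central y⟩

theorem ESData.exists_basis_aux {E : Type*} [Group E] {p : ℕ} {z : E} (hz : ESData p z)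
    [Fact p.Prime] [Finite E] : ∀ (n : ℕ) (C : Subgroup E), Nat.card C ≤ n → z ∈ C →
      ∃ (k : ℕ) (x y : Fin k → E) (A : Subgroup E), BasisFor p z C k x y A := by
  intro n
  induction n with
  | zero =>
    intro C hC _
    have : 0 < Nat.card C := Nat.card_pos
    omega
  | succ n ih =>
    intro C hC hzC
    by_cases hab : ∀ a ∈ C, ∀ b ∈ C, a * b = b * a
    · exact ⟨0, _, _, C, basisFor_abelian p hzC hab⟩
    · obtain ⟨x, hx, y, hy, hxy⟩ := hz.exists_pair hab
      have hlt := hz.stepSub_card_lt hx hy hxy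
      obtain ⟨k, x', y', A, h⟩ := ih (stepSub C x y) (by omega) (hz.mem_stepSub_z hzC x y)
      exact ⟨k + 1, _, _, A, hz.basisFor_step hx hy hxy h⟩

/-- If `BasisFor p z ⊤ k x y A` then `A = ⟨z⟩`. -/
theorem ESData.basisFor_top {E : Type*} [Group E] {p : ℕ} {z : E} (hz : ESData p z)
    {k : ℕ} {x y : Fin k → E} {A : Subgroup E} (h : BasisFor p z ⊤ k x y A) :
    A = Subgroup.zpowers z := by
  obtain ⟨_, _, _, hzA, hAab, hAc, hgen, _⟩ := h
  apply le_antisymm
  · intro a ha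
    apply hz.center
    have h1 : (⊤ : Subgroup E) ≤ Subgroup.centralizer {a} := by
      rw [hgen]
      refine sup_le ?_ ?_
      · rw [Subgroup.closure_le]
        rintro g (⟨i, rfl⟩ | ⟨i, rfl⟩)
        · exact Subgroup.mem_centralizer_singleton_iff.mpr (hAc a ha i).1
        · exact Subgroup.mem_centralizer_singleton_iff.mpr (hAc a ha i).2
      · intro b hb
        exact Subgroup.mem_centralizer_singleton_iff.mpr (hAab b hb a ha)
    intro g
    exact (Subgroup.mem_centralizer_singleton_iff.mp (h1 (Subgroup.mem_top g))).symm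
  · rw [Subgroup.zpowers_le]
    exact hzA

/-- **Symplectic basis** of a group with `ESData`: `E = ⟨x i, y i⟩ ⟨z⟩`, `|E| = p ^ (2 k + 1)`. -/
theorem ESData.exists_symplectic_basis {E : Type*} [Group E] {p : ℕ} {z : E} (hz : ESData p z)
    [Fact p.Prime] [Finite E] : ∃ (k : ℕ) (x y : Fin k → E), IsSymplBasis z x y ∧
      Subgroup.closure (Set.range x ∪ Set.range y) ⊔ Subgroup.zpowers z = ⊤ ∧
      Nat.card E = p ^ (2 * k + 1) := by
  obtain ⟨k, x, y, A, h⟩ := hz.exists_basis_aux (Nat.card (⊤ : Subgroup E)) ⊤ le_rfl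
    (Subgroup.mem_top z)
  have hA := hz.basisFor_top h
  obtain ⟨hb, _, _, _, _, _, hgen, hcard⟩ := h
  refine ⟨k, x, y, hb, ?_, ?_⟩
  · rw [← hA, ← hgen]
  · rw [Subgroup.card_top, hA, Nat.card_zpowers, hz.order] at hcard
    rw [hcard, pow_succ]

section bound

variable {Γ : Type*} [Group Γ]

/-- In a finite group, `x * k * x⁻¹ ∈ K` for all `k ∈ K` puts `x` in the normalizer of `K`. -/
theorem mem_normalizer_of_conj_mem [Finite Γ] (K : Subgroup Γ) (x : Γ)
    (hconj : ∀ k ∈ K, x * k * x⁻¹ ∈ K) : x ∈ Subgroup.normalizer (K : Set Γ) := by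
  rw [Subgroup.mem_normalizer_iff]
  intro h
  refine ⟨hconj h, fun hh => ?_⟩
  have hinj : Function.Injective (fun k : K => (⟨x * k * x⁻¹, hconj k k.2⟩ : K)) := by
    intro a b hab
    have := congrArg Subtype.val hab
    simp only at this
    exact Subtype.ext (mul_left_cancel (mul_right_cancel this))
  obtain ⟨k, hk⟩ := Finite.surjective_of_injective hinj ⟨x * h * x⁻¹, hh⟩
  have := congrArg Subtype.val hk
  simp only at this
  have e : (k : Γ) = h := mul_left_cancel (mul_right_cancel this)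
  rw [← e]
  exact k.2

/-- Adjoining an element `x` normalizing `K` with `x ^ p ∈ K` multiplies the order by at most
`p`. -/
theorem card_sup_zpowers_le [Finite Γ] (K : Subgroup Γ) (x : Γ) {p : ℕ} (hp : 0 < p)
    (hconj : ∀ k ∈ K, x * k * x⁻¹ ∈ K) (hxp : x ^ p ∈ K) :
    Nat.card (K ⊔ Subgroup.zpowers x : Subgroup Γ) ≤ p * Nat.card K := by
  have hxN := mem_normalizer_of_conj_mem K x hconj
  have hn : ∀ (i : ℤ), ∀ k ∈ K, x ^ i * k * (x ^ i)⁻¹ ∈ K := by
    intro i k hk
    have hxi : x ^ i ∈ Subgroup.normalizer (K : Set Γ) := Subgroup.zpow_mem _ hxN i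
    exact (Subgroup.mem_normalizer_iff.mp hxi k).mp hk
  let S : Subgroup Γ :=
    { carrier := {g | ∃ i : ℤ, ∃ k ∈ K, g = x ^ i * k}
      one_mem' := ⟨0, 1, K.one_mem, by simp⟩
      mul_mem' := by
        rintro _ _ ⟨i, k, hk, rfl⟩ ⟨j, k', hk', rfl⟩
        refine ⟨i + j, (x ^ j)⁻¹ * k * x ^ j * k', K.mul_mem ?_ hk', ?_⟩
        · have := hn (-j) k hk
          rw [zpow_neg, inv_inv] at this
          exact this
        · rw [zpow_add]; group
      inv_mem' := by
        rintro _ ⟨i, k, hk, rfl⟩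
        refine ⟨-i, x ^ i * k⁻¹ * (x ^ i)⁻¹, hn i _ (K.inv_mem hk), ?_⟩
        rw [zpow_neg]; group }
  have hMS : K ⊔ Subgroup.zpowers x ≤ S := by
    refine sup_le ?_ ?_
    · intro k hk
      exact ⟨0, k, hk, by simp⟩
    · rw [Subgroup.zpowers_le]
      exact ⟨1, 1, K.one_mem, by simp⟩
  have hxM : ∀ r : ℕ, x ^ r ∈ K ⊔ Subgroup.zpowers x := fun r =>
    Subgroup.mem_sup_right (Subgroup.pow_mem _ (Subgroup.mem_zpowers x) r)
  let f : Fin p × K → (K ⊔ Subgroup.zpowers x : Subgroup Γ) := fun t =>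
    ⟨x ^ (t.1 : ℕ) * (t.2 : Γ), Subgroup.mul_mem _ (hxM _) (Subgroup.mem_sup_left t.2.2)⟩
  have hf : Function.Surjective f := by
    rintro ⟨g, hg⟩
    obtain ⟨i, k, hk, rfl⟩ := hMS hg
    have hp0 : (0 : ℤ) < p := by exact_mod_cast hp
    have h1 := Int.emod_lt_of_pos i hp0
    have h2 := Int.emod_nonneg i hp0.ne'
    have hk2 : (x ^ p) ^ (i / (p : ℤ)) * k ∈ K := K.mul_mem (K.zpow_mem hxp _) hk
    refine ⟨(⟨(i % (p : ℤ)).toNat, by omega⟩, ⟨_, hk2⟩), ?_⟩
    apply Subtype.ext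
    show x ^ (i % (p : ℤ)).toNat * ((x ^ p) ^ (i / (p : ℤ)) * k) = x ^ i * k
    rw [← mul_assoc, ← zpow_natCast x (i % (p : ℤ)).toNat, Int.toNat_of_nonneg h2,
      ← zpow_natCast x p, ← zpow_mul, ← zpow_add, Int.emod_add_mul_ediv]
  calc Nat.card (K ⊔ Subgroup.zpowers x : Subgroup Γ) ≤ Nat.card (Fin p × K) :=
        Nat.card_le_card_of_surjective f hf
    _ = p * Nat.card K := by rw [Nat.card_prod, Nat.card_fin]

/-- A group generated by `w` (central, `w ^ p = 1`) and a family `d` whose commutators and `p`-th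
powers lie in `⟨w⟩` has order at most `p ^ (|ι| + 1)`. -/
theorem card_closure_le [Finite Γ] {p : ℕ} (hp : 0 < p) {w : Γ} (hwc : ∀ g : Γ, g * w = w * g)
    (hwp : w ^ p = 1) {ι : Type*} [Finite ι] (d : ι → Γ)
    (hcomm : ∀ i j, ⁅d i, d j⁆ ∈ Subgroup.zpowers w) (hpow : ∀ i, d i ^ p ∈ Subgroup.zpowers w) :
    Nat.card (Subgroup.closure (Set.range d ∪ {w})) ≤ p ^ (Nat.card ι + 1) := by
  classical
  haveI := Fintype.ofFinite ι
  have key : ∀ s : Finset ι, Nat.card (Subgroup.closure (d '' (s : Set ι) ∪ {w})) ≤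
      p ^ (s.card + 1) := by
    intro s
    induction s using Finset.induction_on with
    | empty =>
      have : Subgroup.closure (d '' ((∅ : Finset ι) : Set ι) ∪ {w}) = Subgroup.zpowers w := by
        rw [Finset.coe_empty, Set.image_empty, Set.empty_union, Subgroup.zpowers_eq_closure]
      rw [this, Nat.card_zpowers, Finset.card_empty, zero_add, pow_one]
      exact Nat.le_of_dvd hp (orderOf_dvd_of_pow_eq_one hwp)
    | insert a s ha ih =>
      set K := Subgroup.closure (d '' (s : Set ι) ∪ {w}) with hK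
      have hwK : w ∈ K := Subgroup.subset_closure (Or.inr rfl)
      have hzK : Subgroup.zpowers w ≤ K := by rw [Subgroup.zpowers_le]; exact hwK
      have e : Subgroup.closure (d '' ((insert a s : Finset ι) : Set ι) ∪ {w}) =
          K ⊔ Subgroup.zpowers (d a) := by
        rw [Finset.coe_insert, Set.image_insert_eq, Set.insert_union, Set.insert_eq,
          Subgroup.closure_union, ← Subgroup.zpowers_eq_closure, sup_comm]
      have hconj : ∀ k ∈ K, d a * k * (d a)⁻¹ ∈ K := by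
        intro k hk
        induction hk using Subgroup.closure_induction with
        | mem g hg =>
          rcases hg with ⟨j, hj, rfl⟩ | hg
          · have e1 : d a * d j * (d a)⁻¹ = ⁅d a, d j⁆ * d j := by
              simp only [commutatorElement_def]; group
            rw [e1]
            exact K.mul_mem (hzK (hcomm a j)) (Subgroup.subset_closure (Or.inl ⟨j, hj, rfl⟩))
          · rw [Set.mem_singleton_iff] at hg
            rw [hg, hwc (d a), mul_inv_cancel_right]
            exact hwK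
        | one => simp
        | mul g h _ _ ihg ihh =>
          have e1 : d a * (g * h) * (d a)⁻¹ = (d a * g * (d a)⁻¹) * (d a * h * (d a)⁻¹) := by
            group
          rw [e1]
          exact K.mul_mem ihg ihh
        | inv g _ ihg =>
          have e1 : d a * g⁻¹ * (d a)⁻¹ = (d a * g * (d a)⁻¹)⁻¹ := by group
          rw [e1]
          exact K.inv_mem ihg
      rw [e, Finset.card_insert_of_notMem ha]
      calc Nat.card (K ⊔ Subgroup.zpowers (d a) : Subgroup Γ) ≤ p * Nat.card K :=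
            card_sup_zpowers_le K (d a) hp hconj (hzK (hpow a))
        _ ≤ p * p ^ (s.card + 1) := Nat.mul_le_mul_left p ih
        _ = p ^ (s.card + 1 + 1) := by rw [pow_succ (n := s.card + 1)]; ring
  have h := key Finset.univ
  rw [Finset.coe_univ, Set.image_univ, Finset.card_univ, ← Nat.card_eq_fintype_card] at h
  exact h

end bound

/-- The exponent of `z` in `⁅d i, d j⁆` for a symplectic basis `d = Sum.elim x y`. -/
def symN {k : ℕ} : Fin k ⊕ Fin k → Fin k ⊕ Fin k → ℤ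
  | Sum.inl i, Sum.inr j => if i = j then 1 else 0
  | Sum.inr i, Sum.inl j => if i = j then -1 else 0
  | _, _ => 0

theorem IsSymplBasis.comm_eq {E : Type*} [Group E] {z : E} {k : ℕ} {x y : Fin k → E}
    (h : IsSymplBasis z x y) (i j : Fin k ⊕ Fin k) :
    ⁅Sum.elim x y i, Sum.elim x y j⁆ = z ^ symN i j := by
  rcases i with i | i <;> rcases j with j | j
  · simp only [Sum.elim_inl, symN, zpow_zero]
    by_cases hij : i = j
    · rw [hij, commutatorElement_self]
    · exact commutatorElement_eq_one_iff_mul_comm.mpr (h.2 i j hij).1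
  · simp only [Sum.elim_inl, Sum.elim_inr, symN]
    by_cases hij : i = j
    · rw [if_pos hij, hij, zpow_one]; exact h.1 j
    · rw [if_neg hij, zpow_zero]
      exact commutatorElement_eq_one_iff_mul_comm.mpr (h.2 i j hij).2.1
  · simp only [Sum.elim_inl, Sum.elim_inr, symN]
    by_cases hij : i = j
    · rw [if_pos hij, hij, zpow_neg, zpow_one, ← h.1 j, commutatorElement_inv]
    · rw [if_neg hij, zpow_zero]
      exact commutatorElement_eq_one_iff_mul_comm.mpr
        (h.2 j i (fun e => hij e.symm)).2.1.symm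
  · simp only [Sum.elim_inr, symN, zpow_zero]
    by_cases hij : i = j
    · rw [hij, commutatorElement_self]
    · exact commutatorElement_eq_one_iff_mul_comm.mpr (h.2 i j hij).2.2

/-- **Isomorphism from matching symplectic bases.** Two finite groups of order `p ^ (2 k + 1)`
with symplectic bases of length `k` (w.r.t. central elements `z₁`, `z₂` of order dividing `p`)
generating them modulo `⟨z₁⟩`, `⟨z₂⟩`, and with the same `p`-th power data, are isomorphic. -/
theorem mulEquiv_of_symplectic_basis {E₁ E₂ : Type*} [Group E₁] [Group E₂] [Finite E₁]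
    [Finite E₂] {p : ℕ} (hp : 0 < p) {z₁ : E₁} {z₂ : E₂}
    (hc₁ : ∀ g : E₁, g * z₁ = z₁ * g) (hc₂ : ∀ g : E₂, g * z₂ = z₂ * g)
    (hz₁ : z₁ ^ p = 1) (hz₂ : z₂ ^ p = 1) {k : ℕ}
    {x₁ y₁ : Fin k → E₁} {x₂ y₂ : Fin k → E₂} (hb₁ : IsSymplBasis z₁ x₁ y₁)
    (hb₂ : IsSymplBasis z₂ x₂ y₂)
    (hg₁ : Subgroup.closure (Set.range x₁ ∪ Set.range y₁) ⊔ Subgroup.zpowers z₁ = ⊤)
    (hg₂ : Subgroup.closure (Set.range x₂ ∪ Set.range y₂) ⊔ Subgroup.zpowers z₂ = ⊤)
    (hcard₁ : Nat.card E₁ = p ^ (2 * k + 1)) (hcard₂ : Nat.card E₂ = p ^ (2 * k + 1))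
    (hpx : ∀ i, ∃ a : ℕ, x₁ i ^ p = z₁ ^ a ∧ x₂ i ^ p = z₂ ^ a)
    (hpy : ∀ i, ∃ a : ℕ, y₁ i ^ p = z₁ ^ a ∧ y₂ i ^ p = z₂ ^ a) : Nonempty (E₁ ≃* E₂) := by
  let w : E₁ × E₂ := (z₁, z₂)
  let d : Fin k ⊕ Fin k → E₁ × E₂ := fun i => (Sum.elim x₁ y₁ i, Sum.elim x₂ y₂ i)
  let D : Subgroup (E₁ × E₂) := Subgroup.closure (Set.range d ∪ {w})
  have hwc : ∀ g : E₁ × E₂, g * w = w * g := fun g => Prod.ext (hc₁ g.1) (hc₂ g.2)
  have hwp : w ^ p = 1 := Prod.ext hz₁ hz₂
  have hcomm : ∀ i j, ⁅d i, d j⁆ ∈ Subgroup.zpowers w := by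
    intro i j
    refine Subgroup.mem_zpowers_iff.mpr ⟨symN i j, ?_⟩
    apply Prod.ext
    · show z₁ ^ symN i j = ⁅Sum.elim x₁ y₁ i, Sum.elim x₁ y₁ j⁆
      exact (hb₁.comm_eq i j).symm
    · show z₂ ^ symN i j = ⁅Sum.elim x₂ y₂ i, Sum.elim x₂ y₂ j⁆
      exact (hb₂.comm_eq i j).symm
  have hpow : ∀ i, d i ^ p ∈ Subgroup.zpowers w := by
    intro i
    rcases i with i | i
    · obtain ⟨a, h1, h2⟩ := hpx i
      exact Subgroup.mem_zpowers_iff.mpr ⟨a, by
        rw [zpow_natCast]; exact Prod.ext h1.symm h2.symm⟩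
    · obtain ⟨a, h1, h2⟩ := hpy i
      exact Subgroup.mem_zpowers_iff.mpr ⟨a, by
        rw [zpow_natCast]; exact Prod.ext h1.symm h2.symm⟩
  have hD : Nat.card D ≤ p ^ (2 * k + 1) := by
    have := card_closure_le hp hwc hwp d hcomm hpow
    rw [Nat.card_sum, Nat.card_fin] at this
    have e : k + k + 1 = 2 * k + 1 := by ring
    rw [e] at this
    exact this
  have hdD : ∀ i, d i ∈ D := fun i => Subgroup.subset_closure (Or.inl ⟨i, rfl⟩)
  have hwD : w ∈ D := Subgroup.subset_closure (Or.inr rfl)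
  let φ₁ : D →* E₁ := (MonoidHom.fst E₁ E₂).comp D.subtype
  let φ₂ : D →* E₂ := (MonoidHom.snd E₁ E₂).comp D.subtype
  have hs₁ : Function.Surjective φ₁ := by
    rw [← MonoidHom.range_eq_top, eq_top_iff, ← hg₁]
    refine sup_le ?_ ?_
    · rw [Subgroup.closure_le]
      rintro g (⟨i, rfl⟩ | ⟨i, rfl⟩)
      · exact ⟨⟨d (Sum.inl i), hdD _⟩, rfl⟩
      · exact ⟨⟨d (Sum.inr i), hdD _⟩, rfl⟩
    · rw [Subgroup.zpowers_le]
      exact ⟨⟨w, hwD⟩, rfl⟩
  have hs₂ : Function.Surjective φ₂ := by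
    rw [← MonoidHom.range_eq_top, eq_top_iff, ← hg₂]
    refine sup_le ?_ ?_
    · rw [Subgroup.closure_le]
      rintro g (⟨i, rfl⟩ | ⟨i, rfl⟩)
      · exact ⟨⟨d (Sum.inl i), hdD _⟩, rfl⟩
      · exact ⟨⟨d (Sum.inr i), hdD _⟩, rfl⟩
    · rw [Subgroup.zpowers_le]
      exact ⟨⟨w, hwD⟩, rfl⟩
  have hbij₁ : Function.Bijective φ₁ :=
    hs₁.bijective_of_nat_card_le (by rw [hcard₁]; exact hD)
  have hbij₂ : Function.Bijective φ₂ :=
    hs₂.bijective_of_nat_card_le (by rw [hcard₂]; exact hD)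
  exact ⟨(MulEquiv.ofBijective φ₁ hbij₁).symm.trans (MulEquiv.ofBijective φ₂ hbij₂)⟩

end Cfsg.Agent.Lib.helper3
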