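import Mathlib
import Cfsg.Prelude.Def_Transfer
import Cfsg.Agent.Lib.helper3.Extraspecial

/-!
# Extraspecial 2-groups: the two types (helper3)

For `hz : ESData 2 z` on a finite group `E`:

* `ESData.exists_twoType`: there are `k` and `t : Bool` with `TwoType z k t`: a symplectic basis
  `x i, y i` (`i < k`) with `x i ^ 2 = y i ^ 2 = 1` for all `i` except possibly the last, where
  `x ^ 2 = y ^ 2 = z` exactly when `t = false`; `|E| = 2 ^ (2 k + 1)`; the number of solutions of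
  `g ^ 2 = 1` is `2 ^ (2 k) + 2 ^ k` (`t = true`) or `2 ^ (2 k) - 2 ^ k` (`t = false`); and an
  elementary abelian subgroup of order `2 ^ (k + 1)` resp. `2 ^ k`.
* `mulEquiv_of_twoType`: two groups with the same `k` and `t` are isomorphic.
-/

set_option autoImplicit false
open scoped commutatorElement

namespace Cfsg.Agent.Lib.helper3

namespace ESData

variable {E : Type*} [Group E] {z : E}

theorem two_cases (hz : ESData 2 z) {w : E} (hw : w ∈ Subgroup.zpowers z) : w = 1 ∨ w = z := by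
  obtain ⟨a, ha, rfl⟩ := hz.exists_lt_pow_eq hw
  interval_cases a
  · left; simp
  · right; simp

theorem z_sq (hz : ESData 2 z) : z ^ 2 = 1 := hz.pow_p_eq_one

theorem z_mul_self (hz : ESData 2 z) : z * z = 1 := by rw [← pow_two]; exact hz.z_sq

theorem comm_cases (hz : ESData 2 z) (g h : E) : ⁅g, h⁆ = 1 ∨ ⁅g, h⁆ = z :=
  hz.two_cases (hz.comm g h)

theorem sq_cases (hz : ESData 2 z) (g : E) : g ^ 2 = 1 ∨ g ^ 2 = z :=
  hz.two_cases (hz.pow_p_mem g)

theorem comm_symm (hz : ESData 2 z) (g h : E) : ⁅g, h⁆ = ⁅h, g⁆ := by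
  rw [← commutatorElement_inv g h]
  rcases hz.comm_cases g h with h1 | h1
  · rw [h1, inv_one]
  · rw [h1]; exact eq_inv_of_mul_eq_one_left hz.z_mul_self

theorem sq_mul (hz : ESData 2 z) (g h : E) : (g * h) ^ 2 = g ^ 2 * h ^ 2 * ⁅g, h⁆ := by
  have e : (g * h) ^ 2 = g * ⁅h, g⁆ * (g * h * h) := by
    simp only [commutatorElement_def, pow_two]; group
  have h1 := hz.comm_central h g g
  have h2 := hz.comm_central h g (g * (g * h * h))
  rw [e, ← h1, mul_assoc ⁅h, g⁆ g (g * h * h), h2, hz.comm_symm g h, pow_two, pow_two]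
  simp only [mul_assoc]

theorem sq_mul_of_comm {g h : E} (hc : g * h = h * g) : (g * h) ^ 2 = g ^ 2 * h ^ 2 :=
  (Commute.mul_pow hc 2)

end ESData

section sgn

variable {E : Type*} [Group E]

/-- `+1` on elements of square `1`, `-1` otherwise. -/
noncomputable def sgn (g : E) : ℤ := by
  classical exact if g ^ 2 = 1 then 1 else -1

theorem sgn_pos {g : E} (h : g ^ 2 = 1) : sgn g = 1 := by
  unfold sgn; exact if_pos h

theorem sgn_neg {g : E} (h : g ^ 2 ≠ 1) : sgn g = -1 := by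
  unfold sgn; exact if_neg h

theorem sgn_eq_of_sq_eq {g c : E} (h : g ^ 2 = c ^ 2) : sgn g = sgn c := by
  by_cases hc : c ^ 2 = 1
  · rw [sgn_pos hc, sgn_pos (h.trans hc)]
  · rw [sgn_neg hc, sgn_neg (fun h' => hc (h.symm.trans h'))]

theorem ESData.sgn_eq_neg {z : E} (hz : ESData 2 z) {g c : E} (h : g ^ 2 = z * c ^ 2) :
    sgn g = - sgn c := by
  rcases hz.sq_cases c with hc | hc
  · rw [sgn_pos hc, sgn_neg]
    rw [h, hc, mul_one]
    exact hz.ne_one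
  · rw [sgn_neg (g := c) (by rw [hc]; exact hz.ne_one),
      sgn_pos (g := g) (by rw [h, hc]; exact hz.z_mul_self)]
    simp

/-- The sum of `sgn` over a subgroup. -/
noncomputable def sgnSum (C : Subgroup E) : ℤ := ∑ᶠ g : C, sgn (g : E)

theorem sgnSum_eq (C : Subgroup E) [Fintype C] : sgnSum C = ∑ g : C, sgn (g : E) :=
  finsum_eq_sum_of_fintype _

theorem sgnSum_of_sq_one [Finite E] (C : Subgroup E) (h : ∀ g ∈ C, g ^ 2 = 1) :
    sgnSum C = Nat.card C := by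
  classical
  haveI : Fintype C := Fintype.ofFinite _
  have h1 : ∀ g : C, sgn (g : E) = 1 := fun g => sgn_pos (h g g.2)
  simp [sgnSum_eq, h1, Nat.card_eq_fintype_card]

theorem sgnSum_top [Finite E] :
    sgnSum (⊤ : Subgroup E) = 2 * (Nat.card {g : E // g ^ 2 = 1} : ℤ) - Nat.card E := by
  classical
  haveI : Fintype E := Fintype.ofFinite E
  haveI : Fintype (⊤ : Subgroup E) := Fintype.ofFinite _
  have h0 : ∑ g : (⊤ : Subgroup E), sgn (g : E) = ∑ g : E, sgn g :=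
    Fintype.sum_equiv Subgroup.topEquiv.toEquiv _ _ (fun g => rfl)
  rw [sgnSum_eq, h0, ← Finset.sum_filter_add_sum_filter_not Finset.univ (fun g : E => g ^ 2 = 1)]
  rw [Finset.sum_congr rfl (fun g hg => sgn_pos (Finset.mem_filter.mp hg).2),
    Finset.sum_congr rfl (fun g hg => sgn_neg (Finset.mem_filter.mp hg).2)]
  have h1 := Finset.card_filter_add_card_filter_not (s := (Finset.univ : Finset E))
    (fun g : E => g ^ 2 = 1)
  have h2 : Nat.card {g : E // g ^ 2 = 1} =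
      (Finset.univ.filter (fun g : E => g ^ 2 = 1)).card := by
    rw [Nat.card_eq_fintype_card, Fintype.card_subtype]
  rw [h2, Nat.card_eq_fintype_card, ← Finset.card_univ, ← h1]
  simp only [Finset.sum_const, nsmul_eq_mul, mul_one, mul_neg]
  push_cast
  ring

end sgn

section step

variable {E : Type*} [Group E] {z : E}

theorem ESData.sgnSum_step_aux (hz : ESData 2 z) [Finite E] {C : Subgroup E} {x y : E}
    (hx : x ∈ C) (hy : y ∈ C) (hxy : ⁅x, y⁆ = z) [Fintype (stepSub C x y)] :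
    sgnSum C = ∑ c : stepSub C x y,
      (sgn (c : E) + sgn (x * (c : E)) + (sgn (y * (c : E)) + sgn (x * y * (c : E)))) := by
  classical
  haveI : Fintype C := Fintype.ofFinite _
  rw [sgnSum_eq C, ← Equiv.sum_comp (hz.stepEquiv hx hy hxy)]
  simp only [Fintype.sum_prod_type, Fin.sum_univ_two, ESData.stepEquiv_apply, Fin.val_zero,
    Fin.val_one, pow_zero, pow_one, one_mul, mul_one, Finset.sum_add_distrib]

theorem sq_x_mul {C : Subgroup E} {x y c : E}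
    (hc : c ∈ stepSub C x y) : (x * c) ^ 2 = x ^ 2 * c ^ 2 :=
  ESData.sq_mul_of_comm (mem_stepSub.mp hc).2.1

theorem sq_y_mul {C : Subgroup E} {x y c : E}
    (hc : c ∈ stepSub C x y) : (y * c) ^ 2 = y ^ 2 * c ^ 2 :=
  ESData.sq_mul_of_comm (mem_stepSub.mp hc).2.2

theorem ESData.sq_xy_mul (hz : ESData 2 z) {C : Subgroup E} {x y c : E} (hxy : ⁅x, y⁆ = z)
    (hc : c ∈ stepSub C x y) : (x * y * c) ^ 2 = x ^ 2 * y ^ 2 * z * c ^ 2 := by
  have h1 := (mem_stepSub.mp hc).2.1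
  have h2 := (mem_stepSub.mp hc).2.2
  have hcomm : x * y * c = c * (x * y) := by
    rw [mul_assoc, h2, ← mul_assoc, h1, mul_assoc]
  rw [ESData.sq_mul_of_comm hcomm, hz.sq_mul, hxy]

theorem ESData.sgnSum_step_D (hz : ESData 2 z) [Finite E] {C : Subgroup E} {x y : E}
    (hx : x ∈ C) (hy : y ∈ C) (hxy : ⁅x, y⁆ = z) (hx2 : x ^ 2 = 1) (hy2 : y ^ 2 = 1) :
    sgnSum C = 2 * sgnSum (stepSub C x y) := by
  classical
  haveI : Fintype (stepSub C x y) := Fintype.ofFinite _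
  rw [hz.sgnSum_step_aux hx hy hxy, sgnSum_eq (stepSub C x y), Finset.mul_sum]
  refine Finset.sum_congr rfl (fun c _ => ?_)
  have e1 : sgn (y * (c : E)) = sgn (c : E) :=
    sgn_eq_of_sq_eq (by rw [sq_y_mul c.2, hy2, one_mul])
  have e2 : sgn (x * (c : E)) = sgn (c : E) :=
    sgn_eq_of_sq_eq (by rw [sq_x_mul c.2, hx2, one_mul])
  have e3 : sgn (x * y * (c : E)) = - sgn (c : E) :=
    hz.sgn_eq_neg (by rw [hz.sq_xy_mul hxy c.2, hx2, hy2, one_mul, one_mul])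
  rw [e1, e2, e3]
  ring

theorem ESData.sgnSum_step_Q (hz : ESData 2 z) [Finite E] {C : Subgroup E} {x y : E}
    (hx : x ∈ C) (hy : y ∈ C) (hxy : ⁅x, y⁆ = z) (hx2 : x ^ 2 = z) (hy2 : y ^ 2 = z) :
    sgnSum C = -(2 * sgnSum (stepSub C x y)) := by
  classical
  haveI : Fintype (stepSub C x y) := Fintype.ofFinite _
  rw [hz.sgnSum_step_aux hx hy hxy, sgnSum_eq (stepSub C x y), Finset.mul_sum,
    ← Finset.sum_neg_distrib]
  refine Finset.sum_congr rfl (fun c _ => ?_)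
  have e1 : sgn (y * (c : E)) = - sgn (c : E) :=
    hz.sgn_eq_neg (by rw [sq_y_mul c.2, hy2])
  have e2 : sgn (x * (c : E)) = - sgn (c : E) :=
    hz.sgn_eq_neg (by rw [sq_x_mul c.2, hx2])
  have e3 : sgn (x * y * (c : E)) = - sgn (c : E) :=
    hz.sgn_eq_neg (by rw [hz.sq_xy_mul hxy c.2, hx2, hy2, hz.z_mul_self, one_mul])
  rw [e1, e2, e3]
  ring

/-- If `C` has no pair `x, y` with `⁅x, y⁆ = z`, `x ^ 2 = y ^ 2 = 1`, then every pair with
`⁅x, y⁆ = z` in `C` has `x ^ 2 = y ^ 2 = z`. -/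
theorem ESData.sq_eq_of_no_dpair (hz : ESData 2 z) {C : Subgroup E}
    (hD : ¬ ∃ x ∈ C, ∃ y ∈ C, ⁅x, y⁆ = z ∧ x ^ 2 = 1 ∧ y ^ 2 = 1) {x y : E} (hx : x ∈ C)
    (hy : y ∈ C) (hxy : ⁅x, y⁆ = z) : x ^ 2 = z ∧ y ^ 2 = z := by
  have hxy2 : ∀ (u v : E), u ^ 2 = 1 → v ^ 2 = z → ⁅u, v⁆ = z → (u * v) ^ 2 = 1 := by
    intro u v hu hv huv
    rw [hz.sq_mul, hu, hv, huv, one_mul, hz.z_mul_self]
  have hx2 : x ^ 2 = z := by
    rcases hz.sq_cases x with h1 | h1
    · exfalso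
      rcases hz.sq_cases y with h2 | h2
      · exact hD ⟨x, hx, y, hy, hxy, h1, h2⟩
      · refine hD ⟨x, hx, x * y, C.mul_mem hx hy, ?_, h1, hxy2 x y h1 h2 hxy⟩
        rw [hz.comm_mul_right, commutatorElement_self, one_mul, hxy]
    · exact h1
  refine ⟨hx2, ?_⟩
  rcases hz.sq_cases y with h2 | h2
  · exfalso
    refine hD ⟨x * y, C.mul_mem hx hy, y, hy, ?_, ?_, h2⟩
    · rw [hz.comm_mul_left, commutatorElement_self, mul_one, hxy]
    · rw [hz.sq_mul, hx2, h2, hxy, mul_one, hz.z_mul_self]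
  · exact h2

/-- If `C` has no such pair, then `stepSub C x y` is abelian for every `x, y ∈ C` with
`⁅x, y⁆ = z`. -/
theorem ESData.stepSub_abelian_of_no_dpair (hz : ESData 2 z) {C : Subgroup E}
    (hD : ¬ ∃ x ∈ C, ∃ y ∈ C, ⁅x, y⁆ = z ∧ x ^ 2 = 1 ∧ y ^ 2 = 1) {x y : E} (hx : x ∈ C)
    (hy : y ∈ C) (hxy : ⁅x, y⁆ = z) : ∀ a ∈ stepSub C x y, ∀ b ∈ stepSub C x y, a * b = b * a := by
  by_contra hab
  obtain ⟨x₂, hx₂, y₂, hy₂, hxy₂⟩ := hz.exists_pair hab
  have hle := stepSub_le C x y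
  obtain ⟨h1, h2⟩ := hz.sq_eq_of_no_dpair hD hx hy hxy
  obtain ⟨h3, _⟩ := hz.sq_eq_of_no_dpair hD (hle hx₂) (hle hy₂) hxy₂
  have hc1 := (mem_stepSub.mp hx₂).2.1
  have hc2 := (mem_stepSub.mp hx₂).2.2
  refine hD ⟨x * x₂, C.mul_mem hx (hle hx₂), y * x₂, C.mul_mem hy (hle hx₂), ?_, ?_, ?_⟩
  · have e1 : ⁅x, x₂⁆ = 1 := commutatorElement_eq_one_iff_mul_comm.mpr hc1
    have e2 : ⁅x₂, y⁆ = 1 := commutatorElement_eq_one_iff_mul_comm.mpr hc2.symm
    rw [hz.comm_mul_left, hz.comm_mul_right, hz.comm_mul_right, hxy, e1, e2,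
      commutatorElement_self, mul_one, mul_one, mul_one]
  · rw [ESData.sq_mul_of_comm hc1, h1, h3, hz.z_mul_self]
  · rw [ESData.sq_mul_of_comm hc2, h2, h3, hz.z_mul_self]

end step

section two

variable {E : Type*} [Group E] {z : E}

/-- Extra data carried along the recursion for `p = 2`. -/
def TwoData (z : E) (C : Subgroup E) (k : ℕ) (x y : Fin k → E) (A : Subgroup E) (e : E) : Prop :=
  (∀ i : Fin k, ((i : ℕ) + 1 = k → x i ^ 2 = e ∧ y i ^ 2 = e) ∧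
      ((i : ℕ) + 1 ≠ k → x i ^ 2 = 1 ∧ y i ^ 2 = 1)) ∧
  ((e = 1 ∧ sgnSum C = 2 ^ k * sgnSum A ∧
      ∃ B : Subgroup E, B ≤ C ∧ Cfsg.IsElementaryAbelian 2 B ∧ Nat.card B = 2 ^ (k + 1)) ∨
   (e = z ∧ 0 < k ∧ sgnSum C = -(2 ^ k * sgnSum A) ∧
      ∃ B : Subgroup E, B ≤ C ∧ Cfsg.IsElementaryAbelian 2 B ∧ Nat.card B = 2 ^ k))

theorem ESData.isElementaryAbelian_zpowers (hz : ESData 2 z) :
    Cfsg.IsElementaryAbelian 2 (Subgroup.zpowers z) := by
  rw [Subgroup.zpowers_eq_closure]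
  apply isElementaryAbelian_closure
  · intro s hs t ht
    rw [Set.mem_singleton_iff] at hs ht
    rw [hs, ht]
  · intro s hs
    rw [Set.mem_singleton_iff] at hs
    rw [hs]
    exact hz.z_sq

theorem ESData.card_zpowers (hz : ESData 2 z) : Nat.card (Subgroup.zpowers z) = 2 := by
  rw [Nat.card_zpowers, hz.order]

theorem ESData.twoData_abelian (hz : ESData 2 z) {C : Subgroup E} (hzC : z ∈ C) :
    TwoData z C 0 (Fin.elim0 : Fin 0 → E) (Fin.elim0 : Fin 0 → E) C 1 := by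
  refine ⟨fun i => i.elim0, Or.inl ⟨rfl, by simp, Subgroup.zpowers z, ?_,
    hz.isElementaryAbelian_zpowers, ?_⟩⟩
  · rw [Subgroup.zpowers_le]; exact hzC
  · rw [hz.card_zpowers]; norm_num

theorem ESData.twoData_step_D (hz : ESData 2 z) [Finite E] {C : Subgroup E} {x y : E}
    (hx : x ∈ C) (hy : y ∈ C) (hxy : ⁅x, y⁆ = z) (hx2 : x ^ 2 = 1) (hy2 : y ^ 2 = 1) {k : ℕ}
    {x' y' : Fin k → E} {A : Subgroup E} {e : E}
    (h : TwoData z (stepSub C x y) k x' y' A e) :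
    TwoData z C (k + 1) (Fin.cons x x' : Fin (k + 1) → E) (Fin.cons y y' : Fin (k + 1) → E)
      A e := by
  obtain ⟨hsq, hdis⟩ := h
  have hle := stepSub_le C x y
  have hxn : x ∉ stepSub C x y := fun hx' => by
    have h0 := (mem_stepSub.mp hx').2.2
    have h1 : ⁅x, y⁆ = 1 := commutatorElement_eq_one_iff_mul_comm.mpr h0.symm
    rw [hxy] at h1
    exact hz.ne_one h1
  have hB : ∀ B : Subgroup E, B ≤ stepSub C x y → Cfsg.IsElementaryAbelian 2 B →
      (B ⊔ Subgroup.zpowers x ≤ C ∧ Cfsg.IsElementaryAbelian 2 (B ⊔ Subgroup.zpowers x) ∧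
        Nat.card (B ⊔ Subgroup.zpowers x : Subgroup E) = Nat.card B * 2) := by
    intro B hBle hBe
    have hcomm : ∀ b ∈ B, x * b = b * x := fun b hb => (mem_stepSub.mp (hBle hb)).2.1
    exact ⟨sup_le (hBle.trans hle) (by rw [Subgroup.zpowers_le]; exact hx),
      isElementaryAbelian_sup_zpowers 2 B hBe x hx2 hcomm,
      card_sup_zpowers B x (fun h => hxn (hBle h)) hx2 hcomm⟩
  refine ⟨?_, ?_⟩
  · intro i
    refine Fin.cases ?_ (fun j => ?_) i
    · simp only [Fin.val_zero, Fin.cons_zero]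
      refine ⟨fun hk => ?_, fun _ => ⟨hx2, hy2⟩⟩
      rcases hdis with ⟨he, _⟩ | ⟨_, hpos, _⟩
      · rw [he]; exact ⟨hx2, hy2⟩
      · omega
    · simp only [Fin.val_succ, Fin.cons_succ]
      exact ⟨fun hk => (hsq j).1 (by omega), fun hk => (hsq j).2 (by omega)⟩
  · rcases hdis with ⟨he, hs, B, hBle, hBe, hBc⟩ | ⟨he, hpos, hs, B, hBle, hBe, hBc⟩
    · left
      obtain ⟨h1, h2, h3⟩ := hB B hBle hBe
      refine ⟨he, ?_, B ⊔ Subgroup.zpowers x, h1, h2, ?_⟩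
      · rw [hz.sgnSum_step_D hx hy hxy hx2 hy2, hs]; ring
      · rw [h3, hBc]; ring
    · right
      obtain ⟨h1, h2, h3⟩ := hB B hBle hBe
      refine ⟨he, Nat.succ_pos k, ?_, B ⊔ Subgroup.zpowers x, h1, h2, ?_⟩
      · rw [hz.sgnSum_step_D hx hy hxy hx2 hy2, hs]; ring
      · rw [h3, hBc]; ring

theorem ESData.twoData_step_Q (hz : ESData 2 z) [Finite E] {C : Subgroup E}
    (hD : ¬ ∃ x ∈ C, ∃ y ∈ C, ⁅x, y⁆ = z ∧ x ^ 2 = 1 ∧ y ^ 2 = 1) (hzC : z ∈ C) {x y : E}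
    (hx : x ∈ C) (hy : y ∈ C) (hxy : ⁅x, y⁆ = z) :
    TwoData z C 1 (Fin.cons x (Fin.elim0 : Fin 0 → E) : Fin 1 → E)
      (Fin.cons y (Fin.elim0 : Fin 0 → E) : Fin 1 → E) (stepSub C x y) z := by
  obtain ⟨hx2, hy2⟩ := hz.sq_eq_of_no_dpair hD hx hy hxy
  refine ⟨?_, Or.inr ⟨rfl, Nat.one_pos, ?_, Subgroup.zpowers z, ?_,
    hz.isElementaryAbelian_zpowers, ?_⟩⟩
  · intro i
    refine Fin.cases ?_ (fun j => j.elim0) i
    simp only [Fin.val_zero, Fin.cons_zero]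
    exact ⟨fun _ => ⟨hx2, hy2⟩, fun h => absurd rfl h⟩
  · rw [hz.sgnSum_step_Q hx hy hxy hx2 hy2, pow_one]
  · rw [Subgroup.zpowers_le]; exact hzC
  · rw [hz.card_zpowers, pow_one]

theorem ESData.exists_basis_two_aux (hz : ESData 2 z) [Finite E] :
    ∀ (n : ℕ) (C : Subgroup E), Nat.card C ≤ n → z ∈ C →
      ∃ (k : ℕ) (x y : Fin k → E) (A : Subgroup E) (e : E),
        BasisFor 2 z C k x y A ∧ TwoData z C k x y A e := by
  intro n
  induction n with
  | zero =>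
    intro C hC _
    have : 0 < Nat.card C := Nat.card_pos
    omega
  | succ n ih =>
    intro C hC hzC
    by_cases hab : ∀ a ∈ C, ∀ b ∈ C, a * b = b * a
    · exact ⟨0, _, _, C, 1, basisFor_abelian 2 hzC hab, hz.twoData_abelian hzC⟩
    · by_cases hD : ∃ x ∈ C, ∃ y ∈ C, ⁅x, y⁆ = z ∧ x ^ 2 = 1 ∧ y ^ 2 = 1
      · obtain ⟨x, hx, y, hy, hxy, hx2, hy2⟩ := hD
        have hlt := hz.stepSub_card_lt hx hy hxy
        obtain ⟨k, x', y', A, e, h1, h2⟩ :=
          ih (stepSub C x y) (by omega) (hz.mem_stepSub_z hzC x y)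
        exact ⟨k + 1, _, _, A, e, hz.basisFor_step hx hy hxy h1,
          hz.twoData_step_D hx hy hxy hx2 hy2 h2⟩
      · obtain ⟨x, hx, y, hy, hxy⟩ := hz.exists_pair hab
        have habC := hz.stepSub_abelian_of_no_dpair hD hx hy hxy
        exact ⟨1, _, _, stepSub C x y, z,
          hz.basisFor_step hx hy hxy (basisFor_abelian 2 (hz.mem_stepSub_z hzC x y) habC),
          hz.twoData_step_Q hD hzC hx hy hxy⟩

/-- The type `(k, t)` of a finite group with `ESData 2 z`: a symplectic basis of length `k` all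
of whose members are involutions, except that the last pair consists of elements of square `z`
when `t = false`; together with the order, the number of solutions of `g ^ 2 = 1` and an
elementary abelian subgroup of the largest possible order. -/
def TwoType (z : E) (k : ℕ) (t : Bool) : Prop :=
  ∃ (x y : Fin k → E) (e : E), IsSymplBasis z x y ∧
    Subgroup.closure (Set.range x ∪ Set.range y) ⊔ Subgroup.zpowers z = ⊤ ∧
    Nat.card E = 2 ^ (2 * k + 1) ∧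
    (∀ i : Fin k, ((i : ℕ) + 1 = k → x i ^ 2 = e ∧ y i ^ 2 = e) ∧
      ((i : ℕ) + 1 ≠ k → x i ^ 2 = 1 ∧ y i ^ 2 = 1)) ∧
    (t = true → e = 1 ∧ Nat.card {g : E // g ^ 2 = 1} = 2 ^ (2 * k) + 2 ^ k ∧
      ∃ B : Subgroup E, Cfsg.IsElementaryAbelian 2 B ∧ Nat.card B = 2 ^ (k + 1)) ∧
    (t = false → e = z ∧ 0 < k ∧ Nat.card {g : E // g ^ 2 = 1} + 2 ^ k = 2 ^ (2 * k) ∧
      ∃ B : Subgroup E, Cfsg.IsElementaryAbelian 2 B ∧ Nat.card B = 2 ^ k)

theorem ESData.exists_twoType (hz : ESData 2 z) [Finite E] :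
    ∃ (k : ℕ) (t : Bool), TwoType z k t := by
  obtain ⟨k, x, y, A, e, hB, hsq, hdis⟩ :=
    hz.exists_basis_two_aux (Nat.card (⊤ : Subgroup E)) ⊤ le_rfl (Subgroup.mem_top z)
  have hA := hz.basisFor_top hB
  obtain ⟨hb, _, _, _, _, _, hgen, hcard⟩ := hB
  have hcardE : Nat.card E = 2 ^ (2 * k + 1) := by
    rw [Subgroup.card_top, hA, hz.card_zpowers] at hcard
    rw [hcard, pow_succ]
  have hgen' : Subgroup.closure (Set.range x ∪ Set.range y) ⊔ Subgroup.zpowers z = ⊤ := by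
    rw [← hA, ← hgen]
  have hSA : sgnSum A = 2 := by
    rw [hA, sgnSum_of_sq_one, hz.card_zpowers]
    · norm_num
    · intro g hg
      rcases hz.two_cases hg with h | h
      · rw [h, one_pow]
      · rw [h]; exact hz.z_sq
  have htop := sgnSum_top (E := E)
  rw [hcardE] at htop
  push_cast at htop
  rw [pow_succ] at htop
  rcases hdis with ⟨he, hs, B, _, hBe, hBc⟩ | ⟨he, hpos, hs, B, _, hBe, hBc⟩
  · refine ⟨k, true, x, y, e, hb, hgen', hcardE, hsq, fun _ => ⟨he, ?_, B, hBe, hBc⟩,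
      fun h => absurd h (by simp)⟩
    rw [hs, hSA] at htop
    have : ((Nat.card {g : E // g ^ 2 = 1} : ℕ) : ℤ) = 2 ^ (2 * k) + 2 ^ k := by linarith
    exact_mod_cast this
  · refine ⟨k, false, x, y, e, hb, hgen', hcardE, hsq, fun h => absurd h (by simp),
      fun _ => ⟨he, hpos, ?_, B, hBe, hBc⟩⟩
    rw [hs, hSA] at htop
    have : ((Nat.card {g : E // g ^ 2 = 1} : ℕ) : ℤ) + 2 ^ k = 2 ^ (2 * k) := by linarith
    exact_mod_cast this

/-- Two finite groups with `ESData 2` of the same type are isomorphic. -/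
theorem mulEquiv_of_twoType {E₁ E₂ : Type*} [Group E₁] [Group E₂] [Finite E₁] [Finite E₂]
    {z₁ : E₁} {z₂ : E₂} (hz₁ : ESData 2 z₁) (hz₂ : ESData 2 z₂) {k : ℕ} {t : Bool}
    (h₁ : TwoType z₁ k t) (h₂ : TwoType z₂ k t) : Nonempty (E₁ ≃* E₂) := by
  obtain ⟨x₁, y₁, e₁, hb₁, hg₁, hc₁, hsq₁, ht₁, hf₁⟩ := h₁
  obtain ⟨x₂, y₂, e₂, hb₂, hg₂, hc₂, hsq₂, ht₂, hf₂⟩ := h₂
  obtain ⟨a, ha₁, ha₂⟩ : ∃ a : ℕ, e₁ = z₁ ^ a ∧ e₂ = z₂ ^ a := by
    cases t with
    | true => exact ⟨0, by rw [(ht₁ rfl).1, pow_zero], by rw [(ht₂ rfl).1, pow_zero]⟩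
    | false => exact ⟨1, by rw [(hf₁ rfl).1, pow_one], by rw [(hf₂ rfl).1, pow_one]⟩
  refine mulEquiv_of_symplectic_basis (by norm_num) hz₁.central hz₂.central hz₁.z_sq hz₂.z_sq
    hb₁ hb₂ hg₁ hg₂ hc₁ hc₂ (fun i => ?_) (fun i => ?_)
  · by_cases hi : (i : ℕ) + 1 = k
    · exact ⟨a, by rw [((hsq₁ i).1 hi).1, ha₁], by rw [((hsq₂ i).1 hi).1, ha₂]⟩
    · exact ⟨0, by rw [((hsq₁ i).2 hi).1, pow_zero], by rw [((hsq₂ i).2 hi).1, pow_zero]⟩
  · by_cases hi : (i : ℕ) + 1 = k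
    · exact ⟨a, by rw [((hsq₁ i).1 hi).2, ha₁], by rw [((hsq₂ i).1 hi).2, ha₂]⟩
    · exact ⟨0, by rw [((hsq₁ i).2 hi).2, pow_zero], by rw [((hsq₂ i).2 hi).2, pow_zero]⟩

theorem TwoType.card_eq {z : E} {k : ℕ} {t : Bool} (h : TwoType z k t) :
    Nat.card E = 2 ^ (2 * k + 1) := by
  obtain ⟨_, _, _, _, _, hc, _⟩ := h
  exact hc

theorem TwoType.pos [Finite E] {z : E} {k : ℕ} {t : Bool} (hE : Cfsg.IsExtraspecial 2 E)
    (h : TwoType z k t) : 0 < k := by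
  by_contra hk
  have hk0 : k = 0 := by omega
  have hc := h.card_eq
  rw [hk0] at hc
  obtain ⟨⟨_, _, hcomm⟩, hcard⟩ := hE
  have htop : Subgroup.center E = ⊤ :=
    Subgroup.eq_top_of_card_eq _ (by rw [hcard, hc]; norm_num)
  have hbot : commutator E = ⊥ := (commutator_eq_bot_iff_center_eq_top E).mpr htop
  rw [hcomm, htop] at hbot
  have h1 : Nat.card (⊤ : Subgroup E) = 1 := by rw [hbot]; exact Subgroup.card_bot
  rw [Subgroup.card_top, hc] at h1
  norm_num at h1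

end two

end Cfsg.Agent.Lib.helper3
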