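import Mathlib
import Cfsg.Prelude.Def_Transfer
import Cfsg.Prelude.Def_CaseTheorems
import Cfsg.Agent.Lib.helper3.Extraspecial2
import Cfsg.Agent.Lib.helper36.Extraspecial

/-!
# Extraspecial 2-groups: 2-rank of the two types (helper3)

* `ESData.card_abelian_sq_le`: an abelian subgroup `A` has `|A|² ≤ 2 |E|`.
* `ESData.sgnSum_top_of_selfCentralizing`: if `A` is elementary abelian with `C_E(A) ≤ A` then
  `#{g | g² = 1} - #{g | g² ≠ 1} = |A|`.
* `prank_of_twoType_true`, `prank_of_twoType_false`: the largest elementary abelian subgroups of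
  a group of type `(k, true)` have order `2 ^ (k + 1)`, those of type `(k, false)` order `2 ^ k`.
-/

set_option autoImplicit false
open scoped commutatorElement

namespace Cfsg.Agent.Lib.helper3

section rank

variable {E : Type*} [Group E] [Finite E] {z : E}

theorem ESData.card_centralizer_mul_card_le (hz : ESData 2 z) (W : Subgroup E) :
    Nat.card (Subgroup.centralizer (W : Set E)) * Nat.card W ≤ 2 * Nat.card E := by
  have hcenter : Subgroup.center E = Subgroup.zpowers z :=
    le_antisymm (fun g hg => hz.center g (fun h => (Subgroup.mem_center_iff.mp hg h).symm))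
      hz.zpowers_le_center
  refine Cfsg.Agent.Lib.helper36.card_centralizer_mul_card_le ?_ ?_ (Nat.card E) W
    (Nat.sub_le _ _)
  · rw [hcenter, hz.card_zpowers]
  · intro g h
    exact hz.zpowers_le_center (hz.comm g h)

omit [Finite E] in
theorem le_centralizer_of_abelian (A : Subgroup E) (hA : ∀ a ∈ A, ∀ b ∈ A, a * b = b * a) :
    A ≤ Subgroup.centralizer (A : Set E) :=
  fun a ha => Subgroup.mem_centralizer_iff.mpr (fun b hb => hA b hb a ha)

theorem ESData.card_abelian_sq_le (hz : ESData 2 z) (A : Subgroup E)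
    (hA : ∀ a ∈ A, ∀ b ∈ A, a * b = b * a) : Nat.card A * Nat.card A ≤ 2 * Nat.card E :=
  calc Nat.card A * Nat.card A ≤ Nat.card (Subgroup.centralizer (A : Set E)) * Nat.card A :=
        Nat.mul_le_mul_right _ (Subgroup.card_le_of_le (le_centralizer_of_abelian A hA))
    _ ≤ 2 * Nat.card E := hz.card_centralizer_mul_card_le A

theorem ESData.sgnSum_top_of_selfCentralizing (hz : ESData 2 z) (A : Subgroup E)
    (hA2 : ∀ a ∈ A, a ^ 2 = 1) (hAab : ∀ a ∈ A, ∀ b ∈ A, a * b = b * a)
    (hC : Subgroup.centralizer (A : Set E) ≤ A) : sgnSum (⊤ : Subgroup E) = Nat.card A := by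
  classical
  haveI : Fintype E := Fintype.ofFinite E
  haveI : Fintype A := Fintype.ofFinite A
  haveI : Fintype (⊤ : Subgroup E) := Fintype.ofFinite _
  have h0 : sgnSum (⊤ : Subgroup E) = ∑ g : E, sgn g := by
    rw [sgnSum_eq]
    exact Fintype.sum_equiv Subgroup.topEquiv.toEquiv _ _ (fun g => rfl)
  have hin : ∀ g : E, g ∈ A → ∑ a : A, sgn (g * (a : E)) = Nat.card A := by
    intro g hg
    have h1 : ∀ a : A, sgn (g * (a : E)) = 1 := fun a => sgn_pos (hA2 _ (A.mul_mem hg a.2))
    simp [h1, Nat.card_eq_fintype_card]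
  have hout : ∀ g : E, g ∉ A → ∑ a : A, sgn (g * (a : E)) = 0 := by
    intro g hg
    have hex : ∃ a₀ ∈ A, a₀ * g ≠ g * a₀ := by
      by_contra hcon
      push Not at hcon
      exact hg (hC (Subgroup.mem_centralizer_iff.mpr hcon))
    obtain ⟨a₀, ha₀, hne⟩ := hex
    have hcz : ⁅g, a₀⁆ = z := by
      rcases hz.comm_cases g a₀ with h | h
      · exact absurd (commutatorElement_eq_one_iff_mul_comm.mp h).symm hne
      · exact h
    have key : ∀ a : A, sgn (g * ((a * ⟨a₀, ha₀⟩ : A) : E)) = - sgn (g * (a : E)) := by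
      intro a
      apply hz.sgn_eq_neg
      have e1 : g * ((a : E) * a₀) = (g * a) * a₀ := (mul_assoc _ _ _).symm
      have e2 : ⁅(a : E), a₀⁆ = 1 :=
        commutatorElement_eq_one_iff_mul_comm.mpr (hAab a a.2 a₀ ha₀)
      show (g * ((a : E) * a₀)) ^ 2 = z * (g * (a : E)) ^ 2
      rw [e1, hz.sq_mul, hA2 a₀ ha₀, mul_one, hz.comm_mul_left, hcz, e2, mul_one]
      exact hz.central _
    have hsum : ∑ a : A, sgn (g * (a : E)) = - ∑ a : A, sgn (g * (a : E)) := by
      conv_lhs =>
        rw [← Equiv.sum_comp (Equiv.mulRight (⟨a₀, ha₀⟩ : A)) (fun a : A => sgn (g * (a : E)))]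
      simp only [Equiv.coe_mulRight, key, Finset.sum_neg_distrib]
    linarith
  have hd1 : ∑ g : E, ∑ a : A, sgn (g * (a : E)) = (Nat.card A : ℤ) * ∑ g : E, sgn g := by
    rw [Finset.sum_comm]
    have h1 : ∀ a : A, ∑ g : E, sgn (g * (a : E)) = ∑ g : E, sgn g :=
      fun a => Equiv.sum_comp (Equiv.mulRight (a : E)) sgn
    simp [h1, Nat.card_eq_fintype_card]
  have hd2 : ∑ g : E, ∑ a : A, sgn (g * (a : E)) = (Nat.card A : ℤ) * Nat.card A := by
    rw [← Finset.sum_filter_add_sum_filter_not Finset.univ (fun g : E => g ∈ A)]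
    rw [Finset.sum_congr rfl (fun g hg => hin g (Finset.mem_filter.mp hg).2),
      Finset.sum_congr rfl (fun g hg => hout g (Finset.mem_filter.mp hg).2)]
    have hc : (Finset.univ.filter (fun g : E => g ∈ A)).card = Nat.card A := by
      rw [Nat.card_eq_fintype_card, ← Fintype.card_subtype]
    simp [hc]
  have hpos : (0 : ℤ) < Nat.card A := by exact_mod_cast Nat.card_pos
  rw [h0]
  exact mul_left_cancel₀ hpos.ne' (hd1.symm.trans hd2)

theorem prank_of_twoType_true (hz : ESData 2 z) {k : ℕ} (h : TwoType z k true) :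
    Cfsg.PRankLE 2 (k + 1) E ∧ ¬ Cfsg.PRankLE 2 k E := by
  have hcard := h.card_eq
  obtain ⟨x, y, e, hb, hg, hc, hsq, htt, htf⟩ := h
  obtain ⟨_, _, B, hBe, hBc⟩ := htt rfl
  constructor
  · intro A hAc hA2
    have hab : ∀ a ∈ A, ∀ b ∈ A, a * b = b * a := fun a ha b hb => by
      have := hAc.is_comm.comm (⟨a, ha⟩ : A) ⟨b, hb⟩
      exact congrArg Subtype.val this
    have h1 := hz.card_abelian_sq_le A hab
    rw [hcard] at h1
    have h2 : Nat.card A ^ 2 ≤ (2 ^ (k + 1)) ^ 2 := by
      calc Nat.card A ^ 2 = Nat.card A * Nat.card A := pow_two _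
        _ ≤ 2 * 2 ^ (2 * k + 1) := h1
        _ = (2 ^ (k + 1)) ^ 2 := by ring
    exact (Nat.pow_le_pow_iff_left (by norm_num : (2 : ℕ) ≠ 0)).mp h2
  · intro hP
    have h1 := hP B hBe.1 hBe.2
    rw [hBc] at h1
    have h2 : 2 ^ k < 2 ^ (k + 1) := Nat.pow_lt_pow_right (by norm_num) (by omega)
    omega

theorem prank_of_twoType_false (hz : ESData 2 z) {k : ℕ} (h : TwoType z k false) :
    Cfsg.PRankLE 2 k E ∧ ¬ Cfsg.PRankLE 2 (k - 1) E := by
  have hcard := h.card_eq
  obtain ⟨x, y, e, hb, hg, hc, hsq, htt, htf⟩ := h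
  obtain ⟨_, hpos, hcount, B, hBe, hBc⟩ := htf rfl
  constructor
  · intro A hAc hA2
    have hab : ∀ a ∈ A, ∀ b ∈ A, a * b = b * a := fun a ha b hb => by
      have := hAc.is_comm.comm (⟨a, ha⟩ : A) ⟨b, hb⟩
      exact congrArg Subtype.val this
    have h1 := hz.card_abelian_sq_le A hab
    rw [hcard] at h1
    have hdvd : Nat.card A ∣ 2 ^ (2 * k + 1) := by
      rw [← hcard]; exact Subgroup.card_subgroup_dvd_card A
    obtain ⟨j, hj, hAj⟩ := (Nat.dvd_prime_pow Nat.prime_two).mp hdvd
    rw [hAj]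
    by_contra hcon
    have hj1 : k + 1 ≤ j := by
      by_contra h'
      exact hcon (Nat.pow_le_pow_right (by norm_num) (by omega))
    have hj2 : j ≤ k + 1 := by
      rw [hAj, ← pow_add] at h1
      have h3 : 2 * 2 ^ (2 * k + 1) = 2 ^ (2 * k + 2) := by ring
      rw [h3] at h1
      have := (Nat.pow_le_pow_iff_right (by norm_num : 1 < 2)).mp h1
      omega
    have hjk : j = k + 1 := le_antisymm hj2 hj1
    subst hjk
    have hCA : Subgroup.centralizer (A : Set E) ≤ A := by
      have h4 := hz.card_centralizer_mul_card_le A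
      rw [hcard, hAj] at h4
      have h5 : Nat.card (Subgroup.centralizer (A : Set E)) ≤ Nat.card A := by
        rw [hAj]
        have h6 : 2 * 2 ^ (2 * k + 1) = 2 ^ (k + 1) * 2 ^ (k + 1) := by ring
        rw [h6] at h4
        exact Nat.le_of_mul_le_mul_right h4 (pow_pos (by norm_num) _)
      exact (Subgroup.eq_of_le_of_card_ge (le_centralizer_of_abelian A hab) h5).ge
    have hS := hz.sgnSum_top_of_selfCentralizing A hA2 hab hCA
    have htop := sgnSum_top (E := E)
    rw [hcard, hS, hAj] at htop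
    push_cast at htop
    have hN : ((Nat.card {g : E // g ^ 2 = 1} : ℕ) : ℤ) + 2 ^ k = 2 ^ (2 * k) := by
      exact_mod_cast hcount
    rw [pow_succ, pow_succ] at htop
    have hpk : (0 : ℤ) < 2 ^ k := by positivity
    linarith
  · intro hP
    have h1 := hP B hBe.1 hBe.2
    rw [hBc] at h1
    have h2 : 2 ^ (k - 1) < 2 ^ k := Nat.pow_lt_pow_right (by norm_num) (by omega)
    omega

end rank

end Cfsg.Agent.Lib.helper3
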