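import Cfsg.Agent.Lib.helper3.GfDefs
import Cfsg.Agent.Lib.helper18.GfS1
import Cfsg.Agent.Lib.helper25.GfEXPN
import Cfsg.Agent.Lib.helper35.GfFIB
import Cfsg.Agent.Lib.helper35.GfMNPC
import Cfsg.Agent.Lib.helper39.GfGENN
import Cfsg.Agent.Lib.helper40.GfIRRMATCH
import Cfsg.Agent.Lib.helper43.GfKCOV
import Cfsg.Agent.Lib.helper43.GfS2
import Cfsg.Agent.Lib.helper46.GfVQ
import Cfsg.Agent.Lib.helper48.GfEXA
import Cfsg.Agent.Lib.helper50.GfFORMS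
import Cfsg.Agent.Lib.helper53.GfALGI
import Cfsg.Agent.Lib.helper57.GfCARDK
import Cfsg.Agent.Lib.helper73.GfIRRDIM
import Cfsg.Agent.Lib.helper82.GfGOURSAT
import Cfsg.Agent.Lib.helper85.GfCOVQ
import Cfsg.Agent.Lib.helper89.GfEXB

/-!
Assembly of S4395 (helper3): `bound` and `main` from the landed leaves.
-/

set_option autoImplicit false

namespace Cfsg.Agent.Lib.helper3.Gf

universe u

/-! ### glue (helper3) -/

theorem bound (p q r : ℕ) [Fact p.Prime] [Fact q.Prime] (hpq : p ≠ q) (a a₀ : ℕ) (ha : a = orderOf (p : ZMod q))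
    (ha₀ : a₀ = if a % 2 = 1 then a else 3 * a / 2)
    {K : Type u} [Group K] [Finite K] (N P : Subgroup K) (y : K) (h : Cov p q r N P y) (hng : NonGen N) :
    Nat.card K ≤ p ^ a₀ * q ^ r := by
  have hgen := h39_genn p q r hpq N P y h hng
  have hexp := expn p q r hpq N P y h hgen
  obtain ⟨V, _, _, M, _, _, T, κ, π, hI, h1, h2, h3, h4, h5, h6, h7, hc⟩ := covq p q r hpq N P y h hexp hgen
  have hV := h73_irr_card p q hpq T hI
  have hF := h50_forms p q hpq T hI a (by rw [hV, ha])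
  have hM := algi p q hpq T hI κ π h1 h2 h3 h4 h5 h6 h7 a hF
  rw [cardk p q r N P y h, hc, hV, ← ha]
  apply Nat.mul_le_mul_right
  have hp : 0 < p := (Fact.out : p.Prime).pos
  by_cases hpar : a % 2 = 1
  · have hM1 : Nat.card M = 1 := by
      have : Subsingleton M := ⟨fun x y => by rw [hM.1 hpar x, hM.1 hpar y]⟩
      exact Nat.card_of_subsingleton (0 : M)
    rw [hM1, ha₀, if_pos hpar, mul_one]
  · have hev : a % 2 = 0 := by omega
    have hM2 := hM.2 hev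
    rw [ha₀, if_neg hpar]
    have h3 : 3 * a / 2 = a + a / 2 := by omega
    rw [h3, pow_add]
    exact Nat.mul_le_mul_left _ hM2

theorem main (p q r : ℕ) [Fact p.Prime] [Fact q.Prime] (hpq : p ≠ q) (hr : 1 ≤ r) (a a₀ : ℕ)
    (ha : a = orderOf (p : ZMod q)) (ha₀ : a₀ = if a % 2 = 1 then a else 3 * a / 2) :
    ∃ (G₀ : Type u) (_ : Group G₀) (_ : Finite G₀),
      (¬ Cfsg.HasNormalPComplement p G₀ ∧ ∀ K : Subgroup G₀, K ≠ ⊤ → Cfsg.HasNormalPComplement p ↥K) ∧ Nat.card G₀ = p ^ a₀ * q ^ r ∧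
      ∀ (X : Type u) [Group X] [Finite X], (¬ Cfsg.HasNormalPComplement p X ∧ ∀ K : Subgroup X, K ≠ ⊤ → Cfsg.HasNormalPComplement p ↥K) →
        (∃ t : ℕ, Nat.card X = p ^ t * q ^ r) → ∃ φ : G₀ →* X, Function.Surjective φ ∧ φ.ker ≤ Subgroup.center G₀ := by
  have hex : ∃ (G : Type u) (_ : Group G) (_ : Finite G) (N P : Subgroup G) (y : G),
      Cov p q r N P y ∧ NonGen N ∧ Nat.card G = p ^ a₀ * q ^ r := by
    by_cases hpar : a % 2 = 1
    · obtain ⟨G, i1, i2, N, P, y, h1, h2, h3⟩ := ex_cov_a.{u} p q r hpq hr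
      exact ⟨G, i1, i2, N, P, y, h1, h2, by rw [h3, ha₀, if_pos hpar, ha]⟩
    · have hev : orderOf (p : ZMod q) % 2 = 0 := by rw [← ha]; omega
      obtain ⟨G, i1, i2, N, P, y, h1, h2, h3⟩ := h89_ex_cov_b.{u} p q r hpq hr hev
      exact ⟨G, i1, i2, N, P, y, h1, h2, by rw [h3, ha₀, if_neg hpar, ha]⟩
  obtain ⟨G₀, i1, i2, N₀, P₀, y₀, hcov₀, hng₀, hcard₀⟩ := hex
  refine ⟨G₀, i1, i2, h35_mnpc p q r hpq N₀ P₀ y₀ hcov₀ hng₀, hcard₀, ?_⟩
  intro X _ _ hX ht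
  obtain ⟨t, ht⟩ := ht
  obtain ⟨PX, yX, hPn, hP, hy, hsup, hnil, hnn⟩ := schmidt_data p q r hpq hr hX t ht
  obtain ⟨NX, hcovX, hngX⟩ := cov_of_schmidt p q r hpq hr PX yX hPn hP hy hsup hnil hnn
  obtain ⟨F, hF1, hF2, hF3, hF4⟩ := goursat p q r hpq N₀ P₀ y₀ NX PX yX hcov₀ hcovX
  refine fib N₀ NX hcov₀.N_central hngX F hF1 hF2 hF3 hF4 ?_
  intro K hKF hK1 hKmin
  have hpB : IsPGroup p ↥NX := hcovX.P_pgroup.to_le hcovX.N_le_P
  obtain ⟨N', P', y', hcov', hng'⟩ := kcov p q r hpq N₀ P₀ y₀ hcov₀ hng₀ NX hcovX.N_central hpB F hF3 hF4 K hKF hK1 hKmin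
  have := bound p q r hpq a a₀ ha ha₀ N' P' y' hcov' hng'
  rw [hcard₀]; exact this

end Cfsg.Agent.Lib.helper3.Gf
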