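import Cfsg.Agent.Lib.helper3.GfHeis

set_option autoImplicit false

namespace Cfsg.Agent.Lib.helper3.Gf

universe u

open HG

section
variable {n : ℕ} [NeZero n] {L : Type u} [Field L] {σ : L →+* L} {lam : L} [h : HData n L σ lam]

/-- HCOV1 (racer copy by helper3) : formal fields -/
theorem h3_hcov1 :
    (HN : Subgroup (HG n L σ lam)) ≤ HP ∧ (HN : Subgroup (HG n L σ lam)) ≤ Subgroup.center (HG n L σ lam) ∧
    (HP : Subgroup (HG n L σ lam)).Normal ∧
    ∀ u ∈ (HP : Subgroup (HG n L σ lam)), ∀ v ∈ (HP : Subgroup (HG n L σ lam)),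
      u * v * u⁻¹ * v⁻¹ ∈ (HN : Subgroup (HG n L σ lam)) := by
  refine ⟨fun g hg => hg.2, ?_, ⟨?_⟩, ?_⟩
  · intro g hg
    rw [Subgroup.mem_center_iff]
    intro a
    obtain ⟨hx, hk⟩ := hg
    ext
    · simp [hx, hk, pw_zero]
    · simp [hx, hk, pw_zero, add_comm]
    · simp [hk]
  · intro g hg a
    rw [mem_HP] at hg ⊢
    simp [hg]
  · intro u hu v hv
    rw [mem_HP] at hu hv
    rw [mem_HN]
    constructor
    · simp [hu, hv, pw_zero]
    · simp [hu, hv]

end

end Cfsg.Agent.Lib.helper3.Gf
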