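import Cfsg.Agent.Lib.helper3.GfDefs

/-!
The Heisenberg-type group for piece EXB of S4395: elements `(x, z, k)`, `x z : L`, `k : ZMod n`,
`z + σ z = x * σ x`, product `(x,z,k)(x',z',k') = (x + lam^k x', z + z' + x σ(lam^k x'), k + k')`.
-/

set_option autoImplicit false

namespace Cfsg.Agent.Lib.helper3.Gf

universe u

/-- field data: `σ` an involutive ring endomorphism, `lam * σ lam = 1`, `lam ^ n = 1`. -/
class HData (n : ℕ) (L : Type u) [Field L] (σ : L →+* L) (lam : L) : Prop where
  invol : ∀ x : L, σ (σ x) = x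
  unit : lam * σ lam = 1
  pown : lam ^ n = 1

/-- `lam ^ k` for `k : ZMod n` -/
def pw {n : ℕ} {L : Type u} [Field L] (lam : L) (k : ZMod n) : L := lam ^ k.val

section
variable {n : ℕ} [NeZero n] {L : Type u} [Field L] {lam : L}

omit [NeZero n] in
theorem pw_zero : pw lam (0 : ZMod n) = 1 := by simp [pw]

theorem pw_add (hn : lam ^ n = 1) (k k' : ZMod n) : pw lam (k + k') = pw lam k * pw lam k' := by
  unfold pw
  rw [ZMod.val_add, ← pow_add, ← pow_eq_pow_mod _ hn]

theorem pw_mul_neg (hn : lam ^ n = 1) (k : ZMod n) : pw lam k * pw lam (-k) = 1 := by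
  have := pw_add hn k (-k)
  rw [add_neg_cancel, pw_zero] at this
  exact this.symm

theorem pw_neg_mul (hn : lam ^ n = 1) (k : ZMod n) : pw lam (-k) * pw lam k = 1 := by
  rw [mul_comm]; exact pw_mul_neg hn k

omit [NeZero n] in
theorem pw_unit {σ : L →+* L} (hu : lam * σ lam = 1) (k : ZMod n) : pw lam k * σ (pw lam k) = 1 := by
  unfold pw
  rw [map_pow, ← mul_pow, hu, one_pow]

end

/-- the group `P₀ ⋊ C_n` -/
@[ext] structure HG (n : ℕ) (L : Type u) [Field L] (σ : L →+* L) (lam : L) where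
  x : L
  z : L
  k : ZMod n
  hz : z + σ z = x * σ x

namespace HG
variable {n : ℕ} [NeZero n] {L : Type u} [Field L] {σ : L →+* L} {lam : L} [h : HData n L σ lam]

instance : Mul (HG n L σ lam) :=
  ⟨fun a b => ⟨a.x + pw lam a.k * b.x, a.z + b.z + a.x * σ (pw lam a.k * b.x), a.k + b.k, by
    have hc := pw_unit (σ := σ) (lam := lam) h.unit a.k
    simp only [map_add, map_mul, h.invol]
    linear_combination a.hz + b.hz - b.x * σ b.x * hc⟩⟩

instance : One (HG n L σ lam) := ⟨⟨0, 0, 0, by simp⟩⟩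

instance : Inv (HG n L σ lam) :=
  ⟨fun a => ⟨-(pw lam (-a.k) * a.x), -a.z + a.x * σ a.x, -a.k, by
    have hc := pw_unit (σ := σ) (lam := lam) h.unit (-a.k)
    simp only [map_add, map_mul, map_neg, h.invol]
    linear_combination (-1 : L) * a.hz - a.x * σ a.x * hc⟩⟩

@[simp] theorem mul_x (a b : HG n L σ lam) : (a * b).x = a.x + pw lam a.k * b.x := rfl
@[simp] theorem mul_z (a b : HG n L σ lam) : (a * b).z = a.z + b.z + a.x * σ (pw lam a.k * b.x) := rfl
@[simp] theorem mul_k (a b : HG n L σ lam) : (a * b).k = a.k + b.k := rfl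
@[simp] theorem one_x : (1 : HG n L σ lam).x = 0 := rfl
@[simp] theorem one_z : (1 : HG n L σ lam).z = 0 := rfl
@[simp] theorem one_k : (1 : HG n L σ lam).k = 0 := rfl
@[simp] theorem inv_x (a : HG n L σ lam) : (a⁻¹).x = -(pw lam (-a.k) * a.x) := rfl
@[simp] theorem inv_z (a : HG n L σ lam) : (a⁻¹).z = -a.z + a.x * σ a.x := rfl
@[simp] theorem inv_k (a : HG n L σ lam) : (a⁻¹).k = -a.k := rfl

instance : Group (HG n L σ lam) :=
  Group.ofLeftAxioms
    (by
      intro a b c
      ext
      · simp only [mul_x, mul_k, pw_add h.pown]; ring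
      · have hc := pw_unit (σ := σ) (lam := lam) h.unit a.k
        simp only [mul_x, mul_z, mul_k, pw_add h.pown, map_add, map_mul]
        linear_combination b.x * σ (pw lam b.k) * σ c.x * hc
      · simp only [mul_k, add_assoc])
    (by
      intro a
      ext
      · simp [pw_zero]
      · simp
      · simp)
    (by
      intro a
      ext
      · simp
      · have hc := pw_unit (σ := σ) (lam := lam) h.unit (-a.k)
        simp only [mul_z, inv_z, inv_x, inv_k, one_z, map_neg, map_mul]
        linear_combination - a.x * σ a.x * hc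
      · simp)

/-- the normal `p`-subgroup `k = 0` -/
def HP : Subgroup (HG n L σ lam) where
  carrier := {g | g.k = 0}
  mul_mem' := by intro a b ha hb; simp only [Set.mem_ofPred_eq] at *; simp [ha, hb]
  one_mem' := rfl
  inv_mem' := by intro a ha; simp only [Set.mem_ofPred_eq] at *; simp [ha]

/-- the central subgroup `x = 0, k = 0` -/
def HN : Subgroup (HG n L σ lam) where
  carrier := {g | g.x = 0 ∧ g.k = 0}
  mul_mem' := by intro a b ha hb; simp only [Set.mem_ofPred_eq] at *; simp [ha.1, ha.2, hb.1, hb.2]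
  one_mem' := ⟨rfl, rfl⟩
  inv_mem' := by intro a ha; simp only [Set.mem_ofPred_eq] at *; simp [ha.1, ha.2]

/-- the generator of the cyclic part -/
def Hy : HG n L σ lam := ⟨0, 0, 1, by simp⟩

theorem mem_HP (g : HG n L σ lam) : g ∈ (HP : Subgroup (HG n L σ lam)) ↔ g.k = 0 := Iff.rfl
theorem mem_HN (g : HG n L σ lam) : g ∈ (HN : Subgroup (HG n L σ lam)) ↔ g.x = 0 ∧ g.k = 0 := Iff.rfl

end HG

end Cfsg.Agent.Lib.helper3.Gf
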