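import Mathlib

/-!
# Base change of linear groups to a field extension (for Hall–Higman Theorem B)

`bcHom K : (V ≃ₗ[F] V) →* (K ⊗[F] V ≃ₗ[K] K ⊗[F] V)` is injective, and
`(bcHom K x - 1) ^ k = 0 ↔ (x - 1) ^ k = 0`.
-/

set_option autoImplicit false

namespace Cfsg.Agent.Lib.helper3

open TensorProduct

variable {F : Type*} [Field F] (K : Type*) [Field K] [Algebra F K]
  {V : Type*} [AddCommGroup V] [Module F V]

/-- `v ↦ 1 ⊗ v` is injective for a field extension. -/
theorem one_tmul_injective : Function.Injective (fun v : V => (1 : K) ⊗ₜ[F] v) := by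
  intro v w h
  let b := Module.Basis.ofVectorSpace F V
  apply b.repr.injective
  ext i
  have h1 := congrArg (fun t => (b.baseChange K).repr t i) h
  simp only [Module.Basis.baseChange_repr_tmul] at h1
  rw [Algebra.smul_def, Algebra.smul_def, mul_one, mul_one] at h1
  exact (algebraMap F K).injective h1

/-- Base change of an endomorphism vanishes iff the endomorphism does. -/
theorem baseChange_eq_zero_iff (f : Module.End F V) : f.baseChange K = 0 ↔ f = 0 := by
  constructor
  · intro h
    ext v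
    have h1 : f.baseChange K ((1 : K) ⊗ₜ[F] v) = 0 := by rw [h]; rfl
    rw [LinearMap.baseChange_tmul] at h1
    have h2 : (1 : K) ⊗ₜ[F] f v = (1 : K) ⊗ₜ[F] (0 : V) := by rw [h1, tmul_zero]
    exact one_tmul_injective K h2
  · intro h
    rw [h, LinearMap.baseChange_zero]

/-- Base change of a linear automorphism. -/
noncomputable def bcEquiv (e : V ≃ₗ[F] V) : (K ⊗[F] V) ≃ₗ[K] (K ⊗[F] V) :=
  LinearEquiv.ofLinearMap ((e : V →ₗ[F] V).baseChange K) ((e.symm : V →ₗ[F] V).baseChange K)
    (by
      rw [← LinearMap.baseChange_comp]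
      have : (e : V →ₗ[F] V) ∘ₗ (e.symm : V →ₗ[F] V) = LinearMap.id :=
        LinearMap.ext fun v => e.apply_symm_apply v
      rw [this, LinearMap.baseChange_id])
    (by
      rw [← LinearMap.baseChange_comp]
      have : (e.symm : V →ₗ[F] V) ∘ₗ (e : V →ₗ[F] V) = LinearMap.id :=
        LinearMap.ext fun v => e.symm_apply_apply v
      rw [this, LinearMap.baseChange_id])

theorem bcEquiv_coe (e : V ≃ₗ[F] V) :
    ((bcEquiv K e : (K ⊗[F] V) ≃ₗ[K] (K ⊗[F] V)) : Module.End K (K ⊗[F] V))
      = (e : V →ₗ[F] V).baseChange K := rfl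

/-- Base change as a group homomorphism of general linear groups. -/
noncomputable def bcHom : (V ≃ₗ[F] V) →* ((K ⊗[F] V) ≃ₗ[K] (K ⊗[F] V)) where
  toFun := bcEquiv K
  map_one' := by
    apply LinearEquiv.toLinearMap_injective
    rw [bcEquiv_coe]
    exact LinearMap.baseChange_id
  map_mul' e₁ e₂ := by
    apply LinearEquiv.toLinearMap_injective
    rw [bcEquiv_coe]
    exact LinearMap.baseChange_comp (A := K) (f := (e₂ : V →ₗ[F] V)) (e₁ : V →ₗ[F] V)

theorem bcHom_coe (e : V ≃ₗ[F] V) :
    ((bcHom K e : (K ⊗[F] V) ≃ₗ[K] (K ⊗[F] V)) : Module.End K (K ⊗[F] V))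
      = (e : V →ₗ[F] V).baseChange K := rfl

theorem bcHom_injective : Function.Injective (bcHom K : (V ≃ₗ[F] V) →* _) := by
  rw [injective_iff_map_eq_one]
  intro e he
  apply LinearEquiv.toLinearMap_injective
  have h1 : (e : V →ₗ[F] V).baseChange K = (1 : Module.End K (K ⊗[F] V)) :=
    congrArg (fun t : (K ⊗[F] V) ≃ₗ[K] (K ⊗[F] V) => (t : Module.End K (K ⊗[F] V))) he
  have h2 : (((e : V →ₗ[F] V) - 1 : Module.End F V)).baseChange K = 0 := by
    rw [LinearMap.baseChange_sub, h1, LinearMap.baseChange_one]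
    exact sub_self (1 : Module.End K (K ⊗[F] V))
  have h3 := (baseChange_eq_zero_iff K _).mp h2
  exact sub_eq_zero.mp h3

/-- The nilpotency behaviour of `x - 1` is unchanged by base change. -/
theorem bcHom_sub_one_pow_eq_zero_iff (x : V ≃ₗ[F] V) (k : ℕ) :
    (((bcHom K x : (K ⊗[F] V) ≃ₗ[K] (K ⊗[F] V)) : Module.End K (K ⊗[F] V)) - 1) ^ k = 0 ↔
      (((x : V →ₗ[F] V) : Module.End F V) - 1) ^ k = 0 := by
  rw [bcHom_coe]
  have h : ((x : V →ₗ[F] V).baseChange K - 1) ^ k
      = ((((x : V →ₗ[F] V) : Module.End F V) - 1) ^ k).baseChange K := by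
    rw [LinearMap.baseChange_pow, LinearMap.baseChange_sub, LinearMap.baseChange_one]
  rw [h, baseChange_eq_zero_iff]

/-- From `minpoly = (X - 1) ^ r` to the nilpotency index of `x - 1`. -/
theorem nilIndex_of_minpoly [FiniteDimensional F V] (f : Module.End F V) (r : ℕ)
    (hr : minpoly F f = (Polynomial.X - 1) ^ r) :
    (f - 1) ^ r = 0 ∧ ∀ k < r, (f - 1) ^ k ≠ 0 := by
  constructor
  · have h1 := minpoly.aeval F f
    rw [hr] at h1
    simpa using h1
  · intro k hk h0
    have h1 : minpoly F f ∣ (Polynomial.X - 1) ^ k := by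
      apply minpoly.dvd
      simpa using h0
    rw [hr] at h1
    have h2 := Polynomial.natDegree_le_of_dvd h1 (pow_ne_zero _ (Polynomial.X_sub_C_ne_zero (1 : F)))
    have h3 : ∀ j : ℕ, ((Polynomial.X - 1 : Polynomial F) ^ j).natDegree = j := by
      intro j
      have : (Polynomial.X - 1 : Polynomial F) = Polynomial.X - Polynomial.C 1 := by simp
      rw [this, Polynomial.natDegree_pow, Polynomial.natDegree_X_sub_C, mul_one]
    have h4 : (Polynomial.X - 1 : Polynomial F) = Polynomial.X - Polynomial.C 1 := by simp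
    rw [h3, h3] at h2
    omega

end Cfsg.Agent.Lib.helper3
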