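import Mathlib

/-!
# Invariant subspaces for a set of linear automorphisms

Elementary "representation theory without representations": invariant and irreducible
subspaces for a set `S` of linear automorphisms of a vector space, equivariant isomorphisms
between invariant subspaces, Schur's lemma, and the fact that an irreducible subspace of a sum
of irreducible subspaces is isomorphic to one of the summands.
-/

set_option autoImplicit false

namespace Cfsg.Agent.Lib.helper3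

open Module

variable {K : Type*} [Field K] {V : Type*} [AddCommGroup V] [Module K V]

/-- `W` is invariant under every operator in `S`. -/
def HHInv (S : Set (V ≃ₗ[K] V)) (W : Submodule K V) : Prop := ∀ g ∈ S, ∀ w ∈ W, g w ∈ W

/-- `W` is a minimal nonzero `S`-invariant subspace. -/
def HHIrr (S : Set (V ≃ₗ[K] V)) (W : Submodule K V) : Prop :=
  W ≠ ⊥ ∧ HHInv S W ∧ ∀ U : Submodule K V, U ≤ W → HHInv S U → U = ⊥ ∨ U = W

/-- An `S`-equivariant linear isomorphism between two subspaces. -/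
def HHIso (S : Set (V ≃ₗ[K] V)) (W₁ W₂ : Submodule K V) : Prop :=
  ∃ ψ : W₁ ≃ₗ[K] W₂, ∀ g ∈ S, ∀ (w : W₁) (h : g (w : V) ∈ W₁),
    ((ψ ⟨g (w : V), h⟩ : W₂) : V) = g ((ψ w : W₂) : V)

theorem hhInv_bot (S : Set (V ≃ₗ[K] V)) : HHInv S (⊥ : Submodule K V) := by
  intro g _ w hw
  rw [Submodule.mem_bot] at hw ⊢
  rw [hw, map_zero]

theorem hhInv_top (S : Set (V ≃ₗ[K] V)) : HHInv S (⊤ : Submodule K V) :=
  fun _ _ _ _ => Submodule.mem_top

theorem HHInv.inf {S : Set (V ≃ₗ[K] V)} {W₁ W₂ : Submodule K V} (h₁ : HHInv S W₁)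
    (h₂ : HHInv S W₂) : HHInv S (W₁ ⊓ W₂) :=
  fun g hg w hw => ⟨h₁ g hg w hw.1, h₂ g hg w hw.2⟩

theorem hhInv_iff_le_comap {S : Set (V ≃ₗ[K] V)} {W : Submodule K V} :
    HHInv S W ↔ ∀ g ∈ S, W ≤ W.comap (g : V →ₗ[K] V) :=
  Iff.rfl

theorem hhInv_sSup {S : Set (V ≃ₗ[K] V)} {F : Set (Submodule K V)}
    (h : ∀ X ∈ F, HHInv S X) : HHInv S (sSup F) := by
  rw [hhInv_iff_le_comap]
  intro g hg
  apply sSup_le
  intro X hX
  exact le_trans ((hhInv_iff_le_comap.mp (h X hX)) g hg)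
    (Submodule.comap_mono (le_sSup hX))

theorem HHInv.sup {S : Set (V ≃ₗ[K] V)} {W₁ W₂ : Submodule K V} (h₁ : HHInv S W₁)
    (h₂ : HHInv S W₂) : HHInv S (W₁ ⊔ W₂) := by
  have : W₁ ⊔ W₂ = sSup {W₁, W₂} := by rw [sSup_pair]
  rw [this]
  apply hhInv_sSup
  intro X hX
  rcases hX with rfl | rfl
  · exact h₁
  · exact h₂

theorem HHInv.map_conj {S : Set (V ≃ₗ[K] V)} {W : Submodule K V} (x : V ≃ₗ[K] V)
    (hx : ∀ g ∈ S, x⁻¹ * g * x ∈ S) (h : HHInv S W) :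
    HHInv S (W.map (x : V →ₗ[K] V)) := by
  rintro g hg _ ⟨w, hw, rfl⟩
  refine ⟨(x⁻¹ * g * x) w, h _ (hx g hg) w hw, ?_⟩
  change x ((x⁻¹ * g * x) w) = g (x w)
  have : x * (x⁻¹ * g * x) = g * x := by group
  rw [← LinearEquiv.mul_apply, this, LinearEquiv.mul_apply]

theorem map_map_inv (x : V ≃ₗ[K] V) (U : Submodule K V) :
    (U.map ((x⁻¹ : V ≃ₗ[K] V) : V →ₗ[K] V)).map (x : V →ₗ[K] V) = U := by
  apply le_antisymm
  · rintro _ ⟨_, ⟨u, hu, rfl⟩, rfl⟩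
    change x (x⁻¹ u) ∈ U
    rw [← LinearEquiv.mul_apply, mul_inv_cancel]
    exact hu
  · intro u hu
    refine ⟨x⁻¹ u, ⟨u, hu, rfl⟩, ?_⟩
    change x (x⁻¹ u) = u
    rw [← LinearEquiv.mul_apply, mul_inv_cancel]
    rfl

theorem HHIrr.map_conj {S : Set (V ≃ₗ[K] V)} {W : Submodule K V} (x : V ≃ₗ[K] V)
    (hx : ∀ g ∈ S, x⁻¹ * g * x ∈ S) (hx' : ∀ g ∈ S, x * g * x⁻¹ ∈ S) (h : HHIrr S W) :
    HHIrr S (W.map (x : V →ₗ[K] V)) := by
  obtain ⟨h0, hinv, hmin⟩ := h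
  refine ⟨?_, hinv.map_conj x hx, ?_⟩
  · intro h1
    apply h0
    rw [Submodule.eq_bot_iff]
    intro w hw
    have h2 : x w ∈ W.map (x : V →ₗ[K] V) := ⟨w, hw, rfl⟩
    rw [h1, Submodule.mem_bot] at h2
    exact x.map_eq_zero_iff.mp h2
  · intro U hU hUinv
    have h1 : HHInv S (U.map ((x⁻¹ : V ≃ₗ[K] V) : V →ₗ[K] V)) := by
      apply hUinv.map_conj x⁻¹
      intro g hg
      rw [inv_inv]
      exact hx' g hg
    have h2 : U.map ((x⁻¹ : V ≃ₗ[K] V) : V →ₗ[K] V) ≤ W := by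
      rintro _ ⟨u, hu, rfl⟩
      obtain ⟨w, hw, hwu⟩ := hU hu
      change x⁻¹ u ∈ W
      rw [← hwu]
      change x⁻¹ (x w) ∈ W
      rw [← LinearEquiv.mul_apply, inv_mul_cancel]
      exact hw
    rcases hmin _ h2 h1 with h3 | h3
    · left
      rw [← map_map_inv x U, h3, Submodule.map_bot]
    · right
      rw [← map_map_inv x U, h3]

theorem exists_hhIrr_le [FiniteDimensional K V] {S : Set (V ≃ₗ[K] V)} {W : Submodule K V}
    (hW : W ≠ ⊥) (hinv : HHInv S W) : ∃ U : Submodule K V, U ≤ W ∧ HHIrr S U := by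
  obtain ⟨U, ⟨hU1, hU2, hU3⟩, hmin⟩ :=
    WellFounded.has_min (wellFounded_lt : WellFounded (α := Submodule K V) (· < ·))
      {U | U ≠ ⊥ ∧ HHInv S U ∧ U ≤ W} ⟨W, hW, hinv, le_rfl⟩
  refine ⟨U, hU3, hU1, hU2, ?_⟩
  intro U' hU' hU'inv
  by_contra hcon
  push Not at hcon
  exact hmin U' ⟨hcon.1, hU'inv, hU'.trans hU3⟩ (lt_of_le_of_ne hU' hcon.2)

theorem HHIso.refl (S : Set (V ≃ₗ[K] V)) (W : Submodule K V) : HHIso S W W :=
  ⟨LinearEquiv.refl K W, fun _ _ _ _ => rfl⟩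

theorem HHIso.symm {S : Set (V ≃ₗ[K] V)} {W₁ W₂ : Submodule K V} (hinv : HHInv S W₁)
    (h : HHIso S W₁ W₂) : HHIso S W₂ W₁ := by
  obtain ⟨ψ, hψ⟩ := h
  refine ⟨ψ.symm, ?_⟩
  intro g hg w h2
  have h1 : g ((ψ.symm w : W₁) : V) ∈ W₁ := hinv g hg _ (ψ.symm w).2
  have h3 := hψ g hg (ψ.symm w) h1
  rw [LinearEquiv.apply_symm_apply] at h3
  have h4 : ψ ⟨g ((ψ.symm w : W₁) : V), h1⟩ = ⟨g (w : V), h2⟩ := Subtype.ext h3
  rw [← h4, LinearEquiv.symm_apply_apply]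

theorem HHIso.trans {S : Set (V ≃ₗ[K] V)} {W₁ W₂ W₃ : Submodule K V}
    (h₁ : HHIso S W₁ W₂) (h₂ : HHIso S W₂ W₃) : HHIso S W₁ W₃ := by
  obtain ⟨ψ₁, hψ₁⟩ := h₁
  obtain ⟨ψ₂, hψ₂⟩ := h₂
  refine ⟨ψ₁.trans ψ₂, ?_⟩
  intro g hg w h
  have h1 := hψ₁ g hg w h
  have h2 : g ((ψ₁ w : W₂) : V) ∈ W₂ := by
    rw [← h1]
    exact (ψ₁ ⟨g (w : V), h⟩).2
  have h3 : ψ₁ ⟨g (w : V), h⟩ = ⟨g ((ψ₁ w : W₂) : V), h2⟩ := Subtype.ext h1
  rw [LinearEquiv.trans_apply, h3, hψ₂ g hg (ψ₁ w) h2]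
  rfl

/-- Schur's lemma: a nonzero equivariant map between irreducible subspaces is an isomorphism. -/
theorem hhIso_of_map {S : Set (V ≃ₗ[K] V)} {U₁ U₂ : Submodule K V} (h₁ : HHIrr S U₁)
    (h₂ : HHIrr S U₂) (φ : U₁ →ₗ[K] V) (hφ : ∀ w, φ w ∈ U₂)
    (heq : ∀ g ∈ S, ∀ (w : U₁) (h : g (w : V) ∈ U₁), φ ⟨g (w : V), h⟩ = g (φ w))
    (hne : φ ≠ 0) : HHIso S U₁ U₂ := by
  obtain ⟨h10, h1inv, h1min⟩ := h₁
  obtain ⟨h20, h2inv, h2min⟩ := h₂
  have hker : LinearMap.ker φ = ⊥ := by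
    have hN : HHInv S ((LinearMap.ker φ).map U₁.subtype) := by
      rintro g hg _ ⟨w, hw, rfl⟩
      have h1 : g ((w : U₁) : V) ∈ U₁ := h1inv g hg _ w.2
      refine ⟨⟨g (w : V), h1⟩, ?_, rfl⟩
      rw [SetLike.mem_coe, LinearMap.mem_ker] at hw ⊢
      rw [heq g hg w h1, hw, map_zero]
    have hle : (LinearMap.ker φ).map U₁.subtype ≤ U₁ := by
      rintro _ ⟨w, _, rfl⟩
      exact w.2
    rcases h1min _ hle hN with h | h
    · rw [Submodule.eq_bot_iff]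
      intro w hw
      have h3 : (w : V) ∈ (LinearMap.ker φ).map U₁.subtype := ⟨w, hw, rfl⟩
      rw [h, Submodule.mem_bot] at h3
      exact Subtype.ext h3
    · exfalso
      apply hne
      ext w
      have h3 : (w : V) ∈ (LinearMap.ker φ).map U₁.subtype := by rw [h]; exact w.2
      obtain ⟨w', hw', hww⟩ := h3
      have h4 : w' = w := Subtype.ext hww
      rw [← h4]
      simpa using hw'
  have hrange : LinearMap.range φ = U₂ := by
    have hR : HHInv S (LinearMap.range φ) := by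
      rintro g hg _ ⟨w, rfl⟩
      exact ⟨⟨g (w : V), h1inv g hg _ w.2⟩, heq g hg w _⟩
    have hle : LinearMap.range φ ≤ U₂ := by
      rintro _ ⟨w, rfl⟩
      exact hφ w
    rcases h2min _ hle hR with h | h
    · exfalso
      apply hne
      ext w
      have h3 : φ w ∈ LinearMap.range φ := ⟨w, rfl⟩
      rw [h, Submodule.mem_bot] at h3
      simpa using h3
    · exact h
  have hbij : Function.Bijective (φ.codRestrict U₂ hφ) := by
    constructor
    · intro a b hab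
      have h3 : φ a = φ b := congrArg Subtype.val hab
      exact (LinearMap.ker_eq_bot.mp hker) h3
    · rintro ⟨v, hv⟩
      rw [← hrange] at hv
      obtain ⟨w, rfl⟩ := hv
      exact ⟨w, rfl⟩
  refine ⟨LinearEquiv.ofBijective (φ.codRestrict U₂ hφ) hbij, ?_⟩
  intro g hg w h
  exact heq g hg w h

/-- If `U ≤ D ⊕ F` with `U`, `F` irreducible and both disjoint from the invariant subspace `D`,
then `U` and `F` are isomorphic. -/
theorem hhIso_of_le_sup {S : Set (V ≃ₗ[K] V)} {U F D : Submodule K V} (hU : HHIrr S U)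
    (hF : HHIrr S F) (hD : HHInv S D) (hUD : Disjoint U D) (hFD : Disjoint F D)
    (hle : U ≤ D ⊔ F) : HHIso S U F := by
  obtain ⟨πF, hπF⟩ : ∃ πF : F →ₗ[K] V ⧸ D, πF = D.mkQ ∘ₗ F.subtype := ⟨_, rfl⟩
  have hπFa : ∀ w : F, πF w = Submodule.Quotient.mk (w : V) := fun w => by rw [hπF]; rfl
  have hinj : Function.Injective πF := by
    rw [← LinearMap.ker_eq_bot, Submodule.eq_bot_iff]
    intro w hw
    rw [LinearMap.mem_ker, hπFa, Submodule.Quotient.mk_eq_zero] at hw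
    have h1 : (w : V) ∈ F ⊓ D := ⟨w.2, hw⟩
    rw [disjoint_iff.mp hFD, Submodule.mem_bot] at h1
    exact Subtype.ext h1
  obtain ⟨πU, hπU⟩ : ∃ πU : U →ₗ[K] V ⧸ D, πU = D.mkQ ∘ₗ U.subtype := ⟨_, rfl⟩
  have hπUa : ∀ w : U, πU w = Submodule.Quotient.mk (w : V) := fun w => by rw [hπU]; rfl
  have hr : ∀ w : U, πU w ∈ LinearMap.range πF := by
    intro w
    obtain ⟨d, hd, f, hf, hdf⟩ := Submodule.mem_sup.mp (hle w.2)
    refine ⟨⟨f, hf⟩, ?_⟩
    rw [hπFa, hπUa, Submodule.Quotient.eq, ← hdf]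
    simpa using D.neg_mem hd
  obtain ⟨φ, hφdef⟩ : ∃ φ : U →ₗ[K] V, φ = F.subtype ∘ₗ
      ((LinearEquiv.ofInjective πF hinj).symm : LinearMap.range πF →ₗ[K] F) ∘ₗ
      πU.codRestrict (LinearMap.range πF) hr := ⟨_, rfl⟩
  have hφF : ∀ w, φ w ∈ F := by
    intro w
    rw [hφdef]
    exact Subtype.property _
  have hφD : ∀ w : U, (w : V) - φ w ∈ D := by
    intro w
    have h1 : πF ((LinearEquiv.ofInjective πF hinj).symm
        (πU.codRestrict (LinearMap.range πF) hr w)) = πU w := by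
      rw [LinearEquiv.ofInjective_symm_apply]
      rfl
    have h2 : φ w = (((LinearEquiv.ofInjective πF hinj).symm
        (πU.codRestrict (LinearMap.range πF) hr w) : F) : V) := by
      rw [hφdef]
      rfl
    rw [hπFa, hπUa, ← h2] at h1
    have h3 := (Submodule.Quotient.eq D).mp h1
    have h4 : (w : V) - φ w = -(φ w - (w : V)) := by abel
    rw [h4]
    exact D.neg_mem h3
  apply hhIso_of_map hU hF φ hφF
  · intro g hg w h
    have h1 : φ ⟨g (w : V), h⟩ - g (φ w) ∈ F :=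
      F.sub_mem (hφF _) (hF.2.1 g hg _ (hφF w))
    have h2 : φ ⟨g (w : V), h⟩ - g (φ w) ∈ D := by
      have h3 := hφD ⟨g (w : V), h⟩
      have h4 : g ((w : V) - φ w) ∈ D := hD g hg _ (hφD w)
      rw [map_sub] at h4
      have h5 : φ ⟨g (w : V), h⟩ - g (φ w) =
          (g (w : V) - g (φ w)) - (g (w : V) - φ ⟨g (w : V), h⟩) := by abel
      rw [h5]
      exact D.sub_mem h4 h3
    have h3 : φ ⟨g (w : V), h⟩ - g (φ w) ∈ F ⊓ D := ⟨h1, h2⟩
    rw [disjoint_iff.mp hFD, Submodule.mem_bot] at h3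
    exact sub_eq_zero.mp h3
  · intro h0
    apply hU.1
    rw [Submodule.eq_bot_iff]
    intro w hw
    have h1 := hφD ⟨w, hw⟩
    rw [h0] at h1
    have h2 : w ∈ U ⊓ D := ⟨hw, by simpa using h1⟩
    rw [disjoint_iff.mp hUD, Submodule.mem_bot] at h2
    exact h2

/-- An irreducible subspace contained in a sum of irreducible subspaces is isomorphic to one
of them. -/
theorem exists_hhIso_of_le_sSup [FiniteDimensional K V] {S : Set (V ≃ₗ[K] V)}
    {U : Submodule K V} (hU : HHIrr S U) (F : Set (Submodule K V))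
    (hF : ∀ X ∈ F, HHIrr S X) (hle : U ≤ sSup F) : ∃ X ∈ F, HHIso S U X := by
  obtain ⟨D, ⟨⟨G, hGF, hDG⟩, hUD⟩, hmax⟩ :=
    WellFounded.has_min (wellFounded_gt : WellFounded (α := Submodule K V) (· > ·))
      {D | (∃ G : Set (Submodule K V), G ⊆ F ∧ D = sSup G) ∧ Disjoint U D}
      ⟨⊥, ⟨∅, Set.empty_subset _, sSup_empty.symm⟩, disjoint_bot_right⟩
  have hDinv : HHInv S D := by
    rw [hDG]
    exact hhInv_sSup fun X hX => (hF X (hGF hX)).2.1
  have hex : ∃ X ∈ F, ¬ X ≤ D := by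
    by_contra hcon
    push Not at hcon
    have h1 : U ≤ D := hle.trans (sSup_le hcon)
    apply hU.1
    rw [eq_bot_iff]
    exact hUD le_rfl h1
  obtain ⟨X, hXF, hXD⟩ := hex
  have hXirr := hF X hXF
  have hXdisj : Disjoint X D := by
    rw [disjoint_iff]
    rcases hXirr.2.2 (X ⊓ D) inf_le_left (hXirr.2.1.inf hDinv) with h | h
    · exact h
    · exact absurd (inf_eq_left.mp h) hXD
  have hlt : D < D ⊔ X := by
    apply lt_of_le_of_ne le_sup_left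
    intro h
    apply hXD
    rw [h]
    exact le_sup_right
  have hnd : ¬ Disjoint U (D ⊔ X) := by
    intro hd
    apply hmax (D ⊔ X) ⟨⟨insert X G, ?_, ?_⟩, hd⟩ hlt
    · intro Y hY
      rcases hY with rfl | hY
      · exact hXF
      · exact hGF hY
    · rw [sSup_insert, hDG, sup_comm]
  have hUle : U ≤ D ⊔ X := by
    rcases hU.2.2 (U ⊓ (D ⊔ X)) inf_le_left (hU.2.1.inf (hDinv.sup hXirr.2.1)) with h | h
    · exact absurd (disjoint_iff.mpr h) hnd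
    · exact inf_eq_left.mp h
  exact ⟨X, hXF, hhIso_of_le_sup hU hXirr hDinv hUD hXdisj hUle⟩

/-- Conjugating an equivariant isomorphism by an element normalizing `S`. -/
theorem HHIso.map_conj {S : Set (V ≃ₗ[K] V)} {W₁ W₂ : Submodule K V} (x : V ≃ₗ[K] V)
    (hx : ∀ g ∈ S, x⁻¹ * g * x ∈ S) (hinv : HHInv S W₁) (h : HHIso S W₁ W₂) :
    HHIso S (W₁.map (x : V →ₗ[K] V)) (W₂.map (x : V →ₗ[K] V)) := by
  obtain ⟨ψ, hψ⟩ := h
  refine ⟨(x.submoduleMap W₁).symm.trans (ψ.trans (x.submoduleMap W₂)), ?_⟩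
  intro g hg w h
  obtain ⟨w0, hw0⟩ : ∃ w0 : W₁, w0 = (x.submoduleMap W₁).symm w := ⟨_, rfl⟩
  have hw0x : x (w0 : V) = (w : V) := by
    rw [hw0, LinearEquiv.submoduleMap_symm_apply, LinearEquiv.apply_symm_apply]
  have h1 : (x⁻¹ * g * x) (w0 : V) ∈ W₁ := hinv _ (hx g hg) _ w0.2
  have h2 : (x.submoduleMap W₁).symm ⟨g (w : V), h⟩ = ⟨(x⁻¹ * g * x) (w0 : V), h1⟩ := by
    apply Subtype.ext
    rw [LinearEquiv.submoduleMap_symm_apply]
    change x.symm (g (w : V)) = x⁻¹ (g (x (w0 : V)))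
    rw [hw0x]
    rfl
  rw [LinearEquiv.trans_apply, LinearEquiv.trans_apply, h2, LinearEquiv.submoduleMap_apply,
    hψ _ (hx g hg) w0 h1, LinearEquiv.trans_apply, LinearEquiv.trans_apply,
    LinearEquiv.submoduleMap_apply, ← hw0]
  have h3 : x * (x⁻¹ * g * x) = g * x := by group
  rw [← LinearEquiv.mul_apply, h3, LinearEquiv.mul_apply]

end Cfsg.Agent.Lib.helper3
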