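import Mathlib
import Cfsg.Agent.Lib.helper3.HHIrr

/-!
# A Clifford-type decomposition for a cyclic `p`-group acting on a normalized set of operators

Let `S` be a set of linear automorphisms of a finite-dimensional space `V` over an
algebraically closed field, normalized by `x` with `x ^ p ^ n = 1`.  If `V` is irreducible
under `S ∪ {x}` but reducible under `S`, then `V = W' ⊕ x W' ⊕ ⋯ ⊕ x^(p-1) W'` for an
`S`-invariant and `x ^ p`-invariant subspace `W'`.
-/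

set_option autoImplicit false

namespace Cfsg.Agent.Lib.helper3

open Module

variable {K : Type*} [Field K] {V : Type*} [AddCommGroup V] [Module K V]

/-- The eigenvector trick: if `x W ≅ W` equivariantly, there is a nonzero equivariant map
`f : W → V` whose image is `x`-invariant. -/
theorem exists_equivariant_of_hhIso_map [IsAlgClosed K] [FiniteDimensional K V]
    {S : Set (V ≃ₗ[K] V)} (x : V ≃ₗ[K] V) (hx : ∀ g ∈ S, x * g * x⁻¹ ∈ S)
    {W : Submodule K V} (hW : HHIrr S W) (hiso : HHIso S (W.map (x : V →ₗ[K] V)) W) :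
    ∃ f : W →ₗ[K] V, f ≠ 0 ∧
      (∀ g ∈ S, ∀ (w : W) (h : g (w : V) ∈ W), f ⟨g (w : V), h⟩ = g (f w)) ∧
      ∀ w, x (f w) ∈ LinearMap.range f := by
  obtain ⟨hW0, hWinv, -⟩ := hW
  obtain ⟨ψ, hψ⟩ := hiso
  obtain ⟨θ, hθdef⟩ : ∃ θ : W ≃ₗ[K] W, θ = (x.submoduleMap W).trans ψ := ⟨_, rfl⟩
  have hθ : ∀ g ∈ S, ∀ (w : W) (h : g (w : V) ∈ W),
      ((θ ⟨g (w : V), h⟩ : W) : V) = (x * g * x⁻¹) ((θ w : W) : V) := by
    intro g hg w h
    have h1 : (x * g * x⁻¹) ((x.submoduleMap W w : W.map (x : V →ₗ[K] V)) : V)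
        ∈ W.map (x : V →ₗ[K] V) := by
      refine ⟨g (w : V), h, ?_⟩
      rw [LinearEquiv.submoduleMap_apply]
      change x (g (w : V)) = (x * g * x⁻¹) (x (w : V))
      rw [← LinearEquiv.mul_apply (x * g * x⁻¹) x]
      have : x * g * x⁻¹ * x = x * g := by group
      rw [this, LinearEquiv.mul_apply]
    have h2 : x.submoduleMap W ⟨g (w : V), h⟩ =
        ⟨(x * g * x⁻¹) ((x.submoduleMap W w : W.map (x : V →ₗ[K] V)) : V), h1⟩ := by
      apply Subtype.ext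
      change x (g (w : V)) = (x * g * x⁻¹) (x (w : V))
      rw [← LinearEquiv.mul_apply (x * g * x⁻¹) x]
      have : x * g * x⁻¹ * x = x * g := by group
      rw [this, LinearEquiv.mul_apply]
    rw [hθdef, LinearEquiv.trans_apply, h2, hψ _ (hx g hg) _ h1]
    rfl
  -- the space of equivariant maps
  let H : Submodule K (W →ₗ[K] V) :=
    { carrier := {f | ∀ g ∈ S, ∀ (w : W) (h : g (w : V) ∈ W), f ⟨g (w : V), h⟩ = g (f w)}
      add_mem' := by
        intro a b ha hb g hg w h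
        rw [LinearMap.add_apply, LinearMap.add_apply, ha g hg w h, hb g hg w h, map_add]
      zero_mem' := by
        intro g hg w h
        simp
      smul_mem' := by
        intro c a ha g hg w h
        rw [LinearMap.smul_apply, LinearMap.smul_apply, ha g hg w h, map_smul] }
  have hHmem : ∀ f : W →ₗ[K] V, f ∈ H ↔
      ∀ g ∈ S, ∀ (w : W) (h : g (w : V) ∈ W), f ⟨g (w : V), h⟩ = g (f w) := fun f => Iff.rfl
  let T : (W →ₗ[K] V) →ₗ[K] (W →ₗ[K] V) :=
    { toFun := fun f => ((x⁻¹ : V ≃ₗ[K] V) : V →ₗ[K] V) ∘ₗ f ∘ₗ (θ : W →ₗ[K] W)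
      map_add' := by
        intro a b
        ext w
        simp
      map_smul' := by
        intro c a
        ext w
        simp }
  have hTa : ∀ (f : W →ₗ[K] V) (w : W), T f w = x⁻¹ (f (θ w)) := fun f w => rfl
  have hTH : ∀ f ∈ H, T f ∈ H := by
    intro f hf
    rw [hHmem] at hf ⊢
    intro g hg w h
    rw [hTa, hTa]
    have h1 : (x * g * x⁻¹) ((θ w : W) : V) ∈ W := hWinv _ (hx g hg) _ (θ w).2
    have h2 : θ ⟨g (w : V), h⟩ = ⟨(x * g * x⁻¹) ((θ w : W) : V), h1⟩ :=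
      Subtype.ext (hθ g hg w h)
    rw [h2, hf _ (hx g hg) (θ w) h1, ← LinearEquiv.mul_apply x⁻¹]
    have : x⁻¹ * (x * g * x⁻¹) = g * x⁻¹ := by group
    rw [this, LinearEquiv.mul_apply]
  have hsub : W.subtype ∈ H := by
    rw [hHmem]
    intro g hg w h
    rfl
  have hnt : Nontrivial H := by
    refine ⟨⟨⟨W.subtype, hsub⟩, 0, ?_⟩⟩
    intro h
    apply hW0
    rw [Submodule.eq_bot_iff]
    intro w hw
    have h1 : W.subtype ⟨w, hw⟩ = (0 : W →ₗ[K] V) ⟨w, hw⟩ := by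
      have := congrArg Subtype.val h
      exact congrArg (fun f : W →ₗ[K] V => f ⟨w, hw⟩) this
    simpa using h1
  obtain ⟨μ, hμ⟩ := Module.End.exists_eigenvalue (T.restrict hTH)
  obtain ⟨f, hf⟩ := hμ.exists_hasEigenvector
  have hf1 : T (f : W →ₗ[K] V) = μ • (f : W →ₗ[K] V) := by
    have := hf.apply_eq_smul
    exact congrArg Subtype.val this
  have hf0 : (f : W →ₗ[K] V) ≠ 0 := by
    intro h
    exact hf.2 (Subtype.ext h)
  have hμ0 : μ ≠ 0 := by
    intro h0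
    rw [h0, zero_smul] at hf1
    apply hf0
    ext w
    have h1 : T (f : W →ₗ[K] V) (θ.symm w) = 0 := by rw [hf1]; rfl
    rw [hTa, LinearEquiv.apply_symm_apply] at h1
    have h2 : x⁻¹ ((f : W →ₗ[K] V) w) = x⁻¹ 0 := by rw [h1, map_zero]
    simpa using (x⁻¹).injective h2
  refine ⟨f, hf0, (hHmem _).mp f.2, ?_⟩
  intro w
  have h1 : T (f : W →ₗ[K] V) w = μ • (f : W →ₗ[K] V) w := by rw [hf1]; rfl
  rw [hTa] at h1
  have h2 : (f : W →ₗ[K] V) (θ w) = μ • x ((f : W →ₗ[K] V) w) := by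
    have h3 : x (x⁻¹ ((f : W →ₗ[K] V) (θ w))) = x (μ • (f : W →ₗ[K] V) w) := by rw [h1]
    rw [← LinearEquiv.mul_apply, mul_inv_cancel, map_smul] at h3
    exact h3
  refine ⟨μ⁻¹ • θ w, ?_⟩
  rw [map_smul, h2, smul_smul, inv_mul_cancel₀ hμ0, one_smul]

/-- If `V` is irreducible under `S` and `x`, and `x W ≅ W` for an `S`-irreducible subspace `W`,
then `W = V`. -/
theorem eq_top_of_hhIso_map [IsAlgClosed K] [FiniteDimensional K V]
    {S : Set (V ≃ₗ[K] V)} (x : V ≃ₗ[K] V) (hx : ∀ g ∈ S, x * g * x⁻¹ ∈ S)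
    (hirr : ∀ U : Submodule K V, HHInv S U → U.map (x : V →ₗ[K] V) ≤ U → U = ⊥ ∨ U = ⊤)
    {W : Submodule K V} (hW : HHIrr S W) (hiso : HHIso S (W.map (x : V →ₗ[K] V)) W) :
    W = ⊤ := by
  obtain ⟨f, hf0, hfeq, hfx⟩ := exists_equivariant_of_hhIso_map x hx hW hiso
  have h1 : HHInv S (LinearMap.range f) := by
    rintro g hg _ ⟨w, rfl⟩
    exact ⟨⟨g (w : V), hW.2.1 g hg _ w.2⟩, hfeq g hg w _⟩
  have h2 : (LinearMap.range f).map (x : V →ₗ[K] V) ≤ LinearMap.range f := by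
    rintro _ ⟨_, ⟨w, rfl⟩, rfl⟩
    exact hfx w
  rcases hirr _ h1 h2 with h | h
  · exfalso
    apply hf0
    exact LinearMap.range_eq_bot.mp h
  · apply Submodule.eq_top_of_finrank_eq
    apply le_antisymm (Submodule.finrank_le W)
    have h3 := LinearMap.finrank_range_le f
    rw [h, finrank_top] at h3
    exact h3

/-- Clifford-type decomposition. -/
theorem hh_clifford [IsAlgClosed K] [FiniteDimensional K V] {p : ℕ} (hp : p.Prime)
    {S : Set (V ≃ₗ[K] V)} (x : V ≃ₗ[K] V) (n : ℕ) (hn : 1 ≤ n) (hxn : x ^ p ^ n = 1)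
    (hx₁ : ∀ g ∈ S, x * g * x⁻¹ ∈ S) (hx₂ : ∀ g ∈ S, x⁻¹ * g * x ∈ S)
    (hirr : ∀ U : Submodule K V, HHInv S U → U.map (x : V →ₗ[K] V) ≤ U → U = ⊥ ∨ U = ⊤)
    (hred : ∃ U : Submodule K V, HHInv S U ∧ U ≠ ⊥ ∧ U ≠ ⊤) :
    ∃ W' : Submodule K V, W' ≠ ⊥ ∧ HHInv S W' ∧
      W'.map ((x ^ p : V ≃ₗ[K] V) : V →ₗ[K] V) ≤ W' ∧
      (⨆ i ∈ Finset.range p, W'.map ((x ^ i : V ≃ₗ[K] V) : V →ₗ[K] V)) = ⊤ ∧
      Disjoint W' (⨆ i ∈ Finset.Ico 1 p, W'.map ((x ^ i : V ≃ₗ[K] V) : V →ₗ[K] V)) := by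
  obtain ⟨U, hUinv, hU0, hUtop⟩ := hred
  obtain ⟨W, hWU, hW⟩ := exists_hhIrr_le hU0 hUinv
  have hWtop : W ≠ ⊤ := by
    intro h
    apply hUtop
    rw [eq_top_iff, ← h]
    exact hWU
  -- conjugation by powers
  have hc₁ : ∀ (j : ℕ), ∀ g ∈ S, x ^ j * g * (x ^ j)⁻¹ ∈ S := by
    intro j
    induction j with
    | zero => intro g hg; simpa using hg
    | succ j ih =>
      intro g hg
      have h1 := hx₁ _ (ih g hg)
      have h2 : x * (x ^ j * g * (x ^ j)⁻¹) * x⁻¹ = x ^ (j + 1) * g * (x ^ (j + 1))⁻¹ := by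
        rw [pow_succ']; group
      rw [← h2]; exact h1
  have hc₂ : ∀ (j : ℕ), ∀ g ∈ S, (x ^ j)⁻¹ * g * x ^ j ∈ S := by
    intro j
    induction j with
    | zero => intro g hg; simpa using hg
    | succ j ih =>
      intro g hg
      have h1 := hx₂ _ (ih g hg)
      have h2 : x⁻¹ * ((x ^ j)⁻¹ * g * x ^ j) * x = (x ^ (j + 1))⁻¹ * g * x ^ (j + 1) := by
        rw [pow_succ]; group
      rw [← h2]; exact h1
  obtain ⟨F, hFdef⟩ : ∃ F : ℕ → Submodule K V,
      F = fun j => W.map ((x ^ j : V ≃ₗ[K] V) : V →ₗ[K] V) := ⟨_, rfl⟩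
  have hF : ∀ j, HHIrr S (F j) := by
    intro j
    rw [hFdef]
    exact hW.map_conj (x ^ j) (hc₂ j) (hc₁ j)
  have hFadd : ∀ i j, (F j).map ((x ^ i : V ≃ₗ[K] V) : V →ₗ[K] V) = F (i + j) := by
    intro i j
    rw [hFdef]
    apply le_antisymm
    · rintro _ ⟨_, ⟨w, hw, rfl⟩, rfl⟩
      refine ⟨w, hw, ?_⟩
      change (x ^ (i + j)) w = (x ^ i) ((x ^ j) w)
      rw [pow_add, LinearEquiv.mul_apply]
    · rintro _ ⟨w, hw, rfl⟩
      refine ⟨_, ⟨w, hw, rfl⟩, ?_⟩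
      change (x ^ i) ((x ^ j) w) = (x ^ (i + j)) w
      rw [pow_add, LinearEquiv.mul_apply]
  have hF0 : F 0 = W := by
    rw [hFdef]
    apply le_antisymm
    · rintro _ ⟨w, hw, rfl⟩
      simpa using hw
    · intro w hw
      exact ⟨w, hw, by simp⟩
  have hFper : ∀ t j, F (j + p ^ n * t) = F j := by
    intro t j
    rw [hFdef]
    have : x ^ (j + p ^ n * t) = x ^ j := by
      rw [pow_add, pow_mul, hxn, one_pow, mul_one]
    simp only [this]
  have hF1 : F 1 = W.map (x : V →ₗ[K] V) := by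
    rw [hFdef]
    simp only [pow_one]
  have claim1 : ¬ HHIso S (F 1) W := by
    intro h
    rw [hF1] at h
    exact hWtop (eq_top_of_hhIso_map x hx₁ hirr hW h)
  have hadd : ∀ i j, HHIso S (F i) W → HHIso S (F j) W → HHIso S (F (i + j)) W := by
    intro i j hi hj
    have h1 := hj.map_conj (x ^ i) (hc₂ i) (hF j).2.1
    have h0 : W.map ((x ^ i : V ≃ₗ[K] V) : V →ₗ[K] V) = F i := by
      have := hFadd i 0
      rw [hF0, add_zero] at this
      exact this
    rw [hFadd, h0] at h1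
    exact h1.trans hi
  have hmul : ∀ i, HHIso S (F i) W → ∀ m, HHIso S (F (i * m)) W := by
    intro i hi m
    induction m with
    | zero =>
      rw [Nat.mul_zero, hF0]
      exact HHIso.refl S W
    | succ m ih =>
      rw [Nat.mul_succ]
      exact hadd _ _ ih hi
  have hp1 : 1 < p ^ n := Nat.one_lt_pow (by omega) hp.one_lt
  have claim2 : ∀ i, HHIso S (F i) W → p ∣ i := by
    intro i hi
    by_contra hpi
    have hcop : Nat.Coprime i (p ^ n) :=
      Nat.Coprime.pow_right n ((Nat.Prime.coprime_iff_not_dvd hp).mpr hpi).symm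
    obtain ⟨m, -, hm⟩ := Nat.exists_mul_mod_eq_one_of_coprime hcop hp1
    have h1 : i * m = 1 + p ^ n * (i * m / p ^ n) := by
      have := Nat.mod_add_div (i * m) (p ^ n)
      rw [hm] at this
      exact this.symm
    have h2 := hmul i hi m
    rw [h1, hFper] at h2
    exact claim1 h2
  have hpn : p ∣ p ^ n := dvd_pow_self p (by omega)
  have claim3 : ∀ j j', HHIso S (F j) (F j') → j % p = j' % p := by
    intro j j' hjj
    obtain ⟨k, hk⟩ : ∃ k, k + j = p ^ n * j := by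
      refine ⟨p ^ n * j - j, ?_⟩
      have : j ≤ p ^ n * j := Nat.le_mul_of_pos_left j (by omega)
      omega
    have h1 := hjj.map_conj (x ^ k) (hc₂ k) (hF j).2.1
    rw [hFadd, hFadd, hk] at h1
    have h2 : F (p ^ n * j) = W := by
      have := hFper j 0
      rw [zero_add] at this
      rw [this, hF0]
    rw [h2] at h1
    have h3 : p ∣ k + j' := claim2 _ (h1.symm hW.2.1)
    have h4 : p ∣ k + j := by rw [hk]; exact Dvd.dvd.mul_right hpn j
    have h5 : (k + j) % p = (k + j') % p := by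
      rw [Nat.mod_eq_zero_of_dvd h3, Nat.mod_eq_zero_of_dvd h4]
    exact Nat.ModEq.add_left_cancel' k h5
  obtain ⟨F₀, hF₀⟩ : ∃ F₀ : Set (Submodule K V), F₀ = {X | ∃ m, m % p = 0 ∧ X = F m} :=
    ⟨_, rfl⟩
  obtain ⟨F₁, hF₁⟩ : ∃ F₁ : Set (Submodule K V), F₁ = {X | ∃ m, m % p ≠ 0 ∧ X = F m} :=
    ⟨_, rfl⟩
  have hF₀irr : ∀ X ∈ F₀, HHIrr S X := by
    intro X hX
    rw [hF₀] at hX
    obtain ⟨m, -, rfl⟩ := hX
    exact hF m
  have hF₁irr : ∀ X ∈ F₁, HHIrr S X := by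
    intro X hX
    rw [hF₁] at hX
    obtain ⟨m, -, rfl⟩ := hX
    exact hF m
  have hmem₀ : ∀ m, m % p = 0 → F m ≤ sSup F₀ := by
    intro m hm
    apply le_sSup
    rw [hF₀]
    exact ⟨m, hm, rfl⟩
  have hmem₁ : ∀ m, m % p ≠ 0 → F m ≤ sSup F₁ := by
    intro m hm
    apply le_sSup
    rw [hF₁]
    exact ⟨m, hm, rfl⟩
  have hW'inv : HHInv S (sSup F₀) := hhInv_sSup fun X hX => (hF₀irr X hX).2.1
  have hmapF₀ : ∀ (i : ℕ) (Y : Submodule K V), (∀ m, m % p = 0 → F (i + m) ≤ Y) →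
      (sSup F₀).map ((x ^ i : V ≃ₗ[K] V) : V →ₗ[K] V) ≤ Y := by
    intro i Y hY
    rw [Submodule.map_le_iff_le_comap]
    apply sSup_le
    intro X hX
    rw [hF₀] at hX
    obtain ⟨m, hm, rfl⟩ := hX
    rw [← Submodule.map_le_iff_le_comap, hFadd]
    exact hY m hm
  refine ⟨sSup F₀, ?_, hW'inv, ?_, ?_, ?_⟩
  · intro h
    apply hW.1
    rw [eq_bot_iff, ← h, ← hF0]
    exact hmem₀ 0 (Nat.zero_mod p)
  · apply hmapF₀
    intro m hm
    apply hmem₀
    rw [Nat.add_mod, hm, Nat.mod_self]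
    simp
  · -- the sum is everything
    obtain ⟨T, hT⟩ : ∃ T : Submodule K V, T = sSup {X | ∃ m, X = F m} := ⟨_, rfl⟩
    have hTinv : HHInv S T := by
      rw [hT]
      apply hhInv_sSup
      rintro X ⟨m, rfl⟩
      exact (hF m).2.1
    have hTx : T.map (x : V →ₗ[K] V) ≤ T := by
      rw [hT, Submodule.map_le_iff_le_comap]
      apply sSup_le
      rintro X ⟨m, rfl⟩
      rw [← Submodule.map_le_iff_le_comap]
      have := hFadd 1 m
      rw [pow_one] at this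
      rw [this]
      exact le_sSup ⟨1 + m, rfl⟩
    have hT0 : T ≠ ⊥ := by
      intro h
      apply hW.1
      rw [eq_bot_iff, ← h, hT, ← hF0]
      exact le_sSup ⟨0, rfl⟩
    have hTtop : T = ⊤ := by
      rcases hirr T hTinv hTx with h | h
      · exact absurd h hT0
      · exact h
    rw [eq_top_iff, ← hTtop, hT]
    apply sSup_le
    rintro X ⟨m, rfl⟩
    have h1 : F m = (F (m - m % p)).map ((x ^ (m % p) : V ≃ₗ[K] V) : V →ₗ[K] V) := by
      rw [hFadd]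
      congr 1
      have := Nat.mod_le m p
      omega
    have h2 : F (m - m % p) ≤ sSup F₀ := by
      apply hmem₀
      have h3 : m - m % p = p * (m / p) := by
        have := Nat.mod_add_div m p
        omega
      rw [h3, Nat.mul_mod_right]
    rw [h1]
    exact le_trans (Submodule.map_mono h2)
      (le_biSup (fun i => (sSup F₀).map ((x ^ i : V ≃ₗ[K] V) : V →ₗ[K] V))
        (Finset.mem_range.mpr (Nat.mod_lt m hp.pos)))
  · have hY : (⨆ i ∈ Finset.Ico 1 p, (sSup F₀).map ((x ^ i : V ≃ₗ[K] V) : V →ₗ[K] V))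
        ≤ sSup F₁ := by
      apply iSup₂_le
      intro i hi
      rw [Finset.mem_Ico] at hi
      apply hmapF₀
      intro m hm
      apply hmem₁
      rw [Nat.add_mod, hm, add_zero, Nat.mod_mod, Nat.mod_eq_of_lt hi.2]
      omega
    apply Disjoint.mono_right hY
    rw [disjoint_iff]
    by_contra hne
    obtain ⟨U', hU'le, hU'⟩ := exists_hhIrr_le hne
      (hW'inv.inf (hhInv_sSup fun X hX => (hF₁irr X hX).2.1))
    obtain ⟨X₀, hX₀, hiso₀⟩ := exists_hhIso_of_le_sSup hU' F₀ hF₀irr (hU'le.trans inf_le_left)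
    obtain ⟨X₁, hX₁, hiso₁⟩ := exists_hhIso_of_le_sSup hU' F₁ hF₁irr (hU'le.trans inf_le_right)
    rw [hF₀] at hX₀
    rw [hF₁] at hX₁
    obtain ⟨m₀, hm₀, rfl⟩ := hX₀
    obtain ⟨m₁, hm₁, rfl⟩ := hX₁
    have h1 := claim3 m₀ m₁ ((hiso₀.symm hU'.2.1).trans hiso₁)
    omega

end Cfsg.Agent.Lib.helper3
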