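import Mathlib

/-!
# Nilpotency index of `x - 1` on an induced module

If `V ⊇ W'` with `W'` invariant under `x ^ p` and `W'` disjoint from `∑_{0<i<p} x^i W'`, then
in characteristic `p`: `(x ^ p - 1) ^ k w ≠ 0` for some `w ∈ W'` implies
`(x - 1) ^ (p * k + (p - 1)) ≠ 0`.
-/

set_option autoImplicit false

namespace Cfsg.Agent.Lib.helper3

open Module Polynomial

variable {K : Type*} [Field K] {V : Type*} [AddCommGroup V] [Module K V]

theorem poly_sub_one_pow_char (p : ℕ) [Fact p.Prime] [CharP K p] :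
    ((X : K[X]) - 1) ^ p = X ^ p - 1 := by
  rw [sub_pow_char, one_pow]

theorem poly_sub_one_pow_pred (p : ℕ) [hp : Fact p.Prime] [CharP K p] :
    ((X : K[X]) - 1) ^ (p - 1) = ∑ i ∈ Finset.range p, X ^ i := by
  have h1 : ((X : K[X]) - 1) * (X - 1) ^ (p - 1) = (X - 1) * ∑ i ∈ Finset.range p, X ^ i := by
    rw [mul_geom_sum, ← pow_succ', Nat.sub_add_cancel hp.out.one_le, poly_sub_one_pow_char]
  have h2 : (X : K[X]) - 1 ≠ 0 := X_sub_C_ne_zero (1 : K)
  exact mul_left_cancel₀ h2 h1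

theorem end_sub_one_pow_char (p : ℕ) [Fact p.Prime] [CharP K p] (f : Module.End K V) :
    (f - 1) ^ p = f ^ p - 1 := by
  have := congrArg (Polynomial.aeval f) (poly_sub_one_pow_char (K := K) p)
  simpa using this

theorem end_sub_one_pow_pred (p : ℕ) [Fact p.Prime] [CharP K p] (f : Module.End K V) :
    (f - 1) ^ (p - 1) = ∑ i ∈ Finset.range p, f ^ i := by
  have := congrArg (Polynomial.aeval f) (poly_sub_one_pow_pred (K := K) p)
  simpa using this

theorem end_sub_one_pow_char_pow (p : ℕ) [Fact p.Prime] [CharP K p] (f : Module.End K V)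
    (n : ℕ) : (f - 1) ^ p ^ n = f ^ p ^ n - 1 := by
  induction n with
  | zero => simp
  | succ n ih => rw [pow_succ, pow_mul, ih, end_sub_one_pow_char, ← pow_mul]

theorem linearEquiv_coe_pow (x : V ≃ₗ[K] V) (i : ℕ) :
    ((x ^ i : V ≃ₗ[K] V) : Module.End K V) = ((x : V ≃ₗ[K] V) : Module.End K V) ^ i :=
  map_pow (LinearEquiv.automorphismGroup.toLinearMapMonoidHom (R := K) (M := V)) x i

/-- Nilpotency index on an induced module. -/
theorem hh_induced_nil {p : ℕ} [hp : Fact p.Prime] [CharP K p] (x : V ≃ₗ[K] V)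
    (W' : Submodule K V)
    (hxp : W'.map ((x ^ p : V ≃ₗ[K] V) : V →ₗ[K] V) ≤ W')
    (hdisj : Disjoint W' (⨆ i ∈ Finset.Ico 1 p, W'.map ((x ^ i : V ≃ₗ[K] V) : V →ₗ[K] V)))
    (k : ℕ) (w : V) (hw : w ∈ W')
    (hne : ((((x ^ p : V ≃ₗ[K] V) : Module.End K V) - 1) ^ k) w ≠ 0) :
    (((x : V ≃ₗ[K] V) : Module.End K V) - 1) ^ (p * k + (p - 1)) ≠ 0 := by
  obtain ⟨f, hf⟩ : ∃ f : Module.End K V, f = ((x : V ≃ₗ[K] V) : Module.End K V) := ⟨_, rfl⟩
  have hfi : ∀ i : ℕ, ((x ^ i : V ≃ₗ[K] V) : Module.End K V) = f ^ i := fun i => by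
    rw [hf, linearEquiv_coe_pow]
  rw [hfi] at hne
  rw [← hf]
  have hinv : ∀ v ∈ W', (f ^ p - 1) v ∈ W' := by
    intro v hv
    rw [LinearMap.sub_apply, Module.End.one_apply]
    refine W'.sub_mem (hxp ⟨v, hv, ?_⟩) hv
    rw [← hfi]
  have hinvk : ∀ j : ℕ, ∀ v ∈ W', ((f ^ p - 1) ^ j) v ∈ W' := by
    intro j
    induction j with
    | zero => intro v hv; simpa using hv
    | succ j ih =>
      intro v hv
      rw [pow_succ', Module.End.mul_apply]
      exact hinv _ (ih v hv)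
  obtain ⟨w', hw'⟩ : ∃ w' : V, w' = ((f ^ p - 1) ^ k) w := ⟨_, rfl⟩
  have hw'W : w' ∈ W' := hw' ▸ hinvk k w hw
  have hw'0 : w' ≠ 0 := hw' ▸ hne
  have hexp : (f - 1) ^ (p * k + (p - 1)) = (∑ i ∈ Finset.range p, f ^ i) * (f ^ p - 1) ^ k := by
    rw [pow_add, pow_mul, end_sub_one_pow_char, end_sub_one_pow_pred]
    have hc : Commute (f ^ p - 1) (∑ i ∈ Finset.range p, f ^ i) := by
      apply Commute.sum_right
      intro i _
      exact ((Commute.pow_pow (Commute.refl f) p i).sub_left (Commute.one_left _))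
    exact (hc.pow_left k).eq
  intro h0
  have h1 : ((f - 1) ^ (p * k + (p - 1))) w = 0 := by rw [h0]; rfl
  rw [hexp, Module.End.mul_apply, ← hw', LinearMap.sum_apply] at h1
  have h2 : Finset.range p = insert 0 (Finset.Ico 1 p) := by
    ext i
    simp only [Finset.mem_range, Finset.mem_insert, Finset.mem_Ico]
    have := hp.out.pos
    omega
  rw [h2, Finset.sum_insert (by simp)] at h1
  have h3 : w' = -∑ i ∈ Finset.Ico 1 p, (f ^ i) w' := by
    have : (f ^ 0) w' = w' := by simp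
    rw [this] at h1
    exact eq_neg_of_add_eq_zero_left h1
  have h4 : ∑ i ∈ Finset.Ico 1 p, (f ^ i) w' ∈
      ⨆ i ∈ Finset.Ico 1 p, W'.map ((x ^ i : V ≃ₗ[K] V) : V →ₗ[K] V) := by
    apply Submodule.sum_mem
    intro i hi
    have h5 : (f ^ i) w' ∈ W'.map ((x ^ i : V ≃ₗ[K] V) : V →ₗ[K] V) := by
      refine ⟨w', hw'W, ?_⟩
      rw [← hfi]
    exact (le_biSup (fun i => W'.map ((x ^ i : V ≃ₗ[K] V) : V →ₗ[K] V)) hi) h5
  have h5 : w' ∈ W' ⊓ ⨆ i ∈ Finset.Ico 1 p, W'.map ((x ^ i : V ≃ₗ[K] V) : V →ₗ[K] V) := by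
    refine ⟨hw'W, ?_⟩
    rw [h3]
    exact Submodule.neg_mem _ h4
  rw [disjoint_iff.mp hdisj, Submodule.mem_bot] at h5
  exact hw'0 h5

end Cfsg.Agent.Lib.helper3
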