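import Mathlib
import Cfsg.Agent.Lib.helper3.HHIrr
import Cfsg.Agent.Lib.helper3.HHInd
import Cfsg.Agent.Lib.helper75.HHMain

/-!
# The critical case of Hall–Higman Theorem B

A minimal `x`-invariant `q`-group `Q ≤ GL(V)` not centralized by `y = x ^ p ^ (n - 1)`, acting
irreducibly on `V` over an algebraically closed field of characteristic `p`, satisfies the
hypotheses of `Cfsg.Agent.Lib.helper75.hh_critical`.
-/

set_option autoImplicit false

namespace Cfsg.Agent.Lib.helper3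

open Module
open scoped commutatorElement Pointwise

variable {K : Type*} [Field K] {V : Type*} [AddCommGroup V] [Module K V]

/-- The conclusion of Hall–Higman Theorem B, as a lower bound `B` for the nilpotency index
of `X - 1`. -/
def HHConcl (p q n : ℕ) (nonab : Prop) (X : Module.End K V) : Prop :=
  ∃ B : ℕ, (X - 1) ^ (B - 1) ≠ 0 ∧
    (B = p ^ n ∨ ∃ n₀ m : ℕ, 1 ≤ n₀ ∧ n₀ ≤ n ∧ 1 ≤ m ∧ p ^ n₀ - 1 = q ^ m ∧ nonab ∧
      B = p ^ (n - n₀) * (p ^ n₀ - 1))

/-- Schur's lemma: an automorphism commuting with an irreducible set of operators is a scalar. -/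
theorem hh_schur_scalar [IsAlgClosed K] [FiniteDimensional K V] [Nontrivial V]
    {S : Set (V ≃ₗ[K] V)} (hirr : ∀ U : Submodule K V, HHInv S U → U = ⊥ ∨ U = ⊤)
    (c : V ≃ₗ[K] V) (hc : ∀ g ∈ S, c * g = g * c) : ∃ μ : K, ∀ v, c v = μ • v := by
  obtain ⟨μ, hμ⟩ := Module.End.exists_eigenvalue ((c : V ≃ₗ[K] V) : Module.End K V)
  obtain ⟨v0, hv0⟩ := hμ.exists_hasEigenvector
  refine ⟨μ, ?_⟩
  have hE : HHInv S (Module.End.eigenspace ((c : V ≃ₗ[K] V) : Module.End K V) μ) := by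
    intro g hg v hv
    rw [Module.End.mem_eigenspace_iff] at hv ⊢
    change c (g v) = μ • g v
    have h1 : c v = μ • v := hv
    rw [← LinearEquiv.mul_apply, hc g hg, LinearEquiv.mul_apply, h1, map_smul]
  rcases hirr _ hE with h | h
  · exfalso
    have h1 : v0 ∈ Module.End.eigenspace ((c : V ≃ₗ[K] V) : Module.End K V) μ := hv0.1
    rw [h, Submodule.mem_bot] at h1
    exact hv0.2 h1
  · intro v
    have h1 : v ∈ Module.End.eigenspace ((c : V ≃ₗ[K] V) : Module.End K V) μ := by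
      rw [h]; exact Submodule.mem_top
    rw [Module.End.mem_eigenspace_iff] at h1
    exact h1

/-- In a cyclic group of order `p ^ n`, an element commuting with a nontrivial power of the
generator commutes with the element of order `p`. -/
theorem hh_comm_y {G : Type*} [Group G] {p : ℕ} [hp : Fact p.Prime] (x a : G) (n : ℕ)
    (hn : 1 ≤ n) (hx : orderOf x = p ^ n) (z : G) (hz : z ∈ Subgroup.zpowers x) (hz1 : z ≠ 1)
    (h : a * z = z * a) : a * x ^ p ^ (n - 1) = x ^ p ^ (n - 1) * a := by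
  have hfin : IsOfFinOrder x := by
    rw [← orderOf_pos_iff, hx]
    exact pow_pos hp.out.pos n
  rw [← hfin.mem_powers_iff_mem_zpowers, Submonoid.mem_powers_iff] at hz
  obtain ⟨k, rfl⟩ := hz
  have hk0 : k ≠ 0 := by
    rintro rfl
    exact hz1 (pow_zero x)
  obtain ⟨e, m, hm, hkm⟩ := Nat.exists_eq_pow_mul_and_not_dvd hk0 p hp.out.ne_one
  have he : e < n := by
    by_contra hcon
    push Not at hcon
    apply hz1
    rw [← orderOf_dvd_iff_pow_eq_one, hx, hkm]
    exact Dvd.dvd.mul_right (pow_dvd_pow p hcon) m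
  have hxp : x ^ p ^ n = 1 := by rw [← hx]; exact pow_orderOf_eq_one x
  obtain ⟨y, hy⟩ : ∃ y : G, y = x ^ p ^ (n - 1) := ⟨_, rfl⟩
  have hyp : y ^ p = 1 := by
    rw [hy, ← pow_mul, ← pow_succ, Nat.sub_add_cancel hn, hxp]
  have h1 : (x ^ k) ^ p ^ (n - 1 - e) = y ^ m := by
    rw [hy, ← pow_mul, ← pow_mul, hkm]
    congr 1
    have h2 : p ^ (n - 1) = p ^ e * p ^ (n - 1 - e) := by
      rw [← pow_add]
      congr 1
      omega
    rw [h2]
    ring
  have hc1 : Commute a (y ^ m) := by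
    rw [← h1]
    exact Commute.pow_right h _
  have hcop : Nat.Coprime m p := ((Nat.Prime.coprime_iff_not_dvd hp.out).mpr hm).symm
  obtain ⟨m', -, hm'⟩ := Nat.exists_mul_mod_eq_one_of_coprime hcop hp.out.one_lt
  have h3 : (y ^ m) ^ m' = y := by
    rw [← pow_mul]
    have h4 : m * m' = 1 + p * (m * m' / p) := by
      have := Nat.mod_add_div (m * m') p
      rw [hm'] at this
      exact this.symm
    rw [h4, pow_add, pow_mul, hyp, one_pow, pow_one, mul_one]
  rw [← hy, ← h3]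
  exact (hc1.pow_right m').eq

/-- The critical case of Hall–Higman Theorem B. -/
theorem hh_critical_case {p q : ℕ} [hp : Fact p.Prime] [hq : Fact q.Prime] (hpq : p ≠ q)
    [IsAlgClosed K] [CharP K p] [FiniteDimensional K V]
    (Q : Subgroup (V ≃ₗ[K] V)) [Finite Q] (hQ : IsPGroup q Q) (x : V ≃ₗ[K] V)
    (hxQ : ∀ g ∈ Q, x * g * x⁻¹ ∈ Q) (n : ℕ) (hn : 1 ≤ n) (hx : orderOf x = p ^ n)
    (hy : ∃ g ∈ Q, ⁅g, x ^ p ^ (n - 1)⁆ ≠ 1)
    (hmin : ∀ Q₁ : Subgroup (V ≃ₗ[K] V), Q₁ < Q → (∀ g ∈ Q₁, x * g * x⁻¹ ∈ Q₁) →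
      ∀ g ∈ Q₁, ⁅g, x ^ p ^ (n - 1)⁆ = 1)
    (hirr : ∀ U : Submodule K V, HHInv (Q : Set (V ≃ₗ[K] V)) U → U = ⊥ ∨ U = ⊤) :
    HHConcl p q n (¬ IsMulCommutative Q) ((x : V ≃ₗ[K] V) : Module.End K V) := by
  classical
  obtain ⟨y, hydef⟩ : ∃ y : V ≃ₗ[K] V, y = x ^ p ^ (n - 1) := ⟨_, rfl⟩
  rw [← hydef] at hy hmin
  have hxp : x ^ p ^ n = 1 := by rw [← hx]; exact pow_orderOf_eq_one x
  have hyp : y ^ p = 1 := by
    rw [hydef, ← pow_mul, ← pow_succ, Nat.sub_add_cancel hn, hxp]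
  have hntV : Nontrivial V := by
    rcases subsingleton_or_nontrivial V with h | h
    · exfalso
      obtain ⟨g, -, hg⟩ := hy
      apply hg
      apply LinearEquiv.ext
      intro v
      exact Subsingleton.elim _ _
    · exact h
  -- `x` normalizes `Q`
  have hxj : ∀ (j : ℕ), ∀ g ∈ Q, x ^ j * g * (x ^ j)⁻¹ ∈ Q := by
    intro j
    induction j with
    | zero => intro g hg; simpa using hg
    | succ j ih =>
      intro g hg
      have h1 := hxQ _ (ih g hg)
      have h2 : x * (x ^ j * g * (x ^ j)⁻¹) * x⁻¹ = x ^ (j + 1) * g * (x ^ (j + 1))⁻¹ := by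
        rw [pow_succ']; group
      rw [← h2]; exact h1
  have hxinv : x⁻¹ = x ^ (p ^ n - 1) := by
    apply inv_eq_of_mul_eq_one_left
    rw [← pow_succ, Nat.sub_add_cancel (Nat.one_le_pow _ _ hp.out.pos), hxp]
  have hxQ' : ∀ g ∈ Q, x⁻¹ * g * x ∈ Q := by
    intro g hg
    have h1 := hxj (p ^ n - 1) g hg
    rw [← hxinv, inv_inv] at h1
    exact h1
  have hxN : x ∈ Subgroup.normalizer (Q : Set (V ≃ₗ[K] V)) := by
    rw [Subgroup.mem_normalizer_iff]
    intro g
    constructor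
    · exact hxQ g
    · intro h
      have h1 := hxQ' _ h
      have h2 : x⁻¹ * (x * g * x⁻¹) * x = g := by group
      rw [h2] at h1
      exact h1
  have hzN : Subgroup.zpowers x ≤ Subgroup.normalizer (Q : Set (V ≃ₗ[K] V)) :=
    (Subgroup.zpowers_le).mpr hxN
  have hyx : y ∈ Subgroup.zpowers x := by
    rw [hydef]; exact Subgroup.pow_mem _ (Subgroup.mem_zpowers x) _
  have hYx : Subgroup.zpowers y ≤ Subgroup.zpowers x := (Subgroup.zpowers_le).mpr hyx
  have hcomm_zx : ∀ z ∈ Subgroup.zpowers x, x * z = z * x := by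
    intro z hz
    obtain ⟨k, rfl⟩ := Subgroup.mem_zpowers_iff.mp hz
    exact ((Commute.refl x).zpow_right k).eq
  -- `q`-elements of `Q` killed by `p` are trivial
  have hqp : ∀ c ∈ Q, c ^ p = 1 → c = 1 := by
    intro c hc hcp
    obtain ⟨k, hk⟩ := hQ ⟨c, hc⟩
    have hk' : c ^ q ^ k = 1 := by
      have := congrArg Subtype.val hk
      simpa using this
    have h3 : orderOf c ∣ Nat.gcd p (q ^ k) :=
      Nat.dvd_gcd (orderOf_dvd_of_pow_eq_one hcp) (orderOf_dvd_of_pow_eq_one hk')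
    have h4 : Nat.Coprime p (q ^ k) :=
      Nat.Coprime.pow_right k ((Nat.coprime_primes hp.out hq.out).mpr hpq)
    rw [h4, Nat.dvd_one] at h3
    exact orderOf_eq_one_iff.mp h3
  -- `[Q, y] = Q`
  have hR : ⁅Q, Subgroup.zpowers y⁆ = Q := by
    have hle : ⁅Q, Subgroup.zpowers y⁆ ≤ Q := by
      rw [Subgroup.commutator_le]
      intro g hg z hz
      have h1 : z * g⁻¹ * z⁻¹ ∈ Q :=
        (Subgroup.mem_normalizer_iff.mp (hzN (hYx hz)) g⁻¹).mp (Q.inv_mem hg)
      have h2 : ⁅g, z⁆ = g * (z * g⁻¹ * z⁻¹) := by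
        rw [commutatorElement_def]; group
      rw [h2]
      exact Q.mul_mem hg h1
    by_contra hne
    have hlt : ⁅Q, Subgroup.zpowers y⁆ < Q := lt_of_le_of_ne hle hne
    have hinv : ∀ r ∈ ⁅Q, Subgroup.zpowers y⁆, x * r * x⁻¹ ∈ ⁅Q, Subgroup.zpowers y⁆ := by
      have h1 : ⁅Q, Subgroup.zpowers y⁆ ≤
          (⁅Q, Subgroup.zpowers y⁆).comap (MulAut.conj x).toMonoidHom := by
        rw [Subgroup.commutator_le]
        intro g hg z hz
        rw [Subgroup.mem_comap]
        change (MulAut.conj x) ⁅g, z⁆ ∈ _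
        rw [MulAut.conj_apply]
        have h2 : x * ⁅g, z⁆ * x⁻¹ = ⁅x * g * x⁻¹, z⁆ := by
          have h3 := hcomm_zx z (hYx hz)
          have h4 : x * z * x⁻¹ = z := by rw [h3]; group
          have h5 : x * ⁅g, z⁆ * x⁻¹ = ⁅x * g * x⁻¹, x * z * x⁻¹⁆ := by
            simp only [commutatorElement_def]; group
          rw [h5, h4]
        rw [h2]
        exact Subgroup.commutator_mem_commutator (hxQ g hg) hz
      intro r hr
      have := h1 hr
      rw [Subgroup.mem_comap] at this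
      exact this
    have hcent := hmin _ hlt hinv
    obtain ⟨g, hg, hgy⟩ := hy
    apply hgy
    have hc : ⁅g, y⁆ ∈ ⁅Q, Subgroup.zpowers y⁆ :=
      Subgroup.commutator_mem_commutator hg (Subgroup.mem_zpowers y)
    have hcy : Commute ⁅g, y⁆ y := by
      have h1 := hcent _ hc
      rw [commutatorElement_eq_one_iff_commute] at h1
      exact h1
    apply hqp _ (hle hc)
    have h1 : g * y * g⁻¹ = ⁅g, y⁆ * y := by
      rw [commutatorElement_def]; group
    have h2 : (g * y * g⁻¹) ^ p = 1 := by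
      rw [conj_pow, hyp]; group
    rw [h1, hcy.mul_pow, hyp, mul_one] at h2
    exact h2
  -- the derived subgroup is centralized by `y`
  have hder : ∀ r ∈ ⁅Q, Q⁆, ⁅r, y⁆ = 1 := by
    have hle : ⁅Q, Q⁆ ≤ Q := Subgroup.commutator_le_self Q
    have hne : ⁅Q, Q⁆ ≠ Q := by
      intro h
      have hnt : Nontrivial Q := by
        obtain ⟨g, hg, hgy⟩ := hy
        refine ⟨⟨⟨g, hg⟩, 1, ?_⟩⟩
        intro h1
        apply hgy
        have h2 : g = 1 := congrArg Subtype.val h1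
        rw [h2, commutatorElement_def]; group
      have hnil : Group.IsNilpotent Q := hQ.isNilpotent
      have h1 := Group.IsSolvable.commutator_lt_top_of_nontrivial Q
      have h2 : (commutator Q).map Q.subtype = (⊤ : Subgroup Q).map Q.subtype := by
        rw [Subgroup.map_subtype_commutator, h, ← MonoidHom.range_eq_map, Subgroup.range_subtype]
      have h3 := Subgroup.map_injective Q.subtype_injective h2
      exact (ne_of_lt h1) h3
    have hinv : ∀ r ∈ ⁅Q, Q⁆, x * r * x⁻¹ ∈ ⁅Q, Q⁆ := by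
      have h1 : ⁅Q, Q⁆ ≤ (⁅Q, Q⁆).comap (MulAut.conj x).toMonoidHom := by
        rw [Subgroup.commutator_le]
        intro g hg z hz
        rw [Subgroup.mem_comap]
        change (MulAut.conj x) ⁅g, z⁆ ∈ _
        rw [MulAut.conj_apply]
        have h5 : x * ⁅g, z⁆ * x⁻¹ = ⁅x * g * x⁻¹, x * z * x⁻¹⁆ := by
          simp only [commutatorElement_def]; group
        rw [h5]
        exact Subgroup.commutator_mem_commutator (hxQ g hg) (hxQ z hz)
      intro r hr
      have := h1 hr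
      rw [Subgroup.mem_comap] at this
      exact this
    exact hmin _ (lt_of_le_of_ne hle hne) hinv
  -- elements of `Q` commuting with `y` are central in `Q`
  have hcentral : ∀ c ∈ Q, c * y = y * c → ∀ g ∈ Q, c * g = g * c := by
    obtain ⟨C, hC⟩ : ∃ C : Subgroup (V ≃ₗ[K] V), C = Q ⊓ Subgroup.centralizer {y} := ⟨_, rfl⟩
    have hCmem : ∀ c, c ∈ C ↔ c ∈ Q ∧ c * y = y * c := by
      intro c
      rw [hC, Subgroup.mem_inf, Subgroup.mem_centralizer_singleton_iff]
    have h1 : ⁅⁅Subgroup.zpowers y, C⁆, Q⁆ = ⊥ := by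
      have h2 : ⁅Subgroup.zpowers y, C⁆ = ⊥ := by
        rw [Subgroup.commutator_eq_bot_iff_le_centralizer, Subgroup.zpowers_le,
          Subgroup.mem_centralizer_iff]
        intro c hc
        exact ((hCmem c).mp hc).2
      rw [h2, Subgroup.commutator_bot_left]
    have h2 : ⁅⁅C, Q⁆, Subgroup.zpowers y⁆ = ⊥ := by
      rw [Subgroup.commutator_comm, Subgroup.commutator_eq_bot_iff_le_centralizer,
        Subgroup.zpowers_le, Subgroup.mem_centralizer_iff]
      intro r hr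
      have h3 : r ∈ ⁅Q, Q⁆ := by
        have hCQ : C ≤ Q := by rw [hC]; exact inf_le_left
        exact (Subgroup.commutator_mono hCQ le_rfl) hr
      have h4 := hder r h3
      rw [commutatorElement_eq_one_iff_commute] at h4
      exact h4.eq
    have h3 := Subgroup.commutator_commutator_eq_bot_of_rotate h1 h2
    rw [hR, Subgroup.commutator_eq_bot_iff_le_centralizer] at h3
    intro c hc hcy g hg
    have h4 := h3 hg
    rw [Subgroup.mem_centralizer_iff] at h4
    exact h4 c ((hCmem c).mpr ⟨hc, hcy⟩)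
  -- hence they are scalars
  have hscalar : ∀ c ∈ Q, c * y = y * c → ∀ t : V ≃ₗ[K] V, c * t = t * c := by
    intro c hc hcy t
    obtain ⟨μ, hμ⟩ := hh_schur_scalar hirr c (fun g hg => hcentral c hc hcy g hg)
    apply LinearEquiv.ext
    intro v
    rw [LinearEquiv.mul_apply, LinearEquiv.mul_apply, hμ, hμ, map_smul]
  -- the finite group `L = Q ⟨x⟩`
  obtain ⟨L, hL⟩ : ∃ L : Subgroup (V ≃ₗ[K] V), L = Q ⊔ Subgroup.zpowers x := ⟨_, rfl⟩
  have hQL : Q ≤ L := hL ▸ le_sup_left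
  have hxL : x ∈ L := hL ▸ (le_sup_right : Subgroup.zpowers x ≤ Q ⊔ Subgroup.zpowers x)
    (Subgroup.mem_zpowers x)
  have hLdecomp : ∀ l ∈ L, ∃ a ∈ Q, ∃ t ∈ Subgroup.zpowers x, l = a * t := by
    intro l hl
    have h1 : (↑(Q ⊔ Subgroup.zpowers x) : Set (V ≃ₗ[K] V)) = Q * Subgroup.zpowers x :=
      Subgroup.coe_mul_of_right_le_normalizer_left Q (Subgroup.zpowers x) hzN
    have h2 : l ∈ (↑(Q ⊔ Subgroup.zpowers x) : Set (V ≃ₗ[K] V)) := hL ▸ hl
    rw [h1] at h2
    obtain ⟨a, ha, t, ht, rfl⟩ := h2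
    exact ⟨a, ha, t, ht, rfl⟩
  have hfinx : IsOfFinOrder x := by
    rw [← orderOf_pos_iff, hx]
    exact pow_pos hp.out.pos n
  have hLfin : Finite L := by
    have h1 : (↑(Q ⊔ Subgroup.zpowers x) : Set (V ≃ₗ[K] V)) = Q * Subgroup.zpowers x :=
      Subgroup.coe_mul_of_right_le_normalizer_left Q (Subgroup.zpowers x) hzN
    have h2 : ((Q : Set (V ≃ₗ[K] V)) * (Subgroup.zpowers x : Set (V ≃ₗ[K] V))).Finite :=
      Set.Finite.mul (Set.toFinite _) hfinx.finite_zpowers
    rw [← h1, ← hL] at h2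
    exact h2.to_subtype
  have hLN : L ≤ Subgroup.normalizer (Q : Set (V ≃ₗ[K] V)) := by
    rw [hL]
    exact sup_le Subgroup.le_normalizer hzN
  have hQ'n : (Q.subgroupOf L).Normal := (Subgroup.normal_subgroupOf_iff_le_normalizer hQL).mpr hLN
  have hQ'p : IsPGroup q (Q.subgroupOf L) := hQ.comap_subtype
  obtain ⟨x', hx'⟩ : ∃ x' : L, x' = ⟨x, hxL⟩ := ⟨_, rfl⟩
  have hx'coe : (x' : V ≃ₗ[K] V) = x := by rw [hx']
  have hordx' : orderOf x' = p ^ n := by
    rw [← hx, ← hx'coe, Subgroup.orderOf_coe]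
  have hx'P : IsPGroup p (Subgroup.zpowers x') := by
    apply IsPGroup.of_card (n := n)
    rw [Nat.card_zpowers, hordx']
  obtain ⟨ρ, hρ⟩ : ∃ ρ : L →* Module.End K V,
      ρ = (LinearEquiv.automorphismGroup.toLinearMapMonoidHom (R := K) (M := V)).comp L.subtype :=
    ⟨_, rfl⟩
  have hρa : ∀ l : L, ρ l = (((l : V ≃ₗ[K] V)) : Module.End K V) := fun l => by rw [hρ]; rfl
  have hρinj : Function.Injective ρ := by
    intro a b hab
    rw [hρa, hρa] at hab
    exact Subtype.ext (LinearEquiv.toLinearMap_injective hab)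
  have hirr' : ∀ W : Submodule K V,
      (∀ g ∈ Q.subgroupOf L, Submodule.map (ρ g) W ≤ W) → W = ⊥ ∨ W = ⊤ := by
    intro W hW
    apply hirr
    intro g hg w hw
    have h1 := hW ⟨g, hQL hg⟩ (Subgroup.mem_subgroupOf.mpr hg)
    rw [hρa] at h1
    exact h1 ⟨w, hw, rfl⟩
  have hC : ∀ z ∈ Subgroup.zpowers x', z ≠ 1 →
      Subgroup.centralizer ({z} : Set L) = Subgroup.zpowers x' ⊔ Subgroup.center L := by
    intro z hz hz1
    obtain ⟨k, hk⟩ := Subgroup.mem_zpowers_iff.mp hz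
    have hzx : (z : V ≃ₗ[K] V) ∈ Subgroup.zpowers x := by
      rw [← hk, Subgroup.coe_zpow, hx'coe]
      exact Subgroup.zpow_mem _ (Subgroup.mem_zpowers x) k
    have hz1' : (z : V ≃ₗ[K] V) ≠ 1 := by
      intro h
      apply hz1
      exact Subtype.ext h
    apply le_antisymm
    · intro l hl
      rw [Subgroup.mem_centralizer_singleton_iff] at hl
      have hl' : (l : V ≃ₗ[K] V) * (z : V ≃ₗ[K] V) = (z : V ≃ₗ[K] V) * (l : V ≃ₗ[K] V) := by
        have := congrArg Subtype.val hl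
        simpa using this
      obtain ⟨a, ha, t, ht, hlat⟩ := hLdecomp l l.2
      have htz : t * (z : V ≃ₗ[K] V) = (z : V ≃ₗ[K] V) * t := by
        obtain ⟨k1, rfl⟩ := Subgroup.mem_zpowers_iff.mp ht
        obtain ⟨k2, hk2⟩ := Subgroup.mem_zpowers_iff.mp hzx
        rw [← hk2]
        exact (((Commute.refl x).zpow_right k2).zpow_left k1).eq
      have haz : a * (z : V ≃ₗ[K] V) = (z : V ≃ₗ[K] V) * a := by
        have h1 : a = (l : V ≃ₗ[K] V) * t⁻¹ := by rw [hlat]; group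
        have h2 : t⁻¹ * (z : V ≃ₗ[K] V) = (z : V ≃ₗ[K] V) * t⁻¹ := by
          have h3 : Commute t (z : V ≃ₗ[K] V) := htz
          exact h3.inv_left.eq
        rw [h1, mul_assoc, h2, ← mul_assoc, hl', mul_assoc]
      have hay : a * y = y * a := by
        rw [hydef]
        exact hh_comm_y x a n hn hx _ hzx hz1' haz
      have hacen : (⟨a, hQL ha⟩ : L) ∈ Subgroup.center L := by
        rw [Subgroup.mem_center_iff]
        intro g
        apply Subtype.ext
        change (g : V ≃ₗ[K] V) * a = a * (g : V ≃ₗ[K] V)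
        exact (hscalar a ha hay g).symm
      have htL : t ∈ L := hL ▸ (le_sup_right : Subgroup.zpowers x ≤ Q ⊔ Subgroup.zpowers x) ht
      have htz' : (⟨t, htL⟩ : L) ∈ Subgroup.zpowers x' := by
        obtain ⟨k1, hk1⟩ := Subgroup.mem_zpowers_iff.mp ht
        rw [Subgroup.mem_zpowers_iff]
        refine ⟨k1, ?_⟩
        apply Subtype.ext
        rw [Subgroup.coe_zpow, hx'coe]
        exact hk1
      have hl2 : l = ⟨t, htL⟩ * ⟨a, hQL ha⟩ := by
        apply Subtype.ext
        change (l : V ≃ₗ[K] V) = t * a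
        rw [hlat]
        exact hscalar a ha hay t
      rw [hl2]
      exact Subgroup.mul_mem_sup htz' hacen
    · apply sup_le
      · rw [Subgroup.zpowers_le, Subgroup.mem_centralizer_singleton_iff, ← hk]
        exact ((Commute.refl x').zpow_right k).eq
      · exact Subgroup.center_le_centralizer _
  -- nilpotency index
  have hpow0 : (ρ x' - 1) ^ p ^ n = 0 := by
    rw [end_sub_one_pow_char_pow p, ← map_pow, ← map_one ρ, sub_eq_zero]
    congr 1
    apply Subtype.ext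
    rw [Subgroup.coe_pow, hx'coe, hxp]
    rfl
  have hex : ∃ s : ℕ, (ρ x' - 1) ^ s = 0 := ⟨_, hpow0⟩
  obtain ⟨s, hs⟩ : ∃ s : ℕ, s = Nat.find hex := ⟨_, rfl⟩
  have hs0 : (ρ x' - 1) ^ s = 0 := hs ▸ Nat.find_spec hex
  have hsmin : ∀ k < s, (ρ x' - 1) ^ k ≠ 0 := fun k hk => Nat.find_min hex (hs ▸ hk)
  have key := Cfsg.Agent.Lib.helper75.hh_critical p q hpq (Q.subgroupOf L) hQ'p x' hx'P hC ρ
    hρinj hirr' s hs0 hsmin
  rw [Nat.card_zpowers, hordx'] at key
  obtain ⟨k1, k2, k3⟩ := key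
  have hρx : ρ x' = ((x : V ≃ₗ[K] V) : Module.End K V) := by rw [hρa, hx'coe]
  rw [hρx] at hsmin hs0
  have hp2 : 2 ≤ p ^ n := by
    calc 2 ≤ p := hp.out.two_le
      _ = p ^ 1 := (pow_one p).symm
      _ ≤ p ^ n := Nat.pow_le_pow_right hp.out.pos hn
  by_cases hsp : s = p ^ n
  · refine ⟨p ^ n, hsmin _ (by omega), Or.inl rfl⟩
  · have hs' : s = p ^ n - 1 := by omega
    obtain ⟨⟨b, hb⟩, hnc⟩ := k3 hs'
    refine ⟨p ^ n - 1, hsmin _ (by omega), Or.inr ⟨n, b, hn, le_rfl, ?_, hb, ?_, ?_⟩⟩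
    · by_contra hb0
      have hb0' : b = 0 := by omega
      rw [hb0', pow_zero] at hb
      have h1 : s = 1 := by omega
      rw [h1, pow_one, sub_eq_zero] at hs0
      have h2 : x = 1 := LinearEquiv.toLinearMap_injective hs0
      rw [h2, orderOf_one] at hx
      omega
    · intro hcomm
      apply hnc
      rw [isMulCommutative_iff] at hcomm ⊢
      intro a b
      apply Subtype.ext
      apply Subtype.ext
      have h1 := hcomm ⟨(a : L), Subgroup.mem_subgroupOf.mp a.2⟩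
        ⟨(b : L), Subgroup.mem_subgroupOf.mp b.2⟩
      have h2 : ((a : L) : V ≃ₗ[K] V) * ((b : L) : V ≃ₗ[K] V) =
          ((b : L) : V ≃ₗ[K] V) * ((a : L) : V ≃ₗ[K] V) := congrArg Subtype.val h1
      exact h2
    · rw [Nat.sub_self, pow_zero, one_mul]

end Cfsg.Agent.Lib.helper3
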