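import Mathlib

/-!
# Restriction of linear automorphisms to an invariant subspace and to the quotient

The stabilizer `hhStab W` of a subspace in `V ≃ₗ[K] V`, with the restriction homomorphism
`hhRes W : hhStab W →* (W ≃ₗ[K] W)` and the quotient homomorphism
`hhQuot W : hhStab W →* ((V ⧸ W) ≃ₗ[K] (V ⧸ W))`.
-/

set_option autoImplicit false

namespace Cfsg.Agent.Lib.helper3

open Module

variable {K : Type*} [Field K] {V : Type*} [AddCommGroup V] [Module K V]

theorem map_eq_of_map_le [FiniteDimensional K V] (g : V ≃ₗ[K] V) (W : Submodule K V)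
    (h : W.map (g : V →ₗ[K] V) ≤ W) : W.map (g : V →ₗ[K] V) = W :=
  Submodule.eq_of_le_of_finrank_eq h (LinearEquiv.finrank_map_eq g W)

/-- The stabilizer of a subspace. -/
def hhStab (W : Submodule K V) : Subgroup (V ≃ₗ[K] V) where
  carrier := {g | W.map (g : V →ₗ[K] V) = W}
  mul_mem' := by
    intro a b ha hb
    rw [Set.mem_ofPred_eq] at ha hb ⊢
    apply le_antisymm
    · rintro _ ⟨w, hw, rfl⟩
      have h1 : b w ∈ W := by rw [← hb]; exact ⟨w, hw, rfl⟩
      have h2 : a (b w) ∈ W := by rw [← ha]; exact ⟨b w, h1, rfl⟩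
      exact h2
    · intro w hw
      rw [← ha] at hw
      obtain ⟨w1, hw1, rfl⟩ := hw
      rw [← hb] at hw1
      obtain ⟨w2, hw2, rfl⟩ := hw1
      exact ⟨w2, hw2, rfl⟩
  one_mem' := by
    rw [Set.mem_ofPred_eq]
    apply le_antisymm
    · rintro _ ⟨w, hw, rfl⟩
      exact hw
    · intro w hw
      exact ⟨w, hw, rfl⟩
  inv_mem' := by
    intro a ha
    rw [Set.mem_ofPred_eq] at ha ⊢
    apply le_antisymm
    · rintro _ ⟨w, hw, rfl⟩
      rw [← ha] at hw
      obtain ⟨w1, hw1, rfl⟩ := hw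
      change a⁻¹ (a w1) ∈ W
      rw [← LinearEquiv.mul_apply, inv_mul_cancel]
      exact hw1
    · intro w hw
      refine ⟨a w, ?_, ?_⟩
      · rw [← ha]; exact ⟨w, hw, rfl⟩
      · change a⁻¹ (a w) = w
        rw [← LinearEquiv.mul_apply, inv_mul_cancel]
        rfl

theorem mem_hhStab (W : Submodule K V) (g : V ≃ₗ[K] V) :
    g ∈ hhStab W ↔ W.map (g : V →ₗ[K] V) = W := Iff.rfl

theorem mem_hhStab_of_le [FiniteDimensional K V] (W : Submodule K V) (g : V ≃ₗ[K] V)
    (h : W.map (g : V →ₗ[K] V) ≤ W) : g ∈ hhStab W :=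
  map_eq_of_map_le g W h

theorem hhStab_apply_mem (W : Submodule K V) (g : hhStab W) (w : V) (hw : w ∈ W) :
    (g : V ≃ₗ[K] V) w ∈ W := by
  have h := g.2
  rw [mem_hhStab] at h
  have h1 : (g : V ≃ₗ[K] V) w ∈ W.map (((g : V ≃ₗ[K] V)) : V →ₗ[K] V) := ⟨w, hw, rfl⟩
  exact (le_of_eq h) h1

/-- Restriction to the invariant subspace. -/
noncomputable def hhRes (W : Submodule K V) : hhStab W →* (W ≃ₗ[K] W) where
  toFun g := LinearEquiv.ofSubmodules (g : V ≃ₗ[K] V) W W g.2
  map_one' := by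
    apply LinearEquiv.ext
    intro w
    apply Subtype.ext
    rfl
  map_mul' := by
    intro a b
    apply LinearEquiv.ext
    intro w
    apply Subtype.ext
    rfl

theorem hhRes_apply (W : Submodule K V) (g : hhStab W) (w : W) :
    ((hhRes W g w : W) : V) = (g : V ≃ₗ[K] V) (w : V) := rfl

/-- Action on the quotient by the invariant subspace. -/
noncomputable def hhQuot (W : Submodule K V) : hhStab W →* ((V ⧸ W) ≃ₗ[K] (V ⧸ W)) where
  toFun g := Submodule.Quotient.equiv W W (g : V ≃ₗ[K] V) g.2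
  map_one' := by
    apply LinearEquiv.ext
    intro v
    induction v using Submodule.Quotient.induction_on with
    | _ v => rfl
  map_mul' := by
    intro a b
    apply LinearEquiv.ext
    intro v
    induction v using Submodule.Quotient.induction_on with
    | _ v => rfl

theorem hhQuot_apply (W : Submodule K V) (g : hhStab W) (v : V) :
    hhQuot W g (Submodule.Quotient.mk v) = Submodule.Quotient.mk ((g : V ≃ₗ[K] V) v) := rfl

theorem hhRes_sub_one_pow (W : Submodule K V) (g : hhStab W) (k : ℕ) (w : W) :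
    ((((((hhRes W g : W ≃ₗ[K] W) : Module.End K W) - 1) ^ k) w : W) : V) =
      (((((g : V ≃ₗ[K] V) : Module.End K V)) - 1) ^ k) (w : V) := by
  induction k generalizing w with
  | zero => simp
  | succ k ih =>
    rw [pow_succ, pow_succ, Module.End.mul_apply, Module.End.mul_apply, ih]
    rfl

theorem hhQuot_sub_one_pow (W : Submodule K V) (g : hhStab W) (k : ℕ) (v : V) :
    (((((hhQuot W g : (V ⧸ W) ≃ₗ[K] (V ⧸ W)) : Module.End K (V ⧸ W)) - 1) ^ k)
      (Submodule.Quotient.mk v) : V ⧸ W) =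
      Submodule.Quotient.mk ((((((g : V ≃ₗ[K] V) : Module.End K V)) - 1) ^ k) v) := by
  induction k generalizing v with
  | zero => simp
  | succ k ih =>
    rw [pow_succ, pow_succ, Module.End.mul_apply, Module.End.mul_apply]
    have h1 : ((((hhQuot W g : (V ⧸ W) ≃ₗ[K] (V ⧸ W)) : Module.End K (V ⧸ W)) - 1)
        (Submodule.Quotient.mk v) : V ⧸ W) = Submodule.Quotient.mk
          (((((g : V ≃ₗ[K] V) : Module.End K V)) - 1) v) := rfl
    rw [h1, ih]

/-- If `(g - 1) ^ k ≠ 0` on the subspace, the same holds on the whole space. -/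
theorem ne_zero_of_hhRes (W : Submodule K V) (g : hhStab W) (k : ℕ)
    (h : (((hhRes W g : W ≃ₗ[K] W) : Module.End K W) - 1) ^ k ≠ 0) :
    ((((g : V ≃ₗ[K] V) : Module.End K V)) - 1) ^ k ≠ 0 := by
  intro h0
  apply h
  ext w
  rw [hhRes_sub_one_pow, h0]
  rfl

theorem ne_zero_of_hhQuot (W : Submodule K V) (g : hhStab W) (k : ℕ)
    (h : (((hhQuot W g : (V ⧸ W) ≃ₗ[K] (V ⧸ W)) : Module.End K (V ⧸ W)) - 1) ^ k ≠ 0) :
    ((((g : V ≃ₗ[K] V) : Module.End K V)) - 1) ^ k ≠ 0 := by
  intro h0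
  apply h
  apply LinearMap.ext
  intro v
  induction v using Submodule.Quotient.induction_on with
  | _ v =>
    rw [hhQuot_sub_one_pow, h0]
    rfl

/-- An automorphism of order prime to the characteristic that acts trivially on `W` and on
`V ⧸ W` is trivial. -/
theorem eq_one_of_hhRes_hhQuot {p : ℕ} [CharP K p] (W : Submodule K V)
    (c : hhStab W) (m : ℕ) (hm : (c : V ≃ₗ[K] V) ^ m = 1) (hcop : Nat.Coprime m p)
    (h1 : hhRes W c = 1) (h2 : hhQuot W c = 1) : (c : V ≃ₗ[K] V) = 1 := by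
  have hW : ∀ w ∈ W, (c : V ≃ₗ[K] V) w = w := by
    intro w hw
    have := congrArg (fun e : W ≃ₗ[K] W => ((e ⟨w, hw⟩ : W) : V)) h1
    exact this
  have hQ : ∀ v : V, (c : V ≃ₗ[K] V) v - v ∈ W := by
    intro v
    have := congrArg (fun e : (V ⧸ W) ≃ₗ[K] (V ⧸ W) => e (Submodule.Quotient.mk v)) h2
    simp only [hhQuot_apply] at this
    exact (Submodule.Quotient.eq W).mp this
  have hpow : ∀ (j : ℕ) (v : V), ((c : V ≃ₗ[K] V) ^ j) v = v + j • ((c : V ≃ₗ[K] V) v - v) := by
    intro j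
    induction j with
    | zero => intro v; simp
    | succ j ih =>
      intro v
      rw [pow_succ', LinearEquiv.mul_apply, ih, map_add, map_nsmul, hW _ (hQ v), succ_nsmul]
      abel
  have hcp : (c : V ≃ₗ[K] V) ^ p = 1 := by
    apply LinearEquiv.ext
    intro v
    rw [hpow, ← Nat.cast_smul_eq_nsmul K, CharP.cast_eq_zero, zero_smul, add_zero]
    rfl
  have h3 : orderOf (c : V ≃ₗ[K] V) ∣ Nat.gcd m p :=
    Nat.dvd_gcd (orderOf_dvd_of_pow_eq_one hm) (orderOf_dvd_of_pow_eq_one hcp)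
  rw [hcop, Nat.dvd_one] at h3
  exact orderOf_eq_one_iff.mp h3

end Cfsg.Agent.Lib.helper3
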