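import Mathlib
import Cfsg.Agent.Lib.helper3.HHIrr
import Cfsg.Agent.Lib.helper3.HHClif
import Cfsg.Agent.Lib.helper3.HHInd
import Cfsg.Agent.Lib.helper3.HHRes
import Cfsg.Agent.Lib.helper3.HHCrit

/-!
# Hall–Higman Theorem B over an algebraically closed field

Core statement: `x ∈ GL(V)` of order `p ^ n` normalizing a finite `q`-group `Q ≤ GL(V)`
(`q ≠ p = char K`) which is not centralized by `x ^ p ^ (n - 1)`.  Then the nilpotency index of
`x - 1` is `p ^ n`, or `Q` is non-abelian, `p ^ n₀ - 1 = q ^ m` and the index is at least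
`p ^ (n - n₀) * (p ^ n₀ - 1)`.
-/

set_option autoImplicit false

namespace Cfsg.Agent.Lib.helper3

open Module
open scoped commutatorElement

universe u v

theorem conj_pow_mem {G : Type*} [Group G] (Q : Subgroup G) (x : G)
    (hxQ : ∀ g ∈ Q, x * g * x⁻¹ ∈ Q) (j : ℕ) : ∀ g ∈ Q, x ^ j * g * (x ^ j)⁻¹ ∈ Q := by
  induction j with
  | zero => intro g hg; simpa using hg
  | succ j ih =>
    intro g hg
    have h1 := hxQ _ (ih g hg)
    have h2 : x * (x ^ j * g * (x ^ j)⁻¹) * x⁻¹ = x ^ (j + 1) * g * (x ^ (j + 1))⁻¹ := by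
      rw [pow_succ']; group
    rw [← h2]; exact h1

theorem conj_inv_mem {G : Type*} [Group G] (Q : Subgroup G) (x : G)
    (hxQ : ∀ g ∈ Q, x * g * x⁻¹ ∈ Q) (N : ℕ) (hN : 1 ≤ N) (hx : x ^ N = 1) :
    ∀ g ∈ Q, x⁻¹ * g * x ∈ Q := by
  intro g hg
  have hxinv : x⁻¹ = x ^ (N - 1) := by
    apply inv_eq_of_mul_eq_one_left
    rw [← pow_succ, Nat.sub_add_cancel hN, hx]
  have h1 := conj_pow_mem Q x hxQ (N - 1) g hg
  rw [← hxinv, inv_inv] at h1
  exact h1

variable {K : Type u} [Field K]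

theorem HHConcl.mono {V V' : Type*} [AddCommGroup V] [Module K V] [AddCommGroup V']
    [Module K V'] {p q n : ℕ} {nonab nonab' : Prop} {X : Module.End K V} {X' : Module.End K V'}
    (h : HHConcl p q n nonab' X') (h1 : ∀ k, (X' - 1) ^ k ≠ 0 → (X - 1) ^ k ≠ 0)
    (h2 : nonab' → nonab) : HHConcl p q n nonab X := by
  obtain ⟨B, hB, hcases⟩ := h
  refine ⟨B, h1 _ hB, ?_⟩
  rcases hcases with h | ⟨n₀, m, h3, h4, h5, h6, h7, h8⟩
  · exact Or.inl h
  · exact Or.inr ⟨n₀, m, h3, h4, h5, h6, h2 h7, h8⟩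

/-- Transfer of the hypotheses of the core theorem along a homomorphism defined on a subgroup
containing `Q` and `z`. -/
theorem hh_transfer {p q : ℕ} [hp : Fact p.Prime] {V V' : Type*} [AddCommGroup V] [Module K V]
    [AddCommGroup V'] [Module K V']
    (St : Subgroup (V ≃ₗ[K] V)) (φ : St →* (V' ≃ₗ[K] V'))
    (Q : Subgroup (V ≃ₗ[K] V)) [Finite Q] (hQ : IsPGroup q Q) (hQSt : Q ≤ St)
    (z : V ≃ₗ[K] V) (hzSt : z ∈ St) (hzQ : ∀ g ∈ Q, z * g * z⁻¹ ∈ Q)
    (n' : ℕ) (hz : orderOf z = p ^ n')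
    (g : V ≃ₗ[K] V) (hg : g ∈ Q)
    (hne : ⁅φ ⟨g, hQSt hg⟩, φ ⟨z, hzSt⟩ ^ p ^ (n' - 1)⁆ ≠ 1) :
    ∃ Q' : Subgroup (V' ≃ₗ[K] V'), Finite Q' ∧ IsPGroup q Q' ∧ Nat.card Q' ≤ Nat.card Q ∧
      (∀ g' ∈ Q', φ ⟨z, hzSt⟩ * g' * (φ ⟨z, hzSt⟩)⁻¹ ∈ Q') ∧
      orderOf (φ ⟨z, hzSt⟩) = p ^ n' ∧
      (∃ g' ∈ Q', ⁅g', φ ⟨z, hzSt⟩ ^ p ^ (n' - 1)⁆ ≠ 1) ∧
      (¬ IsMulCommutative Q' → ¬ IsMulCommutative Q) := by
  obtain ⟨ψ, hψ⟩ : ∃ ψ : Q →* (V' ≃ₗ[K] V'), ψ = φ.comp (Subgroup.inclusion hQSt) := ⟨_, rfl⟩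
  have hψa : ∀ a : Q, ψ a = φ ⟨(a : V ≃ₗ[K] V), hQSt a.2⟩ := fun a => by rw [hψ]; rfl
  have hsurj := ψ.rangeRestrict_surjective
  refine ⟨ψ.range, Finite.of_surjective _ hsurj, hQ.of_surjective _ hsurj,
    Nat.card_le_card_of_surjective _ hsurj, ?_, ?_, ?_, ?_⟩
  · rintro _ ⟨a, rfl⟩
    refine ⟨⟨z * (a : V ≃ₗ[K] V) * z⁻¹, hzQ _ a.2⟩, ?_⟩
    rw [hψa, hψa, ← map_inv, ← map_mul, ← map_mul]
    rfl
  · have h1 : φ ⟨z, hzSt⟩ ^ p ^ n' = 1 := by
      rw [← map_pow]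
      have : (⟨z, hzSt⟩ : St) ^ p ^ n' = 1 := by
        apply Subtype.ext
        rw [Subgroup.coe_pow]
        change z ^ p ^ n' = 1
        rw [← hz]
        exact pow_orderOf_eq_one z
      rw [this, map_one]
    have h2 : φ ⟨z, hzSt⟩ ^ p ^ (n' - 1) ≠ 1 := by
      intro h
      apply hne
      rw [h, commutatorElement_def]
      group
    obtain ⟨k, hk, hkeq⟩ := (Nat.dvd_prime_pow hp.out).mp (orderOf_dvd_of_pow_eq_one h1)
    by_cases hkn : k = n'
    · rw [hkeq, hkn]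
    · exfalso
      apply h2
      rw [← orderOf_dvd_iff_pow_eq_one, hkeq]
      exact pow_dvd_pow p (by omega)
  · exact ⟨φ ⟨g, hQSt hg⟩, ⟨⟨g, hg⟩, hψa _⟩, hne⟩
  · intro hnc hcomm
    apply hnc
    rw [isMulCommutative_iff] at hcomm ⊢
    rintro ⟨_, ⟨a, rfl⟩⟩ ⟨_, ⟨b, rfl⟩⟩
    apply Subtype.ext
    change ψ a * ψ b = ψ b * ψ a
    rw [← map_mul, ← map_mul, hcomm a b]

theorem hh_core_aux (p q : ℕ) [hp : Fact p.Prime] [hq : Fact q.Prime] (hpq : p ≠ q)
    [IsAlgClosed K] [CharP K p] :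
    ∀ (N : ℕ) (V : Type v) [AddCommGroup V] [Module K V] [FiniteDimensional K V]
      (Q : Subgroup (V ≃ₗ[K] V)) [Finite Q], IsPGroup q Q → ∀ (x : V ≃ₗ[K] V),
      (∀ g ∈ Q, x * g * x⁻¹ ∈ Q) → ∀ (n : ℕ), 1 ≤ n → orderOf x = p ^ n →
      (∃ g ∈ Q, ⁅g, x ^ p ^ (n - 1)⁆ ≠ 1) → Nat.card Q + Module.finrank K V ≤ N →
      HHConcl p q n (¬ IsMulCommutative Q) ((x : V ≃ₗ[K] V) : Module.End K V) := by
  intro N
  induction N with
  | zero =>
    intro V _ _ _ Q _ hQ x hxQ n hn hx hy hN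
    have := Nat.card_pos (α := Q)
    omega
  | succ N ih =>
    intro V _ _ _ Q _ hQ x hxQ n hn hx hy hN
    -- Step 1: minimality of `Q`
    by_cases hmin : ∃ Q₁ : Subgroup (V ≃ₗ[K] V), Q₁ < Q ∧ (∀ g ∈ Q₁, x * g * x⁻¹ ∈ Q₁) ∧
        ∃ g ∈ Q₁, ⁅g, x ^ p ^ (n - 1)⁆ ≠ 1
    · obtain ⟨Q₁, hlt, hinv, hy₁⟩ := hmin
      have hfin : Finite Q₁ :=
        Finite.of_injective (Subgroup.inclusion hlt.le) (Subgroup.inclusion_injective hlt.le)
      have hcard : Nat.card Q₁ < Nat.card Q := by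
        by_contra hcon
        push Not at hcon
        exact (ne_of_lt hlt) (Subgroup.eq_of_le_of_card_ge hlt.le hcon)
      have h1 := ih V Q₁ (hQ.to_le hlt.le) x hinv n hn hx hy₁ (by omega)
      refine h1.mono (fun k hk => hk) ?_
      intro hnc hcomm
      apply hnc
      rw [isMulCommutative_iff] at hcomm ⊢
      intro a b
      apply Subtype.ext
      have h2 := hcomm ⟨a, hlt.le a.2⟩ ⟨b, hlt.le b.2⟩
      have h3 : (a : V ≃ₗ[K] V) * (b : V ≃ₗ[K] V) = (b : V ≃ₗ[K] V) * (a : V ≃ₗ[K] V) :=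
        congrArg Subtype.val h2
      exact h3
    push Not at hmin
    have hxp : x ^ p ^ n = 1 := by rw [← hx]; exact pow_orderOf_eq_one x
    have hxQ' : ∀ g ∈ Q, x⁻¹ * g * x ∈ Q :=
      conj_inv_mem Q x hxQ (p ^ n) (Nat.one_le_pow _ _ hp.out.pos) hxp
    obtain ⟨y, hydef⟩ : ∃ y : V ≃ₗ[K] V, y = x ^ p ^ (n - 1) := ⟨_, rfl⟩
    rw [← hydef] at hy hmin
    obtain ⟨g, hg, hgy⟩ := hy
    have hyQ : ∀ a ∈ Q, y * a * y⁻¹ ∈ Q := by
      rw [hydef]; exact conj_pow_mem Q x hxQ _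
    have hcQ : ⁅g, y⁆ ∈ Q := by
      have h2 : ⁅g, y⁆ = g * (y * g⁻¹ * y⁻¹) := by
        rw [commutatorElement_def]; group
      rw [h2]
      exact Q.mul_mem hg (hyQ _ (Q.inv_mem hg))
    obtain ⟨kc, hkc⟩ : ∃ kc : ℕ, ⁅g, y⁆ ^ q ^ kc = 1 := by
      obtain ⟨k, hk⟩ := hQ ⟨⁅g, y⁆, hcQ⟩
      refine ⟨k, ?_⟩
      have := congrArg Subtype.val hk
      simpa using this
    have hcopq : Nat.Coprime (q ^ kc) p :=
      Nat.Coprime.pow_left kc ((Nat.coprime_primes hq.out hp.out).mpr (Ne.symm hpq))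
    -- Step 2: irreducibility under `Q` and `x`
    by_cases hred : ∃ W : Submodule K V, W ≠ ⊥ ∧ W ≠ ⊤ ∧
        HHInv (Q : Set (V ≃ₗ[K] V)) W ∧ W.map (x : V →ₗ[K] V) ≤ W
    · obtain ⟨W, hW0, hWtop, hWQ, hWx⟩ := hred
      have hQSt : Q ≤ hhStab W := by
        intro a ha
        apply mem_hhStab_of_le
        rintro _ ⟨w, hw, rfl⟩
        exact hWQ a ha w hw
      have hxSt : x ∈ hhStab W := mem_hhStab_of_le W x hWx
      have hcSt : (⟨⁅g, y⁆, hQSt hcQ⟩ : hhStab W) =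
          ⁅(⟨g, hQSt hg⟩ : hhStab W), (⟨x, hxSt⟩ : hhStab W) ^ p ^ (n - 1)⁆ := by
        apply Subtype.ext
        have h1 : ((⁅(⟨g, hQSt hg⟩ : hhStab W), (⟨x, hxSt⟩ : hhStab W) ^ p ^ (n - 1)⁆ :
            hhStab W) : V ≃ₗ[K] V) = ⁅g, x ^ p ^ (n - 1)⁆ := by
          simp [commutatorElement_def]
        rw [h1, ← hydef]
      have hor : hhRes W ⟨⁅g, y⁆, hQSt hcQ⟩ ≠ 1 ∨ hhQuot W ⟨⁅g, y⁆, hQSt hcQ⟩ ≠ 1 := by
        by_contra hcon
        push Not at hcon
        exact hgy (eq_one_of_hhRes_hhQuot (p := p) W ⟨⁅g, y⁆, hQSt hcQ⟩ (q ^ kc) hkc hcopq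
          hcon.1 hcon.2)
      rcases hor with hres | hquot
      · have hne : ⁅hhRes W ⟨g, hQSt hg⟩, hhRes W ⟨x, hxSt⟩ ^ p ^ (n - 1)⁆ ≠ 1 := by
          rw [← map_pow, ← map_commutatorElement, ← hcSt]
          exact hres
        obtain ⟨Q', hfin, hQ'p, hcard, hnorm, hord, hy', hnonab⟩ :=
          hh_transfer (hhStab W) (hhRes W) Q hQ hQSt x hxSt hxQ n hx g hg hne
        have hdim : Module.finrank K W < Module.finrank K V :=
          Submodule.finrank_lt hWtop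
        have h1 := ih W Q' hQ'p (hhRes W ⟨x, hxSt⟩) hnorm n hn hord hy' (by omega)
        exact h1.mono (fun k hk => ne_zero_of_hhRes W ⟨x, hxSt⟩ k hk) hnonab
      · have hne : ⁅hhQuot W ⟨g, hQSt hg⟩, hhQuot W ⟨x, hxSt⟩ ^ p ^ (n - 1)⁆ ≠ 1 := by
          rw [← map_pow, ← map_commutatorElement, ← hcSt]
          exact hquot
        obtain ⟨Q', hfin, hQ'p, hcard, hnorm, hord, hy', hnonab⟩ :=
          hh_transfer (hhStab W) (hhQuot W) Q hQ hQSt x hxSt hxQ n hx g hg hne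
        have hdim : Module.finrank K (V ⧸ W) < Module.finrank K V := by
          have h1 := Submodule.finrank_quotient_add_finrank W
          have h2 : Module.finrank K W ≠ 0 := by
            intro h
            exact hW0 (Submodule.finrank_eq_zero.mp h)
          omega
        have h1 := ih (V ⧸ W) Q' hQ'p (hhQuot W ⟨x, hxSt⟩) hnorm n hn hord hy' (by omega)
        exact h1.mono (fun k hk => ne_zero_of_hhQuot W ⟨x, hxSt⟩ k hk) hnonab
    push Not at hred
    -- Step 3: critical case or Clifford decomposition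
    by_cases hQirr : ∀ U : Submodule K V, HHInv (Q : Set (V ≃ₗ[K] V)) U → U = ⊥ ∨ U = ⊤
    · have hy2 : ∃ g ∈ Q, ⁅g, x ^ p ^ (n - 1)⁆ ≠ 1 := ⟨g, hg, hydef ▸ hgy⟩
      refine hh_critical_case hpq Q hQ x hxQ n hn hx hy2 ?_ hQirr
      intro Q₁ hlt hinv a ha
      rw [← hydef]
      by_contra hne
      exact hne (hmin Q₁ hlt hinv a ha)
    · push Not at hQirr
      obtain ⟨U, hUinv, hU0, hUtop⟩ := hQirr
      have hirr : ∀ U : Submodule K V, HHInv (Q : Set (V ≃ₗ[K] V)) U →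
          U.map (x : V →ₗ[K] V) ≤ U → U = ⊥ ∨ U = ⊤ := by
        intro U hU hUx
        by_contra hcon
        push Not at hcon
        exact hred U hcon.1 hcon.2 hU hUx
      obtain ⟨W', hW'0, hW'inv, hW'xp, hW'sum, hW'disj⟩ :=
        hh_clifford hp.out x n hn hxp hxQ hxQ' hirr ⟨U, hUinv, hU0, hUtop⟩
      by_cases hn1 : n = 1
      · obtain ⟨w, hw, hw0⟩ := Submodule.exists_mem_ne_zero_of_ne_bot hW'0
        have h1 := hh_induced_nil x W' hW'xp hW'disj 0 w hw (by simpa using hw0)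
        refine ⟨p, ?_, Or.inl (by rw [hn1, pow_one])⟩
        simpa using h1
      · have hn2 : 2 ≤ n := by omega
        have hQSt : Q ≤ hhStab W' := by
          intro a ha
          apply mem_hhStab_of_le
          rintro _ ⟨w, hw, rfl⟩
          exact hW'inv a ha w hw
        have hzSt : x ^ p ∈ hhStab W' := mem_hhStab_of_le W' (x ^ p) hW'xp
        have hzQ : ∀ a ∈ Q, x ^ p * a * (x ^ p)⁻¹ ∈ Q := conj_pow_mem Q x hxQ p
        have hordz : orderOf (x ^ p) = p ^ (n - 1) := by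
          rw [orderOf_pow' x hp.out.ne_zero, hx]
          have h1 : Nat.gcd (p ^ n) p = p := Nat.gcd_eq_right (dvd_pow_self p (by omega))
          rw [h1]
          have h2 : p ^ n = p ^ (n - 1) * p := by
            rw [← pow_succ, Nat.sub_add_cancel hn]
          rw [h2, Nat.mul_div_cancel _ hp.out.pos]
        have hzy : (x ^ p) ^ p ^ (n - 1 - 1) = y := by
          rw [hydef, ← pow_mul, ← pow_succ']
          congr 2
          omega
        -- some conjugate of the commutator acts nontrivially on `W'`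
        have hxiQ : ∀ (i : ℕ), ∀ a ∈ Q, (x ^ i)⁻¹ * a * x ^ i ∈ Q := by
          intro i a ha
          have hxi : (x ^ i) ^ p ^ n = 1 := by
            rw [← pow_mul, mul_comm, pow_mul, hxp, one_pow]
          exact conj_inv_mem Q (x ^ i) (conj_pow_mem Q x hxQ i) (p ^ n)
            (Nat.one_le_pow _ _ hp.out.pos) hxi a ha
        have hxy : ∀ i : ℕ, x ^ i * y = y * x ^ i := by
          intro i
          rw [hydef]
          exact (Commute.pow_pow (Commute.refl x) i _).eq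
        have hci : ∀ i : ℕ, ⁅(x ^ i)⁻¹ * g * x ^ i, y⁆ = (x ^ i)⁻¹ * ⁅g, y⁆ * x ^ i := by
          intro i
          have h1 : y = (x ^ i)⁻¹ * y * x ^ i := by
            rw [mul_assoc, ← hxy i, ← mul_assoc, inv_mul_cancel, one_mul]
          have h2 : (x ^ i)⁻¹ * ⁅g, y⁆ * x ^ i = ⁅(x ^ i)⁻¹ * g * x ^ i, (x ^ i)⁻¹ * y * x ^ i⁆ := by
            simp only [commutatorElement_def]; group
          rw [h2, ← h1]
        have hex : ∃ i ∈ Finset.range p, ∃ w ∈ W', ((x ^ i)⁻¹ * ⁅g, y⁆ * x ^ i) w ≠ w := by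
          by_contra hcon
          push Not at hcon
          apply hgy
          obtain ⟨E, hE⟩ : ∃ E : Submodule K V,
              E = LinearMap.ker (((⁅g, y⁆ : V ≃ₗ[K] V) : Module.End K V) - 1) := ⟨_, rfl⟩
          have hEmem : ∀ v, v ∈ E ↔ ⁅g, y⁆ v = v := by
            intro v
            rw [hE, LinearMap.mem_ker, LinearMap.sub_apply, sub_eq_zero]
            rfl
          have hEtop : E = ⊤ := by
            rw [eq_top_iff, ← hW'sum]
            apply iSup₂_le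
            intro i hi
            rintro _ ⟨w, hw, rfl⟩
            rw [hEmem]
            have h1 := hcon i hi w hw
            rw [LinearEquiv.mul_apply, LinearEquiv.mul_apply] at h1
            have h2 : x ^ i * (x ^ i)⁻¹ = 1 := mul_inv_cancel _
            have h3 : (x ^ i) ((x ^ i)⁻¹ (⁅g, y⁆ ((x ^ i) w))) = (x ^ i) w := by rw [h1]
            rw [← LinearEquiv.mul_apply, h2] at h3
            exact h3
          apply LinearEquiv.ext
          intro v
          have h1 : v ∈ E := by rw [hEtop]; exact Submodule.mem_top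
          exact (hEmem v).mp h1
        obtain ⟨i, -, w0, hw0, hw0ne⟩ := hex
        obtain ⟨g', hg'def⟩ : ∃ g' : V ≃ₗ[K] V, g' = (x ^ i)⁻¹ * g * x ^ i := ⟨_, rfl⟩
        have hg' : g' ∈ Q := hg'def ▸ hxiQ i g hg
        have hc'Q : ⁅g', y⁆ ∈ Q := by
          have h2 : ⁅g', y⁆ = g' * (y * g'⁻¹ * y⁻¹) := by
            rw [commutatorElement_def]; group
          rw [h2]
          exact Q.mul_mem hg' (hyQ _ (Q.inv_mem hg'))
        have hcSt : (⟨⁅g', y⁆, hQSt hc'Q⟩ : hhStab W') =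
            ⁅(⟨g', hQSt hg'⟩ : hhStab W'), (⟨x ^ p, hzSt⟩ : hhStab W') ^ p ^ (n - 1 - 1)⁆ := by
          apply Subtype.ext
          have h1 : ((⁅(⟨g', hQSt hg'⟩ : hhStab W'),
              (⟨x ^ p, hzSt⟩ : hhStab W') ^ p ^ (n - 1 - 1)⁆ : hhStab W') : V ≃ₗ[K] V) =
              ⁅g', (x ^ p) ^ p ^ (n - 1 - 1)⁆ := by
            simp [commutatorElement_def]
          rw [h1, hzy]
        have hres : hhRes W' ⟨⁅g', y⁆, hQSt hc'Q⟩ ≠ 1 := by
          intro h
          apply hw0ne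
          have h1 := congrArg (fun e : W' ≃ₗ[K] W' => ((e ⟨w0, hw0⟩ : W') : V)) h
          simp only [hhRes_apply] at h1
          rw [← hci i, ← hg'def]
          exact h1
        have hne : ⁅hhRes W' ⟨g', hQSt hg'⟩, hhRes W' ⟨x ^ p, hzSt⟩ ^ p ^ (n - 1 - 1)⁆ ≠ 1 := by
          rw [← map_pow, ← map_commutatorElement, ← hcSt]
          exact hres
        obtain ⟨Q', hfin, hQ'p, hcard, hnorm, hord, hy', hnonab⟩ :=
          hh_transfer (hhStab W') (hhRes W') Q hQ hQSt (x ^ p) hzSt hzQ (n - 1) hordz g' hg' hne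
        have hW'top : W' ≠ ⊤ := by
          intro h
          apply hW'0
          have h1 : W'.map ((x ^ 1 : V ≃ₗ[K] V) : V →ₗ[K] V) ≤
              ⨆ i ∈ Finset.Ico 1 p, W'.map ((x ^ i : V ≃ₗ[K] V) : V →ₗ[K] V) :=
            le_biSup (fun i => W'.map ((x ^ i : V ≃ₗ[K] V) : V →ₗ[K] V))
              (Finset.mem_Ico.mpr ⟨le_rfl, hp.out.one_lt⟩)
          have h2 : (⨆ i ∈ Finset.Ico 1 p, W'.map ((x ^ i : V ≃ₗ[K] V) : V →ₗ[K] V)) = ⊥ := by
            rw [eq_bot_iff]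
            exact hW'disj (by rw [h]; exact le_top) le_rfl
          rw [h2, le_bot_iff] at h1
          rw [Submodule.eq_bot_iff]
          intro w hw
          have h3 : (x ^ 1) w ∈ W'.map ((x ^ 1 : V ≃ₗ[K] V) : V →ₗ[K] V) := ⟨w, hw, rfl⟩
          rw [h1, Submodule.mem_bot] at h3
          exact (x ^ 1).map_eq_zero_iff.mp h3
        have hdim : Module.finrank K W' < Module.finrank K V :=
          Submodule.finrank_lt hW'top
        obtain ⟨B', hB', hcases⟩ :=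
          ih W' Q' hQ'p (hhRes W' ⟨x ^ p, hzSt⟩) hnorm (n - 1) (by omega) hord hy' (by omega)
        have hB'pos : 1 ≤ B' := by
          rcases hcases with h | ⟨n₀, m, h3, h4, h5, h6, h7, h8⟩
          · rw [h]; exact Nat.one_le_pow _ _ hp.out.pos
          · rw [h8, h6]
            exact Nat.mul_pos (pow_pos hp.out.pos _) (pow_pos hq.out.pos _)
        have hexw : ∃ w : W', ((((hhRes W' ⟨x ^ p, hzSt⟩ : W' ≃ₗ[K] W') : Module.End K W') - 1)
            ^ (B' - 1)) w ≠ 0 := by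
          by_contra hcon
          push Not at hcon
          apply hB'
          ext w
          rw [hcon w]
          rfl
        obtain ⟨w, hw⟩ := hexw
        have hw' : ((((x ^ p : V ≃ₗ[K] V) : Module.End K V) - 1) ^ (B' - 1)) (w : V) ≠ 0 := by
          intro h
          apply hw
          apply Subtype.ext
          rw [hhRes_sub_one_pow]
          exact h
        have h1 := hh_induced_nil x W' hW'xp hW'disj (B' - 1) (w : V) w.2 hw'
        have h2 : p * (B' - 1) + (p - 1) = p * B' - 1 := by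
          obtain ⟨b, rfl⟩ := Nat.exists_eq_succ_of_ne_zero (by omega : B' ≠ 0)
          have := hp.out.pos
          rw [Nat.succ_sub_one, Nat.mul_succ]
          omega
        rw [h2] at h1
        refine ⟨p * B', h1, ?_⟩
        rcases hcases with h | ⟨n₀, m, h3, h4, h5, h6, h7, h8⟩
        · left
          rw [h, ← pow_succ']
          congr 1
          omega
        · right
          refine ⟨n₀, m, h3, by omega, h5, h6, hnonab h7, ?_⟩
          rw [h8, ← mul_assoc, ← pow_succ']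
          congr 2
          omega

/-- Hall–Higman Theorem B over an algebraically closed field, for a `q`-group normalized by
`x` and not centralized by `x ^ p ^ (n - 1)`. -/
theorem hh_core (p q : ℕ) [hp : Fact p.Prime] [hq : Fact q.Prime] (hpq : p ≠ q)
    [IsAlgClosed K] [CharP K p] {V : Type v} [AddCommGroup V] [Module K V]
    [FiniteDimensional K V] (Q : Subgroup (V ≃ₗ[K] V)) [Finite Q] (hQ : IsPGroup q Q)
    (x : V ≃ₗ[K] V) (hxQ : ∀ g ∈ Q, x * g * x⁻¹ ∈ Q) (n : ℕ) (hn : 1 ≤ n)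
    (hx : orderOf x = p ^ n) (hy : ∃ g ∈ Q, ⁅g, x ^ p ^ (n - 1)⁆ ≠ 1) :
    HHConcl p q n (¬ IsMulCommutative Q) ((x : V ≃ₗ[K] V) : Module.End K V) :=
  hh_core_aux p q hpq _ V Q hQ x hxQ n hn hx hy le_rfl

end Cfsg.Agent.Lib.helper3
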