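import Mathlib
import Cfsg.Prelude.Def_Local
import Cfsg.Agent.Lib.helper66.DualHH
import Cfsg.Agent.Lib.helper1.Coprime
import Cfsg.Agent.Lib.helper2.SylowExtra
import Cfsg.Agent.Lib.helper40.Cores

/-!
# Group-theoretic reduction for Hall–Higman Theorem B

In a finite `p`-soluble group `H` with `O_p(H) = 1`, for every element `x` of order `p ^ n`
(`n ≥ 1`) there are a prime `q ≠ p` and a `q`-subgroup `Q` normalized by `x` and not centralized
by `x ^ p ^ (n - 1)`.
-/

set_option autoImplicit false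

namespace Cfsg.Agent.Lib.helper3

open Subgroup

/-- Group-theoretic reduction for Hall–Higman Theorem B. -/
theorem hh_exists_qsub {H : Type*} [Group H] [Finite H] {p : ℕ} [hp : Fact p.Prime]
    (hsol : Cfsg.IsPSolvable p H) (hOp : Cfsg.pCore p H = ⊥) (x : H) (n : ℕ) (hn : 1 ≤ n)
    (hx : orderOf x = p ^ n) :
    ∃ q : ℕ, q.Prime ∧ q ≠ p ∧ ∃ Q : Subgroup H, IsPGroup q Q ∧
      x ∈ normalizer (Q : Set H) ∧ x ^ p ^ (n - 1) ∉ centralizer (Q : Set H) := by
  obtain ⟨K, hK⟩ : ∃ K : Subgroup H, K = Cfsg.pPrimeCore p H := ⟨_, rfl⟩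
  have hKn : K.Normal := hK ▸ Cfsg.Agent.Lib.helper40.pPrimeCore_normal' p H
  have hKc : (Nat.card K).Coprime p := hK ▸ Cfsg.Agent.Lib.helper40.pPrimeCore_card_coprime p H
  obtain ⟨y, hy⟩ : ∃ y : H, y = x ^ p ^ (n - 1) := ⟨_, rfl⟩
  have hy1 : y ≠ 1 := by
    intro h
    rw [hy] at h
    have h1 := orderOf_dvd_of_pow_eq_one h
    rw [hx] at h1
    have h2 : n ≤ n - 1 := (Nat.pow_dvd_pow_iff_le_right hp.out.one_lt).mp h1
    omega
  have hyp : y ^ p = 1 := by
    rw [hy, ← pow_mul, ← pow_succ, Nat.sub_add_cancel hn, ← hx, pow_orderOf_eq_one]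
  have hyK : y ∉ centralizer (K : Set H) := by
    intro h
    have h1 : y ∈ K := by
      rw [hK] at h ⊢
      exact Cfsg.Agent.Lib.helper66.centralizer_pPrimeCore_le_of_isPSolvable hsol hOp h
    have h2 : orderOf y ∣ Nat.card K := by
      have := orderOf_dvd_natCard (⟨y, h1⟩ : K)
      rwa [Subgroup.orderOf_mk] at this
    have h3 : orderOf y ∣ p := orderOf_dvd_of_pow_eq_one hyp
    have h4 : orderOf y = 1 := Nat.Coprime.eq_one_of_dvd (hKc.coprime_dvd_left h2) h3
    exact hy1 (orderOf_eq_one_iff.mp h4)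
  rw [← hy]
  by_contra hcon
  push Not at hcon
  apply hyK
  have hA : zpowers x ≤ normalizer (K : Set H) := by
    rw [normalizer_eq_top]; exact le_top
  have hcop : (Nat.card (zpowers x)).Coprime (Nat.card K) := by
    rw [Nat.card_zpowers, hx]; exact Nat.Coprime.pow_left n hKc.symm
  have key : ((centralizer ({y} : Set H)).subgroupOf K) = ⊤ := by
    apply Cfsg.Agent.Lib.helper2.eq_top_of_forall_sylow_le
    intro q hq
    have := hq
    obtain ⟨P, hP⟩ := Cfsg.Agent.Lib.helper1.exists_invariant_sylow (p := q) (zpowers x) K hA hcop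
      (Or.inl inferInstance)
    refine ⟨P, ?_⟩
    intro g hg
    rw [mem_subgroupOf]
    by_cases hqp : q = p
    · subst hqp
      -- `P` is a `p`-subgroup of the `p'`-group `K`, so `g = 1`
      have h1 : orderOf g ∣ Nat.card K := orderOf_dvd_natCard g
      obtain ⟨k, hk⟩ := (IsPGroup.iff_orderOf.mp P.2) ⟨g, hg⟩
      rw [Subgroup.orderOf_mk] at hk
      have h2 : orderOf g = 1 := by
        rw [hk] at h1 ⊢
        exact Nat.Coprime.eq_one_of_dvd (Nat.Coprime.pow_left k hKc.symm) h1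
      rw [orderOf_eq_one_iff.mp h2]
      exact one_mem _
    · have hQ : IsPGroup q ((P : Subgroup K).map K.subtype) := P.2.map _
      have h1 := hcon q hq.out hqp _ hQ (hP (mem_zpowers x))
      have h2 : (g : H) ∈ (P : Subgroup K).map K.subtype := mem_map_of_mem _ hg
      rw [mem_centralizer_singleton_iff]
      exact mem_centralizer_iff.mp h1 _ h2
  rw [mem_centralizer_iff]
  intro g hg
  have h1 : (⟨g, hg⟩ : K) ∈ (centralizer ({y} : Set H)).subgroupOf K := by rw [key]; trivial
  rw [mem_subgroupOf, mem_centralizer_singleton_iff] at h1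
  exact h1

end Cfsg.Agent.Lib.helper3
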