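import Mathlib
import Cfsg.Prelude.Def_Local
import Cfsg.Prelude.Def_PLocal
import Cfsg.Agent.Lib.helper3.HHBase
import Cfsg.Agent.Lib.helper3.HHGroup
import Cfsg.Agent.Lib.helper3.HHCore

/-!
# Hall–Higman Theorem B

The full statement for a finite `p`-soluble linear group `H` with `O_p(H) = 1` over an arbitrary
field of characteristic `p`, obtained from the algebraically closed core `hh_core` by base change
and the group-theoretic reduction `hh_exists_qsub`.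
-/

set_option autoImplicit false

namespace Cfsg.Agent.Lib.helper3

open TensorProduct
open scoped commutatorElement Pointwise

/-- If a subgroup of a `q`-subgroup... : a non-commutative `q`-subgroup forces every Sylow
`q`-subgroup to be non-commutative. -/
theorem sylow_not_comm_of_sub {G : Type*} [Group G] [Finite G] {q : ℕ} [Fact q.Prime]
    (Q₀ : Subgroup G) (hQ₀ : IsPGroup q Q₀) (hnc : ¬ IsMulCommutative Q₀) :
    ∀ P : Sylow q G, ¬ IsMulCommutative P := by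
  intro P hP
  apply hnc
  obtain ⟨P₀, hP₀⟩ := hQ₀.exists_le_sylow
  obtain ⟨h, hh⟩ := MulAction.exists_smul_eq G P₀ P
  rw [isMulCommutative_iff] at hP ⊢
  intro a b
  have hmem : ∀ c : Q₀, h * (c : G) * h⁻¹ ∈ P := by
    intro c
    have h1 : (c : G) ∈ (P₀ : Subgroup G) := hP₀ c.2
    have h2 := Subgroup.smul_mem_pointwise_smul (c : G) (MulAut.conj h) (P₀ : Subgroup G) h1
    rw [← Sylow.pointwise_smul_def] at h2
    have h3 : (MulAut.conj h • P₀ : Sylow q G) = h • P₀ := rfl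
    rw [h3, hh] at h2
    have h4 : h * (c : G) * h⁻¹ ∈ (P : Subgroup G) := by
      simpa [MulAut.smul_def] using h2
    exact h4
  have h1 := hP ⟨_, hmem a⟩ ⟨_, hmem b⟩
  have h2 : h * (a : G) * h⁻¹ * (h * (b : G) * h⁻¹) = h * (b : G) * h⁻¹ * (h * (a : G) * h⁻¹) :=
    congrArg Subtype.val h1
  apply Subtype.ext
  have h3 : (a : G) * (b : G) = h⁻¹ * (h * (a : G) * h⁻¹ * (h * (b : G) * h⁻¹)) * h := by group
  have h4 : (b : G) * (a : G) = h⁻¹ * (h * (b : G) * h⁻¹ * (h * (a : G) * h⁻¹)) * h := by group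
  change (a : G) * (b : G) = (b : G) * (a : G)
  rw [h3, h4, h2]

/-- **Hall–Higman Theorem B.** -/
theorem hh_theorem_B {F : Type*} [Field F] {p : ℕ} [hp : Fact p.Prime] [CharP F p] {V : Type*}
    [AddCommGroup V] [Module F V] [FiniteDimensional F V] [Nontrivial V]
    (H : Subgroup (V ≃ₗ[F] V)) [Finite H] (hsol : Cfsg.IsPSolvable p H)
    (hOp : Cfsg.pCore p H = ⊥) (x : V ≃ₗ[F] V) (hx : x ∈ H) (n : ℕ) (hn : orderOf x = p ^ n)
    (r : ℕ) (hr : minpoly F (x : Module.End F V) = (Polynomial.X - 1) ^ r) :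
    r = p ^ n ∨ ∃ n₀ q m : ℕ, 1 ≤ n₀ ∧ n₀ ≤ n ∧ q.Prime ∧ 1 ≤ m ∧ p ^ n₀ - 1 = q ^ m ∧
      (∀ Q : Sylow q H, ¬ IsMulCommutative Q) ∧ p ^ (n - n₀) * (p ^ n₀ - 1) ≤ r := by
  obtain ⟨hr0, hrmin⟩ := nilIndex_of_minpoly ((x : V ≃ₗ[F] V) : Module.End F V) r hr
  have hxp : x ^ p ^ n = 1 := by rw [← hn]; exact pow_orderOf_eq_one x
  have hpow0 : (((x : V ≃ₗ[F] V) : Module.End F V) - 1) ^ p ^ n = 0 := by
    rw [end_sub_one_pow_char_pow p, ← linearEquiv_coe_pow, hxp, sub_eq_zero]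
    rfl
  have hrle : r ≤ p ^ n := by
    by_contra hcon
    push Not at hcon
    exact hrmin _ hcon hpow0
  have hlow : ∀ B : ℕ, (((x : V ≃ₗ[F] V) : Module.End F V) - 1) ^ (B - 1) ≠ 0 → 1 ≤ B → B ≤ r := by
    intro B hB hB1
    by_contra hcon
    push Not at hcon
    apply hB
    have h1 : B - 1 = r + (B - 1 - r) := by omega
    rw [h1, pow_add, hr0, zero_mul]
  by_cases hn0 : n = 0
  · left
    have h1 : (((x : V ≃ₗ[F] V) : Module.End F V) - 1) ^ (1 - 1) ≠ 0 := by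
      rw [Nat.sub_self, pow_zero]
      exact one_ne_zero
    have h2 := hlow 1 h1 le_rfl
    rw [hn0, pow_zero] at hrle ⊢
    omega
  have hn1 : 1 ≤ n := by omega
  obtain ⟨x', hx'⟩ : ∃ x' : H, x' = ⟨x, hx⟩ := ⟨_, rfl⟩
  have hx'coe : (x' : V ≃ₗ[F] V) = x := by rw [hx']
  have hordx' : orderOf x' = p ^ n := by
    rw [← hn, ← hx'coe, Subgroup.orderOf_coe]
  obtain ⟨q, hqprime, hqp, Q₀, hQ₀, hxN, hyC⟩ := hh_exists_qsub hsol hOp x' n hn1 hordx'
  have hqf : Fact q.Prime := ⟨hqprime⟩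
  obtain ⟨ψ, hψ⟩ : ∃ ψ : H →* ((AlgebraicClosure F ⊗[F] V) ≃ₗ[AlgebraicClosure F]
      (AlgebraicClosure F ⊗[F] V)), ψ = (bcHom (AlgebraicClosure F)).comp H.subtype := ⟨_, rfl⟩
  have hψinj : Function.Injective ψ := by
    rw [hψ]
    exact (bcHom_injective (AlgebraicClosure F)).comp H.subtype_injective
  have hψx : ψ x' = bcHom (AlgebraicClosure F) x := by rw [hψ, ← hx'coe]; rfl
  have hord : orderOf (ψ x') = p ^ n := by rw [orderOf_injective ψ hψinj, hordx']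
  have hfinQ : Finite (Q₀.map ψ) := by
    have hs : Function.Surjective (fun a : Q₀ => (⟨ψ a, Subgroup.mem_map_of_mem ψ a.2⟩ : Q₀.map ψ)) := by
      rintro ⟨_, ⟨a, ha, rfl⟩⟩
      exact ⟨⟨a, ha⟩, rfl⟩
    exact Finite.of_surjective _ hs
  have hxQ : ∀ g ∈ Q₀.map ψ, ψ x' * g * (ψ x')⁻¹ ∈ Q₀.map ψ := by
    rintro _ ⟨a, ha, rfl⟩
    refine ⟨x' * a * x'⁻¹, (Subgroup.mem_normalizer_iff.mp hxN a).mp ha, ?_⟩
    rw [map_mul, map_mul, map_inv]
  have hy : ∃ g ∈ Q₀.map ψ, ⁅g, ψ x' ^ p ^ (n - 1)⁆ ≠ 1 := by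
    by_contra hcon
    push Not at hcon
    apply hyC
    rw [Subgroup.mem_centralizer_iff]
    intro a ha
    have h1 := hcon (ψ a) (Subgroup.mem_map_of_mem ψ ha)
    rw [← map_pow, ← map_commutatorElement, ← map_one ψ] at h1
    have h2 := hψinj h1
    rw [commutatorElement_eq_one_iff_commute] at h2
    exact h2.eq
  have key := hh_core p q (Ne.symm hqp) (Q₀.map ψ) (hQ₀.map ψ) (ψ x') hxQ n hn1 hord hy
  obtain ⟨B, hB, hcases⟩ := key
  rw [hψx, Ne, bcHom_sub_one_pow_eq_zero_iff] at hB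
  have hB1 : 1 ≤ B := by
    rcases hcases with h | ⟨n₀, m, h3, h4, h5, h6, h7, h8⟩
    · rw [h]; exact Nat.one_le_pow _ _ hp.out.pos
    · rw [h8, h6]
      exact Nat.mul_pos (pow_pos hp.out.pos _) (pow_pos hqprime.pos _)
  have hBr := hlow B hB hB1
  rcases hcases with h | ⟨n₀, m, h3, h4, h5, h6, h7, h8⟩
  · left
    omega
  · right
    refine ⟨n₀, q, m, h3, h4, hqprime, h5, h6, ?_, h8 ▸ hBr⟩
    apply sylow_not_comm_of_sub Q₀ hQ₀
    intro hcomm
    apply h7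
    rw [isMulCommutative_iff] at hcomm ⊢
    rintro ⟨_, ⟨a, ha, rfl⟩⟩ ⟨_, ⟨b, hb, rfl⟩⟩
    apply Subtype.ext
    change ψ a * ψ b = ψ b * ψ a
    have h1 := hcomm ⟨a, ha⟩ ⟨b, hb⟩
    have h2 : a * b = b * a := congrArg Subtype.val h1
    rw [← map_mul, ← map_mul, h2]

end Cfsg.Agent.Lib.helper3
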