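import Mathlib
import Cfsg.Prelude.Def_Classical
import Cfsg.Prelude.Def_GeometricClasses
import Cfsg.Agent.Lib.helper24.SfoDefs

/-!
Racer copy (helper3) of the leaf FORM (`hci_form`) of the sub-split `s5977i` (architect helper99):
verbatim Skel statement under the prefixed name `h3_hci_form`.
-/

set_option autoImplicit false

namespace Cfsg.Agent.Lib.helper3

/-- For a field extension `E / F` of finite degree and a nonzero `F`-linear functional `lam` on `E`,
every `F`-linear functional on `E` is `x ↦ lam (c * x)` for a unique `c`. -/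
theorem h3_functional_repr {F : Type*} [Field F] {E : Type*} [Field E] [Algebra F E]
    [FiniteDimensional F E] (lam : E →ₗ[F] F) (hlam : lam ≠ 0) :
    (∀ ψ : E →ₗ[F] F, ∃ c : E, ∀ x, lam (c * x) = ψ x) ∧
      (∀ c c' : E, (∀ x, lam (c * x) = lam (c' * x)) → c = c') := by
  classical
  let Φ₀ : E →ₗ[F] Module.Dual F E :=
    { toFun := fun c =>
        { toFun := fun x => lam (c * x)
          map_add' := by intro x y; simp [mul_add]
          map_smul' := by intro a x; simp [mul_smul_comm] }
      map_add' := by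
        intro c c'; ext x; simp [add_mul]
      map_smul' := by
        intro a c; ext x; simp [smul_mul_assoc] }
  have hΦ₀ : ∀ c x, Φ₀ c x = lam (c * x) := fun _ _ => rfl
  have hinj : Function.Injective Φ₀ := by
    rw [injective_iff_map_eq_zero]
    intro c hc
    by_contra hc0
    apply hlam
    ext y
    have := congrArg (fun f : Module.Dual F E => f (c⁻¹ * y)) hc
    simp only [hΦ₀, LinearMap.zero_apply] at this
    rw [← mul_assoc, mul_inv_cancel₀ hc0, one_mul] at this
    simpa using this
  have hsurj : Function.Surjective Φ₀ :=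
    (LinearMap.injective_iff_surjective_of_finrank_eq_finrank
      (Subspace.dual_finrank_eq (K := F) (V := E)).symm).1 hinj
  refine ⟨fun ψ => ?_, fun c c' h => ?_⟩
  · obtain ⟨c, hc⟩ := hsurj ψ
    exact ⟨c, fun x => by rw [← hΦ₀, hc]⟩
  · apply hinj
    ext x
    rw [hΦ₀, hΦ₀, h x]

end Cfsg.Agent.Lib.helper3

namespace Cfsg.Agent.Lib.helper99.HCI

open Matrix Cfsg.Geo Cfsg.Agent.Lib.helper24

/-- FORM (S/M; helper99): the `E`-bilinear form behind an `F`-bilinear symmetric form for which the
scalars of `E` are self-adjoint. -/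
theorem h3_hci_form {F : Type*} [Field F] {E : Type*} [Field E] [Algebra F E] [FiniteDimensional F E]
    {V : Type*} [AddCommGroup V] [Module F V] [Module E V] [IsScalarTower F E V]
    (B : V →ₗ[F] V →ₗ[F] F) (hsymm : ∀ u v, B u v = B v u)
    (hnd : ∀ u, (∀ v, B u v = 0) → u = 0) (hsa : ∀ (a : E) (u v : V), B (a • u) v = B u (a • v))
    (lam : E →ₗ[F] F) (hlam : lam ≠ 0) :
    ∃ β : V →ₗ[E] V →ₗ[E] E, (∀ u v, β u v = β v u) ∧ (∀ u, (∀ v, β u v = 0) → u = 0) ∧
      ∀ u v, B u v = lam (β u v) := by
  classical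
  obtain ⟨hrep, huniq⟩ := Cfsg.Agent.Lib.helper3.h3_functional_repr lam hlam
  -- the functional `x ↦ B (x • u) v`
  let ψ : V → V → (E →ₗ[F] F) := fun u v =>
    { toFun := fun x => B (x • u) v
      map_add' := by intro x y; simp [add_smul]
      map_smul' := by intro a x; simp [smul_assoc] }
  have hψ : ∀ u v x, ψ u v x = B (x • u) v := fun _ _ _ => rfl
  let β' : V → V → E := fun u v => Classical.choose (hrep (ψ u v))
  have key : ∀ u v x, lam (β' u v * x) = B (x • u) v := fun u v x => by
    rw [← hψ]; exact Classical.choose_spec (hrep (ψ u v)) x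
  have hadd_l : ∀ u₁ u₂ v, β' (u₁ + u₂) v = β' u₁ v + β' u₂ v := by
    intro u₁ u₂ v
    apply huniq
    intro x
    have e1 : lam ((β' u₁ v + β' u₂ v) * x) = lam (β' u₁ v * x) + lam (β' u₂ v * x) := by
      rw [add_mul, map_add]
    rw [key, e1, key, key, smul_add, map_add, LinearMap.add_apply]
  have hsmul_l : ∀ (a : E) u v, β' (a • u) v = a • β' u v := by
    intro a u v
    apply huniq
    intro x
    have e1 : a • β' u v * x = β' u v * (x * a) := by
      rw [smul_eq_mul]; ring
    rw [key, e1, key, smul_smul]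
  have hadd_r : ∀ u v₁ v₂, β' u (v₁ + v₂) = β' u v₁ + β' u v₂ := by
    intro u v₁ v₂
    apply huniq
    intro x
    have e1 : lam ((β' u v₁ + β' u v₂) * x) = lam (β' u v₁ * x) + lam (β' u v₂ * x) := by
      rw [add_mul, map_add]
    rw [key, e1, key, key, map_add]
  have hsmul_r : ∀ (a : E) u v, β' u (a • v) = a • β' u v := by
    intro a u v
    apply huniq
    intro x
    have e1 : a • β' u v * x = β' u v * (a * x) := by
      rw [smul_eq_mul]; ring
    rw [key, e1, key, ← hsa, smul_smul]
  refine ⟨LinearMap.mk₂ E β' hadd_l hsmul_l hadd_r hsmul_r, ?_, ?_, ?_⟩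
  · intro u v
    simp only [LinearMap.mk₂_apply]
    apply huniq
    intro x
    rw [key, key, hsymm, ← hsa, hsymm]
  · intro u hu
    apply hnd
    intro v
    have h1 := key u v 1
    have h2 := hu v
    simp only [LinearMap.mk₂_apply] at h2
    rw [h2, zero_mul, map_zero, one_smul] at h1
    exact h1.symm
  · intro u v
    simp only [LinearMap.mk₂_apply]
    have h1 := key u v 1
    rw [mul_one, one_smul] at h1
    exact h1.symm

end Cfsg.Agent.Lib.helper99.HCI


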