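import Mathlib

/-!
Racer copy (helper3) of the leaf FC (`pearl_x_nonab`) of the split `s5238r` (architect helper88):
verbatim Skel statement under the prefixed name `h3_pearl_x_nonab`.
-/

set_option autoImplicit false

namespace Cfsg.Agent.Lib.helper3

open scoped commutatorElement

/-- A nonabelian group of order `p³`: the centre has order `p` and contains all commutators. -/
theorem h3_center_of_nonabelian_cube {E : Type*} [Group E] [Finite E] (p : ℕ) [Fact p.Prime]
    (hcard : Nat.card E = p ^ 3) (hcomm_of : ¬ ∀ a b : E, a * b = b * a) :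
    Nat.card (Subgroup.center E) = p ∧ ∀ a b : E, ⁅a, b⁆ ∈ Subgroup.center E := by
  classical
  have hpp : p.Prime := Fact.out
  have hPG : IsPGroup p E := IsPGroup.of_card hcard
  have hnt : Nontrivial E := by
    rw [← Finite.one_lt_card_iff_nontrivial, hcard]
    exact Nat.one_lt_pow (by norm_num) hpp.one_lt
  have hZnt : Nontrivial (Subgroup.center E) := hPG.center_nontrivial
  have hZdvd : Nat.card (Subgroup.center E) ∣ p ^ 3 :=
    hcard ▸ Subgroup.card_subgroup_dvd_card (Subgroup.center E)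
  obtain ⟨k, hk3, hk⟩ := (Nat.dvd_prime_pow hpp).mp hZdvd
  have hZidx : (Subgroup.center E).index * Nat.card (Subgroup.center E) = p ^ 3 := by
    rw [← hcard]; exact Subgroup.index_mul_card _
  have hkne0 : k ≠ 0 := by
    rintro rfl
    rw [pow_zero] at hk
    have := Finite.one_lt_card_iff_nontrivial.mpr hZnt
    omega
  have hkne3 : k ≠ 3 := by
    rintro rfl
    have hZtop : Subgroup.center E = ⊤ := Subgroup.eq_top_of_card_eq _ (by rw [hk, hcard])
    apply hcomm_of
    intro a b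
    have hb : b ∈ Subgroup.center E := by rw [hZtop]; trivial
    exact Subgroup.mem_center_iff.mp hb a
  have hkne2 : k ≠ 2 := by
    rintro rfl
    have hidx : (Subgroup.center E).index = p := by
      rw [hk] at hZidx
      have : (Subgroup.center E).index * p ^ 2 = p * p ^ 2 := by rw [hZidx]; ring
      exact Nat.eq_of_mul_eq_mul_right (pow_pos hpp.pos 2) this
    have hcq : Nat.card (E ⧸ Subgroup.center E) = p := by
      rw [← Subgroup.index_eq_card]; exact hidx
    have : IsCyclic (E ⧸ Subgroup.center E) := isCyclic_of_prime_card hcq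
    apply hcomm_of
    exact commutative_of_cyclic_center_quotient (QuotientGroup.mk' (Subgroup.center E))
      (by rw [QuotientGroup.ker_mk'])
  have hk1 : k = 1 := by omega
  rw [hk1, pow_one] at hk
  have hidx : (Subgroup.center E).index = p ^ 2 := by
    rw [hk] at hZidx
    have : (Subgroup.center E).index * p = p ^ 2 * p := by rw [hZidx]; ring
    exact Nat.eq_of_mul_eq_mul_right hpp.pos this
  have hcq : Nat.card (E ⧸ Subgroup.center E) = p ^ 2 := by
    rw [← Subgroup.index_eq_card]; exact hidx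
  have hqcomm : ∀ a b : E ⧸ Subgroup.center E, a * b = b * a :=
    IsPGroup.commutative_of_card_eq_prime_sq hcq
  refine ⟨hk, ?_⟩
  intro a b
  rw [← QuotientGroup.eq_one_iff]
  have h1 : ((⁅a, b⁆ : E) : E ⧸ Subgroup.center E) =
      ⁅(a : E ⧸ Subgroup.center E), (b : E ⧸ Subgroup.center E)⁆ := rfl
  rw [h1, commutatorElement_eq_one_iff_mul_comm]
  exact hqcomm _ _

theorem h3_comm_mul_left {G : Type*} [Group G] (w₁ w₂ e : G)
    (h : ⁅w₂, e⁆ ∈ Subgroup.center G) : ⁅w₁ * w₂, e⁆ = ⁅w₁, e⁆ * ⁅w₂, e⁆ := by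
  have hz : ∀ g, g * ⁅w₂, e⁆ = ⁅w₂, e⁆ * g := Subgroup.mem_center_iff.mp h
  calc ⁅w₁ * w₂, e⁆ = w₁ * ⁅w₂, e⁆ * e * w₁⁻¹ * e⁻¹ := by
        simp only [commutatorElement_def]; group
    _ = ⁅w₂, e⁆ * w₁ * e * w₁⁻¹ * e⁻¹ := by rw [hz w₁]
    _ = ⁅w₂, e⁆ * ⁅w₁, e⁆ := by simp only [commutatorElement_def]; group
    _ = ⁅w₁, e⁆ * ⁅w₂, e⁆ := (hz _).symm

theorem h3_comm_pow_left {G : Type*} [Group G] (u e : G) (h : ⁅u, e⁆ ∈ Subgroup.center G)
    (k : ℕ) : ⁅u ^ k, e⁆ = ⁅u, e⁆ ^ k := by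
  induction k with
  | zero => simp
  | succ k ih => rw [pow_succ, h3_comm_mul_left _ _ _ h, ih, pow_succ]

/-- A subgroup of a group of order `p³` containing two non-commuting elements is everything. -/
theorem h3_eq_of_noncomm {G : Type*} [Group G] [Finite G] (p : ℕ) [Fact p.Prime]
    (E H : Subgroup G) (hE : Nat.card E = p ^ 3) (hHE : H ≤ E) (a b : G) (ha : a ∈ H)
    (hb : b ∈ H) (hab : a * b ≠ b * a) : H = E := by
  classical
  have hpp : p.Prime := Fact.out
  have hdvd : Nat.card H ∣ p ^ 3 := hE ▸ Subgroup.card_dvd_of_le hHE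
  obtain ⟨k, hk3, hk⟩ := (Nat.dvd_prime_pow hpp).mp hdvd
  have hcomm : (∀ u v : H, u * v = v * u) → False := fun h =>
    hab (congrArg Subtype.val (h ⟨a, ha⟩ ⟨b, hb⟩))
  rcases k with _ | _ | _ | k
  · exfalso
    rw [pow_zero] at hk
    have hbot : H = ⊥ := Subgroup.card_eq_one.mp hk
    apply hab
    rw [hbot, Subgroup.mem_bot] at ha hb
    rw [ha, hb]
  · exfalso
    rw [zero_add, pow_one] at hk
    have hcyc : IsCyclic H := isCyclic_of_prime_card hk
    letI : CommGroup H := IsCyclic.commGroup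
    exact hcomm (fun u v => mul_comm u v)
  · exfalso
    exact hcomm (IsPGroup.commutative_of_card_eq_prime_sq (by rw [hk]))
  · have hk' : k = 0 := by omega
    subst hk'
    exact Subgroup.eq_of_le_of_card_ge hHE (by rw [hk, hE])

/-- Core: if `y` commutes modulo the centre with a non-commuting pair `a, b` of `E` whose
commutator generates the centre, then `y ∈ E`. -/
theorem h3_pearl_core {G : Type*} [Group G] [Finite G] (p : ℕ) [Fact p.Prime]
    (E : Subgroup G) (hE : Nat.card E = p ^ 3) (hC : Subgroup.centralizer (E : Set G) ≤ E)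
    (a b : G) (ha : a ∈ E) (hb : b ∈ E) (hc : ⁅a, b⁆ ∈ Subgroup.center G) (hc1 : ⁅a, b⁆ ≠ 1)
    (hcp : ⁅a, b⁆ ^ p = 1) (hZ : Nat.card (Subgroup.center G) = p) (y : G)
    (hya : ⁅y, a⁆ ∈ Subgroup.center G) (hyb : ⁅y, b⁆ ∈ Subgroup.center G) : y ∈ E := by
  classical
  have hpp : p.Prime := Fact.out
  have hab : a * b ≠ b * a := fun h => hc1 (commutatorElement_eq_one_iff_mul_comm.mpr h)
  have hzp : Subgroup.zpowers ⁅a, b⁆ = Subgroup.center G := by
    refine Subgroup.eq_of_le_of_card_ge ((Subgroup.zpowers_le).mpr hc) ?_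
    rw [hZ, Nat.card_zpowers, orderOf_eq_prime hcp hc1]
  have hpow : ∀ z ∈ Subgroup.center G, ∃ i : ℕ, ⁅a, b⁆ ^ i = z := by
    intro z hz
    rw [← hzp] at hz
    exact (Submonoid.mem_powers_iff _ _).mp (mem_powers_iff_mem_zpowers.mpr hz)
  obtain ⟨i, hi⟩ := hpow _ hya
  obtain ⟨j, hj⟩ := hpow _ hyb
  have hba : ⁅b, a⁆ = ⁅a, b⁆⁻¹ := (commutatorElement_inv a b).symm
  have hbaZ : ⁅b, a⁆ ∈ Subgroup.center G := by rw [hba]; exact inv_mem hc
  have haa : ∀ k : ℕ, ⁅a ^ k, a⁆ = 1 := fun k =>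
    commutatorElement_eq_one_iff_mul_comm.mpr ((Commute.pow_left (Commute.refl a) k).eq)
  have hbb : ∀ k : ℕ, ⁅b ^ k, b⁆ = 1 := fun k =>
    commutatorElement_eq_one_iff_mul_comm.mpr ((Commute.pow_left (Commute.refl b) k).eq)
  -- first correction
  have h1a : ⁅y * b ^ i, a⁆ = 1 := by
    rw [h3_comm_mul_left _ _ _ (by rw [h3_comm_pow_left _ _ hbaZ]; exact pow_mem hbaZ i),
      h3_comm_pow_left _ _ hbaZ, ← hi, hba, inv_pow, mul_inv_cancel]
  have h1b : ⁅y * b ^ i, b⁆ = ⁅a, b⁆ ^ j := by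
    rw [h3_comm_mul_left _ _ _ (by rw [hbb]; exact one_mem _), hbb, mul_one, hj]
  -- second correction
  have h2b : ⁅y * b ^ i * a ^ ((p - 1) * j), b⁆ = 1 := by
    rw [h3_comm_mul_left _ _ _ (by rw [h3_comm_pow_left _ _ hc]; exact pow_mem hc _),
      h3_comm_pow_left _ _ hc, h1b, ← pow_add]
    have hpj : j + (p - 1) * j = p * j := by
      have := hpp.one_lt
      obtain ⟨q, rfl⟩ : ∃ q, p = q + 1 := ⟨p - 1, by omega⟩
      simp; ring
    rw [hpj, pow_mul, hcp, one_pow]
  have h2a : ⁅y * b ^ i * a ^ ((p - 1) * j), a⁆ = 1 := by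
    rw [h3_comm_mul_left _ _ _ (by rw [haa]; exact one_mem _), haa, mul_one, h1a]
  obtain ⟨y₂, hy₂⟩ : ∃ y₂, y₂ = y * b ^ i * a ^ ((p - 1) * j) := ⟨_, rfl⟩
  rw [← hy₂] at h2a h2b
  have hy₂a : y₂ * a = a * y₂ := commutatorElement_eq_one_iff_mul_comm.mp h2a
  have hy₂b : y₂ * b = b * y₂ := commutatorElement_eq_one_iff_mul_comm.mp h2b
  have hH : E ⊓ Subgroup.centralizer ({y₂} : Set G) = E := by
    have hac : a ∈ Subgroup.centralizer ({y₂} : Set G) := by
      rw [Subgroup.mem_centralizer_iff]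
      intro h hh
      rw [Set.mem_singleton_iff.mp hh]; exact hy₂a
    have hbc : b ∈ Subgroup.centralizer ({y₂} : Set G) := by
      rw [Subgroup.mem_centralizer_iff]
      intro h hh
      rw [Set.mem_singleton_iff.mp hh]; exact hy₂b
    exact h3_eq_of_noncomm p E _ hE inf_le_left a b (Subgroup.mem_inf.mpr ⟨ha, hac⟩)
      (Subgroup.mem_inf.mpr ⟨hb, hbc⟩) hab
  have hy₂E : y₂ ∈ E := by
    apply hC
    rw [Subgroup.mem_centralizer_iff]
    intro e he
    have he' : e ∈ E ⊓ Subgroup.centralizer ({y₂} : Set G) := by rw [hH]; exact he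
    exact (Subgroup.mem_centralizer_iff.mp (Subgroup.mem_inf.mp he').2 y₂ rfl).symm
  have hy : y = y₂ * (a ^ ((p - 1) * j))⁻¹ * (b ^ i)⁻¹ := by rw [hy₂]; group
  rw [hy]
  exact mul_mem (mul_mem hy₂E (inv_mem (pow_mem ha _))) (inv_mem (pow_mem hb _))

/-- A nonabelian finite `p`-group has a non-central element all of whose commutators are central. -/
theorem h3_exists_second_center {G : Type*} [Group G] [Finite G] (p : ℕ) [Fact p.Prime]
    (hG : IsPGroup p G) (hna : ∃ a b : G, a * b ≠ b * a) :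
    ∃ x' : G, x' ∉ Subgroup.center G ∧ ∀ g : G, ⁅x', g⁆ ∈ Subgroup.center G := by
  classical
  have hnt : Nontrivial (G ⧸ Subgroup.center G) := by
    by_contra h
    rw [not_nontrivial_iff_subsingleton] at h
    obtain ⟨a, b, hab⟩ := hna
    apply hab
    have hb1 : ((b : G) : G ⧸ Subgroup.center G) = 1 := Subsingleton.elim _ _
    rw [QuotientGroup.eq_one_iff] at hb1
    exact Subgroup.mem_center_iff.mp hb1 a
  have hQ : IsPGroup p (G ⧸ Subgroup.center G) := hG.to_quotient (Subgroup.center G)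
  have hcnt : Nontrivial (Subgroup.center (G ⧸ Subgroup.center G)) := hQ.center_nontrivial
  obtain ⟨q, hq⟩ := exists_ne (1 : Subgroup.center (G ⧸ Subgroup.center G))
  obtain ⟨x', hx'⟩ := QuotientGroup.mk_surjective q.1
  refine ⟨x', ?_, ?_⟩
  · intro hmem
    apply hq
    apply Subtype.ext
    rw [← hx']
    exact (QuotientGroup.eq_one_iff x').mpr hmem
  · intro g
    rw [← QuotientGroup.eq_one_iff]
    have h1 : ((⁅x', g⁆ : G) : G ⧸ Subgroup.center G) =
        ⁅(x' : G ⧸ Subgroup.center G), (g : G ⧸ Subgroup.center G)⁆ := rfl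
    rw [h1, commutatorElement_eq_one_iff_mul_comm, hx']
    exact (Subgroup.mem_center_iff.mp q.2 _).symm

end Cfsg.Agent.Lib.helper3

namespace Cfsg.Agent.Lib.helper88.PearlF

open scoped commutatorElement
open Cfsg.Agent.Lib.helper3

/-- FC: nonabelian pearl of exponent `p`. -/
theorem h3_pearl_x_nonab {G : Type*} [Group G] [Finite G] (p : ℕ) [Fact p.Prime] (n : ℕ)
    (hG : Nat.card G = p ^ n) (E : Subgroup G) (hE : Nat.card E = p ^ 3)
    (hna : ¬ IsMulCommutative E) (hexp : ∀ x ∈ E, x ^ p = 1)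
    (hC : Subgroup.centralizer (E : Set G) ≤ E) :
    ∃ x : G, x ^ p = 1 ∧ Nat.card (Subgroup.centralizer ({x} : Set G)) = p ^ 2 := by
  classical
  have hpp : p.Prime := Fact.out
  have hPG : IsPGroup p G := IsPGroup.of_card hG
  have hnaE : ¬ ∀ a b : E, a * b = b * a := fun h => hna ⟨⟨h⟩⟩
  obtain ⟨hZEcard, hcomZE⟩ := h3_center_of_nonabelian_cube p hE hnaE
  push_neg at hnaE
  obtain ⟨a', b', hab'⟩ := hnaE
  have hZle : Subgroup.center G ≤ E := fun u hu => hC (Subgroup.center_le_centralizer _ hu)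
  obtain ⟨M, hM⟩ : ∃ M : Subgroup G, M = (Subgroup.center E).map E.subtype := ⟨_, rfl⟩
  have hMcard : Nat.card M = p := by
    rw [hM, Subgroup.card_map_of_injective E.subtype_injective]
    exact hZEcard
  have hZM : Subgroup.center G ≤ M := by
    intro u hu
    rw [hM]
    refine ⟨⟨u, hZle hu⟩, ?_, rfl⟩
    rw [SetLike.mem_coe, Subgroup.mem_center_iff]
    intro g
    exact Subtype.ext (Subgroup.mem_center_iff.mp hu g.1)
  have hGnt : Nontrivial G :=
    ⟨⟨(a' : G), 1, fun h => hab' (by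
      have h1 : a' = 1 := Subtype.ext h
      rw [h1, one_mul, mul_one])⟩⟩
  have hZnt : Nontrivial (Subgroup.center G) := hPG.center_nontrivial
  have hZcard : Nat.card (Subgroup.center G) = p := by
    have h1 : Nat.card (Subgroup.center G) ≤ p := hMcard ▸ Subgroup.card_le_of_le hZM
    have h2 : 1 < Nat.card (Subgroup.center G) := Finite.one_lt_card_iff_nontrivial.mpr hZnt
    have h3 : Nat.card (Subgroup.center G) ∣ p ^ n := hG ▸ Subgroup.card_subgroup_dvd_card _
    obtain ⟨k, -, hk⟩ := (Nat.dvd_prime_pow hpp).mp h3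
    rcases k with _ | _ | k
    · rw [hk] at h2; simp at h2
    · rw [hk]; simp
    · exfalso
      rw [hk] at h1
      have h4 : p ^ 2 ≤ p ^ (k + 1 + 1) := Nat.pow_le_pow_right hpp.pos (by omega)
      have h5 : p < p ^ 2 := by nlinarith [hpp.one_lt]
      omega
  have hZeqM : Subgroup.center G = M :=
    Subgroup.eq_of_le_of_card_ge hZM (by rw [hMcard, hZcard])
  have hF : ∀ u ∈ E, (∀ e ∈ E, e * u = u * e) → u ∈ Subgroup.center G := by
    intro u hu h
    rw [hZeqM, hM]
    refine ⟨⟨u, hu⟩, ?_, rfl⟩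
    rw [SetLike.mem_coe, Subgroup.mem_center_iff]
    intro g
    exact Subtype.ext (h g.1 g.2)
  have hcomm : ∀ u ∈ E, ∀ v ∈ E, ⁅u, v⁆ ∈ Subgroup.center G := by
    intro u hu v hv
    rw [hZeqM, hM]
    exact ⟨⁅(⟨u, hu⟩ : E), ⟨v, hv⟩⁆, hcomZE _ _, rfl⟩
  obtain ⟨a, ha_def⟩ : ∃ a : G, a = (a' : G) := ⟨_, rfl⟩
  obtain ⟨b, hb_def⟩ : ∃ b : G, b = (b' : G) := ⟨_, rfl⟩
  have ha : a ∈ E := by rw [ha_def]; exact a'.2
  have hb : b ∈ E := by rw [hb_def]; exact b'.2
  have hab : a * b ≠ b * a := fun h => hab' (Subtype.ext (by rw [ha_def, hb_def] at h; exact h))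
  have hc : ⁅a, b⁆ ∈ Subgroup.center G := hcomm a ha b hb
  have hc1 : ⁅a, b⁆ ≠ 1 := fun h => hab (commutatorElement_eq_one_iff_mul_comm.mp h)
  have hcp : ⁅a, b⁆ ^ p = 1 := hexp _ (hZle hc)
  obtain ⟨x', hx'Z, hx'⟩ := h3_exists_second_center p hPG ⟨a, b, hab⟩
  have hx'E : x' ∈ E :=
    h3_pearl_core p E hE hC a b ha hb hc hc1 hcp hZcard x' (hx' a) (hx' b)
  have hx : ∃ x ∈ E, x * x' ≠ x' * x := by
    by_contra hcon
    push_neg at hcon
    exact hx'Z (hF x' hx'E hcon)
  obtain ⟨x, hxE, hxx'⟩ := hx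
  have hd : ⁅x, x'⁆ ∈ Subgroup.center G := hcomm x hxE x' hx'E
  have hd1 : ⁅x, x'⁆ ≠ 1 := fun h => hxx' (commutatorElement_eq_one_iff_mul_comm.mp h)
  have hdp : ⁅x, x'⁆ ^ p = 1 := hexp _ (hZle hd)
  have hCx : Subgroup.centralizer ({x} : Set G) ≤ E := by
    intro y hy
    have hyx : ⁅y, x⁆ = 1 := by
      rw [commutatorElement_eq_one_iff_mul_comm]
      exact (Subgroup.mem_centralizer_iff.mp hy x rfl).symm
    have hyx' : ⁅y, x'⁆ ∈ Subgroup.center G := by
      rw [← commutatorElement_inv]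
      exact inv_mem (hx' y)
    exact h3_pearl_core p E hE hC x x' hxE hx'E hd hd1 hdp hZcard y
      (by rw [hyx]; exact one_mem _) hyx'
  refine ⟨x, hexp x hxE, ?_⟩
  have hdvd : Nat.card (Subgroup.centralizer ({x} : Set G)) ∣ p ^ 3 :=
    hE ▸ Subgroup.card_dvd_of_le hCx
  obtain ⟨k, hk3, hk⟩ := (Nat.dvd_prime_pow hpp).mp hdvd
  have hZCx : Subgroup.center G ≤ Subgroup.centralizer ({x} : Set G) :=
    Subgroup.center_le_centralizer _
  have hxZ : x ∉ Subgroup.center G := fun h => hxx' ((Subgroup.mem_center_iff.mp h x').symm)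
  have hxc : x ∈ Subgroup.centralizer ({x} : Set G) := by
    rw [Subgroup.mem_centralizer_iff]
    intro h hh
    rw [Set.mem_singleton_iff.mp hh]
  have hlt1 : p < Nat.card (Subgroup.centralizer ({x} : Set G)) := by
    by_contra hle
    push_neg at hle
    have heq := Subgroup.eq_of_le_of_card_ge hZCx (by rw [hZcard]; exact hle)
    rw [← heq] at hxc
    exact hxZ hxc
  have hlt2 : Nat.card (Subgroup.centralizer ({x} : Set G)) < p ^ 3 := by
    by_contra hge
    push_neg at hge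
    have heq := Subgroup.eq_of_le_of_card_ge hCx (by rw [hE]; exact hge)
    have hx'c : x' ∈ Subgroup.centralizer ({x} : Set G) := by rw [heq]; exact hx'E
    exact hxx' (Subgroup.mem_centralizer_iff.mp hx'c x rfl)
  rw [hk] at hlt1 hlt2 ⊢
  have hk2 : k = 2 := by
    have h1 : 1 < k := by
      by_contra h
      push_neg at h
      have h6 : p ^ k ≤ p ^ 1 := Nat.pow_le_pow_right hpp.pos h
      rw [pow_one] at h6
      omega
    have h2 : k < 3 := (Nat.pow_lt_pow_iff_right hpp.one_lt).mp hlt2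
    omega
  rw [hk2]

end Cfsg.Agent.Lib.helper88.PearlF


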