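import Mathlib
import Cfsg.Agent.Lib.helper3.PearlFC

/-! S5239 leaf EXP27 (racer copy by helper3): `p3_exp27`, verbatim statement. -/

set_option autoImplicit false
open scoped commutatorElement

namespace Cfsg.Agent.Lib.helper3

theorem h3_exp27_core {G : Type*} [Group G] [Finite G] (hG : Nat.card G = 27)
    (hna : ∃ a b : G, a * b ≠ b * a)
    (E : Subgroup G) (hE : Nat.card E = 9) (hEe : ∀ e ∈ E, e ^ 3 = 1) (ψ : G →* G)
    (hψ : Function.Injective ψ) (hψE : ∀ e ∈ E, ψ e = e⁻¹) : ∀ g : G, g ^ 3 = 1 := by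
  classical
  haveI : Fact (Nat.Prime 3) := ⟨Nat.prime_three⟩
  have hnc : ¬ ∀ a b : G, a * b = b * a := by
    obtain ⟨a, b, hab⟩ := hna
    exact fun h => hab (h a b)
  obtain ⟨hZ, hcen⟩ := h3_center_of_nonabelian_cube 3 (by rw [hG]; norm_num) hnc
  have hEab : ∀ a ∈ E, ∀ b ∈ E, a * b = b * a := by
    intro a ha b hb
    have h := IsPGroup.commutative_of_card_eq_prime_sq (p := 3) (G := E) (by rw [hE]; norm_num)
      ⟨a, ha⟩ ⟨b, hb⟩
    exact congrArg Subtype.val h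
  have hidx : E.index = 3 := by
    have h := E.card_mul_index
    rw [hE, hG] at h
    omega
  haveI hEn : E.Normal := by
    apply Subgroup.normal_of_index_eq_minFac_card
    rw [hidx, hG]
    norm_num
  have hQ : Nat.card (G ⧸ E) = 3 := by rw [← Subgroup.index_eq_card, hidx]
  intro y
  by_contra hy3
  have hyE : y ∉ E := fun h => hy3 (hEe y h)
  have hyQ : (y : G ⧸ E) ≠ 1 := fun h => hyE ((QuotientGroup.eq_one_iff y).mp h)
  have hy3Q : (y : G ⧸ E) ^ 3 = 1 := by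
    have h := pow_card_eq_one' (G := G ⧸ E) (x := (y : G ⧸ E))
    rwa [hQ] at h
  have hzE : y ^ 3 ∈ E := by
    rw [← QuotientGroup.mk_pow] at hy3Q
    exact (QuotientGroup.eq_one_iff _).mp hy3Q
  have hψyE : ψ y ∉ E := by
    intro h
    have h1 : ψ ((ψ y)⁻¹) = ψ y := by rw [hψE _ (E.inv_mem h), inv_inv]
    have h2 : (ψ y)⁻¹ = y := hψ h1
    exact hyE (h2 ▸ E.inv_mem h)
  obtain ⟨k, hk⟩ := Subgroup.mem_zpowers_iff.mp
    (mem_zpowers_of_prime_card (p := 3) hQ hyQ (g' := ((ψ y : G) : G ⧸ E)))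
  obtain ⟨m, r, hr, rfl⟩ : ∃ m : ℤ, ∃ r : ℕ, r < 3 ∧ k = 3 * m + r :=
    ⟨k / 3, (k % 3).toNat, by omega, by omega⟩
  have hk' : ((y ^ r : G) : G ⧸ E) = ((ψ y : G) : G ⧸ E) := by
    rw [← hk, zpow_add, zpow_mul, zpow_natCast, QuotientGroup.mk_pow]
    have h3 : ((y : G ⧸ E)) ^ (3 : ℤ) = 1 := by exact_mod_cast hy3Q
    rw [h3, one_zpow, one_mul]
  have hmem : (y ^ r)⁻¹ * ψ y ∈ E := QuotientGroup.eq.mp hk'
  interval_cases r
  · exact hψyE (by simpa using hmem)
  · obtain ⟨e, heE', hψy⟩ : ∃ e ∈ E, ψ y = y * e := ⟨(y ^ 1)⁻¹ * ψ y, hmem, by group⟩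
    have hcc : e⁻¹ * y⁻¹ * e * y ∈ Subgroup.center G := by
      have h := hcen e⁻¹ y⁻¹
      simpa [commutatorElement_def] using h
    have hcE : e⁻¹ * y⁻¹ * e * y ∈ E := by
      have h := hEn.conj_mem e heE' y⁻¹
      have h2 := E.mul_mem (E.inv_mem heE') h
      simpa [mul_assoc] using h2
    set c := e⁻¹ * y⁻¹ * e * y with hc_def
    have hcg : ∀ g : G, g * c = c * g := Subgroup.mem_center_iff.mp hcc
    have hce' : c * e = e * c := (hcg e).symm
    have hc3 : c ^ 3 = 1 := hEe c hcE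
    have he3 : e ^ 3 = 1 := hEe e heE'
    have h1 : y⁻¹ * e * y = e * c := by rw [hc_def]; group
    have hcy : y⁻¹ * c * y = c := by
      rw [mul_assoc, ← hcg y, ← mul_assoc, inv_mul_cancel, one_mul]
    have h2 : (y ^ 2)⁻¹ * e * y ^ 2 = e * c * c := by
      have ha : (y ^ 2)⁻¹ * e * y ^ 2 = y⁻¹ * (y⁻¹ * e * y) * y := by rw [pow_two]; group
      have hb : y⁻¹ * (e * c) * y = (y⁻¹ * e * y) * (y⁻¹ * c * y) := by group
      rw [ha, h1, hb, h1, hcy]
    have h3 : (y * e) ^ 3 = y ^ 3 * ((y ^ 2)⁻¹ * e * y ^ 2 * (y⁻¹ * e * y) * e) := by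
      simp only [pow_succ, pow_zero, one_mul]; group
    have hcce : c * c * e = e * c * c := by rw [mul_assoc, hce', ← mul_assoc, hce']
    have h4 : e * c * c * (e * c) * e = 1 := by
      calc e * c * c * (e * c) * e = e * (c * c * e) * (c * e) := by group
        _ = e * (e * c * c) * (e * c) := by rw [hcce, hce']
        _ = e * e * (c * c * e) * c := by group
        _ = e * e * (e * c * c) * c := by rw [hcce]
        _ = e ^ 3 * c ^ 3 := by simp only [pow_succ, pow_zero, one_mul, mul_assoc]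
        _ = 1 := by rw [he3, hc3, one_mul]
    have h5 : (y * e) ^ 3 = y ^ 3 := by rw [h3, h2, h1, h4, mul_one]
    have h6 : ψ (y ^ 3) = y ^ 3 := by rw [map_pow, hψy, h5]
    have h7 : ψ (y ^ 3) = (y ^ 3)⁻¹ := hψE _ hzE
    have h8 : y ^ 3 = (y ^ 3)⁻¹ := h6.symm.trans h7
    have h9 : (y ^ 3) ^ 3 = 1 := hEe _ hzE
    apply hy3
    have h10 : (y ^ 3) * (y ^ 3) = 1 := by
      nth_rewrite 2 [h8]
      exact mul_inv_cancel _
    have hz : ∀ z : G, z ^ 3 = 1 → z * z = 1 → z = 1 := by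
      intro z hz3 hz2
      have hz' : z ^ 3 = z * z * z := by simp only [pow_succ, pow_zero, one_mul]
      rw [hz', hz2, one_mul] at hz3
      exact hz3
    exact hz _ h9 h10
  · obtain ⟨e, heE', hψy⟩ : ∃ e ∈ E, ψ y = y ^ 2 * e := ⟨(y ^ 2)⁻¹ * ψ y, hmem, by group⟩
    have hcomm : ∀ a ∈ E, a * y = y * a := by
      intro a ha
      have hb : a⁻¹ ∈ E := E.inv_mem ha
      have hn : y * a⁻¹ * y⁻¹ ∈ E := hEn.conj_mem _ hb y
      have h1 : ψ (y * a⁻¹ * y⁻¹) = (y * a⁻¹ * y⁻¹)⁻¹ := hψE _ hn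
      have h2 : ψ (y * a⁻¹ * y⁻¹) = y ^ 2 * e * a * (y ^ 2 * e)⁻¹ := by
        rw [map_mul, map_mul, hψy, hψE _ hb, inv_inv, map_inv, hψy]
      have h3 : e * a = a * e := hEab e heE' a ha
      have h4 : y ^ 2 * e * a * (y ^ 2 * e)⁻¹ = y ^ 2 * a * (y ^ 2)⁻¹ := by
        calc y ^ 2 * e * a * (y ^ 2 * e)⁻¹ = y ^ 2 * (e * a) * e⁻¹ * (y ^ 2)⁻¹ := by group
          _ = y ^ 2 * (a * e) * e⁻¹ * (y ^ 2)⁻¹ := by rw [h3]
          _ = y ^ 2 * a * (y ^ 2)⁻¹ := by group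
      have h5 : (y * a⁻¹ * y⁻¹)⁻¹ = y ^ 2 * a * (y ^ 2)⁻¹ := by rw [← h1, h2, h4]
      have h6 : y * a * y⁻¹ = y ^ 2 * a * (y ^ 2)⁻¹ := by rw [← h5]; group
      have h7 : a = y * a * y⁻¹ := by
        calc a = y⁻¹ * (y * a * y⁻¹) * y := by group
          _ = y⁻¹ * (y ^ 2 * a * (y ^ 2)⁻¹) * y := by rw [h6]
          _ = y * a * y⁻¹ := by group
      calc a * y = (y * a * y⁻¹) * y := by rw [← h7]
        _ = y * a := by group
    have hEK : E ≤ Subgroup.centralizer (E : Set G) := by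
      intro a ha
      rw [Subgroup.mem_centralizer_iff]
      intro h hh
      exact hEab h hh a ha
    have hyK : y ∈ Subgroup.centralizer (E : Set G) := by
      rw [Subgroup.mem_centralizer_iff]
      intro h hh
      exact hcomm h hh
    have hd1 : Nat.card E ∣ Nat.card (Subgroup.centralizer (E : Set G)) := Subgroup.card_dvd_of_le hEK
    have hd2 : Nat.card (Subgroup.centralizer (E : Set G)) ∣ Nat.card G :=
      Subgroup.card_subgroup_dvd_card _
    have hne : Nat.card (Subgroup.centralizer (E : Set G)) ≠ 9 := by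
      intro h
      have h' : E = Subgroup.centralizer (E : Set G) :=
        Subgroup.eq_of_le_of_card_ge hEK (by rw [h, hE])
      exact hyE (h' ▸ hyK)
    rw [hE] at hd1
    rw [hG] at hd2
    have hK27 : Nat.card (Subgroup.centralizer (E : Set G)) = 27 := by
      obtain ⟨m, hm⟩ := hd1
      rw [hm] at hd2 hne
      have hm3 : m ∣ 3 := by
        have h' : 9 * m ∣ 9 * 3 := by simpa using hd2
        exact Nat.dvd_of_mul_dvd_mul_left (by norm_num) h'
      rcases (Nat.dvd_prime Nat.prime_three).mp hm3 with h | h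
      · exact absurd (by rw [h]) hne
      · rw [hm, h]
    have hKtop : Subgroup.centralizer (E : Set G) = ⊤ :=
      Subgroup.eq_top_of_card_eq _ (by rw [hK27, hG])
    have hEZ : E ≤ Subgroup.center G := by
      intro a ha
      exact (Subgroup.centralizer_eq_top_iff_subset.mp hKtop) ha
    have hle := Subgroup.card_le_of_le hEZ
    rw [hE, hZ] at hle
    omega

end Cfsg.Agent.Lib.helper3

namespace Cfsg.Agent.Lib.helper79.P3

theorem h3_p3_exp27 {G : Type*} [Group G] [Finite G] (hG : Nat.card G = 27) (hna : ∃ a b : G, a * b ≠ b * a)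
    (E : Subgroup G) (hE : Nat.card E = 9) (hEe : ∀ e ∈ E, e ^ 3 = 1) (ψ : G →* G)
    (hψ : Function.Injective ψ) (hψE : ∀ e ∈ E, ψ e = e⁻¹) : ∀ g : G, g ^ 3 = 1 :=
  Cfsg.Agent.Lib.helper3.h3_exp27_core hG hna E hE hEe ψ hψ hψE

end Cfsg.Agent.Lib.helper79.P3
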