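import Mathlib

/-! S5239 leaf EXPO (racer copy by helper3): `p3_exponent`, verbatim statement, Mathlib only. -/

set_option autoImplicit false

namespace Cfsg.Agent.Lib.helper3

theorem h3_exponent_eq_three_aux {G : Type*} [Group G] [Finite G] (hG : Nat.card G = 27)
    (hexp : ∀ g : G, g ^ 3 = 1) : Monoid.exponent G = 3 := by
  have hdvd : Monoid.exponent G ∣ 3 := Monoid.exponent_dvd_of_forall_pow_eq_one hexp
  rcases (Nat.dvd_prime Nat.prime_three).mp hdvd with h1 | h3
  · exfalso
    have hsub : Subsingleton G := Monoid.exp_eq_one_iff.mp h1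
    have : Nat.card G = 1 := Nat.card_unique
    omega
  · exact h3

end Cfsg.Agent.Lib.helper3

namespace Cfsg.Agent.Lib.helper79.P3

theorem h3_p3_exponent {G : Type*} [Group G] [Finite G] (hG : Nat.card G = 27) (hexp : ∀ g : G, g ^ 3 = 1) :
    Monoid.exponent G = 3 :=
  Cfsg.Agent.Lib.helper3.h3_exponent_eq_three_aux hG hexp

end Cfsg.Agent.Lib.helper79.P3
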