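import Mathlib
import Cfsg.Agent.Lib.helper88.GroupSat
import Cfsg.Agent.Lib.helper39.Sections
import Cfsg.Agent.Lib.helper39.FamilyFusion
import Cfsg.Agent.Lib.helper3.CrCtl

/-!
# `p`-stability of the fusion system of a group versus the normalizer form

Seat `helper3`.  `NStableAt p Q` is the clause of `Cfsg.IsNormalizerPStable` at the subgroup `Q`.
It is invariant under conjugation (`NStableAt.of_cj`), and for `Q ≤ S` it follows from the
`p`-stability clause of the fusion system of `G` on `S` at `Q` (`nStableAt_of_fusion`), through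
`N_G(Q)/C_G(Q) ≅ Aut_F(Q)`.  Also: a centric subgroup whose normalizer controls strong fusion in
a Sylow subgroup makes the fusion system constrained (`isConstrained_of_nCtl`).
-/

set_option autoImplicit false
set_option linter.style.haveILetI false

namespace Cfsg.Agent.Lib.helper3

open Cfsg Cfsg.FusionSystem Cfsg.Agent.Lib.helper39 Cfsg.Agent.Lib.helper88

open scoped commutatorElement

/-- A normal subgroup whose elements have `p`-power order modulo the kernel of a surjection maps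
into `O_p` of the image. -/
theorem mem_pCore_of_normal_of_pow {U W : Type*} [Group U] [Group W] {p : ℕ} (g : U →* W)
    (hg : Function.Surjective g) (Z : Subgroup U) (hZ : Z.Normal)
    (hpow : ∀ z ∈ Z, ∃ k : ℕ, (g z) ^ p ^ k = 1) : ∀ z ∈ Z, g z ∈ Cfsg.pCore p W := by
  intro z hz
  have hn : (Z.map g).Normal := hZ.map g hg
  have hp : IsPGroup p (Z.map g) := by
    rintro ⟨_, ⟨u, hu, rfl⟩⟩
    obtain ⟨k, hk⟩ := hpow u hu
    exact ⟨k, Subtype.ext (by simpa using hk)⟩
  exact le_pCore hn hp ⟨z, hz, rfl⟩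

variable {G : Type*} [Group G]

/-- The clause of `Cfsg.IsNormalizerPStable` at the subgroup `Q`. -/
def NStableAt (p : ℕ) (Q : Subgroup G) : Prop :=
  ∀ (g : G) (hg : g ∈ Subgroup.normalizer (Q : Set G)),
    ⁅⁅Q, Subgroup.zpowers g⁆, Subgroup.zpowers g⁆ = ⊥ →
      (QuotientGroup.mk (s := (Subgroup.centralizer (Q : Set G)).subgroupOf
          (Subgroup.normalizer (Q : Set G)))
          (⟨g, hg⟩ : ↥(Subgroup.normalizer (Q : Set G)))) ∈
        Cfsg.pCore p (↥(Subgroup.normalizer (Q : Set G)) ⧸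
          (Subgroup.centralizer (Q : Set G)).subgroupOf (Subgroup.normalizer (Q : Set G)))

theorem isNormalizerPStable_iff_nStableAt (p : ℕ) :
    Cfsg.IsNormalizerPStable p G ↔ ∀ Q : Subgroup G, IsPGroup p Q → NStableAt p Q :=
  Iff.rfl

/-- Conjugation by `h`, from `N(Q)` to `N(h Q h⁻¹)`. -/
def cjNormHom (h : G) (Q : Subgroup G) :
    ↥(Subgroup.normalizer (Q : Set G)) →* ↥(Subgroup.normalizer ((cj h Q : Subgroup G) : Set G)) where
  toFun n := ⟨h * n * h⁻¹, by rw [← cj_normalizer]; exact conj_mem_cj.mpr n.2⟩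
  map_one' := by
    apply Subtype.ext
    simp
  map_mul' a b := by
    apply Subtype.ext
    show h * ((a : G) * (b : G)) * h⁻¹ = h * (a : G) * h⁻¹ * (h * (b : G) * h⁻¹)
    group

theorem cjNormHom_coe (h : G) (Q : Subgroup G) (n : ↥(Subgroup.normalizer (Q : Set G))) :
    ((cjNormHom h Q n : ↥(Subgroup.normalizer ((cj h Q : Subgroup G) : Set G))) : G) =
      h * (n : G) * h⁻¹ := rfl

/-- The stability clause is invariant under conjugation. -/
theorem NStableAt.of_cj {p : ℕ} {Q : Subgroup G} (h : G) (hst : NStableAt p (cj h Q)) :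
    NStableAt p Q := by
  intro g hg hquad
  have hg' : h * g * h⁻¹ ∈ Subgroup.normalizer ((cj h Q : Subgroup G) : Set G) := by
    rw [← cj_normalizer]; exact conj_mem_cj.mpr hg
  have hquad' : ⁅⁅cj h Q, Subgroup.zpowers (h * g * h⁻¹)⁆, Subgroup.zpowers (h * g * h⁻¹)⁆ = ⊥ := by
    have e : Subgroup.zpowers (h * g * h⁻¹) =
        (Subgroup.zpowers g).map (MulAut.conj h).toMonoidHom := by
      rw [MonoidHom.map_zpowers]
      rfl
    rw [e]
    show ⁅⁅Q.map (MulAut.conj h).toMonoidHom, (Subgroup.zpowers g).map (MulAut.conj h).toMonoidHom⁆,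
      (Subgroup.zpowers g).map (MulAut.conj h).toMonoidHom⁆ = ⊥
    rw [← Subgroup.map_commutator, ← Subgroup.map_commutator, hquad, Subgroup.map_bot]
  have key := hst _ hg' hquad'
  obtain ⟨f, hf⟩ : ∃ f : ↥(Subgroup.normalizer (Q : Set G)) →*
      (↥(Subgroup.normalizer ((cj h Q : Subgroup G) : Set G)) ⧸
        (Subgroup.centralizer ((cj h Q : Subgroup G) : Set G)).subgroupOf
          (Subgroup.normalizer ((cj h Q : Subgroup G) : Set G))),
      f = (QuotientGroup.mk' _).comp (cjNormHom h Q) := ⟨_, rfl⟩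
  have hZn : ((Cfsg.pCore p _).comap f).Normal := (pCore_normal p _).comap f
  refine mem_pCore_of_normal_of_pow (QuotientGroup.mk' _) (QuotientGroup.mk'_surjective _)
    ((Cfsg.pCore p _).comap f) hZn ?_ ⟨g, hg⟩ ?_
  · intro z hz
    rw [Subgroup.mem_comap] at hz
    obtain ⟨k, hk⟩ := (pCore_isPGroup p _) ⟨f z, hz⟩
    refine ⟨k, ?_⟩
    have hk' : f (z ^ p ^ k) = 1 := by
      rw [map_pow]
      have := congrArg Subtype.val hk
      rw [Subgroup.coe_pow, Subgroup.coe_one] at this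
      exact this
    rw [hf, MonoidHom.comp_apply, QuotientGroup.mk'_apply, QuotientGroup.eq_one_iff,
      Subgroup.mem_subgroupOf, cjNormHom_coe, Subgroup.mem_centralizer_iff] at hk'
    rw [← map_pow, QuotientGroup.mk'_apply, QuotientGroup.eq_one_iff, Subgroup.mem_subgroupOf,
      Subgroup.mem_centralizer_iff]
    intro q hq
    have h1 := hk' (h * q * h⁻¹) (conj_mem_cj.mpr hq)
    have h2 : h * (q * ((z ^ p ^ k : ↥(Subgroup.normalizer (Q : Set G))) : G)) * h⁻¹ =
        h * (((z ^ p ^ k : ↥(Subgroup.normalizer (Q : Set G))) : G) * q) * h⁻¹ := by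
      have e1 : h * (q * ((z ^ p ^ k : ↥(Subgroup.normalizer (Q : Set G))) : G)) * h⁻¹ =
          h * q * h⁻¹ * (h * ((z ^ p ^ k : ↥(Subgroup.normalizer (Q : Set G))) : G) * h⁻¹) := by
        group
      rw [e1, h1]
      group
    exact mul_left_cancel (mul_right_cancel h2)
  · rw [Subgroup.mem_comap, hf]
    exact key

/-- For `Q ≤ S`, the `p`-stability clause of the fusion system of `G` on `S` at `Q` gives the
normalizer form at `Q`. -/
theorem nStableAt_of_fusion {p : ℕ} {S Q : Subgroup G} (hQS : Q ≤ S)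
    (hχ : ∀ χ : MulAut ↥Q, χ ∈ (groupFusionSystem S).autGroup Q →
      (∀ a : ↥Q, (χ a⁻¹) * a * (χ a⁻¹) * (χ (χ a)) = 1) →
      χ ∈ ((Cfsg.pCore p ↥((groupFusionSystem S).autGroup Q)).map
        ((groupFusionSystem S).autGroup Q).subtype : Subgroup (MulAut ↥Q))) :
    NStableAt p Q := by
  intro g hg hquad
  obtain ⟨A, hA⟩ : ∃ A : Subgroup (MulAut ↥Q), A = (groupFusionSystem S).autGroup Q := ⟨_, rfl⟩
  rw [← hA] at hχ
  have hθA : ∀ n : ↥(Subgroup.normalizer (Q : Set G)), conjAutHom Q n ∈ A := by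
    intro n
    rw [hA]
    exact (mem_autGroup_groupFusionSystem hQS _).mpr ⟨n, fun x => conjAutHom_apply Q n x⟩
  have hχq : ∀ a : ↥Q, (conjAutHom Q ⟨g, hg⟩ a⁻¹) * a * (conjAutHom Q ⟨g, hg⟩ a⁻¹) *
      (conjAutHom Q ⟨g, hg⟩ (conjAutHom Q ⟨g, hg⟩ a)) = 1 := by
    intro a
    apply Subtype.ext
    simp only [Subgroup.coe_mul, conjAutHom_apply, Subgroup.coe_inv, Subgroup.coe_one]
    have hc : ⁅(a : G)⁻¹, g⁆ ∈ ⁅Q, Subgroup.zpowers g⁆ :=
      Subgroup.commutator_mem_commutator (Q.inv_mem a.2) (Subgroup.mem_zpowers g)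
    have hc2 : ⁅⁅(a : G)⁻¹, g⁆, g⁆ ∈ ⁅⁅Q, Subgroup.zpowers g⁆, Subgroup.zpowers g⁆ :=
      Subgroup.commutator_mem_commutator hc (Subgroup.mem_zpowers g)
    rw [hquad, Subgroup.mem_bot, commutatorElement_def, commutatorElement_def] at hc2
    have e : g * (a : G)⁻¹ * g⁻¹ * a * (g * (a : G)⁻¹ * g⁻¹) * (g * (g * a * g⁻¹) * g⁻¹) =
        (g * (a : G)⁻¹ * g⁻¹ * a) *
          ((a : G)⁻¹ * g * (a : G)⁻¹⁻¹ * g⁻¹ * g * ((a : G)⁻¹ * g * (a : G)⁻¹⁻¹ * g⁻¹)⁻¹ * g⁻¹)⁻¹ *
          (g * (a : G)⁻¹ * g⁻¹ * a)⁻¹ := by group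
    rw [e, hc2, inv_one, mul_one, mul_inv_cancel]
  have h5 := hχ (conjAutHom Q ⟨g, hg⟩) (hθA _) hχq
  have hZn : (((Cfsg.pCore p ↥A).map A.subtype).comap (conjAutHom Q)).Normal := by
    refine ⟨fun z hz n => ?_⟩
    rw [Subgroup.mem_comap] at hz ⊢
    obtain ⟨y, hy, hyz⟩ := hz
    rw [map_mul, map_mul, map_inv, ← hyz]
    exact ⟨(⟨conjAutHom Q n, hθA n⟩ : ↥A) * y * (⟨conjAutHom Q n, hθA n⟩ : ↥A)⁻¹,
      (pCore_normal p ↥A).conj_mem y hy _, rfl⟩
  refine mem_pCore_of_normal_of_pow (QuotientGroup.mk' _) (QuotientGroup.mk'_surjective _)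
    (((Cfsg.pCore p ↥A).map A.subtype).comap (conjAutHom Q)) hZn ?_ ⟨g, hg⟩ h5
  intro z hz
  rw [Subgroup.mem_comap] at hz
  obtain ⟨y, hy, hyz⟩ := hz
  obtain ⟨k, hk⟩ := (pCore_isPGroup p ↥A) ⟨y, hy⟩
  refine ⟨k, ?_⟩
  have hk1 : y ^ p ^ k = 1 := by
    have := congrArg Subtype.val hk
    rw [Subgroup.coe_pow, Subgroup.coe_one] at this
    exact this
  have hk2 : conjAutHom Q (z ^ p ^ k) = 1 := by
    rw [map_pow, ← hyz]
    have := congrArg Subtype.val hk1
    rw [Subgroup.coe_pow, Subgroup.coe_one] at this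
    exact this
  rw [← map_pow, QuotientGroup.mk'_apply, QuotientGroup.eq_one_iff, Subgroup.mem_subgroupOf,
    Subgroup.mem_centralizer_iff]
  intro q hq
  have h6 := congrArg (fun σ : MulAut ↥Q => ((σ ⟨q, hq⟩ : ↥Q) : G)) hk2
  simp only [conjAutHom_apply, MulAut.one_apply] at h6
  calc q * ((z ^ p ^ k : ↥(Subgroup.normalizer (Q : Set G))) : G)
      = ((z ^ p ^ k : ↥(Subgroup.normalizer (Q : Set G))) : G) * q *
          ((z ^ p ^ k : ↥(Subgroup.normalizer (Q : Set G))) : G)⁻¹ *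
          ((z ^ p ^ k : ↥(Subgroup.normalizer (Q : Set G))) : G) := by rw [h6]
    _ = ((z ^ p ^ k : ↥(Subgroup.normalizer (Q : Set G))) : G) * q := by group

/-- A finite group whose fusion system on a Sylow `p`-subgroup is `p`-stable (at the fully
normalized subgroups) is `p`-stable in the normalizer form. -/
theorem isNormalizerPStable_of_fusion [Finite G] {p : ℕ} [Fact p.Prime] (P : Sylow p G)
    (hst : ∀ Q : Subgroup G, (groupFusionSystem (P : Subgroup G)).IsFullyNormalized Q →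
      ∀ χ : MulAut ↥Q, χ ∈ (groupFusionSystem (P : Subgroup G)).autGroup Q →
      (∀ a : ↥Q, (χ a⁻¹) * a * (χ a⁻¹) * (χ (χ a)) = 1) →
      χ ∈ ((Cfsg.pCore p ↥((groupFusionSystem (P : Subgroup G)).autGroup Q)).map
        ((groupFusionSystem (P : Subgroup G)).autGroup Q).subtype : Subgroup (MulAut ↥Q))) :
    Cfsg.IsNormalizerPStable p G := by
  rw [isNormalizerPStable_iff_nStableAt]
  intro Q₀ hQ₀
  obtain ⟨h₁, -, hh₁⟩ := (sylow_isSylIn_top P).exists_cj_le hQ₀ le_top
  obtain ⟨Q, hconj, hfn⟩ :=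
    exists_fullyNormalized_conj (groupFusionSystem (P : Subgroup G)) hh₁
  obtain ⟨φ, hφ, hrange⟩ := hconj
  obtain ⟨-, -, h₂, hh₂⟩ := hφ
  have hQeq : cj (h₂ * h₁) Q₀ = Q := by
    rw [cj_mul, ← hrange]
    ext y
    constructor
    · intro hy
      rw [mem_cj] at hy
      refine ⟨⟨h₂⁻¹ * y * h₂, hy⟩, ?_⟩
      rw [hh₂]
      show h₂ * (h₂⁻¹ * y * h₂) * h₂⁻¹ = y
      group
    · rintro ⟨x, rfl⟩
      rw [hh₂]
      exact conj_mem_cj.mpr x.2
  apply NStableAt.of_cj (h₂ * h₁)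
  rw [hQeq]
  exact nStableAt_of_fusion hfn.1 (hst Q hfn)

/-- A centric subgroup whose normalizer controls strong fusion in a Sylow `p`-subgroup makes the
fusion system of the group constrained. -/
theorem isConstrained_of_nCtl [Finite G] {p : ℕ} [Fact p.Prime] (P : Sylow p G) {W : Subgroup G}
    (hW : NCtl (P : Subgroup G) W)
    (hc : (P : Subgroup G) ⊓ Subgroup.centralizer (W : Set G) ≤ W) :
    (groupFusionSystem (P : Subgroup G)).IsConstrained p := by
  refine ⟨groupFusionSystem_saturated P, W, ⟨hW.1, ?_⟩, ⟨hW.1, ?_⟩⟩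
  · rintro R φ ⟨hRP, hφP, g, hg⟩
    obtain ⟨n, hn, hna⟩ := hW.2 R hRP g (fun a ha => by
      have := hφP ⟨a, ha⟩
      rwa [hg] at this)
    have hRW : R ⊔ W ≤ (P : Subgroup G) := sup_le hRP hW.1
    have hnW : ∀ w ∈ W, n * w * n⁻¹ ∈ W := fun w hw =>
      (Subgroup.mem_normalizer_iff.mp hn w).mp hw
    have hnP : ∀ x ∈ R ⊔ W, n * x * n⁻¹ ∈ (P : Subgroup G) := by
      have hle : R ⊔ W ≤ (P : Subgroup G).comap (MulAut.conj n).toMonoidHom := by
        refine sup_le ?_ ?_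
        · intro a ha
          show n * a * n⁻¹ ∈ (P : Subgroup G)
          rw [hna a ha, ← hg ⟨a, ha⟩]
          exact hφP ⟨a, ha⟩
        · intro w hw
          show n * w * n⁻¹ ∈ (P : Subgroup G)
          exact hW.1 (hnW w hw)
      exact fun x hx => hle hx
    refine ⟨conjHom (R ⊔ W) n, conjHom_mem_groupFusionSystem hRW n hnP, ?_, ?_⟩
    · intro x
      rw [conjHom_apply, hg x]
      exact hna x x.2
    · ext y
      constructor
      · rintro ⟨x, hx, rfl⟩
        rw [conjHom_apply]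
        exact hnW _ (Subgroup.mem_subgroupOf.mp hx)
      · intro hy
        have h1 : n⁻¹ * y * n ∈ W := by
          have := (Subgroup.mem_normalizer_iff.mp hn (n⁻¹ * y * n)).mpr
          apply this
          have e : n * (n⁻¹ * y * n) * n⁻¹ = y := by group
          rw [e]
          exact hy
        refine ⟨⟨n⁻¹ * y * n, (le_sup_right : W ≤ R ⊔ W) h1⟩, Subgroup.mem_subgroupOf.mpr h1, ?_⟩
        rw [conjHom_apply]
        show n * (n⁻¹ * y * n) * n⁻¹ = y
        group
  · rintro Q' ⟨φ, ⟨-, hφP, g, hg⟩, hrange⟩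
    obtain ⟨n, hn, hna⟩ := hW.2 W hW.1 g (fun a ha => by
      have := hφP ⟨a, ha⟩
      rwa [hg] at this)
    have hQ' : Q' = W := by
      rw [← hrange]
      ext y
      constructor
      · rintro ⟨x, rfl⟩
        rw [hg, ← hna x x.2]
        exact (Subgroup.mem_normalizer_iff.mp hn x).mp x.2
      · intro hy
        have h1 : n⁻¹ * y * n ∈ W := by
          have := (Subgroup.mem_normalizer_iff.mp hn (n⁻¹ * y * n)).mpr
          apply this
          have e : n * (n⁻¹ * y * n) * n⁻¹ = y := by group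
          rw [e]
          exact hy
        refine ⟨⟨n⁻¹ * y * n, h1⟩, ?_⟩
        rw [hg, ← hna _ h1]
        show n * (n⁻¹ * y * n) * n⁻¹ = y
        group
    rw [hQ']
    exact hc

end Cfsg.Agent.Lib.helper3
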