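import Mathlib
import Cfsg.Agent.Lib.helper3.PsBridge

/-!
# The normalizer form of `p`-stability gives `p`-stability of the fusion system

Seat `helper3`.  Converse of `nStableAt_of_fusion`: for `Q ≤ S`, the clause `NStableAt p Q` of
`Cfsg.IsNormalizerPStable` gives the `p`-stability clause of the fusion system of `G` on `S` at
`Q` (`fusion_of_nStableAt`).
-/

set_option autoImplicit false
set_option linter.style.haveILetI false

namespace Cfsg.Agent.Lib.helper3

open Cfsg Cfsg.FusionSystem Cfsg.Agent.Lib.helper39 Cfsg.Agent.Lib.helper88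

open scoped commutatorElement

variable {G : Type*} [Group G]

/-- If `g` commutes with `a g a⁻¹` for all `a ∈ Q`, then `[Q, g, g] = 1`. -/
theorem commutator_zpowers_eq_bot_of_commute (Q : Subgroup G) (g : G)
    (h : ∀ a ∈ Q, Commute (a * g * a⁻¹) g) :
    ⁅⁅Q, Subgroup.zpowers g⁆, Subgroup.zpowers g⁆ = ⊥ := by
  rw [Subgroup.commutator_eq_bot_iff_le_centralizer, Subgroup.commutator_le]
  intro a ha y hy
  obtain ⟨k, rfl⟩ := Subgroup.mem_zpowers_iff.mp hy
  have h1 : Commute (a * g ^ k * a⁻¹) g := by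
    rw [← conj_zpow]
    exact (h a ha).zpow_left k
  have h2 : Commute ((g ^ k)⁻¹) g := ((Commute.refl g).zpow_left k).inv_left
  have h3 : Commute ⁅a, g ^ k⁆ g := by
    rw [commutatorElement_def]
    exact h1.mul_left h2
  rw [Subgroup.mem_centralizer_iff]
  intro z hz
  obtain ⟨j, rfl⟩ := Subgroup.mem_zpowers_iff.mp hz
  exact ((h3.zpow_right j).eq).symm

/-- For `Q ≤ S`, the normalizer form of `p`-stability at `Q` gives the `p`-stability clause of the
fusion system of `G` on `S` at `Q`. -/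
theorem fusion_of_nStableAt [Finite G] {p : ℕ} {S Q : Subgroup G} (hQS : Q ≤ S)
    (hst : NStableAt p Q) :
    ∀ χ : MulAut ↥Q, χ ∈ (groupFusionSystem S).autGroup Q →
      (∀ a : ↥Q, (χ a⁻¹) * a * (χ a⁻¹) * (χ (χ a)) = 1) →
      χ ∈ ((Cfsg.pCore p ↥((groupFusionSystem S).autGroup Q)).map
        ((groupFusionSystem S).autGroup Q).subtype : Subgroup (MulAut ↥Q)) := by
  intro χ hχ hquad
  obtain ⟨A, hA⟩ : ∃ A : Subgroup (MulAut ↥Q), A = (groupFusionSystem S).autGroup Q := ⟨_, rfl⟩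
  rw [← hA] at hχ ⊢
  have hθA : ∀ n : ↥(Subgroup.normalizer (Q : Set G)), conjAutHom Q n ∈ A := by
    intro n
    rw [hA]
    exact (mem_autGroup_groupFusionSystem hQS _).mpr ⟨n, fun x => conjAutHom_apply Q n x⟩
  have hAsurj : ∀ α ∈ A, ∃ n : ↥(Subgroup.normalizer (Q : Set G)), conjAutHom Q n = α := by
    intro α hα
    rw [hA] at hα
    obtain ⟨g, hg⟩ := (mem_autGroup_groupFusionSystem hQS α).mp hα
    have hgN : g ∈ Subgroup.normalizer (Q : Set G) := by
      apply mem_normalizer_of_conj_mem_of_finite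
      intro q hq
      rw [← hg ⟨q, hq⟩]
      exact (α ⟨q, hq⟩).2
    refine ⟨⟨g, hgN⟩, ?_⟩
    ext x
    rw [conjAutHom_apply, hg x]
  obtain ⟨n, rfl⟩ := hAsurj χ hχ
  obtain ⟨g, hg⟩ := n
  -- quadratic action
  have hcomm : ∀ a ∈ Q, Commute (a * g * a⁻¹) g := by
    intro a ha
    have hE := congrArg Subtype.val (hquad ⟨a⁻¹, Q.inv_mem ha⟩)
    simp only [Subgroup.coe_mul, conjAutHom_apply, Subgroup.coe_inv, Subgroup.coe_one,
      inv_inv] at hE
    have h1 : g * a * g * a⁻¹ * g⁻¹ = a * g * a⁻¹ := by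
      have e : g * a * g * a⁻¹ * g⁻¹ = (g * a * g⁻¹ * a⁻¹)⁻¹ *
          (g * a * g⁻¹ * a⁻¹ * (g * a * g⁻¹) * (g * (g * a⁻¹ * g⁻¹) * g⁻¹)) * g := by group
      rw [e, hE]
      group
    show a * g * a⁻¹ * g = g * (a * g * a⁻¹)
    calc a * g * a⁻¹ * g = (g * a * g * a⁻¹ * g⁻¹) * g := by rw [h1]
      _ = g * (a * g * a⁻¹) := by group
  have hq := commutator_zpowers_eq_bot_of_commute Q g hcomm
  have key := hst g hg hq
  -- transport to `Aut_F(Q)`
  obtain ⟨θ, hθ⟩ : ∃ θ : ↥(Subgroup.normalizer (Q : Set G)) →* ↥A,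
      θ = (conjAutHom Q).codRestrict A hθA := ⟨_, rfl⟩
  have hθval : ∀ n, ((θ n : ↥A) : MulAut ↥Q) = conjAutHom Q n := by
    intro n
    rw [hθ]
    rfl
  have hθs : Function.Surjective θ := by
    rintro ⟨α, hα⟩
    obtain ⟨n, hn⟩ := hAsurj α hα
    exact ⟨n, Subtype.ext (by rw [hθval, hn])⟩
  have hZn : ((Cfsg.pCore p (↥(Subgroup.normalizer (Q : Set G)) ⧸
      (Subgroup.centralizer (Q : Set G)).subgroupOf (Subgroup.normalizer (Q : Set G)))).comap
      (QuotientGroup.mk' _)).Normal := (pCore_normal p _).comap _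
  have h5 := mem_pCore_of_normal_of_pow (p := p) θ hθs _ hZn (by
    intro z hz
    rw [Subgroup.mem_comap] at hz
    obtain ⟨k, hk⟩ := (pCore_isPGroup p _) ⟨_, hz⟩
    refine ⟨k, ?_⟩
    have hk1 := congrArg Subtype.val hk
    rw [Subgroup.coe_pow, Subgroup.coe_one, ← map_pow, QuotientGroup.mk'_apply,
      QuotientGroup.eq_one_iff, Subgroup.mem_subgroupOf, Subgroup.mem_centralizer_iff] at hk1
    rw [← map_pow]
    apply Subtype.ext
    rw [hθval, Subgroup.coe_one]
    ext q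
    rw [conjAutHom_apply, MulAut.one_apply, ← hk1 (q : G) q.2]
    group) ⟨g, hg⟩ (by rw [Subgroup.mem_comap]; exact key)
  exact ⟨θ ⟨g, hg⟩, h5, hθval _⟩

end Cfsg.Agent.Lib.helper3
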