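import Mathlib
import Cfsg.Agent.Lib.helper55.ZJFusion

/-!
# Lifting control of fusion through `G / Q` when `G = S C_G(Q)`

Seat `helper3`.  If `Q` is a normal `p`-subgroup of `G` with `G = S C_G(Q)` and, in `G / Q`,
the normalizer of `V̄ ≤ S̄` realizes every conjugation between subgroups of `S̄`, then the
normalizer of the preimage of `V̄` realizes every conjugation between subgroups of `S`
(`rz_lift_SC`).  The argument is the one of `helper55`'s `rz_SC`, for an arbitrary `V̄`.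
-/

set_option autoImplicit false

namespace Cfsg.Agent.Lib.helper3

open Subgroup Cfsg.Agent.Lib.helper14 Cfsg.Agent.Lib.helper39 Cfsg.Agent.Lib.helper57
  Cfsg.Agent.Lib.helper55.FusionCtl

universe u

theorem rz_lift_SC {G : Type u} [Group G] [Finite G] {p : ℕ} [Fact p.Prime]
    (S : Sylow p G) (Q : Subgroup G) [hQn : Q.Normal] (hQp : IsPGroup p Q)
    (hSC : ∀ x : G, ∃ s ∈ (S : Subgroup G), ∃ c ∈ Subgroup.centralizer (Q : Set G), x = s * c)
    (Vb : Subgroup (G ⧸ Q))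
    (hVb : Vb ≤ (S : Subgroup G).map (QuotientGroup.mk' Q))
    (hctl : ∀ (B : Subgroup (G ⧸ Q)) (g : G ⧸ Q),
      B ≤ (S : Subgroup G).map (QuotientGroup.mk' Q) →
      cj g B ≤ (S : Subgroup G).map (QuotientGroup.mk' Q) → RZ Vb B g) :
    ∀ (B : Subgroup G) (g : G), B ≤ (S : Subgroup G) → cj g B ≤ (S : Subgroup G) →
      RZ (Vb.comap (QuotientGroup.mk' Q)) B g := by
  have hSp : IsPGroup p (S : Subgroup G) := S.2
  have hQS : Q ≤ (S : Subgroup G) :=
    (Cfsg.Agent.Lib.helper39.le_pCore hQn hQp).trans (Cfsg.Agent.Lib.helper39.pCore_le_sylow S)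
  obtain ⟨mk, hmk⟩ : ∃ mk : G →* G ⧸ Q, mk = QuotientGroup.mk' Q := ⟨_, rfl⟩
  rw [← hmk] at hVb hctl ⊢
  have hmks : Function.Surjective mk := hmk ▸ QuotientGroup.mk'_surjective Q
  have hmk1 : ∀ x, mk x = 1 ↔ x ∈ Q := by
    intro x
    rw [hmk, QuotientGroup.mk'_apply, QuotientGroup.eq_one_iff]
  have hmem_S : ∀ x, mk x ∈ (S : Subgroup G).map mk → x ∈ (S : Subgroup G) := by
    rintro x ⟨s, hs, hsx⟩
    have h1 : s⁻¹ * x ∈ Q := by
      rw [← hmk1, map_mul, map_inv, hsx, inv_mul_cancel]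
    have h2 : x = s * (s⁻¹ * x) := by group
    rw [h2]
    exact mul_mem hs (hQS h1)
  obtain ⟨V, hV⟩ : ∃ V : Subgroup G, V = Vb.comap mk := ⟨_, rfl⟩
  rw [← hV]
  have hR : AdmRel (S : Subgroup G) (RZ V) := admRel_rz V S
  have hQV : Q ≤ V := by
    intro q hq
    rw [hV, Subgroup.mem_comap, (hmk1 q).mpr hq]
    exact one_mem _
  have hVS : V ≤ (S : Subgroup G) := by
    intro v hv
    rw [hV, Subgroup.mem_comap] at hv
    exact hmem_S v (hVb hv)
  have hNb : ∀ n : G, mk n ∈ Subgroup.normalizer (Vb : Set (G ⧸ Q)) →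
      n ∈ Subgroup.normalizer (V : Set G) := by
    intro n hn
    rw [Subgroup.mem_normalizer_iff] at hn ⊢
    intro v
    rw [hV, Subgroup.mem_comap, Subgroup.mem_comap, hn (mk v)]
    simp
  have hSV : (S : Subgroup G) ≤ Subgroup.normalizer (V : Set G) := by
    intro s hs
    apply hNb
    have hsb : mk s ∈ (S : Subgroup G).map mk := ⟨s, hs, rfl⟩
    obtain ⟨y, hy, hya⟩ := hctl ((S : Subgroup G).map mk) (mk s) le_rfl
      (cj_le_of_mem hsb le_rfl)
    apply Cfsg.Agent.Lib.helper55.mem_normalizer_of_conj_mem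
    intro v hv
    rw [← hya v (hVb hv)]
    have hyn := (Subgroup.mem_normalizer_iff.mp hy) v
    exact hyn.mp hv
  have hRS : ∀ s ∈ (S : Subgroup G), ∀ B : Subgroup G, RZ V B s :=
    fun s hs B => ⟨s, hSV hs, fun b _ => rfl⟩
  have claim : ∀ (d : ℕ) (B : Subgroup G), Nat.card (S : Subgroup G) - Nat.card B = d → Q ≤ B →
      B ≤ (S : Subgroup G) → ∀ g : G, cj g B ≤ (S : Subgroup G) → RZ V B g := by
    intro d
    induction d using Nat.strong_induction_on with
    | _ d ih =>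
    intro B hd hQB hB g hgB
    have hBb : B.map mk ≤ (S : Subgroup G).map mk := Subgroup.map_mono hB
    have hgBb : cj (mk g) (B.map mk) ≤ (S : Subgroup G).map mk := by
      rintro _ ⟨_, ⟨b, hb, rfl⟩, rfl⟩
      exact ⟨g * b * g⁻¹, hgB (conj_mem_cj.mpr hb), by simp⟩
    obtain ⟨yb, hyb, hyba⟩ := hctl (B.map mk) (mk g) hBb hgBb
    obtain ⟨n, rfl⟩ := hmks yb
    have hnV : n ∈ Subgroup.normalizer (V : Set G) := hNb n hyb
    obtain ⟨c, hc⟩ : ∃ c, c = n⁻¹ * g := ⟨_, rfl⟩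
    have hgnc : g = n * c := by rw [hc]; group
    have hcQ : ∀ b ∈ B, c * b * c⁻¹ * b⁻¹ ∈ Q := by
      intro b hb
      rw [← hmk1]
      have h1 := hyba (mk b) ⟨b, hb, rfl⟩
      rw [hc]
      simp only [map_mul, map_inv]
      calc (mk n)⁻¹ * mk g * mk b * ((mk n)⁻¹ * mk g)⁻¹ * (mk b)⁻¹
          = (mk n)⁻¹ * (mk g * mk b * (mk g)⁻¹) * mk n * (mk b)⁻¹ := by group
        _ = (mk n)⁻¹ * (mk n * mk b * (mk n)⁻¹) * mk n * (mk b)⁻¹ := by rw [h1]
        _ = 1 := by group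
    have hcB : ∀ b ∈ B, c * b * c⁻¹ ∈ B := by
      intro b hb
      have h1 : c * b * c⁻¹ = (c * b * c⁻¹ * b⁻¹) * b := by group
      rw [h1]
      exact mul_mem (hQB (hcQ b hb)) hb
    have hcN : c ∈ Subgroup.normalizer (B : Set G) :=
      Cfsg.Agent.Lib.helper55.mem_normalizer_of_conj_mem hcB
    have hcjc : cj c B = B := cj_eq_self_iff.mpr hcN
    rw [hgnc]
    refine hR.mul B c n ?_ ?_
    swap
    · exact ⟨n, hnV, fun b _ => rfl⟩
    by_cases hBS : B = (S : Subgroup G)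
    · refine ⟨c, ?_, fun b _ => rfl⟩
      apply Cfsg.Agent.Lib.helper55.mem_normalizer_of_conj_mem
      intro x hx
      have hxB : x ∈ B := by rw [hBS]; exact hVS hx
      have h1 : c * x * c⁻¹ = (c * x * c⁻¹ * x⁻¹) * x := by group
      rw [h1]
      exact mul_mem (hQV (hcQ x hxB)) hx
    · have hlt : B < (S : Subgroup G) := lt_of_le_of_ne hB hBS
      obtain ⟨h₁, hB'S, hsyl, hM1⟩ := exists_cj_isSylIn_NS S B hB
      have hlt2 : B < NS (S : Subgroup G) B := lt_inf_normalizer_of_lt hSp hlt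
      have hc1 := card_lt_card_of_lt hlt2
      have hc2 : Nat.card (NS (S : Subgroup G) B) ≤ Nat.card (S : Subgroup G) :=
        Subgroup.card_le_of_le inf_le_left
      have r1 : RZ V (NS (S : Subgroup G) B) h₁ :=
        ih (Nat.card (S : Subgroup G) - Nat.card (NS (S : Subgroup G) B)) (by omega)
          (NS (S : Subgroup G) B) rfl (le_trans hQB hlt2.le) inf_le_left h₁
          (le_trans hM1 inf_le_left)
      refine hR.conj_step r1 hlt2.le (by rw [hcjc]; exact hlt2.le) ?_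
      have hc'N : h₁ * c * h₁⁻¹ ∈ Subgroup.normalizer ((cj h₁ B : Subgroup G) : Set G) := by
        rw [← cj_normalizer]
        exact conj_mem_cj.mpr hcN
      have hc'Q : ∀ b ∈ cj h₁ B, (h₁ * c * h₁⁻¹) * b * (h₁ * c * h₁⁻¹)⁻¹ * b⁻¹ ∈ Q := by
        intro b hb
        rw [mem_cj] at hb
        have h1 := hcQ _ hb
        have e1 : (h₁ * c * h₁⁻¹) * b * (h₁ * c * h₁⁻¹)⁻¹ * b⁻¹
            = h₁ * (c * (h₁⁻¹ * b * h₁) * c⁻¹ * (h₁⁻¹ * b * h₁)⁻¹) * h₁⁻¹ := by group
        rw [e1]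
        exact hQn.conj_mem _ h1 _
      obtain ⟨s, hs, z, hz, hsz⟩ :=
        exists_mul_centralizer_of_stab S Q hQp hSC (cj h₁ B) hsyl _ hc'N hc'Q
      refine hR.congr (cj h₁ B) s _ ?_ (hRS s (Subgroup.mem_inf.mp hs).1 _)
      intro b hb
      rw [hsz]
      have hzb := (Subgroup.mem_centralizer_iff.mp hz) b hb
      have e1 : z * b * z⁻¹ = b := by rw [← hzb]; group
      calc s * b * s⁻¹ = s * (z * b * z⁻¹) * s⁻¹ := by rw [e1]
        _ = s * z * b * (s * z)⁻¹ := by group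
  intro B g hB hgB
  have hBQ : B ⊔ Q ≤ (S : Subgroup G) := sup_le hB hQS
  have hgBQ : cj g (B ⊔ Q) ≤ (S : Subgroup G) := by
    show (B ⊔ Q).map _ ≤ _
    rw [Subgroup.map_sup]
    refine sup_le hgB ?_
    show cj g Q ≤ _
    rw [cj_normal g Q]
    exact hQS
  exact hR.mono _ B g le_sup_left (claim _ (B ⊔ Q) rfl le_sup_right hBQ g hgBQ)

end Cfsg.Agent.Lib.helper3
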