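import Mathlib
import Cfsg.Agent.Lib.helper55.PStabMod

/-!
# `p = 3`: invariant commutator forms (seat `helper3`)

Tools for the case `p = 3` of `p`-stability modulo a `p`-central subgroup
(`Cfsg.Agent.Lib.helper55.PStabMod.pstabmod_centralize` is proved there for `p ≥ 5`).

* `biadd_transfer` : a biadditive alternating form on `E × E` invariant under
  `(x, y) ↦ (y, -x)` and `(x, y) ↦ (x + y, x - y)` is invariant under `(x, y) ↦ (x + y, y)`.
* `exists_biadd_lift` : a biadditive alternating map on a group `X` vanishing on the kernel of a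
  surjection `X → W` descends to `W`.
* `quad_on_invSub_of_fix` : variant of `quad_on_invSub` of seat `helper55`.
* `conj_comm_eq_of_forms`, `conj_inv_prod_fixed` : the commutator form of `invSub P r`.
-/

set_option autoImplicit false
set_option linter.style.haveILetI false

namespace Cfsg.Agent.Lib.helper3

open Cfsg.Agent.Lib.helper55.PStabMod

universe u v w

/-- A biadditive alternating form on `E × E` invariant under `(x, y) ↦ (y, -x)` and
`(x, y) ↦ (x + y, x - y)` is invariant under `(x, y) ↦ (x + y, y)`. -/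
theorem biadd_transfer {E : Type u} {A : Type v} [AddCommGroup E] [AddCommGroup A]
    (β : E × E → E × E → A)
    (h1 : ∀ v₁ v₂ w, β (v₁ + v₂) w = β v₁ w + β v₂ w)
    (h2 : ∀ v w₁ w₂, β v (w₁ + w₂) = β v w₁ + β v w₂)
    (halt : ∀ v, β v v = 0)
    (hg : ∀ x y x' y', β (y, -x) (y', -x') = β (x, y) (x', y'))
    (hj : ∀ x y x' y', β (x + y, x - y) (x' + y', x' - y') = β (x, y) (x', y')) :
    ∀ x y x' y', β (x + y, y) (x' + y', y') = β (x, y) (x', y') := by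
  have h10 : ∀ w, β 0 w = 0 := by
    intro w
    have h := h1 0 0 w
    rw [add_zero] at h
    exact add_eq_left.mp h.symm
  have h20 : ∀ v, β v 0 = 0 := by
    intro v
    have h := h2 v 0 0
    rw [add_zero] at h
    exact add_eq_left.mp h.symm
  have h1n : ∀ v w, β (-v) w = -β v w := by
    intro v w
    have h := h1 (-v) v w
    rw [neg_add_cancel, h10] at h
    exact eq_neg_of_add_eq_zero_left h.symm
  have h2n : ∀ v w, β v (-w) = -β v w := by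
    intro v w
    have h := h2 v (-w) w
    rw [neg_add_cancel, h20] at h
    exact eq_neg_of_add_eq_zero_left h.symm
  have hskew : ∀ v w, β v w = -β w v := by
    intro v w
    have h := halt (v + w)
    rw [h1, h2, h2, halt, halt, zero_add, add_zero] at h
    exact eq_neg_of_add_eq_zero_left h
  have hdec : ∀ x y x' y', β (x, y) (x', y')
      = β (x, 0) (x', 0) + β (x, 0) (0, y') + β (0, y) (x', 0) + β (0, y) (0, y') := by
    intro x y x' y'
    have e1 : ((x, y) : E × E) = (x, 0) + (0, y) := by simp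
    have e2 : ((x', y') : E × E) = (x', 0) + (0, y') := by simp
    calc β (x, y) (x', y') = β ((x, 0) + (0, y)) ((x', 0) + (0, y')) := by rw [← e1, ← e2]
      _ = _ := by rw [h1, h2, h2]; abel
  -- `d = a`
  have hda : ∀ x x', β (0, x) (0, x') = β (x, 0) (x', 0) := by
    intro x x'
    have h := hg x 0 x' 0
    have e1 : ((0, -x) : E × E) = -(0, x) := by simp
    have e2 : ((0, -x') : E × E) = -(0, x') := by simp
    rw [e1, e2, h1n, h2n, neg_neg] at h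
    exact h
  -- `b` symmetric
  have hbs : ∀ x y', β (x, 0) (0, y') = β (y', 0) (0, x) := by
    intro x y'
    have h := hg x 0 0 y'
    have e1 : ((0, -x) : E × E) = -(0, x) := by simp
    rw [e1, neg_zero, h1n, hskew (0, x) (y', 0), neg_neg] at h
    exact h.symm
  have ha0 : ∀ x x', β (x, 0) (x', 0) = 0 := by
    intro x x'
    have h := hj x 0 x' 0
    rw [add_zero, add_zero, sub_zero, sub_zero, hdec x x x' x', hda, hskew (0, x) (x', 0),
      hbs x x'] at h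
    have h' : β (x, 0) (x', 0) + β (x, 0) (x', 0) = β (x, 0) (x', 0) := by
      calc β (x, 0) (x', 0) + β (x, 0) (x', 0)
          = β (x, 0) (x', 0) + β (x', 0) (0, x) + -β (x', 0) (0, x) + β (x, 0) (x', 0) := by
            abel
        _ = β (x, 0) (x', 0) := h
    exact add_eq_left.mp h'
  intro x y x' y'
  rw [hdec (x + y) y (x' + y') y', hdec x y x' y', hda y y', ha0 (x + y), ha0 x, ha0 y,
    hskew (0, y) (x' + y', 0), hskew (0, y) (x', 0)]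
  have e1 : ((x + y, 0) : E × E) = (x, 0) + (y, 0) := by simp
  have e2 : ((x' + y', 0) : E × E) = (x', 0) + (y', 0) := by simp
  rw [e1, e2, h1, h1, hbs y y']
  abel

/-- A biadditive alternating map on a group `X` vanishing on the kernel of a surjective
additive map `π : X → W` descends to `W`. -/
theorem exists_biadd_lift {X : Type u} [Group X] {W : Type v} [AddCommGroup W] {A : Type w}
    [AddCommGroup A] (π : X → W) (hπs : Function.Surjective π)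
    (hπm : ∀ x y, π (x * y) = π x + π y) (B : X → X → A)
    (hB1 : ∀ x x' y, B (x * x') y = B x y + B x' y)
    (hB2 : ∀ x y y', B x (y * y') = B x y + B x y')
    (hB3 : ∀ x, B x x = 0) (hB4 : ∀ x y, π x = 0 → B x y = 0) :
    ∃ β : W → W → A, (∀ x y, β (π x) (π y) = B x y) ∧
      (∀ w₁ w₂ w', β (w₁ + w₂) w' = β w₁ w' + β w₂ w') ∧
      (∀ w w₁ w₂, β w (w₁ + w₂) = β w w₁ + β w w₂) ∧ (∀ w, β w w = 0) := by
  classical
  have hskew : ∀ x y, B x y = -B y x := by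
    intro x y
    have h := hB3 (x * y)
    rw [hB1, hB2, hB2, hB3, hB3, zero_add, add_zero] at h
    exact eq_neg_of_add_eq_zero_left h
  have hB4' : ∀ x y, π y = 0 → B x y = 0 := by
    intro x y hy
    rw [hskew, hB4 y x hy, neg_zero]
  have hπ1 : π 1 = 0 := by
    have h := hπm 1 1
    rw [mul_one] at h
    exact add_eq_left.mp h.symm
  have hπinv : ∀ x, π x⁻¹ = -π x := by
    intro x
    have h := hπm x⁻¹ x
    rw [inv_mul_cancel, hπ1] at h
    exact eq_neg_of_add_eq_zero_left h.symm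
  have hwd : ∀ x y x' y', π x = π x' → π y = π y' → B x y = B x' y' := by
    intro x y x' y' hx hy
    have e1 : x = x' * (x'⁻¹ * x) := by group
    have e2 : y = y' * (y'⁻¹ * y) := by group
    have k1 : π (x'⁻¹ * x) = 0 := by rw [hπm, hπinv, hx, neg_add_cancel]
    have k2 : π (y'⁻¹ * y) = 0 := by rw [hπm, hπinv, hy, neg_add_cancel]
    calc B x y = B (x' * (x'⁻¹ * x)) y := by rw [← e1]
      _ = B x' y := by rw [hB1, hB4 _ _ k1, add_zero]
      _ = B x' (y' * (y'⁻¹ * y)) := by rw [← e2]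
      _ = B x' y' := by rw [hB2, hB4' _ _ k2, add_zero]
  obtain ⟨σ, hσ⟩ : ∃ σ : W → X, ∀ w, π (σ w) = w :=
    ⟨fun w => (hπs w).choose, fun w => (hπs w).choose_spec⟩
  refine ⟨fun w w' => B (σ w) (σ w'), ?_, ?_, ?_, ?_⟩
  · intro x y
    exact hwd _ _ _ _ (hσ _) (hσ _)
  · intro w₁ w₂ w'
    show B (σ (w₁ + w₂)) (σ w') = B (σ w₁) (σ w') + B (σ w₂) (σ w')
    rw [← hB1]
    exact hwd _ _ _ _ (by rw [hσ, hπm, hσ, hσ]) rfl
  · intro w w₁ w₂
    show B (σ w) (σ (w₁ + w₂)) = B (σ w) (σ w₁) + B (σ w) (σ w₂)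
    rw [← hB2]
    exact hwd _ _ _ _ rfl (by rw [hσ, hπm, hσ, hσ])
  · intro w
    exact hB3 _

section inverting

variable {G : Type u} [Group G]

/-- Variant of `Cfsg.Agent.Lib.helper55.PStabMod.quad_on_invSub`: instead of `y` centralizing `Y`
it is enough that `y` fixes the elements `r a r⁻¹ a`, `a ∈ invSub P r`. -/
theorem quad_on_invSub_of_fix (P Y : Subgroup G) (hYn : ∀ u ∈ P, ∀ z ∈ Y, u * z * u⁻¹ ∈ Y)
    (hodd : ∀ u ∈ P, ∃ n : ℕ, u ^ (2 * n + 1) = 1) (r y : G)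
    (hrY : ∀ z ∈ Y, r * z * r⁻¹ = z) (hrinv : ∀ u ∈ P, r * u * r⁻¹ * u ∈ Y)
    (hyP : ∀ u ∈ P, y * u * y⁻¹ ∈ P)
    (hyZ : ∀ a ∈ invSub P r, y * (r * a * r⁻¹ * a) * y⁻¹ = r * a * r⁻¹ * a)
    (hcomm : ∀ u ∈ P, r * (y * u * y⁻¹) * r⁻¹ = y * (r * u * r⁻¹) * y⁻¹)
    (hquad : ∀ u ∈ P, y * (y * u * y⁻¹ * u⁻¹) * y⁻¹ * (y * u * y⁻¹ * u⁻¹)⁻¹ ∈ Y) :
    ∀ u ∈ invSub P r, y * (y * u * y⁻¹ * u⁻¹) = (y * u * y⁻¹ * u⁻¹) * y := by
  have hUP := invSub_le P r
  have hUC := invSub_le_centralizer P Y hYn hodd r hrY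
  have hUy := conj_mem_invSub P r y hyP hcomm
  have hUr := conj_self_mem_invSub P r
  have key : ∀ a ∈ invSub P r, y * a * y⁻¹ * a⁻¹ ∈ Y → y * a * y⁻¹ * a⁻¹ = 1 := by
    intro a ha hf
    obtain ⟨f, hfdef⟩ : ∃ f, f = y * a * y⁻¹ * a⁻¹ := ⟨_, rfl⟩
    rw [← hfdef] at hf ⊢
    have haP := hUP ha
    have hfU : f ∈ invSub P r := by
      rw [hfdef]; exact Subgroup.mul_mem _ (hUy a ha) (Subgroup.inv_mem _ ha)
    obtain ⟨z, hz⟩ : ∃ z, z = r * a * r⁻¹ * a := ⟨_, rfl⟩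
    have hzY : z ∈ Y := by rw [hz]; exact hrinv a haP
    have hzU : z ∈ invSub P r := by rw [hz]; exact Subgroup.mul_mem _ (hUr a ha) ha
    have hyz : y * z * y⁻¹ = z := by rw [hz]; exact hyZ a ha
    have hA : y * (r * a * r⁻¹) * y⁻¹ * (r * a * r⁻¹)⁻¹ = f := by
      have h1 : y * (r * a * r⁻¹) * y⁻¹ = r * (y * a * y⁻¹) * r⁻¹ := (hcomm a haP).symm
      rw [h1]
      calc r * (y * a * y⁻¹) * r⁻¹ * (r * a * r⁻¹)⁻¹ = r * (y * a * y⁻¹ * a⁻¹) * r⁻¹ := by group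
        _ = r * f * r⁻¹ := by rw [hfdef]
        _ = f := hrY f hf
    have hB : y * (r * a * r⁻¹) * y⁻¹ * (r * a * r⁻¹)⁻¹ = f⁻¹ := by
      have h1 : r * a * r⁻¹ = z * a⁻¹ := by rw [hz]; group
      rw [h1]
      have h2 : y * (z * a⁻¹) * y⁻¹ * (z * a⁻¹)⁻¹
          = (y * z * y⁻¹) * (a⁻¹ * (y * a * y⁻¹ * a⁻¹)⁻¹ * a) * z⁻¹ := by group
      rw [h2, hyz, ← hfdef]
      have h3 : a⁻¹ * f⁻¹ * a = f⁻¹ := by
        have := (Subgroup.mem_centralizer_iff.mp (hUC ha)) f⁻¹ (Y.inv_mem hf)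
        rw [mul_assoc, this, ← mul_assoc, inv_mul_cancel, one_mul]
      have h4 : z * f⁻¹ * z⁻¹ = f⁻¹ := by
        have := (Subgroup.mem_centralizer_iff.mp (hUC hzU)) f⁻¹ (Y.inv_mem hf)
        rw [← this, mul_inv_cancel_right]
      rw [h3, h4]
    have hff : f = f⁻¹ := hA.symm.trans hB
    have hf2 : f * f = 1 := by
      nth_rewrite 2 [hff]
      exact mul_inv_cancel f
    obtain ⟨n, hn⟩ := hodd f (hUP hfU)
    have h5 : f ^ (2 * n + 1) = f := by rw [pow_succ, pow_mul, pow_two, hf2, one_pow, one_mul]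
    rw [← h5]; exact hn
  intro u hu
  obtain ⟨d, hd⟩ : ∃ d, d = y * u * y⁻¹ * u⁻¹ := ⟨_, rfl⟩
  rw [← hd]
  have hdU : d ∈ invSub P r := by
    rw [hd]; exact Subgroup.mul_mem _ (hUy u hu) (Subgroup.inv_mem _ hu)
  have hq := hquad u (hUP hu)
  rw [← hd] at hq
  have h1 := key d hdU hq
  calc y * d = (y * d * y⁻¹ * d⁻¹) * (d * y) := by group
    _ = d * y := by rw [h1, one_mul]

/-- If `y` fixes all commutators of `invSub P r` (which lie in `Y`, centralized by `invSub P r`),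
then `y` fixes all the elements `r a r⁻¹ a`, `a ∈ invSub P r`. -/
theorem conj_inv_prod_fixed (P Y : Subgroup G) (r y : G)
    (hUY : invSub P r ≤ Subgroup.centralizer (Y : Set G))
    (hcY : ∀ u ∈ invSub P r, ∀ v ∈ invSub P r, u * v * u⁻¹ * v⁻¹ ∈ Y)
    (hfix : ∀ u ∈ invSub P r, ∀ v ∈ invSub P r,
      y * (u * v * u⁻¹ * v⁻¹) * y⁻¹ = u * v * u⁻¹ * v⁻¹) :
    ∀ a ∈ invSub P r, y * (r * a * r⁻¹ * a) * y⁻¹ = r * a * r⁻¹ * a := by
  obtain ⟨K, hK⟩ : ∃ K : Subgroup G, K = Subgroup.closure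
      {c | ∃ u ∈ invSub P r, ∃ v ∈ invSub P r, c = u * v * u⁻¹ * v⁻¹} := ⟨_, rfl⟩
  have hKY : K ≤ Y := by
    rw [hK, Subgroup.closure_le]
    rintro c ⟨u, hu, v, hv, rfl⟩
    exact hcY u hu v hv
  have hKfix : ∀ z ∈ K, y * z * y⁻¹ = z := by
    have h1 : K ≤ Subgroup.centralizer ({y} : Set G) := by
      rw [hK, Subgroup.closure_le]
      rintro c ⟨u, hu, v, hv, rfl⟩
      rw [SetLike.mem_coe, Subgroup.mem_centralizer_iff]
      intro h hh
      rw [Set.mem_singleton_iff] at hh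
      subst hh
      have h2 := hfix u hu v hv
      calc h * (u * v * u⁻¹ * v⁻¹) = (h * (u * v * u⁻¹ * v⁻¹) * h⁻¹) * h := by group
        _ = u * v * u⁻¹ * v⁻¹ * h := by rw [h2]
    intro z hz
    have h2 := (Subgroup.mem_centralizer_iff.mp (h1 hz)) y (Set.mem_singleton y)
    rw [h2, mul_inv_cancel_right]
  have hcomm : ∀ a ∈ invSub P r, ∀ z ∈ K, a * z = z * a := by
    intro a ha z hz
    exact ((Subgroup.mem_centralizer_iff.mp (hUY ha)) z (hKY hz)).symm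
  have main : ∀ a ∈ invSub P r, r * a * r⁻¹ * a ∈ K := by
    intro a ha
    have ha' : a ∈ Subgroup.closure {u | u ∈ P ∧ r * u * r⁻¹ = u⁻¹} := ha
    induction ha' using Subgroup.closure_induction with
    | mem x hx =>
      rw [hx.2, inv_mul_cancel]
      exact K.one_mem
    | one =>
      have e : r * 1 * r⁻¹ * 1 = (1 : G) := by group
      rw [e]
      exact K.one_mem
    | mul a b ha₁ hb₁ iha ihb =>
      have haU : a ∈ invSub P r := ha₁
      have hbU : b ∈ invSub P r := hb₁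
      have ha2 := iha haU
      have hb2 := ihb hbU
      have h1 : a⁻¹ * (r * b * r⁻¹ * b) * a = r * b * r⁻¹ * b := by
        rw [mul_assoc, ← hcomm a haU _ hb2, ← mul_assoc, inv_mul_cancel, one_mul]
      have e : r * (a * b) * r⁻¹ * (a * b)
          = (r * a * r⁻¹ * a) * (a⁻¹ * (r * b * r⁻¹ * b) * a) * (a⁻¹ * b⁻¹ * a⁻¹⁻¹ * b⁻¹⁻¹) := by
        group
      rw [e, h1]
      refine K.mul_mem (K.mul_mem ha2 hb2) ?_
      rw [hK]
      exact Subgroup.subset_closure ⟨a⁻¹, Subgroup.inv_mem _ haU, b⁻¹, Subgroup.inv_mem _ hbU, rfl⟩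
    | inv a ha₁ iha =>
      have haU : a ∈ invSub P r := ha₁
      have ha2 := iha haU
      have h1 : a * (r * a * r⁻¹ * a) * a⁻¹ = r * a * r⁻¹ * a := by
        rw [hcomm a haU _ ha2, mul_inv_cancel_right]
      have e : r * a⁻¹ * r⁻¹ * a⁻¹ = (a * (r * a * r⁻¹ * a) * a⁻¹)⁻¹ := by group
      rw [e, h1]
      exact K.inv_mem ha2
  intro a ha
  exact hKfix _ (main a ha)

/-- **Commutator form.**  `U` centralizes `Y ⊇ [U, U]` and `π : U → W` is a surjective additive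
map with kernel in `Y`.  If every biadditive alternating form on `W` invariant under `cg` and
`cj` is invariant under `ct`, and `xg`, `xj`, `xt` normalize `U` and induce `cg`, `cj`, `ct` on
`W`, with `xg`, `xj` centralizing `Y`, then `xt` centralizes all commutators of `U`. -/
theorem conj_comm_eq_of_forms (U Y : Subgroup G)
    (hUY : U ≤ Subgroup.centralizer (Y : Set G))
    (hcY : ∀ u ∈ U, ∀ v ∈ U, u * v * u⁻¹ * v⁻¹ ∈ Y)
    {W : Type v} [AddCommGroup W] (π : ↥U → W) (hπs : Function.Surjective π)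
    (hπm : ∀ x y, π (x * y) = π x + π y) (hπk : ∀ x : ↥U, π x = 0 → (x : G) ∈ Y)
    (cg cj ct : W → W)
    (htr : ∀ (A : Type u) [AddCommGroup A] (β : W → W → A),
      (∀ w₁ w₂ w', β (w₁ + w₂) w' = β w₁ w' + β w₂ w') →
      (∀ w w₁ w₂, β w (w₁ + w₂) = β w w₁ + β w w₂) → (∀ w, β w w = 0) →
      (∀ w w', β (cg w) (cg w') = β w w') → (∀ w w', β (cj w) (cj w') = β w w') →
      ∀ w w', β (ct w) (ct w') = β w w')
    (xg xj xt : G) (hxgU : ∀ u ∈ U, xg * u * xg⁻¹ ∈ U) (hxjU : ∀ u ∈ U, xj * u * xj⁻¹ ∈ U)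
    (hxtU : ∀ u ∈ U, xt * u * xt⁻¹ ∈ U)
    (hxgY : ∀ z ∈ Y, xg * z * xg⁻¹ = z) (hxjY : ∀ z ∈ Y, xj * z * xj⁻¹ = z)
    (hg : ∀ u : ↥U, π ⟨xg * u * xg⁻¹, hxgU u u.2⟩ = cg (π u))
    (hj : ∀ u : ↥U, π ⟨xj * u * xj⁻¹, hxjU u u.2⟩ = cj (π u))
    (ht : ∀ u : ↥U, π ⟨xt * u * xt⁻¹, hxtU u u.2⟩ = ct (π u)) :
    ∀ u ∈ U, ∀ v ∈ U, xt * (u * v * u⁻¹ * v⁻¹) * xt⁻¹ = u * v * u⁻¹ * v⁻¹ := by
  classical
  have hcen : ∀ x y : ↥U, x * y * x⁻¹ * y⁻¹ ∈ Subgroup.center ↥U := by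
    intro x y
    rw [Subgroup.mem_center_iff]
    intro g
    apply Subtype.ext
    show (g : G) * ((x : G) * y * (x : G)⁻¹ * (y : G)⁻¹) = ((x : G) * y * (x : G)⁻¹ * (y : G)⁻¹) * g
    exact ((Subgroup.mem_centralizer_iff.mp (hUY g.2)) _ (hcY x x.2 y y.2)).symm
  letI iAC : AddCommGroup (Additive ↥(Subgroup.center ↥U)) :=
    { (inferInstance : AddGroup (Additive ↥(Subgroup.center ↥U))) with
      add_comm := fun a b => Additive.toMul.injective
        (Subtype.ext (Subgroup.mem_center_iff.mp b.toMul.2 a.toMul.1)) }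
  obtain ⟨B, hB⟩ : ∃ B : ↥U → ↥U → Additive ↥(Subgroup.center ↥U),
      ∀ x y, B x y = Additive.ofMul ⟨x * y * x⁻¹ * y⁻¹, hcen x y⟩ := ⟨_, fun _ _ => rfl⟩
  have hBval : ∀ x y, (((B x y).toMul : ↥(Subgroup.center ↥U)) : ↥U) = x * y * x⁻¹ * y⁻¹ := by
    intro x y
    rw [hB]
    rfl
  have hBext : ∀ s t : Additive ↥(Subgroup.center ↥U),
      ((s.toMul : ↥(Subgroup.center ↥U)) : ↥U) = ((t.toMul : ↥(Subgroup.center ↥U)) : ↥U) →
        s = t := fun s t h => Additive.toMul.injective (Subtype.ext h)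
  have hB1 : ∀ x x' y, B (x * x') y = B x y + B x' y := by
    intro x x' y
    apply hBext
    show _ = (((B x y).toMul * (B x' y).toMul : ↥(Subgroup.center ↥U)) : ↥U)
    rw [Subgroup.coe_mul, hBval, hBval, hBval]
    have hc := Subgroup.mem_center_iff.mp (hcen x' y) x
    calc x * x' * y * (x * x')⁻¹ * y⁻¹
        = x * (x' * y * x'⁻¹ * y⁻¹) * (y * x⁻¹ * y⁻¹) := by group
      _ = (x' * y * x'⁻¹ * y⁻¹) * x * (y * x⁻¹ * y⁻¹) := by rw [hc]
      _ = (x' * y * x'⁻¹ * y⁻¹) * (x * y * x⁻¹ * y⁻¹) := by group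
      _ = (x * y * x⁻¹ * y⁻¹) * (x' * y * x'⁻¹ * y⁻¹) :=
        Subgroup.mem_center_iff.mp (hcen x y) (x' * y * x'⁻¹ * y⁻¹)
  have hB2 : ∀ x y y', B x (y * y') = B x y + B x y' := by
    intro x y y'
    apply hBext
    show _ = (((B x y).toMul * (B x y').toMul : ↥(Subgroup.center ↥U)) : ↥U)
    rw [Subgroup.coe_mul, hBval, hBval, hBval]
    have hc := Subgroup.mem_center_iff.mp (hcen x y') y
    calc x * (y * y') * x⁻¹ * (y * y')⁻¹
        = (x * y * x⁻¹ * y⁻¹) * (y * (x * y' * x⁻¹ * y'⁻¹)) * y⁻¹ := by group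
      _ = (x * y * x⁻¹ * y⁻¹) * ((x * y' * x⁻¹ * y'⁻¹) * y) * y⁻¹ := by rw [hc]
      _ = (x * y * x⁻¹ * y⁻¹) * (x * y' * x⁻¹ * y'⁻¹) := by group
  have hB3 : ∀ x, B x x = 0 := by
    intro x
    apply hBext
    rw [hBval]
    show x * x * x⁻¹ * x⁻¹ = 1
    group
  have hB4 : ∀ x y, π x = 0 → B x y = 0 := by
    intro x y hx
    apply hBext
    rw [hBval]
    show x * y * x⁻¹ * y⁻¹ = 1
    apply Subtype.ext
    show (x : G) * y * (x : G)⁻¹ * (y : G)⁻¹ = 1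
    have h1 := (Subgroup.mem_centralizer_iff.mp (hUY y.2)) (x : G) (hπk x hx)
    rw [h1]
    group
  obtain ⟨β, hβ, hβ1, hβ2, hβ3⟩ := exists_biadd_lift π hπs hπm B hB1 hB2 hB3 hB4
  have hBinv : ∀ (x₀ : G) (hx₀U : ∀ u ∈ U, x₀ * u * x₀⁻¹ ∈ U), (∀ z ∈ Y, x₀ * z * x₀⁻¹ = z) →
      ∀ x y : ↥U, B ⟨x₀ * x * x₀⁻¹, hx₀U x x.2⟩ ⟨x₀ * y * x₀⁻¹, hx₀U y y.2⟩ = B x y := by
    intro x₀ hx₀U hx₀Y x y
    apply hBext
    rw [hBval, hBval]
    apply Subtype.ext
    show x₀ * x * x₀⁻¹ * (x₀ * y * x₀⁻¹) * (x₀ * x * x₀⁻¹)⁻¹ * (x₀ * y * x₀⁻¹)⁻¹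
      = (x : G) * y * (x : G)⁻¹ * (y : G)⁻¹
    have h := hx₀Y _ (hcY x x.2 y y.2)
    calc x₀ * x * x₀⁻¹ * (x₀ * y * x₀⁻¹) * (x₀ * x * x₀⁻¹)⁻¹ * (x₀ * y * x₀⁻¹)⁻¹
        = x₀ * ((x : G) * y * (x : G)⁻¹ * (y : G)⁻¹) * x₀⁻¹ := by group
      _ = (x : G) * y * (x : G)⁻¹ * (y : G)⁻¹ := h
  have hβg : ∀ w w', β (cg w) (cg w') = β w w' := by
    intro w w'
    obtain ⟨x, rfl⟩ := hπs w
    obtain ⟨y, rfl⟩ := hπs w'
    rw [← hg, ← hg, hβ, hβ]
    exact hBinv xg hxgU hxgY x y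
  have hβj : ∀ w w', β (cj w) (cj w') = β w w' := by
    intro w w'
    obtain ⟨x, rfl⟩ := hπs w
    obtain ⟨y, rfl⟩ := hπs w'
    rw [← hj, ← hj, hβ, hβ]
    exact hBinv xj hxjU hxjY x y
  have hβt := htr _ β hβ1 hβ2 hβ3 hβg hβj
  intro u hu v hv
  have h1 := hβt (π ⟨u, hu⟩) (π ⟨v, hv⟩)
  rw [← ht, ← ht, hβ, hβ] at h1
  have h2 : ((((B ⟨xt * u * xt⁻¹, hxtU u hu⟩ ⟨xt * v * xt⁻¹, hxtU v hv⟩).toMul :
      ↥(Subgroup.center ↥U)) : ↥U) : G) = ((((B ⟨u, hu⟩ ⟨v, hv⟩).toMul :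
      ↥(Subgroup.center ↥U)) : ↥U) : G) := by rw [h1]
  rw [hBval, hBval] at h2
  calc xt * (u * v * u⁻¹ * v⁻¹) * xt⁻¹
      = (xt * u * xt⁻¹) * (xt * v * xt⁻¹) * (xt * u * xt⁻¹)⁻¹ * (xt * v * xt⁻¹)⁻¹ := by group
    _ = u * v * u⁻¹ * v⁻¹ := h2

end inverting

end Cfsg.Agent.Lib.helper3
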