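import Mathlib
import Cfsg.Agent.Lib.helper55.QdSL2
import Cfsg.Agent.Lib.helper3.PsThreeA

/-!
# Special elements of `SL₂(3)` in an irreducible quadratic pair (seat `helper3`)

The case `p = 3` of `Cfsg.Agent.Lib.helper55.QdSL2.exists_sl2_elements`: for `Γ = ⟨a, b⟩` acting
irreducibly on a finite `ZMod 3`-module `W` with `a`, `b` quadratic and image not a `3`-group,
there are elements `r`, `t`, `g`, `j` acting (in the coordinates `W ≅ E²` of
`exists_sl2_coords`) as `-1`, `[[1,1],[0,1]]`, `[[0,1],[-1,0]]`, `[[1,1],[1,-1]]`: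
`t` is quadratic, `t * (g t g⁻¹)` has no nonzero fixed vector, `g` and `j` have order dividing
four, and every biadditive alternating form on `W` invariant under `g` and `j` is invariant
under `t`.
-/

set_option autoImplicit false
set_option linter.style.haveILetI false

namespace Cfsg.Agent.Lib.helper3

universe u v x

open Matrix Cfsg.Agent.Lib.helper11.QuadPair Cfsg.Agent.Lib.helper46
  Cfsg.Agent.Lib.helper55.QdModule Cfsg.Agent.Lib.helper55.QdSL2

theorem exists_sl2_elements_three {p : ℕ} [Fact p.Prime] (hp3 : p = 3) {Γ : Type u}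
    [Group Γ] (a b : Γ) (hgen : Subgroup.closure {a, b} = ⊤)
    {W : Type v} [AddCommGroup W] [Module (ZMod p) W] [Finite W]
    (ρ : Γ →* Module.End (ZMod p) W)
    (ha : (ρ a - 1) * (ρ a - 1) = 0) (hb : (ρ b - 1) * (ρ b - 1) = 0)
    (hnp : ∃ g : Γ, ∀ k : ℕ, ρ g ^ (p ^ k) ≠ 1)
    (hirr : ∀ W₁ : Submodule (ZMod p) W, (∀ g w, w ∈ W₁ → ρ g w ∈ W₁) → W₁ = ⊥ ∨ W₁ = ⊤) :
    ∃ r t g j : Γ, (∀ w, ρ r w = -w) ∧ (∀ w, ρ t (ρ t w - w) = ρ t w - w) ∧
      (∀ w, ρ (t * (g * t * g⁻¹)) w = w → w = 0) ∧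
      (∀ w, ρ (g ^ 4) w = w) ∧ (∀ w, ρ (j ^ 4) w = w) ∧
      ∀ (A : Type x) [AddCommGroup A] (β : W → W → A),
        (∀ w₁ w₂ w', β (w₁ + w₂) w' = β w₁ w' + β w₂ w') →
        (∀ w w₁ w₂, β w (w₁ + w₂) = β w w₁ + β w w₂) → (∀ w, β w w = 0) →
        (∀ w w', β (ρ g w) (ρ g w') = β w w') → (∀ w w', β (ρ j w) (ρ j w') = β w w') →
        ∀ w w', β (ρ t w) (ρ t w') = β w w' := by
  classical
  subst hp3
  have hp2 : (3 : ℕ) ≠ 2 := by norm_num
  obtain ⟨E, iF, iC, vec, hvadd, hvbij, hX⟩ := exists_sl2_coords hp2 a b hgen ρ ha hb hnp hirr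
  have hv0 : vec 0 = 0 := by
    have h1 := hvadd 0 0
    rw [add_zero] at h1
    exact (add_eq_left.mp h1.symm)
  have hvsub : ∀ c c', vec (c - c') = vec c - vec c' := by
    intro c c'
    have h1 := hvadd (c - c') c'
    rw [sub_add_cancel] at h1
    rw [h1, add_sub_cancel_right]
  have hvneg : ∀ c, vec (-c) = -vec c := by
    intro c
    have h1 := hvsub 0 c
    rw [zero_sub, hv0, zero_sub] at h1
    exact h1
  have h3E : (3 : E) = 0 := by
    have h := CharP.cast_eq_zero E 3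
    exact_mod_cast h
  obtain ⟨φ, hφ⟩ : ∃ φ : ZMod 3 →+* E, φ = ZMod.castHom (dvd_refl 3) E := ⟨_, rfl⟩
  rw [← hφ] at hX
  have hmap : ∀ (x00 x01 x10 x11 : ZMod 3) (hd : x00 * x11 - x01 * x10 = 1),
      (Matrix.SpecialLinearGroup.map φ (mkSL x00 x01 x10 x11 hd) : Matrix (Fin 2) (Fin 2) E)
        = !![φ x00, φ x01; φ x10, φ x11] := by
    intro x00 x01 x10 x11 hd
    ext i j
    fin_cases i <;> fin_cases j <;> rfl
  -- the action predicate
  obtain ⟨Acts, hActs⟩ : ∃ Acts : Γ → Matrix (Fin 2) (Fin 2) E → Prop,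
      ∀ x M, Acts x M ↔ ∀ c, ρ x (vec c) = vec (M *ᵥ c) := ⟨_, fun _ _ => Iff.rfl⟩
  have hmulA : ∀ x y M M', Acts x M → Acts y M' → Acts (x * y) (M * M') := by
    intro x y M M' hx hy
    rw [hActs] at hx hy ⊢
    intro c
    rw [map_mul, Module.End.mul_apply, hy, hx, Matrix.mulVec_mulVec]
  have hinvA : ∀ x M M', Acts x M → M * M' = 1 → Acts x⁻¹ M' := by
    intro x M M' hx hMM
    rw [hActs] at hx ⊢
    intro c
    have h1 := hx (M' *ᵥ c)
    rw [Matrix.mulVec_mulVec, hMM, Matrix.one_mulVec] at h1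
    rw [← h1, ← Module.End.mul_apply, ← map_mul, inv_mul_cancel, map_one, Module.End.one_apply]
  have honeA : Acts 1 1 := by
    rw [hActs]
    intro c
    rw [map_one, Module.End.one_apply, Matrix.one_mulVec]
  have hpowA : ∀ x M, Acts x M → ∀ n : ℕ, Acts (x ^ n) (M ^ n) := by
    intro x M hx n
    induction n with
    | zero => rw [pow_zero, pow_zero]; exact honeA
    | succ n ih => rw [pow_succ, pow_succ]; exact hmulA _ _ _ _ ih hx
  obtain ⟨r, hr⟩ := hX (mkSL (-1) 0 0 (-1) (by ring))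
  obtain ⟨t, ht⟩ := hX (mkSL 1 1 0 1 (by ring))
  obtain ⟨g, hg⟩ := hX (mkSL 0 1 (-1) 0 (by ring))
  have h3Z : (3 : ZMod 3) = 0 := by
    have h := ZMod.natCast_self 3
    exact_mod_cast h
  have hdet : (1 : ZMod 3) * (-1) - 1 * 1 = 1 := by linear_combination (-1 : ZMod 3) * h3Z
  obtain ⟨j, hj⟩ := hX (mkSL 1 1 1 (-1) hdet)
  rw [hmap] at hr ht hg hj
  simp only [map_neg, map_one, map_zero] at hr ht hg hj
  have hAr : Acts r !![-1, 0; 0, -1] := (hActs _ _).mpr hr
  have hAt : Acts t !![1, 1; 0, 1] := (hActs _ _).mpr ht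
  have hAg : Acts g !![0, 1; -1, 0] := (hActs _ _).mpr hg
  have hAj : Acts j !![1, 1; 1, -1] := (hActs _ _).mpr hj
  have hAgi : Acts g⁻¹ !![0, -1; 1, 0] := by
    refine hinvA _ _ _ hAg ?_
    rw [Matrix.mul_fin_two, Matrix.one_fin_two]
    apply mat2_ext <;> ring
  have hAz : Acts (t * (g * t * g⁻¹)) !![0, 1; -1, 1] := by
    have h1 := hmulA _ _ _ _ hAt (hmulA _ _ _ _ (hmulA _ _ _ _ hAg hAt) hAgi)
    have h2 : (!![1, 1; 0, 1] : Matrix (Fin 2) (Fin 2) E) *
        (!![0, 1; -1, 0] * !![1, 1; 0, 1] * !![0, -1; 1, 0]) = !![0, 1; -1, 1] := by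
      rw [Matrix.mul_fin_two, Matrix.mul_fin_two, Matrix.mul_fin_two]
      apply mat2_ext <;> ring
    rwa [h2] at h1
  have hAg4 : Acts (g ^ 4) 1 := by
    have h1 := hpowA g _ hAg 4
    have h2 : (!![0, 1; -1, 0] : Matrix (Fin 2) (Fin 2) E) ^ 4 = 1 := by
      rw [show (4 : ℕ) = 2 + 2 from rfl, pow_add, pow_two, Matrix.mul_fin_two,
        Matrix.mul_fin_two, Matrix.one_fin_two]
      apply mat2_ext <;> ring
    rwa [h2] at h1
  have hAj4 : Acts (j ^ 4) 1 := by
    have h1 := hpowA j _ hAj 4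
    have h2 : (!![1, 1; 1, -1] : Matrix (Fin 2) (Fin 2) E) ^ 4 = 1 := by
      rw [show (4 : ℕ) = 2 + 2 from rfl, pow_add, pow_two, Matrix.mul_fin_two,
        Matrix.mul_fin_two, Matrix.one_fin_two]
      apply mat2_ext
      · linear_combination h3E
      · ring
      · ring
      · linear_combination h3E
    rwa [h2] at h1
  have hvec : ∀ (γ : Γ) (m00 m01 m10 m11 : E), Acts γ !![m00, m01; m10, m11] →
      ∀ x y : E, ρ γ (vec ![x, y]) = vec ![m00 * x + m01 * y, m10 * x + m11 * y] := by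
    intro γ m00 m01 m10 m11 h x y
    rw [(hActs _ _).mp h, mulVec2]
    rfl
  have hpair : ∀ c : Fin 2 → E, ∃ x y : E, c = ![x, y] := by
    intro c
    refine ⟨c 0, c 1, ?_⟩
    funext i
    fin_cases i <;> rfl
  refine ⟨r, t, g, j, ?_, ?_, ?_, ?_, ?_, ?_⟩
  · intro w
    obtain ⟨c, rfl⟩ := hvbij.2 w
    rw [(hActs _ _).mp hAr, mulVec2, ← hvneg]
    congr 1
    funext i
    fin_cases i <;> simp
  · intro w
    obtain ⟨c, rfl⟩ := hvbij.2 w
    rw [(hActs _ _).mp hAt, ← hvsub, (hActs _ _).mp hAt]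
    congr 1
    rw [mulVec2, mulVec2]
    funext i
    fin_cases i <;> simp
  · intro w hw
    obtain ⟨c, rfl⟩ := hvbij.2 w
    rw [(hActs _ _).mp hAz] at hw
    have h1 := hvbij.1 hw
    rw [mulVec2] at h1
    have e0 := congrFun h1 0
    have e1 := congrFun h1 1
    simp only [Matrix.cons_val_zero, Matrix.cons_val_one] at e0 e1
    have hc0 : c 0 = 0 := by linear_combination (-1 : E) * e1
    have hc1 : c 1 = 0 := by linear_combination e0 + hc0
    have hc : c = 0 := by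
      funext i
      fin_cases i
      · exact hc0
      · exact hc1
    rw [hc, hv0]
  · intro w
    obtain ⟨c, rfl⟩ := hvbij.2 w
    rw [(hActs _ _).mp hAg4, Matrix.one_mulVec]
  · intro w
    obtain ⟨c, rfl⟩ := hvbij.2 w
    rw [(hActs _ _).mp hAj4, Matrix.one_mulVec]
  · intro A _ β hβ1 hβ2 hβ3 hβg hβj
    obtain ⟨β', hβ'⟩ : ∃ β' : E × E → E × E → A,
        ∀ v w, β' v w = β (vec ![v.1, v.2]) (vec ![w.1, w.2]) := ⟨_, fun _ _ => rfl⟩
    have hvec2 : ∀ v v' : E × E,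
        vec ![(v + v').1, (v + v').2] = vec ![v.1, v.2] + vec ![v'.1, v'.2] := by
      intro v v'
      rw [← hvadd]
      congr 1
      funext i
      fin_cases i <;> rfl
    have key := biadd_transfer β'
      (by intro v₁ v₂ w; rw [hβ', hβ', hβ', hvec2, hβ1])
      (by intro v w₁ w₂; rw [hβ', hβ', hβ', hvec2, hβ2])
      (by intro v; rw [hβ', hβ3])
      (by
        intro x y x' y'
        rw [hβ', hβ']
        have h1 := hβg (vec ![x, y]) (vec ![x', y'])
        rw [hvec g _ _ _ _ hAg x y, hvec g _ _ _ _ hAg x' y'] at h1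
        have e1 : (![0 * x + 1 * y, -1 * x + 0 * y] : Fin 2 → E) = ![y, -x] := by
          funext i
          fin_cases i <;> simp
        have e2 : (![0 * x' + 1 * y', -1 * x' + 0 * y'] : Fin 2 → E) = ![y', -x'] := by
          funext i
          fin_cases i <;> simp
        rw [e1, e2] at h1
        exact h1)
      (by
        intro x y x' y'
        rw [hβ', hβ']
        have h1 := hβj (vec ![x, y]) (vec ![x', y'])
        rw [hvec j _ _ _ _ hAj x y, hvec j _ _ _ _ hAj x' y'] at h1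
        have e1 : (![1 * x + 1 * y, 1 * x + -1 * y] : Fin 2 → E) = ![x + y, x - y] := by
          funext i
          fin_cases i <;> simp [sub_eq_add_neg]
        have e2 : (![1 * x' + 1 * y', 1 * x' + -1 * y'] : Fin 2 → E) = ![x' + y', x' - y'] := by
          funext i
          fin_cases i <;> simp [sub_eq_add_neg]
        rw [e1, e2] at h1
        exact h1)
    intro w w'
    obtain ⟨c, rfl⟩ := hvbij.2 w
    obtain ⟨c', rfl⟩ := hvbij.2 w'
    obtain ⟨x, y, rfl⟩ := hpair c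
    obtain ⟨x', y', rfl⟩ := hpair c'
    rw [hvec t _ _ _ _ hAt x y, hvec t _ _ _ _ hAt x' y']
    have e1 : (![1 * x + 1 * y, 0 * x + 1 * y] : Fin 2 → E) = ![x + y, y] := by
      funext i
      fin_cases i <;> simp
    have e2 : (![1 * x' + 1 * y', 0 * x' + 1 * y'] : Fin 2 → E) = ![x' + y', y'] := by
      funext i
      fin_cases i <;> simp
    rw [e1, e2]
    have h2 := key x y x' y'
    rw [hβ', hβ'] at h2
    exact h2

/-- Function form of `exists_sl2_elements_three`: the action is given by a function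
`c : Γ → W → W` on a finite additive group of exponent `p = 3`. -/
theorem exists_sl2_elements_three_of_action {p : ℕ} [Fact p.Prime] (hp3 : p = 3)
    {Γ : Type u} [Group Γ] (a b : Γ) (hgen : Subgroup.closure {a, b} = ⊤)
    {W : Type v} [AddCommGroup W] [Finite W] (hp : ∀ w : W, p • w = 0)
    (c : Γ → W → W) (hadd : ∀ g w w', c g (w + w') = c g w + c g w')
    (hone : ∀ w, c 1 w = w) (hmul : ∀ g h w, c (g * h) w = c g (c h w))
    (ha : ∀ w, c a (c a w - w) = c a w - w) (hb : ∀ w, c b (c b w - w) = c b w - w)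
    (hnp : ∃ g : Γ, ∀ k : ℕ, ∃ w, c (g ^ (p ^ k)) w ≠ w)
    (hirr : ∀ W₁ : AddSubgroup W, (∀ g w, w ∈ W₁ → c g w ∈ W₁) → W₁ = ⊥ ∨ W₁ = ⊤) :
    ∃ r t g j : Γ, (∀ w, c r w = -w) ∧ (∀ w, c t (c t w - w) = c t w - w) ∧
      (∀ w, c (t * (g * t * g⁻¹)) w = w → w = 0) ∧
      (∀ w, c (g ^ 4) w = w) ∧ (∀ w, c (j ^ 4) w = w) ∧
      ∀ (A : Type x) [AddCommGroup A] (β : W → W → A),
        (∀ w₁ w₂ w', β (w₁ + w₂) w' = β w₁ w' + β w₂ w') →
        (∀ w w₁ w₂, β w (w₁ + w₂) = β w w₁ + β w w₂) → (∀ w, β w w = 0) →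
        (∀ w w', β (c g w) (c g w') = β w w') → (∀ w w', β (c j w) (c j w') = β w w') →
        ∀ w w', β (c t w) (c t w') = β w w' := by
  haveI : Module (ZMod p) W := AddCommGroup.zmodModule hp
  let ρ : Γ →* Module.End (ZMod p) W :=
    { toFun := fun g => (AddMonoidHom.mk' (c g) (hadd g)).toZModLinearMap p
      map_one' := LinearMap.ext fun w => hone w
      map_mul' := fun g h => LinearMap.ext fun w => hmul g h w }
  have hρ : ∀ g w, ρ g w = c g w := fun g w => rfl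
  have ha' : (ρ a - 1) * (ρ a - 1) = 0 := by
    refine LinearMap.ext fun w => ?_
    simp only [Module.End.mul_apply, LinearMap.sub_apply, Module.End.one_apply, hρ,
      LinearMap.zero_apply]
    rw [ha, sub_self]
  have hb' : (ρ b - 1) * (ρ b - 1) = 0 := by
    refine LinearMap.ext fun w => ?_
    simp only [Module.End.mul_apply, LinearMap.sub_apply, Module.End.one_apply, hρ,
      LinearMap.zero_apply]
    rw [hb, sub_self]
  have hnp' : ∃ g : Γ, ∀ k : ℕ, ρ g ^ (p ^ k) ≠ 1 := by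
    obtain ⟨g, hg⟩ := hnp
    refine ⟨g, fun k h => ?_⟩
    obtain ⟨w, hw⟩ := hg k
    apply hw
    rw [← map_pow] at h
    rw [← hρ, h]; rfl
  have hirr' : ∀ W₁ : Submodule (ZMod p) W, (∀ g w, w ∈ W₁ → ρ g w ∈ W₁) → W₁ = ⊥ ∨ W₁ = ⊤ := by
    intro W₁ h
    rcases hirr W₁.toAddSubgroup (fun g w hw => h g w hw) with h1 | h1
    · left
      apply Submodule.toAddSubgroup_injective
      rw [h1, Submodule.bot_toAddSubgroup]
    · right
      apply Submodule.toAddSubgroup_injective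
      rw [h1, Submodule.top_toAddSubgroup]
  obtain ⟨r, t, g, j, h1, h2, h3, h4, h5, h6⟩ :=
    exists_sl2_elements_three.{u, v, x} hp3 a b hgen ρ ha' hb' hnp' hirr'
  exact ⟨r, t, g, j, fun w => h1 w, fun w => h2 w, fun w hw => h3 w hw, fun w => h4 w,
    fun w => h5 w, fun A _ β hβ1 hβ2 hβ3 hβg hβj => h6 A β hβ1 hβ2 hβ3 hβg hβj⟩

end Cfsg.Agent.Lib.helper3
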