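import Mathlib
import Cfsg.Agent.Lib.helper55.PStabCore
import Cfsg.Agent.Lib.helper3.PsThreeA
import Cfsg.Agent.Lib.helper3.PsThreeSL

/-!
# `p`-stability modulo a `p`-central subgroup for `p = 3` (seat `helper3`)

`pstabmod_centralize_three` is the case `p = 3` of
`Cfsg.Agent.Lib.helper55.PStabMod.pstabmod_centralize` (proved there for `p ≥ 5`; the body below
follows that proof, due to seat `helper55`, up to the choice of the quadratic element).  For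
`p = 3` the torus element of `SL₂(p)` is central, so instead of a commutator `[h ^ q, t]` we use a
realizer `y` of the transvection `t` itself: `U = invSub P r` has class at most two with
`[U, U] ≤ U ∩ Y` central, realizers of the elements `g`, `j` of order four of `SL₂(3)` can be
chosen in `C(Y)`, so the commutator form of `U` on `V = P / Y` is invariant under `g`, `j`, hence
under `t` (`biadd_transfer`), hence `y` centralizes `[U, U]`, which contains all `r u r⁻¹ u`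
(`u ∈ U`); this is what the key lemma needs (`quad_on_invSub_of_fix`).

`pstabmod_centralize_odd` combines both cases.
-/

set_option autoImplicit false
set_option linter.style.haveILetI false

namespace Cfsg.Agent.Lib.helper3

open scoped commutatorElement

open Cfsg.Agent.Lib.helper30 Cfsg.Agent.Lib.helper55.QdSL2 Cfsg.Agent.Lib.helper55.PStabMod

universe u

set_option maxHeartbeats 1600000 in
theorem pstabmod_centralize_three {G : Type u} [Group G] [Finite G] (p : ℕ) [Fact p.Prime]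
    (hp3 : p = 3) (hst : Cfsg.IsNormalizerPStable p G) (a b : G) :
    ∀ (n : ℕ) (P Z : Subgroup G), Nat.card P = n → IsPGroup p P → Z ≤ P →
      a ∈ Subgroup.normalizer (P : Set G) → b ∈ Subgroup.normalizer (P : Set G) →
      a ∈ Subgroup.normalizer (Z : Set G) → b ∈ Subgroup.normalizer (Z : Set G) →
      (∀ d ∈ Subgroup.closure ({a, b} : Set G),
        ∃ k : ℕ, d ^ p ^ k ∈ Subgroup.centralizer (Z : Set G)) →
      (∀ u ∈ P, a * (a * u * a⁻¹ * u⁻¹) * a⁻¹ * (a * u * a⁻¹ * u⁻¹)⁻¹ ∈ Z) →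
      (∀ u ∈ P, b * (b * u * b⁻¹ * u⁻¹) * b⁻¹ * (b * u * b⁻¹ * u⁻¹)⁻¹ ∈ Z) →
      ∀ g ∈ Subgroup.closure ({a, b} : Set G), (orderOf g).Coprime p →
        g ∈ Subgroup.centralizer (P : Set G) := by
  classical
  have hpp : p.Prime := Fact.out
  have hp2 : p ≠ 2 := by rw [hp3]; norm_num
  have hpodd : Odd p := hpp.odd_of_ne_two hp2
  have hpodd_pow : ∀ k : ℕ, ∃ j, p ^ k = 2 * j + 1 := fun k => hpodd.pow
  intro n
  induction n using Nat.strong_induction_on with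
  | _ n ih =>
  intro P Z hn hP hZP haP hbP haZ hbZ hpZ hqa hqb g hg hcop
  by_cases hbot : P = ⊥
  · rw [hbot, Subgroup.mem_centralizer_iff]
    intro u hu
    rw [SetLike.mem_coe, Subgroup.mem_bot] at hu
    rw [hu, mul_one, one_mul]
  have haD : a ∈ Subgroup.closure ({a, b} : Set G) :=
    Subgroup.subset_closure (Set.mem_insert a {b})
  have hbD : b ∈ Subgroup.closure ({a, b} : Set G) :=
    Subgroup.subset_closure (Set.mem_insert_of_mem a rfl)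
  have hDle : ∀ K : Subgroup G, a ∈ Subgroup.normalizer (K : Set G) →
      b ∈ Subgroup.normalizer (K : Set G) →
      Subgroup.closure ({a, b} : Set G) ≤ Subgroup.normalizer (K : Set G) := by
    intro K ha hb
    rw [Subgroup.closure_le]
    rintro z (rfl | hz)
    · exact ha
    · rw [Set.mem_singleton_iff] at hz; subst hz; exact hb
  have hDP := hDle P haP hbP
  have hlt := mhoComm_lt p P hP hbot
  -- a maximal invariant subgroup `Y`
  obtain ⟨Y, -, ⟨⟨hΦY, hYlt, haY, hbY⟩, hYmax⟩⟩ := Finite.exists_le_maximal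
    (p := fun Y : Subgroup G => mhoComm p P ≤ Y ∧ Y < P ∧
      a ∈ Subgroup.normalizer (Y : Set G) ∧ b ∈ Subgroup.normalizer (Y : Set G))
    (a := mhoComm p P)
    ⟨le_rfl, hlt, normalizer_le_normalizer_mhoComm p P haP,
      normalizer_le_normalizer_mhoComm p P hbP⟩
  have hYP : Y ≤ P := hYlt.le
  have hDY := hDle Y haY hbY
  have hPY : P ≤ Subgroup.normalizer (Y : Set G) := by
    intro u hu
    apply Cfsg.Agent.Lib.helper55.mem_normalizer_of_conj_mem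
    intro y hy
    have h1 : u * y * u⁻¹ = (u * y * u⁻¹ * y⁻¹) * y := by group
    rw [h1]
    exact Y.mul_mem (hΦY (comm_mem_mhoComm p P hu (hYP hy))) hy
  have hYp : IsPGroup p Y := hP.to_le hYP
  have hcardY : Nat.card Y < n := by
    rw [← hn]
    by_contra hge
    push Not at hge
    exact hYlt.ne (Subgroup.eq_of_le_of_card_ge hYP hge)
  have hIH : ∀ g' ∈ Subgroup.closure ({a, b} : Set G), (orderOf g').Coprime p →
      g' ∈ Subgroup.centralizer (Y : Set G) := by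
    intro g' hg' hcop'
    refine ih _ hcardY Y (Z ⊓ Y) rfl hYp inf_le_right haY hbY (mem_normalizer_inf haZ haY)
      (mem_normalizer_inf hbZ hbY) ?_ ?_ ?_ g' hg' hcop'
    · intro d hd
      obtain ⟨k, hk⟩ := hpZ d hd
      exact ⟨k, Subgroup.centralizer_le (show ((Z ⊓ Y : Subgroup G) : Set G) ⊆ (Z : Set G) from
        fun x hx => hx.1) hk⟩
    · intro u hu
      have h1 : a * u * a⁻¹ * u⁻¹ ∈ Y :=
        Y.mul_mem ((Subgroup.mem_normalizer_iff.mp haY u).mp hu) (Y.inv_mem hu)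
      exact ⟨hqa u (hYP hu),
        Y.mul_mem ((Subgroup.mem_normalizer_iff.mp haY _).mp h1) (Y.inv_mem h1)⟩
    · intro u hu
      have h1 : b * u * b⁻¹ * u⁻¹ ∈ Y :=
        Y.mul_mem ((Subgroup.mem_normalizer_iff.mp hbY u).mp hu) (Y.inv_mem hu)
      exact ⟨hqb u (hYP hu),
        Y.mul_mem ((Subgroup.mem_normalizer_iff.mp hbY _).mp h1) (Y.inv_mem h1)⟩
  have hpowY : ∀ d ∈ Subgroup.closure ({a, b} : Set G),
      ∃ k : ℕ, d ^ p ^ k ∈ Subgroup.centralizer (Y : Set G) := by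
    intro d hd
    obtain ⟨k, m, hm, hkm⟩ := Nat.exists_eq_pow_mul_and_not_dvd (orderOf_pos d).ne' p hpp.ne_one
    refine ⟨k, hIH _ (Subgroup.pow_mem _ hd _) ?_⟩
    have h1 : orderOf (d ^ (p ^ k)) = m := by
      rw [orderOf_pow, hkm, Nat.gcd_eq_right (dvd_mul_right _ _)]
      exact Nat.mul_div_cancel_left m (pow_pos hpp.pos k)
    rw [h1]
    exact ((Nat.Prime.coprime_iff_not_dvd hpp).mpr hm).symm
  have hgY := hIH g hg hcop
  by_cases hsec : ∀ u ∈ P, g * u * g⁻¹ * u⁻¹ ∈ Y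
  · exact Cfsg.Agent.Lib.helper26.mem_centralizer_of_stabilizes P Y hP hYP g hgY hsec hcop
  exfalso
  push Not at hsec
  obtain ⟨u₀, hu₀P, hu₀⟩ := hsec
  -- the action on the section `P / Y`
  obtain ⟨V, hVg, π, ρ, hπs, hπk, hρ⟩ :=
    exists_section_action_pi P Y (Subgroup.closure ({a, b} : Set G)) hYP hPY hDP hDY
  haveI hfinV : Finite V := Finite.of_surjective π hπs
  have hVcomm : ∀ s t : V, s * t = t * s := by
    intro s t
    obtain ⟨u, rfl⟩ := hπs s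
    obtain ⟨v, rfl⟩ := hπs t
    have h1 := (hπk (u * v * u⁻¹ * v⁻¹)).mpr (by
      simpa using hΦY (comm_mem_mhoComm p P u.2 v.2))
    rw [map_mul, map_mul, map_mul, map_inv, map_inv] at h1
    calc π u * π v = (π u * π v * (π u)⁻¹ * (π v)⁻¹) * (π v * π u) := by group
      _ = π v * π u := by rw [h1, one_mul]
  have hVexp : ∀ s : V, s ^ p = 1 := by
    intro s
    obtain ⟨u, rfl⟩ := hπs s
    rw [← map_pow]
    exact (hπk _).mpr (by simpa using hΦY (pow_mem_mhoComm p P u.2))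
  have hconjP : ∀ d ∈ Subgroup.closure ({a, b} : Set G), ∀ u ∈ P, d * u * d⁻¹ ∈ P :=
    fun d hd u hu => (Subgroup.mem_normalizer_iff.mp (hDP hd) u).mp hu
  have hker : ∀ γ : ↥(Subgroup.closure ({a, b} : Set G)),
      ρ γ = 1 → ∀ u ∈ P, (γ : G) * u * (γ : G)⁻¹ * u⁻¹ ∈ Y := by
    intro γ h u hu
    have h2 := hρ γ ⟨u, hu⟩ (hconjP γ γ.2 u hu)
    rw [h, MulAut.one_apply] at h2
    have h3 : π (⟨(γ : G) * u * (γ : G)⁻¹, hconjP γ γ.2 u hu⟩ * (⟨u, hu⟩ : P)⁻¹) = 1 := by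
      rw [map_mul, map_inv, ← h2, mul_inv_cancel]
    exact (hπk _).mp h3
  have hker' : ∀ γ : ↥(Subgroup.closure ({a, b} : Set G)),
      (∀ u ∈ P, (γ : G) * u * (γ : G)⁻¹ * u⁻¹ ∈ Y) → ρ γ = 1 := by
    intro γ h
    ext v
    obtain ⟨u, rfl⟩ := hπs v
    rw [hρ γ u (hconjP γ γ.2 u u.2), MulAut.one_apply]
    have h3 : π (⟨(γ : G) * u * (γ : G)⁻¹, hconjP γ γ.2 u u.2⟩ * u⁻¹) = 1 :=
      (hπk _).mpr (h u u.2)
    rw [map_mul, map_inv, mul_inv_eq_one] at h3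
    exact h3
  have hρg : ρ ⟨g, hg⟩ ≠ 1 := fun h => hu₀ (hker _ h u₀ hu₀P)
  have hρcop : ∀ k : ℕ, ρ ((⟨g, hg⟩ : ↥(Subgroup.closure ({a, b} : Set G))) ^ p ^ k) ≠ 1 := by
    intro k h1
    rw [map_pow] at h1
    have h2 : orderOf (ρ ⟨g, hg⟩) ∣ p ^ k := orderOf_dvd_of_pow_eq_one h1
    have h3 : orderOf (ρ ⟨g, hg⟩) ∣ orderOf g := by
      have h4 := orderOf_map_dvd ρ (⟨g, hg⟩ : ↥(Subgroup.closure ({a, b} : Set G)))
      rwa [Subgroup.orderOf_mk] at h4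
    have h5 : (orderOf (ρ ⟨g, hg⟩)).Coprime (p ^ k) :=
      Nat.Coprime.coprime_dvd_left h3 (hcop.pow_right k)
    exact hρg (orderOf_eq_one_iff.mp (Nat.Coprime.eq_one_of_dvd h5 h2))
  -- `Z ≤ Y`
  have hZY : Z ≤ Y := by
    by_contra hZY
    have hsup : Z ⊔ Y = P := by
      by_contra hne
      have hlt' : Z ⊔ Y < P := lt_of_le_of_ne (sup_le hZP hYP) hne
      have h1 := hYmax (y := Z ⊔ Y) ⟨le_trans hΦY le_sup_right, hlt', mem_normalizer_sup haZ haY,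
        mem_normalizer_sup hbZ hbY⟩ le_sup_right
      exact hZY (le_trans le_sup_left h1)
    obtain ⟨k, hk⟩ := hpZ g hg
    apply hρcop k
    apply hker'
    intro u hu
    rw [← hsup] at hu
    exact stab_sup Y Z (le_trans hZP hPY) _ (hDY (Subgroup.pow_mem _ hg _)) hk u hu
  have hquadV : ∀ (c : G) (hc : c ∈ Subgroup.closure ({a, b} : Set G)),
      (∀ u ∈ P, c * (c * u * c⁻¹ * u⁻¹) * c⁻¹ * (c * u * c⁻¹ * u⁻¹)⁻¹ ∈ Y) →
      ∀ s : V, ρ ⟨c, hc⟩ (ρ ⟨c, hc⟩ s * s⁻¹) = ρ ⟨c, hc⟩ s * s⁻¹ := by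
    intro c hc hq s
    obtain ⟨u, rfl⟩ := hπs s
    have h1 := hρ ⟨c, hc⟩ u (hconjP c hc u u.2)
    obtain ⟨d, hd⟩ : ∃ d : P, d = ⟨c * u * c⁻¹, hconjP c hc u u.2⟩ * u⁻¹ := ⟨_, rfl⟩
    have hdv : (d : G) = c * u * c⁻¹ * (u : G)⁻¹ := by rw [hd]; rfl
    have h2 : ρ ⟨c, hc⟩ (π u) * (π u)⁻¹ = π d := by rw [h1, hd, map_mul, map_inv]
    rw [h2, hρ ⟨c, hc⟩ d (hconjP c hc d d.2)]
    have h3 := (hπk (⟨c * d * c⁻¹, hconjP c hc d d.2⟩ * d⁻¹)).mpr (by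
      have := hq u u.2
      rw [← hdv] at this
      exact this)
    rw [map_mul, map_inv, mul_inv_eq_one] at h3
    exact h3
  have hquadG : ∀ γ : ↥(Subgroup.closure ({a, b} : Set G)),
      (∀ s : V, ρ γ (ρ γ s * s⁻¹) = ρ γ s * s⁻¹) →
      ∀ u ∈ P, (γ : G) * ((γ : G) * u * (γ : G)⁻¹ * u⁻¹) * (γ : G)⁻¹ *
        ((γ : G) * u * (γ : G)⁻¹ * u⁻¹)⁻¹ ∈ Y := by
    intro γ h u hu
    have h1 := hρ γ ⟨u, hu⟩ (hconjP γ γ.2 u hu)
    obtain ⟨d, hd⟩ : ∃ d : P, d = ⟨(γ : G) * u * (γ : G)⁻¹, hconjP γ γ.2 u hu⟩ * (⟨u, hu⟩ : P)⁻¹ :=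
      ⟨_, rfl⟩
    have hdv : (d : G) = (γ : G) * u * (γ : G)⁻¹ * u⁻¹ := by rw [hd]; rfl
    have h2 : ρ γ (π ⟨u, hu⟩) * (π ⟨u, hu⟩)⁻¹ = π d := by rw [h1, hd, map_mul, map_inv]
    have h3 := h (π ⟨u, hu⟩)
    rw [h2, hρ γ d (hconjP γ γ.2 d d.2)] at h3
    have h4 : π (⟨(γ : G) * d * (γ : G)⁻¹, hconjP γ γ.2 d d.2⟩ * d⁻¹) = 1 := by
      rw [map_mul, map_inv, h3, mul_inv_cancel]
    have h5 := (hπk _).mp h4
    rw [← hdv]
    exact h5
  letI iAC : AddCommGroup (Additive V) :=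
    { (inferInstance : AddGroup (Additive V)) with
      add_comm := fun x y => Additive.toMul.injective (hVcomm _ _) }
  have hpV : ∀ w : Additive V, p • w = 0 := by
    intro w
    apply Additive.toMul.injective
    exact hVexp _
  let c : ↥(Subgroup.closure ({a, b} : Set G)) → Additive V → Additive V :=
    fun g w => Additive.ofMul (ρ g w.toMul)
  have hadd : ∀ g w w', c g (w + w') = c g w + c g w' := by
    intro g w w'
    apply Additive.toMul.injective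
    exact map_mul (ρ g) w.toMul w'.toMul
  have hone : ∀ w, c 1 w = w := by
    intro w
    show Additive.ofMul ((ρ 1) w.toMul) = w
    rw [map_one]
    rfl
  have hmul : ∀ g h w, c (g * h) w = c g (c h w) := by
    intro g h w
    show Additive.ofMul (ρ (g * h) w.toMul) = Additive.ofMul (ρ g (ρ h w.toMul))
    rw [map_mul]
    rfl
  have hcq : ∀ (z : G) (hz : z ∈ Subgroup.closure ({a, b} : Set G)),
      (∀ u ∈ P, z * (z * u * z⁻¹ * u⁻¹) * z⁻¹ * (z * u * z⁻¹ * u⁻¹)⁻¹ ∈ Y) →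
      ∀ w, c ⟨z, hz⟩ (c ⟨z, hz⟩ w - w) = c ⟨z, hz⟩ w - w := by
    intro z hz hq w
    apply Additive.toMul.injective
    show ρ ⟨z, hz⟩ (ρ ⟨z, hz⟩ w.toMul / w.toMul) = ρ ⟨z, hz⟩ w.toMul / w.toMul
    rw [div_eq_mul_inv]
    exact hquadV z hz hq w.toMul
  have hnp : ∃ γ : ↥(Subgroup.closure ({a, b} : Set G)), ∀ k : ℕ, ∃ w, c (γ ^ (p ^ k)) w ≠ w := by
    refine ⟨⟨g, hg⟩, fun k => ?_⟩
    by_contra hall
    push Not at hall
    apply hρcop k
    ext s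
    exact congrArg Additive.toMul (hall (Additive.ofMul s))
  have hirr : ∀ W₁ : AddSubgroup (Additive V), (∀ γ w, w ∈ W₁ → c γ w ∈ W₁) →
      W₁ = ⊥ ∨ W₁ = ⊤ := by
    intro W₁ hinv
    obtain ⟨Y', hY'⟩ : ∃ Y' : Subgroup G,
        ∀ z, z ∈ Y' ↔ ∃ h : z ∈ P, Additive.ofMul (π ⟨z, h⟩) ∈ W₁ := by
      refine ⟨((AddSubgroup.toSubgroup' W₁).comap π).map P.subtype, fun z => ?_⟩
      constructor
      · rintro ⟨u, hu, rfl⟩
        exact ⟨u.2, hu⟩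
      · rintro ⟨h, hz⟩
        exact ⟨⟨z, h⟩, hz, rfl⟩
    have hYY' : Y ≤ Y' := by
      intro z hz
      refine (hY' z).mpr ⟨hYP hz, ?_⟩
      rw [(hπk ⟨z, hYP hz⟩).mpr hz]
      exact W₁.zero_mem
    have hY'P : Y' ≤ P := fun z hz => ((hY' z).mp hz).1
    have hDY' : ∀ γ : ↥(Subgroup.closure ({a, b} : Set G)),
        (γ : G) ∈ Subgroup.normalizer (Y' : Set G) := by
      intro γ
      apply Cfsg.Agent.Lib.helper55.mem_normalizer_of_conj_mem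
      intro z hz
      obtain ⟨hzP, hzW⟩ := (hY' z).mp hz
      refine (hY' _).mpr ⟨hconjP γ γ.2 z hzP, ?_⟩
      rw [← hρ γ ⟨z, hzP⟩ (hconjP γ γ.2 z hzP)]
      exact hinv γ _ hzW
    by_cases hY'eq : Y' = P
    · right
      rw [eq_top_iff]
      intro w _
      obtain ⟨u, hu⟩ := hπs w.toMul
      have h1 : (u : G) ∈ Y' := by rw [hY'eq]; exact u.2
      obtain ⟨h, h2⟩ := (hY' _).mp h1
      have e : Additive.ofMul (π ⟨(u : G), h⟩) = w := by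
        have : (⟨(u : G), h⟩ : P) = u := rfl
        rw [this, hu]; rfl
      rw [← e]; exact h2
    · left
      have hlt' : Y' < P := lt_of_le_of_ne hY'P hY'eq
      have h1 := hYmax (y := Y') ⟨le_trans hΦY hYY', hlt', hDY' ⟨a, haD⟩, hDY' ⟨b, hbD⟩⟩ hYY'
      rw [eq_bot_iff]
      intro w hw
      obtain ⟨u, hu⟩ := hπs w.toMul
      have h2 : (u : G) ∈ Y' := by
        refine (hY' _).mpr ⟨u.2, ?_⟩
        have : (⟨(u : G), u.2⟩ : P) = u := rfl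
        rw [this, hu]; exact hw
      have h3 := (hπk u).mpr (h1 h2)
      rw [AddSubgroup.mem_bot]
      apply Additive.toMul.injective
      rw [← hu, h3]; rfl
  obtain ⟨r, y₀, g₀, j₀, hr, hq₀, hfix₀, hg4, hj4, htr⟩ := exists_sl2_elements_three_of_action hp3
    (⟨a, haD⟩ : ↥(Subgroup.closure ({a, b} : Set G))) ⟨b, hbD⟩
    (closure_pair_subtype_eq_top a b) hpV c hadd hone hmul
    (hcq a haD (fun u hu => hZY (hqa u hu))) (hcq b hbD (fun u hu => hZY (hqb u hu))) hnp hirr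
  -- `r` acts as inversion on `V`
  have hρr : ∀ v : V, ρ r v = v⁻¹ := fun v => congrArg Additive.toMul (hr (Additive.ofMul v))
  have hinv_odd : ∀ x : ↥(Subgroup.closure ({a, b} : Set G)), (∀ v : V, ρ x v = v⁻¹) →
      ∀ (j : ℕ) (v : V), ρ (x ^ (2 * j + 1)) v = v⁻¹ := by
    intro x hx j v
    have h2 : ∀ v : V, ρ (x ^ 2) v = v := by
      intro v
      rw [pow_two, map_mul, MulAut.mul_apply, hx, hx, inv_inv]
    have h3 : ∀ j : ℕ, ∀ v : V, ρ (x ^ (2 * j)) v = v := by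
      intro j
      induction j with
      | zero => intro v; simp
      | succ j ih =>
        intro v
        rw [Nat.mul_succ, pow_add, map_mul, MulAut.mul_apply, h2, ih]
    rw [pow_succ, map_mul, MulAut.mul_apply, hx, h3]
  obtain ⟨k₁, hk₁⟩ := hpowY (r : G) r.2
  obtain ⟨j₁, hj₁⟩ := IsPGroup.exists_card_eq hYp
  obtain ⟨r₀, hr₀def⟩ : ∃ r₀ : ↥(Subgroup.closure ({a, b} : Set G)), r₀ = r ^ p ^ k₁ := ⟨_, rfl⟩
  have hρr₀ : ∀ v : V, ρ r₀ v = v⁻¹ := by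
    obtain ⟨j, hj⟩ := hpodd_pow k₁
    rw [hr₀def, hj]
    exact hinv_odd r hρr j
  have hr₀Y : (r₀ : G) ∈ Subgroup.centralizer (Y : Set G) := by
    rw [hr₀def]; exact hk₁
  obtain ⟨r₁, hr₁def⟩ : ∃ r₁ : ↥(Subgroup.closure ({a, b} : Set G)), r₁ = r₀ ^ Nat.card Y :=
    ⟨_, rfl⟩
  have hρr₁ : ∀ v : V, ρ r₁ v = v⁻¹ := by
    obtain ⟨j, hj⟩ := hpodd_pow j₁
    rw [hr₁def, hj₁, hj]
    exact hinv_odd r₀ hρr₀ j
  have hr₁Y : (r₁ : G) ∈ Subgroup.centralizer (Y : Set G) := by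
    rw [hr₁def]; exact Subgroup.pow_mem _ hr₀Y _
  have hr₁sq : (r₁ : G) * (r₁ : G) ∈ Subgroup.centralizer (P : Set G) := by
    have h1 : ((r₀ * r₀ : ↥(Subgroup.closure ({a, b} : Set G))) : G) ∈
        Subgroup.centralizer (Y : Set G) := Subgroup.mul_mem _ hr₀Y hr₀Y
    have h2 : ρ (r₀ * r₀) = 1 := by
      ext v
      rw [map_mul, MulAut.mul_apply, hρr₀, hρr₀, inv_inv, MulAut.one_apply]
    have h3 := pow_card_mem_centralizer_of_stab P Y _ h1 (hker _ h2)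
    have h4 : ((r₀ * r₀ : ↥(Subgroup.closure ({a, b} : Set G))) : G) ^ Nat.card Y
        = (r₁ : G) * (r₁ : G) := by
      rw [hr₁def]
      show ((r₀ : G) * (r₀ : G)) ^ Nat.card Y = (r₀ : G) ^ Nat.card Y * (r₀ : G) ^ Nat.card Y
      exact (Commute.refl (r₀ : G)).mul_pow _
    rwa [h4] at h3
  obtain ⟨R, hRdef⟩ : ∃ R : G, R = (r₁ : G) := ⟨_, rfl⟩
  have hRP : ∀ u ∈ P, R * u * R⁻¹ ∈ P := by rw [hRdef]; exact hconjP _ r₁.2
  have hRY : ∀ z ∈ Y, R * z * R⁻¹ = z := by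
    intro z hz
    have h1 := (Subgroup.mem_centralizer_iff.mp hr₁Y) z hz
    rw [hRdef, ← h1, mul_inv_cancel_right]
  have hRinv : ∀ u ∈ P, R * u * R⁻¹ * u ∈ Y := by
    intro u hu
    have h1 := hρ r₁ ⟨u, hu⟩ (hconjP _ r₁.2 u hu)
    rw [hρr₁] at h1
    have h2 : π (⟨(r₁ : G) * u * (r₁ : G)⁻¹, hconjP _ r₁.2 u hu⟩ * (⟨u, hu⟩ : P)) = 1 := by
      rw [map_mul, ← h1, inv_mul_cancel]
    rw [hRdef]
    exact (hπk _).mp h2
  have hR2 : ∀ u ∈ P, R * (R * u * R⁻¹) * R⁻¹ = u := by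
    intro u hu
    have h1 := (Subgroup.mem_centralizer_iff.mp hr₁sq) u hu
    rw [hRdef]
    calc (r₁ : G) * ((r₁ : G) * u * (r₁ : G)⁻¹) * (r₁ : G)⁻¹
        = ((r₁ : G) * (r₁ : G)) * u * ((r₁ : G) * (r₁ : G))⁻¹ := by group
      _ = u := by rw [← h1, mul_inv_cancel_right]
  have hodd : ∀ u ∈ P, ∃ n : ℕ, u ^ (2 * n + 1) = 1 := by
    intro u hu
    obtain ⟨k, hk⟩ := hP ⟨u, hu⟩
    obtain ⟨j, hj⟩ := hpodd_pow k
    refine ⟨j, ?_⟩
    rw [← hj]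
    have h1 := congrArg Subtype.val hk
    rw [Subgroup.coe_pow, Subgroup.coe_one] at h1
    exact h1
  have hYn : ∀ u ∈ P, ∀ z ∈ Y, u * z * u⁻¹ ∈ Y :=
    fun u hu z hz => (Subgroup.mem_normalizer_iff.mp (hPY hu) z).mp hz
  have hdec := exists_invSub_mul P Y hYn hodd R hRP hRY hRinv hR2
  -- commutation with `r₁` modulo `C(P)`
  obtain ⟨φ, hφ1⟩ : ∃ φ : ↥(Subgroup.closure ({a, b} : Set G)) →*
      ↥(Subgroup.normalizer (P : Set G)) ⧸
        (Subgroup.centralizer (P : Set G)).subgroupOf (Subgroup.normalizer (P : Set G)),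
      ∀ γ, φ γ = 1 ↔ (γ : G) ∈ Subgroup.centralizer (P : Set G) := by
    refine ⟨(QuotientGroup.mk' _).comp (Subgroup.inclusion hDP), fun γ => ?_⟩
    rw [MonoidHom.comp_apply, QuotientGroup.mk'_apply, QuotientGroup.eq_one_iff,
      Subgroup.mem_subgroupOf]
    rfl
  have hφcomm : ∀ γ δ : ↥(Subgroup.closure ({a, b} : Set G)), Commute (φ γ) (φ δ) →
      ∀ u ∈ P, (γ : G) * ((δ : G) * u * (δ : G)⁻¹) * (γ : G)⁻¹
        = (δ : G) * ((γ : G) * u * (γ : G)⁻¹) * (δ : G)⁻¹ := by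
    intro γ δ hc u hu
    have h1 : φ ((δ * γ)⁻¹ * (γ * δ)) = 1 := by
      rw [map_mul, map_inv, map_mul, map_mul, hc.eq, inv_mul_cancel]
    rw [hφ1] at h1
    have h2 := (Subgroup.mem_centralizer_iff.mp h1) u hu
    have h3 : (((δ * γ)⁻¹ * (γ * δ) : ↥(Subgroup.closure ({a, b} : Set G))) : G)
        = ((δ : G) * (γ : G))⁻¹ * ((γ : G) * (δ : G)) := rfl
    rw [h3] at h2
    calc (γ : G) * ((δ : G) * u * (δ : G)⁻¹) * (γ : G)⁻¹
        = ((δ : G) * (γ : G)) * ((((δ : G) * (γ : G))⁻¹ * ((γ : G) * (δ : G))) * u *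
            (((δ : G) * (γ : G))⁻¹ * ((γ : G) * (δ : G)))⁻¹) * ((δ : G) * (γ : G))⁻¹ := by group
      _ = ((δ : G) * (γ : G)) * u * ((δ : G) * (γ : G))⁻¹ := by
        rw [← h2, mul_inv_cancel_right]
      _ = (δ : G) * ((γ : G) * u * (γ : G)⁻¹) * (δ : G)⁻¹ := by group
  have hφr : φ r₁ * φ r₁ = 1 := by rw [← map_mul, hφ1]; exact hr₁sq
  have hcorr : ∀ d : ↥(Subgroup.closure ({a, b} : Set G)),
      ∃ d' : ↥(Subgroup.closure ({a, b} : Set G)), ρ d' = ρ d ∧ Commute (φ r₁) (φ d') := by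
    intro d
    obtain ⟨cd, hcd⟩ : ∃ cd : ↥(Subgroup.closure ({a, b} : Set G)), cd = d⁻¹ * r₁ * d * r₁⁻¹ :=
      ⟨_, rfl⟩
    have hcen : ρ r₁ * ρ d = ρ d * ρ r₁ := by
      ext v
      rw [MulAut.mul_apply, MulAut.mul_apply, hρr₁, hρr₁, map_inv]
    have hρcd : ρ cd = 1 := by
      rw [hcd, map_mul, map_mul, map_mul, map_inv, map_inv, mul_assoc (ρ d)⁻¹, hcen]
      group
    have hcdY : (cd : G) ∈ Subgroup.centralizer (Y : Set G) := by
      have h1 : (cd : G) = ((d : G)⁻¹ * (r₁ : G) * (d : G)⁻¹⁻¹) * (r₁ : G)⁻¹ := by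
        rw [hcd, inv_inv]; rfl
      rw [h1]
      exact Subgroup.mul_mem _ (conj_mem_centralizer_of_mem_normalizer hr₁Y
        (Subgroup.inv_mem _ (hDY d.2))) (Subgroup.inv_mem _ hr₁Y)
    have h3 := pow_card_mem_centralizer_of_stab P Y (cd : G) hcdY (hker _ hρcd)
    obtain ⟨n, hn⟩ := hpodd_pow j₁
    have h4 : (φ d)⁻¹ * φ r₁ * φ d * (φ r₁)⁻¹ = φ cd := by
      rw [hcd, map_mul, map_mul, map_mul, map_inv, map_inv]
    have h5 : ((φ d)⁻¹ * φ r₁ * φ d * (φ r₁)⁻¹) ^ (2 * n + 1) = 1 := by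
      rw [h4, ← map_pow, hφ1, ← hn, ← hj₁]
      exact h3
    have h6 := involution_correction (φ r₁) (φ d) hφr n h5
    rw [h4] at h6
    refine ⟨d * cd ^ (n + 1), ?_, ?_⟩
    · rw [map_mul, map_pow, hρcd, one_pow, mul_one]
    · rw [map_mul, map_pow]; exact h6
  obtain ⟨y, hρy, hcy⟩ := hcorr y₀
  obtain ⟨g', hρg', hcg'⟩ := hcorr g₀
  obtain ⟨j', hρj', hcj'⟩ := hcorr j₀
  -- realizers of `g₀`, `j₀` centralizing `Y`
  have hcentY : ∀ x x₀ : ↥(Subgroup.closure ({a, b} : Set G)), ρ x = ρ x₀ →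
      (∀ w, c (x₀ ^ 4) w = w) → Commute (φ r₁) (φ x) →
      ∃ x₁ : ↥(Subgroup.closure ({a, b} : Set G)), ρ x₁ = ρ x₀ ∧ Commute (φ r₁) (φ x₁) ∧
        (x₁ : G) ∈ Subgroup.centralizer (Y : Set G) := by
    intro x x₀ hρx h4 hcx
    obtain ⟨k, hk⟩ := hpowY (x : G) x.2
    obtain ⟨m, hm⟩ := hpodd_pow k
    refine ⟨(x ^ p ^ k) ^ p ^ k, ?_, ?_, ?_⟩
    · have hρ4 : ρ x₀ ^ 4 = 1 := by
        ext s
        rw [← map_pow]
        exact congrArg Additive.toMul (h4 (Additive.ofMul s))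
      have e : p ^ k * p ^ k = 4 * (m * m + m) + 1 := by rw [hm]; ring
      rw [← pow_mul, map_pow, hρx, e, pow_succ, pow_mul, hρ4, one_pow, one_mul]
    · rw [map_pow, map_pow]
      exact (hcx.pow_right _).pow_right _
    · show ((x : G) ^ p ^ k) ^ p ^ k ∈ Subgroup.centralizer (Y : Set G)
      exact Subgroup.pow_mem _ hk _
  obtain ⟨G₁, hρG₁, hcG₁, hG₁Y⟩ := hcentY g' g₀ hρg' hg4 hcg'
  obtain ⟨J₁, hρJ₁, hcJ₁, hJ₁Y⟩ := hcentY j' j₀ hρj' hj4 hcj'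
  have hG₁Yc : ∀ z ∈ Y, (G₁ : G) * z * (G₁ : G)⁻¹ = z := by
    intro z hz
    have h1 := (Subgroup.mem_centralizer_iff.mp hG₁Y) z hz
    rw [← h1, mul_inv_cancel_right]
  have hJ₁Yc : ∀ z ∈ Y, (J₁ : G) * z * (J₁ : G)⁻¹ = z := by
    intro z hz
    have h1 := (Subgroup.mem_centralizer_iff.mp hJ₁Y) z hz
    rw [← h1, mul_inv_cancel_right]
  have hyquad : ∀ u ∈ P, (y : G) * ((y : G) * u * (y : G)⁻¹ * u⁻¹) * (y : G)⁻¹ *
      ((y : G) * u * (y : G)⁻¹ * u⁻¹)⁻¹ ∈ Y := by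
    apply hquadG y
    intro s
    rw [hρy, ← div_eq_mul_inv]
    exact congrArg Additive.toMul (hq₀ (Additive.ofMul s))
  have hcommy : ∀ u ∈ P, R * ((y : G) * u * (y : G)⁻¹) * R⁻¹
      = (y : G) * (R * u * R⁻¹) * (y : G)⁻¹ := by
    rw [hRdef]; exact hφcomm r₁ y hcy
  have hcommg : ∀ u ∈ P, R * ((g' : G) * u * (g' : G)⁻¹) * R⁻¹
      = (g' : G) * (R * u * R⁻¹) * (g' : G)⁻¹ := by
    rw [hRdef]; exact hφcomm r₁ g' hcg'
  have hcommG₁ : ∀ u ∈ P, R * ((G₁ : G) * u * (G₁ : G)⁻¹) * R⁻¹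
      = (G₁ : G) * (R * u * R⁻¹) * (G₁ : G)⁻¹ := by
    rw [hRdef]; exact hφcomm r₁ G₁ hcG₁
  have hcommJ₁ : ∀ u ∈ P, R * ((J₁ : G) * u * (J₁ : G)⁻¹) * R⁻¹
      = (J₁ : G) * (R * u * R⁻¹) * (J₁ : G)⁻¹ := by
    rw [hRdef]; exact hφcomm r₁ J₁ hcJ₁
  have hyUn := conj_mem_invSub P R (y : G) (hconjP _ y.2) hcommy
  have hgUn := conj_mem_invSub P R (g' : G) (hconjP _ g'.2) hcommg
  have hG₁Un := conj_mem_invSub P R (G₁ : G) (hconjP _ G₁.2) hcommG₁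
  have hJ₁Un := conj_mem_invSub P R (J₁ : G) (hconjP _ J₁.2) hcommJ₁
  have hUP := invSub_le P R
  have hUC : invSub P R ≤ Subgroup.centralizer (Y : Set G) :=
    invSub_le_centralizer P Y hYn hodd R hRY
  have hcY : ∀ u ∈ invSub P R, ∀ v ∈ invSub P R, u * v * u⁻¹ * v⁻¹ ∈ Y :=
    fun u hu v hv => hΦY (comm_mem_mhoComm p P (hUP hu) (hUP hv))
  -- the projection `U → V`, additively
  obtain ⟨π', hπ'⟩ : ∃ π' : ↥(invSub P R) → Additive V,
      ∀ u : ↥(invSub P R), π' u = Additive.ofMul (π ⟨(u : G), hUP u.2⟩) := ⟨_, fun _ => rfl⟩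
  have hπ's : Function.Surjective π' := by
    intro w
    obtain ⟨u, hu⟩ := hπs w.toMul
    obtain ⟨u', hu', z, hz, hdecomp⟩ := hdec (u : G) u.2
    refine ⟨⟨u', hu'⟩, ?_⟩
    rw [hπ']
    apply Additive.toMul.injective
    show π ⟨u', hUP hu'⟩ = w.toMul
    have e : u = (⟨u', hUP hu'⟩ : P) * ⟨z, hYP hz⟩ := Subtype.ext hdecomp
    rw [← hu, e, map_mul, (hπk ⟨z, hYP hz⟩).mpr hz, mul_one]
  have hπ'm : ∀ x₁ x₂ : ↥(invSub P R), π' (x₁ * x₂) = π' x₁ + π' x₂ := by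
    intro x₁ x₂
    rw [hπ', hπ', hπ']
    apply Additive.toMul.injective
    show π (⟨(x₁ : G), hUP x₁.2⟩ * ⟨(x₂ : G), hUP x₂.2⟩) = π ⟨(x₁ : G), hUP x₁.2⟩ *
      π ⟨(x₂ : G), hUP x₂.2⟩
    rw [map_mul]
  have hπ'k : ∀ x₁ : ↥(invSub P R), π' x₁ = 0 → (x₁ : G) ∈ Y := by
    intro x₁ hx₁
    rw [hπ'] at hx₁
    exact (hπk ⟨(x₁ : G), hUP x₁.2⟩).mp (congrArg Additive.toMul hx₁)
  have hπ'c : ∀ (x x₀ : ↥(Subgroup.closure ({a, b} : Set G))), ρ x = ρ x₀ →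
      ∀ (hxU : ∀ u ∈ invSub P R, (x : G) * u * (x : G)⁻¹ ∈ invSub P R) (u : ↥(invSub P R)),
        π' ⟨(x : G) * u * (x : G)⁻¹, hxU u u.2⟩ = c x₀ (π' u) := by
    intro x x₀ hρx hxU u
    rw [hπ', hπ']
    apply Additive.toMul.injective
    show π ⟨(x : G) * u * (x : G)⁻¹, hUP (hxU u u.2)⟩ = ρ x₀ (π ⟨(u : G), hUP u.2⟩)
    rw [← hρx, hρ x ⟨(u : G), hUP u.2⟩ (hconjP _ x.2 u (hUP u.2))]
  have hfixc := conj_comm_eq_of_forms (invSub P R) Y hUC hcY π' hπ's hπ'm hπ'k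
    (c g₀) (c j₀) (c y₀) (fun A _ β => htr A β) (G₁ : G) (J₁ : G) (y : G) hG₁Un hJ₁Un hyUn
    hG₁Yc hJ₁Yc (hπ'c G₁ g₀ hρG₁ hG₁Un) (hπ'c J₁ j₀ hρJ₁ hJ₁Un) (hπ'c y y₀ hρy hyUn)
  have hyZ := conj_inv_prod_fixed P Y R (y : G) hUC hcY hfixc
  have hyUq := quad_on_invSub_of_fix P Y hYn hodd R (y : G) hRY hRinv (hconjP _ y.2) hyZ hcommy
    hyquad
  have hUp : IsPGroup p (invSub P R) := hP.to_le (invSub_le P R)
  have hyNU : (y : G) ∈ Subgroup.normalizer ((invSub P R : Subgroup G) : Set G) :=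
    Cfsg.Agent.Lib.helper55.mem_normalizer_of_conj_mem hyUn
  have hgNU : (g' : G) ∈ Subgroup.normalizer ((invSub P R : Subgroup G) : Set G) :=
    Cfsg.Agent.Lib.helper55.mem_normalizer_of_conj_mem hgUn
  have hstab := hst (invSub P R) hUp (y : G) hyNU (commutator_zpowers_eq_bot_of_quad _ _ hyUq)
  have hnormal := Cfsg.Agent.Lib.helper40.pCore_normal' p
    (↥(Subgroup.normalizer ((invSub P R : Subgroup G) : Set G)) ⧸
      (Subgroup.centralizer ((invSub P R : Subgroup G) : Set G)).subgroupOf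
        (Subgroup.normalizer ((invSub P R : Subgroup G) : Set G)))
  have hstab' := hnormal.conj_mem _ hstab (QuotientGroup.mk ⟨(g' : G), hgNU⟩)
  have hprod := Subgroup.mul_mem _ hstab hstab'
  obtain ⟨k, hk⟩ := (Cfsg.Agent.Lib.helper40.pCore_isPGroup p _) ⟨_, hprod⟩
  obtain ⟨z₀, hz₀def⟩ : ∃ z₀ : ↥(Subgroup.closure ({a, b} : Set G)), z₀ = y * (g' * y * g'⁻¹) :=
    ⟨_, rfl⟩
  have hk' : (z₀ : G) ^ p ^ k ∈ Subgroup.centralizer ((invSub P R : Subgroup G) : Set G) := by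
    have h1 : (QuotientGroup.mk (s := (Subgroup.centralizer ((invSub P R : Subgroup G) : Set G)).subgroupOf
          (Subgroup.normalizer ((invSub P R : Subgroup G) : Set G)))
          ((⟨(y : G), hyNU⟩ * (⟨(g' : G), hgNU⟩ * ⟨(y : G), hyNU⟩ *
          ⟨(g' : G), hgNU⟩⁻¹) : ↥(Subgroup.normalizer ((invSub P R : Subgroup G) : Set G))) ^ p ^ k))
        = 1 := congrArg Subtype.val hk
    rw [QuotientGroup.eq_one_iff, Subgroup.mem_subgroupOf] at h1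
    rw [hz₀def]
    exact h1
  have htriv : ρ (z₀ ^ p ^ k) = 1 := by
    apply hker'
    intro u hu
    obtain ⟨u', hu', z, hz, rfl⟩ := hdec u hu
    have hxN : ((z₀ ^ p ^ k : ↥(Subgroup.closure ({a, b} : Set G))) : G) ∈
        Subgroup.normalizer (Y : Set G) := hDY (z₀ ^ p ^ k).2
    obtain ⟨x, hx⟩ : ∃ x : G, x = ((z₀ ^ p ^ k : ↥(Subgroup.closure ({a, b} : Set G))) : G) :=
      ⟨_, rfl⟩
    have hx' : x = (z₀ : G) ^ p ^ k := by rw [hx]; rfl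
    have h1 := (Subgroup.mem_centralizer_iff.mp hk') u' hu'
    rw [← hx'] at h1
    rw [← hx] at hxN ⊢
    have e : x * (u' * z) * x⁻¹ * (u' * z)⁻¹ = u' * (x * z * x⁻¹ * z⁻¹) * u'⁻¹ := by
      calc x * (u' * z) * x⁻¹ * (u' * z)⁻¹ = (x * u') * z * x⁻¹ * z⁻¹ * u'⁻¹ := by group
        _ = (u' * x) * z * x⁻¹ * z⁻¹ * u'⁻¹ := by rw [h1]
        _ = u' * (x * z * x⁻¹ * z⁻¹) * u'⁻¹ := by group
    rw [e]
    exact hYn u' (invSub_le P R hu') _
      (Y.mul_mem ((Subgroup.mem_normalizer_iff.mp hxN z).mp hz) (Y.inv_mem hz))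
  -- a fixed point of the `p`-element `ρ z₀`
  have hfixpt : ∃ v : V, v ≠ 1 ∧ ρ z₀ v = v := by
    have hσ : (ρ z₀) ^ p ^ k = 1 := by rw [← map_pow]; exact htriv
    have hPσ : IsPGroup p (Subgroup.zpowers (ρ z₀)) := by
      rintro ⟨x, i, rfl⟩
      refine ⟨k, Subtype.ext ?_⟩
      show (ρ z₀ ^ i) ^ p ^ k = 1
      rw [← zpow_natCast, ← zpow_mul, mul_comm, zpow_mul, zpow_natCast, hσ, one_zpow]
    have hVp : IsPGroup p V := fun s => ⟨1, by rw [pow_one]; exact hVexp s⟩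
    obtain ⟨m, hm⟩ := IsPGroup.exists_card_eq hVp
    have hpV' : p ∣ Nat.card V := by
      rw [hm]
      rcases m with _ | m
      · exfalso
        rw [pow_zero] at hm
        haveI : Subsingleton V := (Nat.card_eq_one_iff_unique.mp hm).1
        exact hρg (by ext v; exact Subsingleton.elim _ _)
      · exact dvd_pow_self p (Nat.succ_ne_zero m)
    have h1 : (1 : V) ∈ MulAction.fixedPoints (Subgroup.zpowers (ρ z₀)) V := by
      intro x
      show (x : MulAut V) 1 = 1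
      exact map_one _
    obtain ⟨v, hv, hv1⟩ := hPσ.exists_fixed_point_of_prime_dvd_card_of_fixed_point V hpV' h1
    refine ⟨v, fun h => hv1 h.symm, ?_⟩
    exact hv ⟨ρ z₀, Subgroup.mem_zpowers _⟩
  obtain ⟨v, hv1, hv⟩ := hfixpt
  have hρz₀ : ρ z₀ = ρ (y₀ * (g₀ * y₀ * g₀⁻¹)) := by
    rw [hz₀def]
    simp only [map_mul, map_inv, hρy, hρg']
  have h9 := hfix₀ (Additive.ofMul v) (by
    show Additive.ofMul (ρ (y₀ * (g₀ * y₀ * g₀⁻¹)) v) = Additive.ofMul v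
    rw [← hρz₀, hv])
  exact hv1 (congrArg Additive.toMul h9)

/-- `p`-stability modulo a `p`-central subgroup, the core statement for every odd `p`. -/
theorem pstabmod_centralize_odd {G : Type u} [Group G] [Finite G] (p : ℕ) [Fact p.Prime]
    (hp2 : p ≠ 2) (hst : Cfsg.IsNormalizerPStable p G) (a b : G) :
    ∀ (n : ℕ) (P Z : Subgroup G), Nat.card P = n → IsPGroup p P → Z ≤ P →
      a ∈ Subgroup.normalizer (P : Set G) → b ∈ Subgroup.normalizer (P : Set G) →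
      a ∈ Subgroup.normalizer (Z : Set G) → b ∈ Subgroup.normalizer (Z : Set G) →
      (∀ d ∈ Subgroup.closure ({a, b} : Set G),
        ∃ k : ℕ, d ^ p ^ k ∈ Subgroup.centralizer (Z : Set G)) →
      (∀ u ∈ P, a * (a * u * a⁻¹ * u⁻¹) * a⁻¹ * (a * u * a⁻¹ * u⁻¹)⁻¹ ∈ Z) →
      (∀ u ∈ P, b * (b * u * b⁻¹ * u⁻¹) * b⁻¹ * (b * u * b⁻¹ * u⁻¹)⁻¹ ∈ Z) →
      ∀ g ∈ Subgroup.closure ({a, b} : Set G), (orderOf g).Coprime p →
        g ∈ Subgroup.centralizer (P : Set G) := by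
  by_cases hp3 : p = 3
  · exact pstabmod_centralize_three p hp3 hst a b
  · exact pstabmod_centralize p hp2 hp3 hst a b

end Cfsg.Agent.Lib.helper3
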