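import Mathlib
import Cfsg.Agent.Lib.helper55.FusionStable
import Cfsg.Agent.Lib.helper3.PsThreeB

/-!
# Glauberman's Theorem B for all odd primes (seat `helper3`)

Copies of the theorems of seat `helper55` (`PStabCore.lean`, `FusionStable.lean`) that depend on
`pstabmod_centralize`, with the hypothesis `p ≠ 3` removed: they now rest on
`Cfsg.Agent.Lib.helper3.pstabmod_centralize_odd`.  The proofs are those of seat `helper55`.

* `pstable_hom_mod_odd`, `isPStableOn_of_goodSec_odd`, `ctl_of_goodSec_odd`,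
  `ctl_of_normalizerPStable_odd`.
-/

set_option autoImplicit false
set_option linter.style.haveILetI false

namespace Cfsg.Agent.Lib.helper3

section pstab

open scoped commutatorElement

open Cfsg.Agent.Lib.helper30 Cfsg.Agent.Lib.helper55.QdSL2 Cfsg.Agent.Lib.helper55.PStabMod

universe u

/-- Every element of `closure {a, b}` has a `p`-power centralizing `P`. -/
theorem pstabmod_pow_mem_centralizer_odd {G : Type u} [Group G] [Finite G] (p : ℕ) [Fact p.Prime]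
    (hp2 : p ≠ 2) (hst : Cfsg.IsNormalizerPStable p G) (P Z : Subgroup G)
    (hP : IsPGroup p P) (hZP : Z ≤ P) (a b : G)
    (haP : a ∈ Subgroup.normalizer (P : Set G)) (hbP : b ∈ Subgroup.normalizer (P : Set G))
    (haZ : a ∈ Subgroup.normalizer (Z : Set G)) (hbZ : b ∈ Subgroup.normalizer (Z : Set G))
    (hpZ : ∀ d ∈ Subgroup.closure ({a, b} : Set G),
      ∃ k : ℕ, d ^ p ^ k ∈ Subgroup.centralizer (Z : Set G))
    (hqa : ∀ u ∈ P, a * (a * u * a⁻¹ * u⁻¹) * a⁻¹ * (a * u * a⁻¹ * u⁻¹)⁻¹ ∈ Z)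
    (hqb : ∀ u ∈ P, b * (b * u * b⁻¹ * u⁻¹) * b⁻¹ * (b * u * b⁻¹ * u⁻¹)⁻¹ ∈ Z) :
    ∀ g ∈ Subgroup.closure ({a, b} : Set G),
      ∃ k : ℕ, g ^ (p ^ k) ∈ Subgroup.centralizer (P : Set G) := by
  have hpp : p.Prime := Fact.out
  intro g hg
  obtain ⟨k, m, hm, hkm⟩ := Nat.exists_eq_pow_mul_and_not_dvd (orderOf_pos g).ne' p hpp.ne_one
  refine ⟨k, ?_⟩
  apply pstabmod_centralize_odd p hp2 hst a b _ P Z rfl hP hZP haP hbP haZ hbZ hpZ hqa hqb _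
    (Subgroup.pow_mem _ hg _)
  have h1 : orderOf (g ^ (p ^ k)) = m := by
    rw [orderOf_pow, hkm, Nat.gcd_eq_right (dvd_mul_right _ _)]
    exact Nat.mul_div_cancel_left m (pow_pos hpp.pos k)
  rw [h1]
  exact ((Nat.Prime.coprime_iff_not_dvd hpp).mpr hm).symm

universe v w

/-- **`p`-stability modulo `Z`** (`p` odd, `G` normalizer-`p`-stable), abstract form.  `P` is a
`p`-subgroup of `G`, `Z ≤ P`, `ι : N →* G` has image in `N_G(P) ∩ N_G(Z)` and every `ι n` has a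
`p`-power centralizing `Z`; `φ : N →* Q` is onto with `ι⁻¹(C_G(P)) ≤ ker φ`.  If `ι a` acts
quadratically on `P` modulo `Z`, then `φ a ∈ O_p(Q)`. -/
theorem pstable_hom_mod_odd {G : Type u} [Group G] [Finite G] (p : ℕ) [Fact p.Prime]
    (hp2 : p ≠ 2) (hst : Cfsg.IsNormalizerPStable p G)
    (P Z : Subgroup G) (hP : IsPGroup p P) (hZP : Z ≤ P)
    {N : Type v} [Group N] {Q : Type w} [Group Q] [Finite Q] (ι : N →* G) (φ : N →* Q)
    (hφ : Function.Surjective φ)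
    (hιN : ∀ n, ι n ∈ Subgroup.normalizer (P : Set G))
    (hιZ : ∀ n, ι n ∈ Subgroup.normalizer (Z : Set G))
    (hpZ : ∀ n, ∃ k : ℕ, (ι n) ^ p ^ k ∈ Subgroup.centralizer (Z : Set G))
    (hker : ∀ n, ι n ∈ Subgroup.centralizer (P : Set G) → φ n = 1)
    (a : N) (hq : ∀ u ∈ P,
      ι a * (ι a * u * (ι a)⁻¹ * u⁻¹) * (ι a)⁻¹ * (ι a * u * (ι a)⁻¹ * u⁻¹)⁻¹ ∈ Z) :
    φ a ∈ Cfsg.pCore p Q := by
  obtain ⟨X, hX⟩ : ∃ X : Set Q, X = {x | ∃ c : N,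
      (∀ u ∈ P, ι c * (ι c * u * (ι c)⁻¹ * u⁻¹) * (ι c)⁻¹ * (ι c * u * (ι c)⁻¹ * u⁻¹)⁻¹ ∈ Z) ∧
        x = φ c} := ⟨_, rfl⟩
  have hconj : ∀ q : Q, ∀ x ∈ X, q * x * q⁻¹ ∈ X := by
    intro q x hx
    rw [hX] at hx ⊢
    obtain ⟨c, hc, rfl⟩ := hx
    obtain ⟨n, rfl⟩ := hφ q
    refine ⟨n * c * n⁻¹, ?_, by simp⟩
    intro u hu
    have hu' : (ι n)⁻¹ * u * ι n ∈ P := (Subgroup.mem_normalizer_iff''.mp (hιN n) u).mp hu
    have h1 := hc _ hu'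
    rw [map_mul, map_mul, map_inv]
    have h2 : ι n * ι c * (ι n)⁻¹ * (ι n * ι c * (ι n)⁻¹ * u * (ι n * ι c * (ι n)⁻¹)⁻¹ * u⁻¹) *
        (ι n * ι c * (ι n)⁻¹)⁻¹ * (ι n * ι c * (ι n)⁻¹ * u * (ι n * ι c * (ι n)⁻¹)⁻¹ * u⁻¹)⁻¹
        = ι n * (ι c * (ι c * ((ι n)⁻¹ * u * ι n) * (ι c)⁻¹ * ((ι n)⁻¹ * u * ι n)⁻¹) * (ι c)⁻¹ *
          (ι c * ((ι n)⁻¹ * u * ι n) * (ι c)⁻¹ * ((ι n)⁻¹ * u * ι n)⁻¹)⁻¹) * (ι n)⁻¹ := by group
    rw [h2]
    exact (Subgroup.mem_normalizer_iff.mp (hιZ n) _).mp h1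
  have h2grp : ∀ x ∈ X, ∀ y ∈ X, IsPGroup p (Subgroup.closure ({x, y} : Set Q)) := by
    intro x hx y hy
    rw [hX] at hx hy
    obtain ⟨c, hc, rfl⟩ := hx
    obtain ⟨d, hd, rfl⟩ := hy
    have hmap : Subgroup.closure ({φ c, φ d} : Set Q)
        = (Subgroup.closure ({c, d} : Set N)).map φ := by
      rw [MonoidHom.map_closure, Set.image_pair]
    have hmap' : (Subgroup.closure ({c, d} : Set N)).map ι
        = Subgroup.closure ({ι c, ι d} : Set G) := by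
      rw [MonoidHom.map_closure, Set.image_pair]
    intro z
    obtain ⟨g', hg', hz⟩ : ∃ g' ∈ Subgroup.closure ({c, d} : Set N), φ g' = (z : Q) := by
      have h1 : (z : Q) ∈ (Subgroup.closure ({c, d} : Set N)).map φ := hmap ▸ z.2
      exact h1
    have hιg : ι g' ∈ Subgroup.closure ({ι c, ι d} : Set G) := by
      rw [← hmap']
      exact Subgroup.mem_map_of_mem _ hg'
    have hpZ' : ∀ d' ∈ Subgroup.closure ({ι c, ι d} : Set G),
        ∃ k : ℕ, d' ^ p ^ k ∈ Subgroup.centralizer (Z : Set G) := by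
      intro d' hd'
      rw [← hmap'] at hd'
      obtain ⟨n', -, rfl⟩ := hd'
      exact hpZ n'
    obtain ⟨k, hk⟩ := pstabmod_pow_mem_centralizer_odd p hp2 hst P Z hP hZP (ι c) (ι d) (hιN c)
      (hιN d) (hιZ c) (hιZ d) hpZ' hc hd _ hιg
    refine ⟨k, ?_⟩
    apply Subtype.ext
    rw [Subgroup.coe_pow, Subgroup.coe_one, ← hz, ← map_pow]
    apply hker
    rw [map_pow]
    exact hk
  have hXp := Cfsg.Agent.Lib.helper91.baer_suzuki X hconj h2grp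
  have hXn := Cfsg.Agent.Lib.helper91.closure_normal_of_conj X hconj
  refine Cfsg.Agent.Lib.helper40.le_pCore _ hXn hXp (Subgroup.subset_closure ?_)
  rw [hX]
  exact ⟨a, hq, rfl⟩

end pstab

section fusion

open Subgroup Cfsg.Agent.Lib.helper14 Cfsg.Agent.Lib.helper39 Cfsg.Agent.Lib.helper57
  Cfsg.Agent.Lib.helper51 Cfsg.Agent.Lib.helper55.FusionCtl

universe u

/-- Good sections are `p`-stable on normal `p`-subgroups modulo normal `p'`-subgroups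
(`p` odd, `G₀` normalizer-`p`-stable). -/
theorem isPStableOn_of_goodSec_odd {p : ℕ} [Fact p.Prime] (hp2 : p ≠ 2)
    {G₀ : Type u} [Group G₀] [Finite G₀] (hst : Cfsg.IsNormalizerPStable p G₀)
    {X : Type u} [Group X] [Finite X] (h : GoodSec p G₀ X)
    (N₀ : Subgroup X) [N₀.Normal] (hN₀ : (Nat.card N₀).Coprime p)
    (V : Subgroup (X ⧸ N₀)) [V.Normal] (hV : IsPGroup p V) : Cfsg.IsPStableOn p V := by
  obtain ⟨H, _, ι, φ, hι, hφ, hker, hcen⟩ := h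
  haveI : Finite H := Finite.of_injective ι hι
  intro ā hquad
  obtain ⟨ψ, hψ⟩ : ∃ ψ : H →* X ⧸ N₀, ψ = (QuotientGroup.mk' N₀).comp φ := ⟨_, rfl⟩
  have hψs : Function.Surjective ψ := by
    rw [hψ]; exact (QuotientGroup.mk'_surjective N₀).comp hφ
  haveI hV₁n : (V.comap ψ).Normal := inferInstance
  obtain ⟨P₁⟩ : Nonempty (Sylow p ↥(V.comap ψ)) := inferInstance
  obtain ⟨P₁', hP₁'⟩ : ∃ P₁' : Subgroup H, P₁' = (P₁ : Subgroup ↥(V.comap ψ)).map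
      (V.comap ψ).subtype := ⟨_, rfl⟩
  have hP₁'p : IsPGroup p P₁' := by rw [hP₁']; exact P₁.2.map _
  have hP₁'V : ∀ w ∈ P₁', ψ w ∈ V := by
    intro w hw
    rw [hP₁'] at hw
    obtain ⟨w', -, rfl⟩ := hw
    exact w'.2
  -- `ψ(P₁') = V`
  have himg : ∀ v ∈ V, ∃ w ∈ P₁', ψ w = v := by
    intro v hv
    have hs : Function.Surjective (ψ.subgroupComap V) :=
      MonoidHom.subgroupComap_surjective_of_surjective ψ V hψs
    have h1 : (⊤ : Subgroup ↥V) = ((P₁.mapSurjective hs : Sylow p ↥V) : Subgroup ↥V) :=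
      (P₁.mapSurjective hs).is_maximal' (hV.to_subgroup ⊤) le_top
    have h2 : (⟨v, hv⟩ : ↥V) ∈ ((P₁.mapSurjective hs : Sylow p ↥V) : Subgroup ↥V) := by
      rw [← h1]; trivial
    rw [Sylow.coe_mapSurjective] at h2
    obtain ⟨w, hw, hwv⟩ := h2
    refine ⟨(w : H), ?_, congrArg Subtype.val hwv⟩
    rw [hP₁']
    exact ⟨w, hw, rfl⟩
  -- Frattini
  have hfrat : Subgroup.normalizer (P₁' : Set H) ⊔ V.comap ψ = ⊤ := by
    rw [hP₁']; exact Sylow.normalizer_sup_eq_top P₁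
  obtain ⟨H₂, hH₂⟩ : ∃ H₂ : Subgroup H, H₂ = Subgroup.normalizer (P₁' : Set H) := ⟨_, rfl⟩
  have hPH₂ : P₁' ≤ H₂ := by rw [hH₂]; exact Subgroup.le_normalizer
  have hsurj₂ : ∀ y : X ⧸ N₀, ∃ n ∈ H₂, ψ n = y := by
    intro y
    obtain ⟨h, rfl⟩ := hψs y
    have hh : h ∈ H₂ ⊔ V.comap ψ := by rw [hH₂, hfrat]; trivial
    obtain ⟨n, hn, v, hv, rfl⟩ := Subgroup.mem_sup_of_normal_right.mp hh
    obtain ⟨w, hw, hwv⟩ := himg (ψ v) hv
    exact ⟨n * w, H₂.mul_mem hn (hPH₂ hw), by rw [map_mul, map_mul, hwv]⟩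
  obtain ⟨a, haH₂, rfl⟩ := hsurj₂ ā
  have haN : a ∈ Subgroup.normalizer (P₁' : Set H) := hH₂ ▸ haH₂
  have hφ₂ : Function.Surjective ((QuotientGroup.mk' (Subgroup.centralizer
      (V : Set (X ⧸ N₀)))).comp (ψ.comp H₂.subtype)) := by
    intro y
    obtain ⟨y, rfl⟩ := QuotientGroup.mk'_surjective _ y
    obtain ⟨n, hn, rfl⟩ := hsurj₂ y
    exact ⟨⟨n, hn⟩, rfl⟩
  have hιN : ∀ n : ↥H₂, (ι.comp H₂.subtype) n ∈ Subgroup.normalizer ((P₁'.map ι : Subgroup G₀) :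
      Set G₀) := by
    intro n
    apply Subgroup.le_normalizer_map ι
    exact ⟨(n : H), hH₂ ▸ n.2, rfl⟩
  have hιZ : ∀ n : ↥H₂, (ι.comp H₂.subtype) n ∈ Subgroup.normalizer
      (((φ.ker ⊓ P₁').map ι : Subgroup G₀) : Set G₀) := by
    intro n
    apply Subgroup.le_normalizer_map ι
    refine ⟨(n : H), ?_, rfl⟩
    apply Cfsg.Agent.Lib.helper55.PStabMod.mem_normalizer_inf
    · rw [Subgroup.normalizer_eq_top_iff.mpr (inferInstance : (φ.ker).Normal)]; trivial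
    · exact hH₂ ▸ n.2
  have hpZ : ∀ n : ↥H₂, ∃ k : ℕ, ((ι.comp H₂.subtype) n) ^ p ^ k ∈ Subgroup.centralizer
      (((φ.ker ⊓ P₁').map ι : Subgroup G₀) : Set G₀) := by
    intro n
    obtain ⟨k, hk⟩ := hcen (n : H)
    refine ⟨k, ?_⟩
    rw [Subgroup.mem_centralizer_iff]
    rintro _ ⟨z, hz, rfl⟩
    have h1 := (Subgroup.mem_centralizer_iff.mp hk) z hz.1
    show ι z * ι (n : H) ^ p ^ k = ι (n : H) ^ p ^ k * ι z
    rw [← map_pow, ← map_mul, ← map_mul, h1]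
  have hker' : ∀ n : ↥H₂, (ι.comp H₂.subtype) n ∈ Subgroup.centralizer
      ((P₁'.map ι : Subgroup G₀) : Set G₀) →
      ((QuotientGroup.mk' (Subgroup.centralizer (V : Set (X ⧸ N₀)))).comp (ψ.comp H₂.subtype)) n
        = 1 := by
    intro n hn
    show (QuotientGroup.mk (ψ (n : H)) : (X ⧸ N₀) ⧸ Subgroup.centralizer (V : Set (X ⧸ N₀))) = 1
    rw [QuotientGroup.eq_one_iff, Subgroup.mem_centralizer_iff]
    intro v hv
    obtain ⟨w, hw, rfl⟩ := himg v hv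
    have h1 := (Subgroup.mem_centralizer_iff.mp hn) (ι w) ⟨w, hw, rfl⟩
    have h2 : w * (n : H) = (n : H) * w := by
      apply hι
      rw [map_mul, map_mul]
      exact h1
    rw [← map_mul, ← map_mul, h2]
  have hq : ∀ u ∈ P₁'.map ι, (ι.comp H₂.subtype) ⟨a, haH₂⟩ * ((ι.comp H₂.subtype) ⟨a, haH₂⟩ * u *
      ((ι.comp H₂.subtype) ⟨a, haH₂⟩)⁻¹ * u⁻¹) * ((ι.comp H₂.subtype) ⟨a, haH₂⟩)⁻¹ *
      ((ι.comp H₂.subtype) ⟨a, haH₂⟩ * u * ((ι.comp H₂.subtype) ⟨a, haH₂⟩)⁻¹ * u⁻¹)⁻¹ ∈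
        (φ.ker ⊓ P₁').map ι := by
    rintro _ ⟨u, hu, rfl⟩
    show ι a * (ι a * ι u * (ι a)⁻¹ * (ι u)⁻¹) * (ι a)⁻¹ * (ι a * ι u * (ι a)⁻¹ * (ι u)⁻¹)⁻¹ ∈
        (φ.ker ⊓ P₁').map ι
    refine ⟨a * (a * u * a⁻¹ * u⁻¹) * a⁻¹ * (a * u * a⁻¹ * u⁻¹)⁻¹, ?_, by
      simp only [map_mul, map_inv]⟩
    have hconj : ∀ w ∈ P₁', a * w * a⁻¹ ∈ P₁' := fun w hw =>
      (Subgroup.mem_normalizer_iff.mp haN w).mp hw
    have hc : a * u * a⁻¹ * u⁻¹ ∈ P₁' := P₁'.mul_mem (hconj u hu) (P₁'.inv_mem hu)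
    have hqP : a * (a * u * a⁻¹ * u⁻¹) * a⁻¹ * (a * u * a⁻¹ * u⁻¹)⁻¹ ∈ P₁' :=
      P₁'.mul_mem (hconj _ hc) (P₁'.inv_mem hc)
    refine ⟨?_, hqP⟩
    have h1 := Cfsg.Agent.Lib.helper30.quad_of_commutator_eq_bot V (Subgroup.zpowers (ψ a)) hquad
      (ψ a) (Subgroup.mem_zpowers _) (ψ u) (hP₁'V u hu)
    have h2 : ψ (a * (a * u * a⁻¹ * u⁻¹) * a⁻¹ * (a * u * a⁻¹ * u⁻¹)⁻¹) = 1 := by
      simp only [map_mul, map_inv]
      rw [h1]; group
    have h3 : φ (a * (a * u * a⁻¹ * u⁻¹) * a⁻¹ * (a * u * a⁻¹ * u⁻¹)⁻¹) ∈ N₀ := by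
      rw [hψ, MonoidHom.comp_apply, QuotientGroup.mk'_apply, QuotientGroup.eq_one_iff] at h2
      exact h2
    have h4 : φ (a * (a * u * a⁻¹ * u⁻¹) * a⁻¹ * (a * u * a⁻¹ * u⁻¹)⁻¹) ∈ P₁'.map φ ⊓ N₀ :=
      ⟨⟨_, hqP, rfl⟩, h3⟩
    rw [inf_eq_bot_of_isPGroup_of_coprime (hP₁'p.map φ) hN₀, Subgroup.mem_bot] at h4
    exact MonoidHom.mem_ker.mpr h4
  exact pstable_hom_mod_odd p hp2 hst (P₁'.map ι)
    ((φ.ker ⊓ P₁').map ι) (hP₁'p.map ι) (Subgroup.map_mono inf_le_right)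
    (ι.comp H₂.subtype)
    ((QuotientGroup.mk' (Subgroup.centralizer (V : Set (X ⧸ N₀)))).comp (ψ.comp H₂.subtype))
    hφ₂ hιN hιZ hpZ hker' ⟨a, haH₂⟩ hq

/-- Every good section of a normalizer-`p`-stable group (`p` odd) satisfies `Ctl`. -/
theorem ctl_of_goodSec_odd {p : ℕ} [Fact p.Prime] (hp2 : p ≠ 2) (e : ℕ)
    (he : e = 0 ∨ e = p) {G₀ : Type u} [Group G₀] [Finite G₀]
    (hst : Cfsg.IsNormalizerPStable p G₀) :
    ∀ (n : ℕ) (X : Type u) [Group X] [Finite X], Nat.card X = n → GoodSec p G₀ X →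
      Ctl p e X := by
  intro n
  induction n using Nat.strong_induction_on with
  | _ n ih =>
  intro X _ _ hn hgs
  apply ctl_step' hp2 e he
  · intro N₀ _ hN₀ V _ hV
    exact isPStableOn_of_goodSec_odd hp2 hst hgs N₀ hN₀ V hV
  · intro N hN
    have hlt : Nat.card ↥N < n := by
      rw [← hn]
      by_contra hge
      push Not at hge
      exact hN (Subgroup.eq_top_of_le_card N hge)
    exact ih _ hlt ↥N rfl (goodSec_subgroup hgs N)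
  · intro S Q _ hQdef hQne hSC
    have hlt : Nat.card (X ⧸ Q) < n := by
      rw [← hn, Subgroup.card_eq_card_quotient_mul_card_subgroup Q]
      have h1 : 1 < Nat.card Q := Q.one_lt_card_iff_ne_bot.mpr hQne
      have h2 : 0 < Nat.card (X ⧸ Q) := Nat.card_pos
      nlinarith
    have hQp : IsPGroup p Q := hQdef ▸ Cfsg.Agent.Lib.helper39.pCore_isPGroup p X
    exact ih _ hlt (X ⧸ Q) rfl
      (goodSec_quotient hgs Q hQp (pow_mem_centralizer_of_SC (S : Subgroup X) S.2 Q hSC))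

/-- **Glauberman's Theorem B** (`p` odd): in a normalizer-`p`-stable group, `N(zjE e D)` controls
strong fusion in a Sylow `p`-subgroup `S`, for `D` strongly closed in `S`. -/
theorem ctl_of_normalizerPStable_odd {p : ℕ} [Fact p.Prime] (hp2 : p ≠ 2) (e : ℕ)
    (he : e = 0 ∨ e = p) {G₀ : Type u} [Group G₀] [Finite G₀]
    (hst : Cfsg.IsNormalizerPStable p G₀) : Ctl p e G₀ :=
  ctl_of_goodSec_odd hp2 e he hst _ G₀ rfl (goodSec_self p G₀)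

end fusion

end Cfsg.Agent.Lib.helper3
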