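import Cfsg.Agent.Lib.helper74.QODefs
import Cfsg.Agent.Lib.helper78.QO_L1
import Cfsg.Agent.Lib.helper25.QO_L6a
import Cfsg.Agent.Lib.helper25.QO_L6b

set_option autoImplicit false

/-!
# S1935, piece L6c (`lim_units_mem`), helper3's parallel copy

Every element `1 + l`, `l ∈ lim (A - 1) (x - 1)`, is the value of a unit of `H`: `l = p + q + r`
with `p ∈ A - 1`, `q ∈ x⁻¹ A x - 1`, `r ∈ x A x⁻¹ - 1`, and by L6b
`(1 + p)(1 + q)(1 + r) = (1 + l)(1 + k • Σγ)` where `1 + k • Σγ` is again the value of a unit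
(`γ_pq, γ_pr ∈ A - 1`, `γ_qr ∈ x⁻¹ A x - 1`, products of the corrections vanish).
-/

namespace Cfsg.Agent.Lib.helper3.QO

open Cfsg.Agent.Lib.helper74.QO

variable {R : Type*} [Ring R]

/-- The inverse of a unit `c` with `(c - 1)^2 = 0` is `1 - (c - 1)`. -/
theorem h3_inv_val (c : Rˣ) (h : ((c : R) - 1) * ((c : R) - 1) = 0) :
    ((c⁻¹ : Rˣ) : R) = 1 - ((c : R) - 1) := by
  have h1 : (c : R) * (1 - ((c : R) - 1)) = 1 := by
    have : (c : R) * (1 - ((c : R) - 1)) = 1 - ((c : R) - 1) * ((c : R) - 1) := by noncomm_ring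
    rw [this, h, sub_zero]
  calc ((c⁻¹ : Rˣ) : R) = ((c⁻¹ : Rˣ) : R) * ((c : R) * (1 - ((c : R) - 1))) := by
        rw [h1, mul_one]
    _ = 1 - ((c : R) - 1) := by rw [← mul_assoc, Units.inv_mul, one_mul]

/-- Value of a conjugate minus one. -/
theorem h3_conj_val (g a : Rˣ) :
    ((g * a * g⁻¹ : Rˣ) : R) - 1 = (g : R) * ((a : R) - 1) * ((g⁻¹ : Rˣ) : R) := by
  rw [Units.val_mul, Units.val_mul]
  have h : (g : R) * ((g⁻¹ : Rˣ) : R) = 1 := Units.mul_inv g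
  calc (g : R) * (a : R) * ((g⁻¹ : Rˣ) : R) - 1
      = (g : R) * (a : R) * ((g⁻¹ : Rˣ) : R) - (g : R) * ((g⁻¹ : Rˣ) : R) := by rw [h]
    _ = (g : R) * ((a : R) - 1) * ((g⁻¹ : Rˣ) : R) := by noncomm_ring

/-- A conjugate of a quadratic subgroup is quadratic. -/
theorem h3_quad_conj (A : Subgroup Rˣ) (hA : Quad A) (g : Rˣ) :
    Quad (A.map (MulAut.conj g).toMonoidHom) := by
  rintro _ ⟨a, ha, rfl⟩ _ ⟨a', ha', rfl⟩
  show (((g * a * g⁻¹ : Rˣ) : R) - 1) * (((g * a' * g⁻¹ : Rˣ) : R) - 1) = 0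
  rw [h3_conj_val, h3_conj_val]
  have h : ((g⁻¹ : Rˣ) : R) * (g : R) = 1 := Units.inv_mul g
  calc (g : R) * ((a : R) - 1) * ((g⁻¹ : Rˣ) : R) * ((g : R) * ((a' : R) - 1) * ((g⁻¹ : Rˣ) : R))
      = (g : R) * (((a : R) - 1) * (((g⁻¹ : Rˣ) : R) * (g : R)) * ((a' : R) - 1))
          * ((g⁻¹ : Rˣ) : R) := by simp only [mul_assoc]
    _ = 0 := by rw [h, mul_one, hA a ha a' ha', mul_zero, zero_mul]

/-- Two quadratic subgroups normalizing each other: the conclusions of L6a for `B - 1`, `C - 1`. -/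
theorem h3_pair (B C : Subgroup Rˣ) (hB : Quad B) (hC : Quad C)
    (h1 : ∀ b ∈ B, ∀ c ∈ C, c⁻¹ * b * c ∈ B) (h2 : ∀ b ∈ B, ∀ c ∈ C, b⁻¹ * c * b ∈ C) :
    ∀ p ∈ addSub B hB, ∀ q ∈ addSub C hC,
      p * q - q * p ∈ addSub B hB ∧ p * q - q * p ∈ addSub C hC ∧ p * q * p = 0 ∧
        q * p * q = 0 := by
  apply Cfsg.Agent.Lib.helper25.QO.comm_of_normalizes (addSub B hB) (addSub C hC)
  · rintro _ ⟨b, hb, rfl⟩ _ ⟨b', hb', rfl⟩
    exact hB b hb b' hb'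
  · rintro _ ⟨c, hc, rfl⟩ _ ⟨c', hc', rfl⟩
    exact hC c hc c' hc'
  · rintro _ ⟨b, hb, rfl⟩ _ ⟨c, hc, rfl⟩
    refine ⟨c⁻¹ * b * c, h1 b hb c hc, ?_⟩
    rw [Units.val_mul, Units.val_mul, h3_inv_val c (hC c hc c hc)]
    noncomm_ring
  · rintro _ ⟨b, hb, rfl⟩ _ ⟨c, hc, rfl⟩
    refine ⟨b⁻¹ * c * b, h2 b hb c hc, ?_⟩
    rw [Units.val_mul, Units.val_mul, h3_inv_val b (hB b hb b hb)]
    noncomm_ring

/-- Elements of the normalizer conjugate `A` into itself (inverse form). -/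
theorem h3_norm_conj {Γ : Type*} [Group Γ] (A : Subgroup Γ) (h : Γ)
    (hh : h ∈ Subgroup.normalizer (A : Set Γ)) (a : Γ) (ha : a ∈ A) : h⁻¹ * a * h ∈ A := by
  refine ((Subgroup.mem_normalizer_iff.1 hh) (h⁻¹ * a * h)).2 ?_
  have e : h * (h⁻¹ * a * h) * h⁻¹ = a := by group
  rw [e]; exact ha

/-- PIECE L6c -/
theorem lim_units_mem (H A : Subgroup Rˣ) (hA : Quad A) (hAH : A ≤ H) (x : Rˣ) (hx : x ∈ H)
    (hxq : ((x : R) - 1) * ((x : R) - 1) = 0) (k : ℕ) (hk : ((2 * k : ℕ) : R) = 1)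
    (hN : ∀ s : ℤ, ∀ b ∈ A, x ^ s * b * x ^ (-s) ∈ Subgroup.normalizer (A : Set Rˣ)) :
    ∀ l ∈ lim (addSub A hA) ((x : R) - 1), ∃ u ∈ H, (u : R) = 1 + l := by
  have hxinv0 : ((x⁻¹ : Rˣ) : R) = 1 - ((x : R) - 1) := h3_inv_val x hxq
  have hξ : ((x : R) - 1) * ((x : R) - 1) = 0 := hxq
  generalize hξdef : (x : R) - 1 = ξ at hξ hxinv0
  have hxξ : (x : R) = 1 + ξ := by rw [← hξdef]; abel
  have hxinv : ((x⁻¹ : Rˣ) : R) = 1 - ξ := hxinv0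
  -- the four normalizing conjugates
  have hN1 : ∀ b ∈ A, x * b * x⁻¹ ∈ Subgroup.normalizer (A : Set Rˣ) := by
    intro b hb
    have := hN 1 b hb
    simpa using this
  have hNm1 : ∀ b ∈ A, x⁻¹ * b * x ∈ Subgroup.normalizer (A : Set Rˣ) := by
    intro b hb
    have := hN (-1) b hb
    simpa using this
  have hN2 : ∀ b ∈ A, (x * x) * b * (x * x)⁻¹ ∈ Subgroup.normalizer (A : Set Rˣ) := by
    intro b hb
    have h := hN 2 b hb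
    have e : x ^ (2 : ℤ) * b * x ^ (-(2 : ℤ)) = (x * x) * b * (x * x)⁻¹ := by
      rw [zpow_neg, zpow_two]
    rwa [e] at h
  have hNm2 : ∀ b ∈ A, (x * x)⁻¹ * b * (x * x) ∈ Subgroup.normalizer (A : Set Rˣ) := by
    intro b hb
    have h := hN (-2) b hb
    have e : x ^ (-2 : ℤ) * b * x ^ (-(-2 : ℤ)) = (x * x)⁻¹ * b * (x * x) := by
      rw [neg_neg, zpow_neg, zpow_two]
    rwa [e] at h
  -- the conjugate subgroups
  have hQ₁ : Quad (A.map (MulAut.conj x⁻¹).toMonoidHom) := h3_quad_conj A hA x⁻¹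
  have hQ₂ : Quad (A.map (MulAut.conj x).toMonoidHom) := h3_quad_conj A hA x
  generalize hA₁def : A.map (MulAut.conj x⁻¹).toMonoidHom = A₁ at hQ₁
  generalize hA₂def : A.map (MulAut.conj x).toMonoidHom = A₂ at hQ₂
  have mem₁ : ∀ y, y ∈ A₁ ↔ ∃ a ∈ A, x⁻¹ * a * x = y := by
    intro y
    rw [← hA₁def]
    constructor
    · rintro ⟨a, ha, rfl⟩
      exact ⟨a, ha, by simp⟩
    · rintro ⟨a, ha, rfl⟩
      exact ⟨a, ha, by simp⟩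
  have mem₂ : ∀ y, y ∈ A₂ ↔ ∃ a ∈ A, x * a * x⁻¹ = y := by
    intro y
    rw [← hA₂def]
    constructor
    · rintro ⟨a, ha, rfl⟩
      exact ⟨a, ha, by simp⟩
    · rintro ⟨a, ha, rfl⟩
      exact ⟨a, ha, by simp⟩
  have hA₁H : A₁ ≤ H := by
    intro y hy
    obtain ⟨a, ha, rfl⟩ := (mem₁ y).1 hy
    exact H.mul_mem (H.mul_mem (H.inv_mem hx) (hAH ha)) hx
  have hA₂H : A₂ ≤ H := by
    intro y hy
    obtain ⟨a, ha, rfl⟩ := (mem₂ y).1 hy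
    exact H.mul_mem (H.mul_mem hx (hAH ha)) (H.inv_mem hx)
  -- the three pairs
  have hPQ := h3_pair A A₁ hA hQ₁
    (by
      intro a ha c hc
      obtain ⟨b, hb, rfl⟩ := (mem₁ c).1 hc
      exact h3_norm_conj A _ (hNm1 b hb) a ha)
    (by
      intro a ha c hc
      obtain ⟨b, hb, rfl⟩ := (mem₁ c).1 hc
      refine (mem₁ _).2 ⟨(x * a * x⁻¹)⁻¹ * b * (x * a * x⁻¹),
        h3_norm_conj A _ (hN1 a ha) b hb, by group⟩)
  have hPT := h3_pair A A₂ hA hQ₂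
    (by
      intro a ha c hc
      obtain ⟨b, hb, rfl⟩ := (mem₂ c).1 hc
      exact h3_norm_conj A _ (hN1 b hb) a ha)
    (by
      intro a ha c hc
      obtain ⟨b, hb, rfl⟩ := (mem₂ c).1 hc
      refine (mem₂ _).2 ⟨(x⁻¹ * a * x)⁻¹ * b * (x⁻¹ * a * x),
        h3_norm_conj A _ (hNm1 a ha) b hb, by group⟩)
  have hQT := h3_pair A₁ A₂ hQ₁ hQ₂
    (by
      intro b₁ hb₁ c hc
      obtain ⟨a, ha, rfl⟩ := (mem₁ b₁).1 hb₁
      obtain ⟨b, hb, rfl⟩ := (mem₂ c).1 hc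
      refine (mem₁ _).2 ⟨((x * x) * b * (x * x)⁻¹)⁻¹ * a * ((x * x) * b * (x * x)⁻¹),
        h3_norm_conj A _ (hN2 b hb) a ha, by simp [mul_assoc]⟩)
    (by
      intro b₁ hb₁ c hc
      obtain ⟨a, ha, rfl⟩ := (mem₁ b₁).1 hb₁
      obtain ⟨b, hb, rfl⟩ := (mem₂ c).1 hc
      refine (mem₂ _).2 ⟨((x * x)⁻¹ * a * (x * x))⁻¹ * b * ((x * x)⁻¹ * a * (x * x)),
        h3_norm_conj A _ (hNm2 a ha) b hb, by simp [mul_assoc]⟩)
  have hP : ∀ w ∈ addSub A hA, ∀ w' ∈ addSub A hA, w * w' = 0 := by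
    rintro _ ⟨a, ha, rfl⟩ _ ⟨a', ha', rfl⟩
    exact hA a ha a' ha'
  have hQ : ∀ w ∈ addSub A₁ hQ₁, ∀ w' ∈ addSub A₁ hQ₁, w * w' = 0 := by
    rintro _ ⟨a, ha, rfl⟩ _ ⟨a', ha', rfl⟩
    exact hQ₁ a ha a' ha'
  have hT : ∀ w ∈ addSub A₂ hQ₂, ∀ w' ∈ addSub A₂ hQ₂, w * w' = 0 := by
    rintro _ ⟨a, ha, rfl⟩ _ ⟨a', ha', rfl⟩
    exact hQ₂ a ha a' ha'
  have hkk : ∀ y : R, k • y + k • y = y := by
    intro y
    rw [← add_nsmul, ← two_mul, nsmul_eq_mul, hk, one_mul]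
  intro l hl
  obtain ⟨a, ha, b, hb, c, hc, -, -, hlab⟩ := mem_lim.1 hl
  -- the three summands
  have hp : a - c ∈ addSub A hA := (addSub A hA).sub_mem ha hc
  have hq : (1 - ξ) * (k • (b + c)) * (1 + ξ) ∈ addSub A₁ hQ₁ := by
    obtain ⟨a₀, ha₀, he₀⟩ := (addSub A hA).nsmul_mem ((addSub A hA).add_mem hb hc) k
    refine ⟨x⁻¹ * a₀ * x, (mem₁ _).2 ⟨a₀, ha₀, rfl⟩, ?_⟩
    rw [Units.val_mul, Units.val_mul, hxinv, hxξ, ← he₀]
    have e : (1 - ξ) * ((a₀ : R) - 1) * (1 + ξ) = (1 - ξ) * (a₀ : R) * (1 + ξ) - 1 + ξ * ξ := by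
      noncomm_ring
    rw [e, hξ, add_zero]
  have hr : (1 + ξ) * (k • (c - b)) * (1 - ξ) ∈ addSub A₂ hQ₂ := by
    obtain ⟨a₀, ha₀, he₀⟩ := (addSub A hA).nsmul_mem ((addSub A hA).sub_mem hc hb) k
    refine ⟨x * a₀ * x⁻¹, (mem₂ _).2 ⟨a₀, ha₀, rfl⟩, ?_⟩
    rw [Units.val_mul, Units.val_mul, hxinv, hxξ, ← he₀]
    have e : (1 + ξ) * ((a₀ : R) - 1) * (1 - ξ) = (1 + ξ) * (a₀ : R) * (1 - ξ) - 1 + ξ * ξ := by
      noncomm_ring
    rw [e, hξ, add_zero]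
  have hsum : (a - c) + (1 - ξ) * (k • (b + c)) * (1 + ξ) + (1 + ξ) * (k • (c - b)) * (1 - ξ)
      = l := by
    have eY : (1 - ξ) * (b + c) * (1 + ξ) + (1 + ξ) * (c - b) * (1 - ξ)
        = (c + b * ξ - ξ * b - ξ * c * ξ) + (c + b * ξ - ξ * b - ξ * c * ξ) := by noncomm_ring
    have e1 : (1 - ξ) * (k • (b + c)) * (1 + ξ) + (1 + ξ) * (k • (c - b)) * (1 - ξ)
        = c + b * ξ - ξ * b - ξ * c * ξ := by
      rw [mul_smul_comm, smul_mul_assoc, mul_smul_comm, smul_mul_assoc, ← smul_add, eY, smul_add,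
        hkk]
    rw [add_assoc, e1, hlab]
    abel
  have hl0 : ((a - c) + (1 - ξ) * (k • (b + c)) * (1 + ξ) + (1 + ξ) * (k • (c - b)) * (1 - ξ))
      * ((a - c) + (1 - ξ) * (k • (b + c)) * (1 + ξ) + (1 + ξ) * (k • (c - b)) * (1 - ξ)) = 0 := by
    rw [hsum]
    exact Cfsg.Agent.Lib.helper78.QO.lim_mul (addSub A hA) ξ hξ hP l hl l hl
  generalize (a - c) = p at hp hsum hl0
  generalize (1 - ξ) * (k • (b + c)) * (1 + ξ) = q at hq hsum hl0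
  generalize (1 + ξ) * (k • (c - b)) * (1 - ξ) = r at hr hsum hl0
  have key := Cfsg.Agent.Lib.helper25.QO.triple_identity (addSub A hA) (addSub A₁ hQ₁)
    (addSub A₂ hQ₂) hP hQ hT hPQ hPT hQT k hk p q r hp hq hr hl0
  obtain ⟨g1P, g1Q, -, -⟩ := hPQ p hp q hq
  obtain ⟨g2P, g2T, -, -⟩ := hPT p hp r hr
  obtain ⟨g3Q, g3T, -, -⟩ := hQT q hq r hr
  obtain ⟨v₁, hv₁, hv₁v⟩ := (addSub A hA).add_mem ((addSub A hA).nsmul_mem g1P k)
    ((addSub A hA).nsmul_mem g2P k)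
  obtain ⟨v₂, hv₂, hv₂v⟩ := (addSub A₁ hQ₁).nsmul_mem g3Q k
  have hzero : (k • (p * q - q * p) + k • (p * r - r * p)) * (k • (q * r - r * q)) = 0 := by
    rw [add_mul, hQ _ ((addSub A₁ hQ₁).nsmul_mem g1Q k) _ ((addSub A₁ hQ₁).nsmul_mem g3Q k),
      hT _ ((addSub A₂ hQ₂).nsmul_mem g2T k) _ ((addSub A₂ hQ₂).nsmul_mem g3T k), add_zero]
  have hv : ((v₁ * v₂ : Rˣ) : R)
      = 1 + k • ((p * q - q * p) + (p * r - r * p) + (q * r - r * q)) := by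
    have e1 : (v₁ : R) = 1 + (k • (p * q - q * p) + k • (p * r - r * p)) := by
      rw [← hv₁v]; abel
    have e2 : (v₂ : R) = 1 + k • (q * r - r * q) := by
      rw [← hv₂v]; abel
    have e3 : ∀ g₁ g₂ : R, (1 + g₁) * (1 + g₂) = 1 + g₁ + g₂ + g₁ * g₂ := by
      intro g₁ g₂
      noncomm_ring
    rw [Units.val_mul, e1, e2, e3, hzero, add_zero, smul_add, smul_add, add_assoc]
  obtain ⟨up, hup, hupv⟩ := hp
  obtain ⟨uq, huq, huqv⟩ := hq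
  obtain ⟨ur, hur, hurv⟩ := hr
  refine ⟨up * uq * ur * (v₁ * v₂)⁻¹, ?_, ?_⟩
  · exact H.mul_mem (H.mul_mem (H.mul_mem (hAH hup) (hA₁H huq)) (hA₂H hur))
      (H.inv_mem (H.mul_mem (hAH hv₁) (hA₁H hv₂)))
  · have e1 : ((up * uq * ur : Rˣ) : R) = (1 + l) * ((v₁ * v₂ : Rˣ) : R) := by
      rw [hv, ← hsum, ← key, Units.val_mul, Units.val_mul, ← hupv, ← huqv, ← hurv]
      noncomm_ring
    rw [Units.val_mul, e1, mul_assoc, Units.mul_inv, mul_one]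

end Cfsg.Agent.Lib.helper3.QO
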