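import Cfsg.Agent.Lib.helper74.QODefs
import Cfsg.Agent.Lib.helper78.QO_L1
import Cfsg.Agent.Lib.helper75.QO_L2
import Cfsg.Agent.Lib.helper56.QO_L5a
import Cfsg.Agent.Lib.helper75.QO_L5b
import Cfsg.Agent.Lib.helper3.QO_L6c
import Cfsg.Agent.Lib.helper6.QO_L7

set_option autoImplicit false

/-!
# S1935, piece REP (`replacement`), helper3's parallel copy

Glue of the pieces L1, L2, L5a, L5b, L6c, L7: from a quadratic subgroup `A` and a quadratic
element `x ∉ N(A)` all of whose conjugates `x^s b x^(-s)` normalize `A`, the limit group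
`A' = 1 + lim (A - 1) (x - 1)` is a quadratic subgroup of the same order, with at least as many
fixed points and strictly larger potential.
-/

namespace Cfsg.Agent.Lib.helper3.QO

open Cfsg.Agent.Lib.helper74.QO

section ring

variable {R : Type*} [Ring R]

/-- Counting the units `a ∈ A` with `a - 1 ∈ F` through the additive subgroup `W = A - 1`. -/
theorem h3_card_units_inf (A : Subgroup Rˣ) (W : AddSubgroup R)
    (hAW : ∀ a ∈ A, (a : R) - 1 ∈ W) (hWA : ∀ w ∈ W, ∃ a ∈ A, (a : R) - 1 = w)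
    (F : AddSubgroup R) :
    Nat.card {a : Rˣ // a ∈ A ∧ (a : R) - 1 ∈ F} = Nat.card ↥(W ⊓ F) := by
  refine Nat.card_congr (Equiv.ofBijective
    (fun a => (⟨(a.1 : R) - 1, ⟨hAW _ a.2.1, a.2.2⟩⟩ : ↥(W ⊓ F))) ⟨?_, ?_⟩)
  · intro a b hab
    have h : (a.1 : R) - 1 = (b.1 : R) - 1 := congrArg Subtype.val hab
    exact Subtype.ext (Units.ext (sub_left_injective h))
  · rintro ⟨w, hw1, hw2⟩
    obtain ⟨a, ha, rfl⟩ := hWA w hw1
    exact ⟨⟨a, ha, hw2⟩, rfl⟩

/-- `|A| = |A - 1|`. -/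
theorem h3_card_units (A : Subgroup Rˣ) (W : AddSubgroup R)
    (hAW : ∀ a ∈ A, (a : R) - 1 ∈ W) (hWA : ∀ w ∈ W, ∃ a ∈ A, (a : R) - 1 = w) :
    Nat.card A = Nat.card W := by
  refine Nat.card_congr (Equiv.ofBijective
    (fun a => (⟨(a.1 : R) - 1, hAW _ a.2⟩ : ↥W)) ⟨?_, ?_⟩)
  · intro a b hab
    have h : (a.1 : R) - 1 = (b.1 : R) - 1 := congrArg Subtype.val hab
    exact Subtype.ext (Units.ext (sub_left_injective h))
  · rintro ⟨w, hw⟩
    obtain ⟨a, ha, rfl⟩ := hWA w hw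
    exact ⟨⟨a, ha⟩, rfl⟩

/-- A finite subgroup mapped into itself by conjugation with `x⁻¹` is normalized by `x`. -/
theorem h3_mem_normalizer_of_conj {Γ : Type*} [Group Γ] (A : Subgroup Γ) [Finite A] (x : Γ)
    (h : ∀ a ∈ A, x⁻¹ * a * x ∈ A) : x ∈ Subgroup.normalizer (A : Set Γ) := by
  have hinj : Function.Injective (fun a : A => (⟨x⁻¹ * a.1 * x, h a.1 a.2⟩ : A)) := by
    intro a b hab
    have h1 : x⁻¹ * a.1 * x = x⁻¹ * b.1 * x := congrArg Subtype.val hab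
    exact Subtype.ext (mul_left_cancel (mul_right_cancel h1))
  have hsurj := Finite.injective_iff_surjective.1 hinj
  rw [Subgroup.mem_normalizer_iff]
  intro g
  constructor
  · intro hg
    obtain ⟨a, ha⟩ := hsurj ⟨g, hg⟩
    have h1 : x⁻¹ * a.1 * x = g := congrArg Subtype.val ha
    have h2 : x * g * x⁻¹ = a.1 := by rw [← h1]; group
    rw [h2]; exact a.2
  · intro hg
    have := h _ hg
    have h2 : x⁻¹ * (x * g * x⁻¹) * x = g := by group
    rwa [h2] at this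

end ring

/-- PIECE REP -/
theorem replacement {V : Type*} [AddCommGroup V] [Finite V] (p : ℕ) [Fact p.Prime]
    (hp2 : p ≠ 2) (hV : ∀ v : V, p • v = 0) (𝔾 : Subgroup (AddMonoid.End V)ˣ)
    (E : ℕ → AddSubgroup (AddMonoid.End V)) (n : ℕ) (hn : E n = ⊥)
    (hmono : ∀ i, E (i + 1) ≤ E i)
    (hE1 : ∀ g ∈ 𝔾, ((g : (AddMonoid.End V)ˣ) : AddMonoid.End V) - 1 ∈ E 1)
    (hEm : ∀ i, ∀ e ∈ E i, ∀ g ∈ 𝔾,
        (((g : (AddMonoid.End V)ˣ) : AddMonoid.End V) - 1) * e ∈ E (i + 1) ∧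
        e * (((g : (AddMonoid.End V)ˣ) : AddMonoid.End V) - 1) ∈ E (i + 1))
    (A : Subgroup (AddMonoid.End V)ˣ) (hA𝔾 : A ≤ 𝔾) (hA : Quad A)
    (x : (AddMonoid.End V)ˣ) (hx : x ∈ 𝔾)
    (hxq : ((x : AddMonoid.End V) - 1) * ((x : AddMonoid.End V) - 1) = 0)
    (hN : ∀ s : ℤ, ∀ b ∈ A,
      x ^ s * b * x ^ (-s) ∈ Subgroup.normalizer (A : Set (AddMonoid.End V)ˣ))
    (hx' : x ∉ Subgroup.normalizer (A : Set (AddMonoid.End V)ˣ)) :
    ∃ A' : Subgroup (AddMonoid.End V)ˣ, A' ≤ 𝔾 ∧ Quad A' ∧ Nat.card A' = Nat.card A ∧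
      Nat.card (Cfsg.Agent.Lib.helper74.QO.Fix A) ≤
        Nat.card (Cfsg.Agent.Lib.helper74.QO.Fix A') ∧ pot E n A < pot E n A' := by
  classical
  have hξ : ((x : AddMonoid.End V) - 1) * ((x : AddMonoid.End V) - 1) = 0 := hxq
  generalize hξdef : (x : AddMonoid.End V) - 1 = ξ at hξ
  have hxξ : (x : AddMonoid.End V) = 1 + ξ := by rw [← hξdef]; abel
  have hW : ∀ w ∈ addSub A hA, ∀ w' ∈ addSub A hA, w * w' = 0 := by
    rintro _ ⟨a, ha, rfl⟩ _ ⟨a', ha', rfl⟩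
    exact hA a ha a' ha'
  have hL := Cfsg.Agent.Lib.helper78.QO.lim_mul (addSub A hA) ξ hξ hW
  have hp0 : ((p : ℕ) : AddMonoid.End V) = 0 := by
    ext v
    rw [AddMonoid.End.natCast_apply]
    exact hV v
  obtain ⟨k, hk2⟩ : ∃ k, 2 * k = p + 1 := by
    obtain ⟨m, hm⟩ := (Fact.out : p.Prime).odd_of_ne_two hp2
    exact ⟨m + 1, by omega⟩
  have hk : ((2 * k : ℕ) : AddMonoid.End V) = 1 := by
    rw [hk2, Nat.cast_add, hp0, zero_add, Nat.cast_one]
  have hmem : ∀ l ∈ lim (addSub A hA) ξ, ∃ u ∈ 𝔾, (u : AddMonoid.End V) = 1 + l := by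
    have := lim_units_mem 𝔾 A hA hA𝔾 x hx hxq k hk hN
    rwa [hξdef] at this
  have hAW : ∀ a ∈ A, (a : AddMonoid.End V) - 1 ∈ addSub A hA := fun a ha => ⟨a, ha, rfl⟩
  have hWA : ∀ w ∈ addSub A hA, ∃ a ∈ A, (a : AddMonoid.End V) - 1 = w := fun w hw => hw
  have hA'L : ∀ a ∈ unitsOf (lim (addSub A hA) ξ) hL,
      (a : AddMonoid.End V) - 1 ∈ lim (addSub A hA) ξ := fun a ha => ha
  have hLA' : ∀ l ∈ lim (addSub A hA) ξ, ∃ a ∈ unitsOf (lim (addSub A hA) ξ) hL,
      (a : AddMonoid.End V) - 1 = l := by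
    intro l hl
    obtain ⟨u, -, hu⟩ := hmem l hl
    have hu' : (u : AddMonoid.End V) - 1 = l := by rw [hu]; abel
    exact ⟨u, by rw [mem_unitsOf, hu']; exact hl, hu'⟩
  refine ⟨unitsOf (lim (addSub A hA) ξ) hL, ?_, ?_, ?_, ?_, ?_⟩
  · intro u hu
    obtain ⟨u', hu', he⟩ := hmem _ (mem_unitsOf.1 hu)
    have : u' = u := Units.ext (by rw [he]; abel)
    exact this ▸ hu'
  · intro u hu u' hu'
    exact hL _ hu _ hu'
  · rw [h3_card_units _ _ hA'L hLA', h3_card_units A _ hAW hWA]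
    exact Cfsg.Agent.Lib.helper75.QO.lim_card _ ξ hξ
  · have h1 : Cfsg.Agent.Lib.helper74.QO.Fix A = {v : V | ∀ w ∈ addSub A hA, w v = 0} := by
      ext v
      constructor
      · rintro hv _ ⟨a, ha, rfl⟩
        have := hv a ha
        show (a : AddMonoid.End V) v - v = 0
        rw [this, sub_self]
      · intro hv a ha
        have h3 : (a : AddMonoid.End V) v - v = 0 := hv _ (hAW a ha)
        exact sub_eq_zero.1 h3
    have h2 : Cfsg.Agent.Lib.helper74.QO.Fix (unitsOf (lim (addSub A hA) ξ) hL)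
        = {v : V | ∀ l ∈ lim (addSub A hA) ξ, l v = 0} := by
      ext v
      constructor
      · intro hv l hl
        obtain ⟨a, ha, rfl⟩ := hLA' l hl
        have := hv a ha
        show (a : AddMonoid.End V) v - v = 0
        rw [this, sub_self]
      · intro hv a ha
        have h3 : (a : AddMonoid.End V) v - v = 0 := hv _ (hA'L a ha)
        exact sub_eq_zero.1 h3
    rw [h1, h2]
    exact Cfsg.Agent.Lib.helper6.QO.lim_fix (addSub A hA) ξ hξ
  · have hE' : ∀ i, ∀ e ∈ E i, ξ * e ∈ E (i + 1) ∧ e * ξ ∈ E (i + 1) := by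
      intro i e he
      have := hEm i e he x hx
      rwa [hξdef] at this
    have hterm : ∀ i,
        Nat.card {a : (AddMonoid.End V)ˣ // a ∈ A ∧ (a : AddMonoid.End V) - 1 ∈ E i}
        ≤ Nat.card {a : (AddMonoid.End V)ˣ // a ∈ unitsOf (lim (addSub A hA) ξ) hL ∧
            (a : AddMonoid.End V) - 1 ∈ E i} := by
      intro i
      rw [h3_card_units_inf A _ hAW hWA (E i), h3_card_units_inf _ _ hA'L hLA' (E i)]
      exact Cfsg.Agent.Lib.helper56.QO.lim_inf_card _ ξ (E i)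
        (fun e he => ⟨hmono i (hE' i e he).1, hmono i (hE' i e he).2⟩)
        (Cfsg.Agent.Lib.helper75.QO.lim_card _ ξ hξ)
    unfold pot
    by_contra hnot
    have hall : ∀ i ∈ Finset.range n,
        Nat.card {a : (AddMonoid.End V)ˣ // a ∈ unitsOf (lim (addSub A hA) ξ) hL ∧
            (a : AddMonoid.End V) - 1 ∈ E i}
        ≤ Nat.card {a : (AddMonoid.End V)ˣ // a ∈ A ∧ (a : AddMonoid.End V) - 1 ∈ E i} := by
      by_contra hcon
      push Not at hcon
      obtain ⟨i, hi, hlt⟩ := hcon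
      exact hnot (Finset.sum_lt_sum (fun j _ => hterm j) ⟨i, hi, hlt⟩)
    have hEbot : ∀ i, n ≤ i → E i = ⊥ := by
      intro i hi
      induction hi with
      | refl => exact hn
      | step _ ih => exact le_bot_iff.1 (ih ▸ hmono _)
    have hcard : ∀ i, Nat.card ↥(lim (addSub A hA) ξ ⊓ E i) ≤ Nat.card ↥(addSub A hA ⊓ E i) := by
      intro i
      by_cases hi : i < n
      · have := hall i (Finset.mem_range.2 hi)
        rwa [h3_card_units_inf A _ hAW hWA (E i), h3_card_units_inf _ _ hA'L hLA' (E i)] at this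
      · rw [hEbot i (not_lt.1 hi), inf_bot_eq, inf_bot_eq]
    have h0 : addSub A hA ≤ E 0 := by
      rintro _ ⟨a, ha, rfl⟩
      exact hmono 0 (hE1 a (hA𝔾 ha))
    have hconj := Cfsg.Agent.Lib.helper75.QO.lim_strict (addSub A hA) ξ E n hn hmono h0 hE' (Cfsg.Agent.Lib.helper75.QO.lim_card _ ξ hξ) hcard
    apply hx'
    have hxinv : ((x⁻¹ : (AddMonoid.End V)ˣ) : AddMonoid.End V) = 1 - ξ := by
      have h1 : (x : AddMonoid.End V) * (1 - ξ) = 1 := by
        rw [hxξ]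
        have : (1 + ξ) * (1 - ξ) = 1 - ξ * ξ := by noncomm_ring
        rw [this, hξ, sub_zero]
      calc ((x⁻¹ : (AddMonoid.End V)ˣ) : AddMonoid.End V)
          = ((x⁻¹ : (AddMonoid.End V)ˣ) : AddMonoid.End V) * ((x : AddMonoid.End V) * (1 - ξ)) := by
            rw [h1, mul_one]
        _ = 1 - ξ := by rw [← mul_assoc, Units.inv_mul, one_mul]
    apply h3_mem_normalizer_of_conj A x
    intro a ha
    obtain ⟨a', ha', he⟩ := hconj _ (hAW a ha)
    have : x⁻¹ * a * x = a' := by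
      apply Units.ext
      rw [Units.val_mul, Units.val_mul, hxinv, hxξ]
      have e1 : (1 - ξ) * (a : AddMonoid.End V) * (1 + ξ)
          = (1 - ξ * ξ) + (1 - ξ) * ((a : AddMonoid.End V) - 1) * (1 + ξ) := by noncomm_ring
      rw [e1, ← he, hξ]
      abel
    rw [this]
    exact ha'

end Cfsg.Agent.Lib.helper3.QO
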