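import Mathlib
import Cfsg.Agent.S3081
import Cfsg.Agent.Lib.helper88.GT1
import Cfsg.Agent.Lib.helper51.Involves

/-!
# `Qd(p)`-free groups: a strongly closed chain with abelian factors

For `p` odd and `G` not involving `Qd(p)`, a Sylow `p`-subgroup `P` is reached from `1` through
subgroups strongly closed in `P` with respect to `G`, each step having abelian quotient
(`scReach_of_qd_free`).  The first step is `Z(J(P))` (which controls strong fusion by S3081), and one
continues in `N_G(Z(J(P))) / Z(J(P))`.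
-/

set_option autoImplicit false

namespace Cfsg.Agent.Lib.helper3

open Cfsg Cfsg.Agent.Lib.helper88
open scoped commutatorElement

universe u

/-- Subgroups reachable from `⊥` through strongly closed subgroups with abelian steps. -/
inductive SCReach {H : Type*} [Group H] (P : Subgroup H) : Subgroup H → Prop
  | bot : SCReach P ⊥
  | step {R R' : Subgroup H} : SCReach P R → Cfsg.IsStronglyClosed R' P → ⁅R', R'⁆ ≤ R →
      SCReach P R'

theorem isStronglyClosed_bot {H : Type*} [Group H] (P : Subgroup H) :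
    Cfsg.IsStronglyClosed ⊥ P := by
  refine ⟨bot_le, fun x hx g _ => ?_⟩
  rw [Subgroup.mem_bot] at hx
  subst hx
  simp

/-- A reachable subgroup is the top of a chain of strongly closed subgroups with abelian steps. -/
theorem SCReach.exists_chain {H : Type*} [Group H] {P R : Subgroup H} (h : SCReach P R) :
    ∃ (n : ℕ) (T : Fin (n + 1) → Subgroup H), T 0 = ⊥ ∧ T (Fin.last n) = R ∧
      (∀ i, Cfsg.IsStronglyClosed (T i) P) ∧
      ∀ i : Fin n, ⁅T i.succ, T i.succ⁆ ≤ T (Fin.castSucc i) := by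
  induction h with
  | bot => exact ⟨0, fun _ => ⊥, rfl, rfl, fun _ => isStronglyClosed_bot P, fun i => i.elim0⟩
  | @step R R' _ hsc hcomm ih =>
    obtain ⟨n, T, hT0, hTl, hTsc, hTc⟩ := ih
    refine ⟨n + 1, Fin.snoc T R', ?_, ?_, ?_, ?_⟩
    · have : (0 : Fin (n + 2)) = Fin.castSucc (0 : Fin (n + 1)) := rfl
      rw [this, Fin.snoc_castSucc]
      exact hT0
    · exact Fin.snoc_last _ _
    · intro i
      induction i using Fin.lastCases with
      | last => rw [Fin.snoc_last]; exact hsc
      | cast j => rw [Fin.snoc_castSucc]; exact hTsc j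
    · intro i
      induction i using Fin.lastCases with
      | last =>
        rw [Fin.succ_last, Fin.snoc_last, Fin.snoc_castSucc, hTl]
        exact hcomm
      | cast j =>
        rw [← Fin.castSucc_succ, Fin.snoc_castSucc, Fin.snoc_castSucc]
        exact hTc j

/-- **Chain theorem.**  In a finite group not involving `Qd(p)` (`p` odd), a Sylow `p`-subgroup is
reachable through strongly closed subgroups with abelian steps. -/
theorem scReach_of_qd_free {p : ℕ} [Fact p.Prime] (hp : p ≠ 2) :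
    ∀ (n : ℕ) (H : Type u) [Group H] [Finite H] (P : Sylow p H), Nat.card H = n →
      ¬ Cfsg.Involves ↥(Cfsg.qd p) H → SCReach (P : Subgroup H) (P : Subgroup H) := by
  intro n
  induction n using Nat.strong_induction_on with
  | _ n ih =>
    intro H _ _ P hn hqd
    by_cases hP : (P : Subgroup H) = ⊥
    · rw [hP]; exact SCReach.bot
    set W := Cfsg.centerThompsonAOf (P : Subgroup H) with hW
    have hWP : W ≤ P := centerThompsonAOf_le _
    have hWne : W ≠ ⊥ := centerThompsonAOf_ne_bot _ P.isPGroup' hP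
    have hctl := (Cfsg.Agent.S3081.result hp P (P : Subgroup H)
      ⟨le_rfl, fun x hx g hg => hg⟩ hqd).1
    have hWsc : Cfsg.IsStronglyClosed W (P : Subgroup H) := by
      refine ⟨hWP, fun x hx g hg => ?_⟩
      obtain ⟨-, hA⟩ := hctl {x} (Set.singleton_subset_iff.mpr (hWP hx))
      obtain ⟨m, hm, hmx⟩ := hA g (by
        rw [Set.image_singleton, Set.singleton_subset_iff]; exact hg)
      rw [hmx x rfl]
      exact (Subgroup.mem_normalizer_iff.mp hm x).mp hx
    have hWab : ⁅W, W⁆ ≤ ⊥ := by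
      rw [Subgroup.commutator_le]
      intro a ha b hb
      rw [Subgroup.mem_bot, commutatorElement_eq_one_iff_mul_comm]
      exact hb.2 a ha.1
    have hW1 : SCReach (P : Subgroup H) W := SCReach.step SCReach.bot hWsc hWab
    set M := Subgroup.normalizer (W : Set H) with hM
    have hPM : (P : Subgroup H) ≤ M :=
      Subgroup.le_normalizer.trans (normalizer_le_normalizer_centerThompsonAOf _)
    have hWM : W ≤ M := Subgroup.le_normalizer
    have hW₀n : (W.subgroupOf M).Normal := Subgroup.normal_in_normalizer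
    let π : ↥M →* ↥M ⧸ W.subgroupOf M := QuotientGroup.mk' _
    have hπker : ∀ x : ↥M, π x = 1 ↔ (x : H) ∈ W := fun x =>
      (QuotientGroup.eq_one_iff x).trans Subgroup.mem_subgroupOf
    let PM : Sylow p ↥M := P.subtype hPM
    let Pbar : Sylow p (↥M ⧸ W.subgroupOf M) := PM.mapSurjective (QuotientGroup.mk'_surjective _)
    have hPbar : ∀ y : ↥M ⧸ W.subgroupOf M, y ∈ (Pbar : Subgroup (↥M ⧸ W.subgroupOf M)) ↔
        ∃ x : ↥M, (x : H) ∈ (P : Subgroup H) ∧ π x = y := by
      intro y
      rw [Sylow.coe_mapSurjective, Sylow.coe_subtype]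
      constructor
      · rintro ⟨x, hx, rfl⟩
        exact ⟨x, hx, rfl⟩
      · rintro ⟨x, hx, rfl⟩
        exact ⟨x, hx, rfl⟩
    -- the quotient is smaller and `Qd(p)`-free
    have hcard : Nat.card (↥M ⧸ W.subgroupOf M) < n := by
      have h1 : Nat.card ↥M = Nat.card (↥M ⧸ W.subgroupOf M) * Nat.card ↥(W.subgroupOf M) :=
        Subgroup.card_eq_card_quotient_mul_card_subgroup _
      have h2 : 1 < Nat.card ↥(W.subgroupOf M) := by
        rw [Subgroup.one_lt_card_iff_ne_bot]
        intro h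
        apply hWne
        rw [eq_bot_iff]
        intro w hw
        have : (⟨w, hWM hw⟩ : ↥M) ∈ W.subgroupOf M := hw
        rw [h, Subgroup.mem_bot] at this
        rw [Subgroup.mem_bot]
        exact congrArg Subtype.val this
      have h3 : Nat.card ↥M ≤ Nat.card H := Subgroup.card_le_card_group M
      have h4 : 0 < Nat.card (↥M ⧸ W.subgroupOf M) := Nat.card_pos
      nlinarith
    have hqd' : ¬ Cfsg.Involves ↥(Cfsg.qd p) (↥M ⧸ W.subgroupOf M) := by
      intro h1
      have h2 : Cfsg.Involves (↥M ⧸ W.subgroupOf M) H := ⟨M, W, hW₀n, ⟨MulEquiv.refl _⟩⟩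
      exact hqd (Cfsg.Agent.Lib.helper51.involves_trans h1 h2)
    have hbar := ih _ hcard (↥M ⧸ W.subgroupOf M) Pbar rfl hqd'
    -- pulling back
    let pre : Subgroup (↥M ⧸ W.subgroupOf M) → Subgroup H := fun Rb => (Rb.comap π).map M.subtype
    have hpre_mem : ∀ (Rb : Subgroup (↥M ⧸ W.subgroupOf M)) (x : H),
        x ∈ pre Rb ↔ ∃ hx : x ∈ M, π ⟨x, hx⟩ ∈ Rb := by
      intro Rb x
      constructor
      · rintro ⟨y, hy, rfl⟩
        exact ⟨y.2, hy⟩
      · rintro ⟨hx, hy⟩
        exact ⟨⟨x, hx⟩, hy, rfl⟩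
    have hpre_bot : pre ⊥ = W := by
      ext x
      rw [hpre_mem]
      constructor
      · rintro ⟨hx, hy⟩
        rw [Subgroup.mem_bot] at hy
        exact (hπker _).mp hy
      · intro hx
        exact ⟨hWM hx, by rw [Subgroup.mem_bot]; exact (hπker _).mpr hx⟩
    have hpre_le : ∀ Rb : Subgroup (↥M ⧸ W.subgroupOf M),
        Rb ≤ (Pbar : Subgroup (↥M ⧸ W.subgroupOf M)) → pre Rb ≤ (P : Subgroup H) := by
      intro Rb hRb x hx
      obtain ⟨hxM, hy⟩ := (hpre_mem Rb x).mp hx
      obtain ⟨y, hyP, hyx⟩ := (hPbar _).mp (hRb hy)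
      have h1 : π (y⁻¹ * ⟨x, hxM⟩) = 1 := by rw [map_mul, map_inv, hyx, inv_mul_cancel]
      have h2 : ((y⁻¹ * ⟨x, hxM⟩ : ↥M) : H) ∈ W := (hπker _).mp h1
      have h3 : x = (y : H) * ((y⁻¹ * ⟨x, hxM⟩ : ↥M) : H) := by
        simp
      rw [h3]
      exact mul_mem hyP (hWP h2)
    have hlift : ∀ Rb : Subgroup (↥M ⧸ W.subgroupOf M),
        SCReach (Pbar : Subgroup (↥M ⧸ W.subgroupOf M)) Rb → SCReach (P : Subgroup H) (pre Rb) := by
      intro Rb hRb
      induction hRb with
      | bot => rw [hpre_bot]; exact hW1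
      | @step R R' _ hsc hcomm ih' =>
        refine SCReach.step ih' ⟨hpre_le R' hsc.1, ?_⟩ ?_
        · intro x hx g hg
          obtain ⟨hxM, hy⟩ := (hpre_mem R' x).mp hx
          obtain ⟨-, hA⟩ := hctl {x} (Set.singleton_subset_iff.mpr (hpre_le R' hsc.1 hx))
          obtain ⟨m, hm, hmx⟩ := hA g (by
            rw [Set.image_singleton, Set.singleton_subset_iff]; exact hg)
          rw [hmx x rfl]
          rw [hmx x rfl] at hg
          have hmxM : m * x * m⁻¹ ∈ M := mul_mem (mul_mem hm hxM) (inv_mem hm)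
          rw [hpre_mem]
          refine ⟨hmxM, ?_⟩
          have h1 : π ⟨m * x * m⁻¹, hmxM⟩ = π ⟨m, hm⟩ * π ⟨x, hxM⟩ * (π ⟨m, hm⟩)⁻¹ := by
            rw [← map_inv, ← map_mul, ← map_mul]
            rfl
          rw [h1]
          apply hsc.2 _ hy
          rw [← h1]
          exact (hPbar _).mpr ⟨⟨m * x * m⁻¹, hmxM⟩, hg, rfl⟩
        · rw [Subgroup.commutator_le]
          intro a ha b hb
          obtain ⟨haM, hay⟩ := (hpre_mem R' a).mp ha
          obtain ⟨hbM, hby⟩ := (hpre_mem R' b).mp hb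
          have habM : a * b * a⁻¹ * b⁻¹ ∈ M :=
            mul_mem (mul_mem (mul_mem haM hbM) (inv_mem haM)) (inv_mem hbM)
          rw [commutatorElement_def, hpre_mem]
          refine ⟨habM, ?_⟩
          have h1 : π ⟨a * b * a⁻¹ * b⁻¹, habM⟩ = ⁅π ⟨a, haM⟩, π ⟨b, hbM⟩⁆ := by
            rw [commutatorElement_def, ← map_inv, ← map_inv, ← map_mul, ← map_mul, ← map_mul]
            rfl
          rw [h1]
          exact hcomm (Subgroup.commutator_mem_commutator hay hby)
    have hpreP : pre (Pbar : Subgroup (↥M ⧸ W.subgroupOf M)) = (P : Subgroup H) := by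
      apply le_antisymm (hpre_le _ le_rfl)
      intro x hx
      rw [hpre_mem]
      exact ⟨hPM hx, (hPbar _).mpr ⟨⟨x, hPM hx⟩, hx, rfl⟩⟩
    have hfin := hlift _ hbar
    rw [hpreP] at hfin
    exact hfin

end Cfsg.Agent.Lib.helper3
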