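import Mathlib
import Cfsg.Agent.Lib.helper51.QdSylow
import Cfsg.Agent.Lib.helper14.ZJBridge
import Cfsg.Agent.Lib.helper14.ZJ2

/-!
# `Z(J(T))` does not control strong fusion in `Qd(p)`

In the affine group `Qd(p)` the unitriangular Sylow `p`-subgroup `S` has two abelian subgroups of
order `p²` (the translations and the matrices with `y = 0`), so `Z(J(S))` lies in the line
`{(0, x, 0)}` of the translation group, which `SL₂(p)` moves.  Hence in any group isomorphic to
`Qd(p)` some Sylow `p`-subgroup `T` has `Z(J(T))` not controlling strong fusion.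
-/

set_option autoImplicit false

namespace Cfsg.Agent.Lib.helper3

open Cfsg Cfsg.Agent.Lib.helper51 Cfsg.Agent.Lib.helper14

section Ring

variable {R : Type*} [CommRing R]

/-- Coordinates of the unitriangular group. -/
def affSEquiv (R : Type*) [CommRing R] : ↥(affS R) ≃ R × R × R where
  toFun s := (affB s.1, affX s.1, affY s.1)
  invFun t := mkAffS t.1 t.2.1 t.2.2
  left_inv s := affS_ext (affB_mkAffS _ _ _) (affX_mkAffS _ _ _) (affY_mkAffS _ _ _)
  right_inv t := by
    obtain ⟨b, x, y⟩ := t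
    simp only [affB_mkAffS, affX_mkAffS, affY_mkAffS]

/-- Two elements of the unitriangular group commute iff `b y' = b' y`. -/
theorem affS_commute_iff (s s' : ↥(affS R)) :
    s * s' = s' * s ↔ affB s.1 * affY s'.1 = affB s'.1 * affY s.1 := by
  constructor
  · intro h
    have h1 := congrArg (fun t : ↥(affS R) => affX t.1) h
    simp only [affX_mul_affS] at h1
    linear_combination h1
  · intro h
    apply affS_ext
    · rw [affB_mul_affS, affB_mul_affS]; ring
    · rw [affX_mul_affS, affX_mul_affS]; linear_combination h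
    · rw [affY_mul_affS, affY_mul_affS]; ring

/-- The subgroup `{(b, x, 0)}` of the unitriangular group. -/
def affW (R : Type*) [CommRing R] : Subgroup ↥(affSubgroup R) where
  carrier := {g | g ∈ affS R ∧ affY g = 0}
  mul_mem' := by
    rintro g h ⟨hg, hg0⟩ ⟨hh, hh0⟩
    refine ⟨mul_mem hg hh, ?_⟩
    rw [affY_mul, hg.2.1, hh0, hg0]; ring
  one_mem' := ⟨one_mem _, affY_one⟩
  inv_mem' := by
    rintro g ⟨hg, hg0⟩
    refine ⟨inv_mem hg, ?_⟩
    rw [affY_inv, hg.2.1, hg0]; ring

theorem mem_affW (g : ↥(affSubgroup R)) : g ∈ affW R ↔ g ∈ affS R ∧ affY g = 0 := Iff.rfl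

theorem affW_le_affS : affW R ≤ affS R := fun _ h => h.1

theorem affW_commute {g h : ↥(affSubgroup R)} (hg : g ∈ affW R) (hh : h ∈ affW R) :
    g * h = h * g := by
  have := (affS_commute_iff (⟨g, hg.1⟩ : ↥(affS R)) ⟨h, hh.1⟩).mpr (by
    show affB g * affY h = affB h * affY g
    rw [hg.2, hh.2]; ring)
  exact congrArg Subtype.val this

theorem affV_commute {g h : ↥(affSubgroup R)} (hg : g ∈ affV R) (hh : h ∈ affV R) :
    g * h = h * g := by
  have := (affS_commute_iff (⟨g, affV_le_affS hg⟩ : ↥(affS R)) ⟨h, affV_le_affS hh⟩).mpr (by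
    show affB g * affY h = affB h * affY g
    rw [hg.2.1, hh.2.1]; ring)
  exact congrArg Subtype.val this

/-- Coordinates of `affW`. -/
def affWEquiv (R : Type*) [CommRing R] : ↥(affW R) ≃ R × R where
  toFun g := (affB g.1, affX g.1)
  invFun t := ⟨(mkAffS t.1 t.2 0).1, (mkAffS t.1 t.2 0).2, affY_mkAffS _ _ _⟩
  left_inv g := by
    apply Subtype.ext
    have := affS_ext (s := mkAffS (affB g.1) (affX g.1) 0) (s' := ⟨g.1, g.2.1⟩)
      (affB_mkAffS _ _ _) (affX_mkAffS _ _ _) (by rw [affY_mkAffS]; exact g.2.2.symm)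
    exact congrArg (Subtype.val : ↥(affS R) → ↥(affSubgroup R)) this
  right_inv t := by
    obtain ⟨b, x⟩ := t
    simp only [affB_mkAffS, affX_mkAffS]

/-- Coordinates of the translation group. -/
def affVEquiv (R : Type*) [CommRing R] : ↥(affV R) ≃ R × R where
  toFun g := (affX g.1, affY g.1)
  invFun t := ⟨(mkAffS 0 t.1 t.2).1, (mkAffS 0 t.1 t.2).2.1, affB_mkAffS _ _ _,
    (mkAffS 0 t.1 t.2).2.2.1, (mkAffS 0 t.1 t.2).2.2.2⟩
  left_inv g := by
    apply Subtype.ext
    have := affS_ext (s := mkAffS 0 (affX g.1) (affY g.1)) (s' := ⟨g.1, affV_le_affS g.2⟩)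
      (by rw [affB_mkAffS]; exact g.2.2.1.symm) (affX_mkAffS _ _ _) (affY_mkAffS _ _ _)
    exact congrArg (Subtype.val : ↥(affS R) → ↥(affSubgroup R)) this
  right_inv t := by
    obtain ⟨x, y⟩ := t
    simp only [affX_mkAffS, affY_mkAffS]

end Ring

section Prime

variable (p : ℕ)

theorem card_affS : Nat.card ↥(affS (ZMod p)) = p ^ 3 := by
  rw [Nat.card_congr (affSEquiv (ZMod p)), Nat.card_prod, Nat.card_prod, Nat.card_zmod]
  ring

theorem card_affV : Nat.card ↥(affV (ZMod p)) = p ^ 2 := by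
  rw [Nat.card_congr (affVEquiv (ZMod p)), Nat.card_prod, Nat.card_zmod]
  ring

theorem card_affW : Nat.card ↥(affW (ZMod p)) = p ^ 2 := by
  rw [Nat.card_congr (affWEquiv (ZMod p)), Nat.card_prod, Nat.card_zmod]
  ring

variable [Fact p.Prime]

/-- Abelian subgroups of the unitriangular group of `Qd(p)` have order at most `p²`. -/
theorem card_le_of_commute_affS {B : Subgroup ↥(affSubgroup (ZMod p))} (hB : B ≤ affS (ZMod p))
    (hc : ∀ a ∈ B, ∀ b ∈ B, a * b = b * a) : Nat.card B ≤ p ^ 2 := by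
  have hdvd : Nat.card B ∣ p ^ 3 := by
    rw [← card_affS p]
    exact Subgroup.card_dvd_of_le hB
  obtain ⟨k, hk, hkc⟩ := (Nat.dvd_prime_pow (Fact.out : p.Prime)).mp hdvd
  have hk3 : k ≠ 3 := by
    rintro rfl
    have hge : Nat.card ↥(affS (ZMod p)) ≤ Nat.card B := by rw [card_affS, hkc]
    have heq : B = affS (ZMod p) := Subgroup.eq_of_le_of_card_ge hB hge
    have h1 := hc (mkAffS (1 : ZMod p) 0 0).1 (by rw [heq]; exact (mkAffS _ _ _).2)
      (mkAffS (0 : ZMod p) 0 1).1 (by rw [heq]; exact (mkAffS _ _ _).2)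
    have h2 : mkAffS (1 : ZMod p) 0 0 * mkAffS (0 : ZMod p) 0 1 =
        mkAffS (0 : ZMod p) 0 1 * mkAffS (1 : ZMod p) 0 0 := Subtype.ext h1
    rw [affS_commute_iff] at h2
    simp only [affB_mkAffS, affY_mkAffS] at h2
    simp at h2
  rw [hkc]
  exact Nat.pow_le_pow_right (Fact.out : p.Prime).pos (by omega)

theorem affV_mem_famE : affV (ZMod p) ∈ famE 0 (affS (ZMod p)) := by
  refine ⟨affV_le_affS, ⟨⟨⟨fun a b => Subtype.ext (affV_commute a.2 b.2)⟩⟩, fun a _ => pow_zero a⟩,
    fun B hB hg => ?_⟩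
  rw [card_affV]
  exact card_le_of_commute_affS p hB (fun a ha b hb => goodE_commute hg ha hb)

theorem affW_mem_famE : affW (ZMod p) ∈ famE 0 (affS (ZMod p)) := by
  refine ⟨affW_le_affS, ⟨⟨⟨fun a b => Subtype.ext (affW_commute a.2 b.2)⟩⟩, fun a _ => pow_zero a⟩,
    fun B hB hg => ?_⟩
  rw [card_affW]
  exact card_le_of_commute_affS p hB (fun a ha b hb => goodE_commute hg ha hb)

/-- `Z(J(S))` of the unitriangular group of `Qd(p)` lies in the line `{(0, x, 0)}`. -/
theorem zjE_affS_le {z : ↥(affSubgroup (ZMod p))} (hz : z ∈ zjE 0 (affS (ZMod p))) :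
    z ∈ affV (ZMod p) ∧ affY z = 0 :=
  ⟨zjE_le_of_mem (affV_mem_famE p) hz, (zjE_le_of_mem (affW_mem_famE p) hz).2⟩

/-- The rotation `[[0, -1], [1, 0]]`. -/
def affRot (R : Type*) [CommRing R] : ↥(affSubgroup R) := mkAff 0 (-1) 1 0 0 0 (by ring)

theorem affY_rot_conj {R : Type*} [CommRing R] {z : ↥(affSubgroup R)} (hz : z ∈ affV R) :
    affY (affRot R * z * (affRot R)⁻¹) = affX z := by
  rw [affY_conj_of_mem_affV _ hz]
  unfold affRot
  rw [affC_mkAff, affD_mkAff]
  ring

theorem affX_ne_zero_of_mem {R : Type*} [CommRing R] {z : ↥(affSubgroup R)} (hz : z ∈ affV R)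
    (hy : affY z = 0) (h1 : z ≠ 1) : affX z ≠ 0 := by
  intro hx
  apply h1
  apply aff_ext
  · rw [hz.1, affA_one]
  · rw [hz.2.1, affB_one]
  · rw [hx, affX_one]
  · rw [hz.2.2.1, affC_one]
  · rw [hz.2.2.2, affD_one]
  · rw [hy, affY_one]

/-- In a group isomorphic to `Qd(p)` some Sylow `p`-subgroup `T` has `Z(J(T))` (abelian version)
not controlling strong fusion. -/
theorem exists_sylow_not_controls_aff {X : Type*} [Group X] [Finite X]
    (e : X ≃* ↥(affSubgroup (ZMod p))) :
    ∃ T : Sylow p X, ¬ Cfsg.ControlsStrongFusion p (Cfsg.centerThompsonAOf (T : Subgroup X)) := by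
  classical
  set f : X →* ↥(affSubgroup (ZMod p)) := e.toMonoidHom with hf
  have hfi : Function.Injective f := e.injective
  have hfs : Function.Surjective f := e.surjective
  let T : Sylow p X := (affSylow (ZMod p) p).comapOfInjective f hfi (by
    rw [MonoidHom.range_eq_top.mpr hfs]; exact le_top)
  have hTc : (T : Subgroup X) = (affS (ZMod p)).comap f := rfl
  have hTm : (T : Subgroup X).map f = affS (ZMod p) := by
    rw [hTc]; exact Subgroup.map_comap_eq_self_of_surjective hfs _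
  refine ⟨T, ?_⟩
  rintro ⟨T', hUT', hctl⟩
  rw [centerThompsonAOf_eq_zjE] at hUT' hctl
  have hmap : (zjE 0 (T : Subgroup X)).map f = zjE 0 (affS (ZMod p)) := by
    rw [← zjE_map_of_injective hfi 0 (T : Subgroup X), hTm]
  -- a nontrivial element of `Z(J(T))`
  have hTne : (T : Subgroup X) ≠ ⊥ := by
    intro h
    have h1 : (mkAffS (1 : ZMod p) 0 0).1 ∈ (T : Subgroup X).map f := by
      rw [hTm]; exact (mkAffS _ _ _).2
    rw [h, Subgroup.map_bot, Subgroup.mem_bot] at h1
    have h2 := congrArg affB h1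
    rw [affB_mkAffS, affB_one] at h2
    exact one_ne_zero h2
  have hzne : zjE 0 (T : Subgroup X) ≠ ⊥ := zjE_zero_ne_bot T.2 hTne
  obtain ⟨⟨z, hz⟩, hz1'⟩ := (Subgroup.ne_bot_iff_exists_ne_one.mp hzne)
  have hz1 : z ≠ 1 := fun h => hz1' (Subtype.ext h)
  have hfz : f z ∈ zjE 0 (affS (ZMod p)) := by
    rw [← hmap]; exact Subgroup.mem_map_of_mem f hz
  obtain ⟨hfzV, hfzY⟩ := zjE_affS_le p hfz
  have hfz1 : f z ≠ 1 := fun h => hz1 (hfi (h.trans (map_one f).symm))
  have hX : affX (f z) ≠ 0 := affX_ne_zero_of_mem hfzV hfzY hfz1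
  -- the normal `p`-subgroup `V` of `X`
  have hVn : ((affV (ZMod p)).comap f).Normal := Subgroup.Normal.comap inferInstance f
  have hVp : IsPGroup p ↥((affV (ZMod p)).comap f) :=
    IsPGroup.comap_of_injective ((isPGroup_affS p).to_le affV_le_affS) f hfi
  have hVT' : (affV (ZMod p)).comap f ≤ (T' : Subgroup X) := normal_pgroup_le_sylow hVn hVp T'
  obtain ⟨g, hg⟩ := hfs (affRot (ZMod p))
  have hA : ({z} : Set X) ⊆ ((T' : Subgroup X) : Set X) := by
    rintro _ rfl
    exact hUT' hz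
  obtain ⟨-, hc⟩ := hctl {z} hA
  obtain ⟨x, hx, hxz⟩ := hc g (by
    rintro _ ⟨a, rfl, rfl⟩
    apply hVT'
    show f (g * a * g⁻¹) ∈ affV (ZMod p)
    rw [map_mul, map_mul, map_inv]
    exact (inferInstance : (affV (ZMod p)).Normal).conj_mem _ hfzV _)
  have h1 := hxz z rfl
  have h2 : x * z * x⁻¹ ∈ zjE 0 (T : Subgroup X) := (Subgroup.mem_normalizer_iff.mp hx z).mp hz
  rw [← h1] at h2
  have h3 : f (g * z * g⁻¹) ∈ zjE 0 (affS (ZMod p)) := by
    rw [← hmap]; exact Subgroup.mem_map_of_mem f h2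
  have h4 := (zjE_affS_le p h3).2
  rw [map_mul, map_mul, map_inv, hg, affY_rot_conj hfzV] at h4
  exact hX h4

/-- In a group isomorphic to `Qd(p)` some Sylow `p`-subgroup `T` has `Z(J(T))` (abelian version)
not controlling strong fusion. -/
theorem exists_sylow_not_controls_qd {X : Type*} [Group X] [Finite X] (e : X ≃* ↥(Cfsg.qd p)) :
    ∃ T : Sylow p X, ¬ Cfsg.ControlsStrongFusion p (Cfsg.centerThompsonAOf (T : Subgroup X)) :=
  exists_sylow_not_controls_aff p (e.trans (MulEquiv.subgroupCongr (qd_eq p)))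

/-- If `Z(J(T))` controls strong fusion in every section of `G`, then `Qd(p)` is not involved in
`G` (any prime `p`). -/
theorem not_involves_qd_of_controls {G : Type*} [Group G] [Finite G]
    (h : ∀ (K R : Subgroup G) [hR : (R.subgroupOf K).Normal],
      ∀ T : Sylow p (↥K ⧸ R.subgroupOf K),
        Cfsg.ControlsStrongFusion p
          (Cfsg.centerThompsonAOf (T : Subgroup (↥K ⧸ R.subgroupOf K)))) :
    ¬ Cfsg.Involves ↥(Cfsg.qd p) G := by
  rintro ⟨K, R, hR, ⟨e⟩⟩
  obtain ⟨T, hT⟩ := exists_sylow_not_controls_qd p e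
  exact hT (h K R T)

end Prime

end Cfsg.Agent.Lib.helper3
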