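import Mathlib
import Cfsg.Prelude.Def_ConjugacyFunctors
import Cfsg.Agent.S0664
import Cfsg.Agent.Lib.helper1.GT
import Cfsg.Agent.Lib.helper14.ZJBridge
import Cfsg.Agent.Lib.helper51.Involves
import Cfsg.Agent.Lib.helper3.QdFusion

/-!
# `Qd(p)`-free groups: `Z(J)` controls strong fusion in all sections

The forward direction is reduced to the section theorem for a characteristic `p`-functor
(`hsec`, the statement of S1969) applied to the functor `Z(J(-))`, with the local hypothesis
supplied by the `Qd(p)`-free `ZJ`-theorem S0664.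
-/

set_option autoImplicit false

namespace Cfsg.Agent.Lib.helper3

open Cfsg

universe u

/-- `Qd(p)`-free ⟹ `Z(J(T))` controls strong fusion in every section, given the section theorem
`hsec` for the functor `Z(J(-))`. -/
theorem zj_controls_sections_of_qd_free {G : Type u} [Group G] [Finite G] {p : ℕ} [Fact p.Prime]
    (hp : p ≠ 2)
    (hsec : (∀ (K R : Subgroup G) [hR : (R.subgroupOf K).Normal],
        Subgroup.centralizer ((Cfsg.pCore p (↥K ⧸ R.subgroupOf K) :
          Subgroup (↥K ⧸ R.subgroupOf K)) : Set (↥K ⧸ R.subgroupOf K)) ≤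
          Cfsg.pCore p (↥K ⧸ R.subgroupOf K) →
        ∀ T : Sylow p (↥K ⧸ R.subgroupOf K),
          (Cfsg.inducedFunctor (G := (↥K ⧸ R.subgroupOf K)) Cfsg.Agent.Lib.helper1.zjFunctor
            ((T : Subgroup (↥K ⧸ R.subgroupOf K)))).Normal) →
      ∀ (K R : Subgroup G) [hR : (R.subgroupOf K).Normal],
        ∀ T : Sylow p (↥K ⧸ R.subgroupOf K),
          Cfsg.ControlsStrongFusion p
            (Cfsg.inducedFunctor (G := (↥K ⧸ R.subgroupOf K)) Cfsg.Agent.Lib.helper1.zjFunctor
              ((T : Subgroup (↥K ⧸ R.subgroupOf K)))))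
    (hqd : ¬ Cfsg.Involves ↥(Cfsg.qd p) G) :
    ∀ (K R : Subgroup G) [hR : (R.subgroupOf K).Normal],
      ∀ T : Sylow p (↥K ⧸ R.subgroupOf K),
        Cfsg.ControlsStrongFusion p
          (Cfsg.centerThompsonAOf (T : Subgroup (↥K ⧸ R.subgroupOf K))) := by
  intro K R hR T
  have key := hsec (by
    intro K' R' hR' hc T'
    rw [Cfsg.Agent.Lib.helper1.inducedFunctor_zjFunctor,
      ← Cfsg.Agent.Lib.helper14.centerThompsonAOf_eq_zjE]
    refine Cfsg.Agent.S0664.result hp ?_ hc T'
    intro h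
    have h1 : Cfsg.Involves ↥(Cfsg.qd p) (↥K' ⧸ R'.subgroupOf K') := h
    have h2 : Cfsg.Involves (↥K' ⧸ R'.subgroupOf K') G := ⟨K', R', hR', ⟨MulEquiv.refl _⟩⟩
    exact hqd (Cfsg.Agent.Lib.helper51.involves_trans h1 h2)) K R T
  rw [Cfsg.Agent.Lib.helper1.inducedFunctor_zjFunctor,
    ← Cfsg.Agent.Lib.helper14.centerThompsonAOf_eq_zjE] at key
  exact key

end Cfsg.Agent.Lib.helper3
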