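import Mathlib
import Cfsg.Prelude.Def_GeometricClasses
import Cfsg.Agent.Lib.helper24.SfoDefs
import Cfsg.Agent.Lib.helper32.SfoOBAS

/-!
Racer copy (helper3) of the leaf NFA (`qfu_normal_family`) of the sub-split `s5977u`
(architect helper2): verbatim Skel statement under the prefixed name `h3_qfu_normal_family`.
-/

set_option autoImplicit false

namespace Cfsg.Agent.Lib.helper3

open Cfsg.Geo Matrix Cfsg.Agent.Lib.helper24

theorem h3_nfa_Q_comb {E : Type*} [Field E] {n : ℕ} {Q : (Fin n → E) → E}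
    (hQ : IsNondegenerateQuadraticForm Q) (u w : Fin n → E) (s t : E)
    (huw : QuadraticMap.polar Q u w = 0) :
    Q (s • u + t • w) = s ^ 2 * Q u + t ^ 2 * Q w := by
  have h := h32o_Q_add (Q := Q) (s • u) (t • w)
  rw [h, hQ.smul, hQ.smul, hQ.polar_bilinear.smul_left, hQ.polar_bilinear.smul_right, huw]
  ring

theorem h3_nfa_polar_comb_right {E : Type*} [Field E] {n : ℕ} {Q : (Fin n → E) → E}
    (hQ : IsNondegenerateQuadraticForm Q) (v u w : Fin n → E) (s t : E) :
    QuadraticMap.polar Q v (s • u + t • w) =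
      s * QuadraticMap.polar Q v u + t * QuadraticMap.polar Q v w := by
  rw [hQ.polar_bilinear.add_right, hQ.polar_bilinear.smul_right, hQ.polar_bilinear.smul_right]

theorem h3_nfa_polar_comb_left {E : Type*} [Field E] {n : ℕ} {Q : (Fin n → E) → E}
    (hQ : IsNondegenerateQuadraticForm Q) (v u w : Fin n → E) (s t : E) :
    QuadraticMap.polar Q (s • u + t • w) v =
      s * QuadraticMap.polar Q u v + t * QuadraticMap.polar Q w v := by
  rw [hQ.polar_bilinear.add_left, hQ.polar_bilinear.smul_left, hQ.polar_bilinear.smul_left]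

theorem h3_nfa_step {E : Type*} [Field E] [Fintype E] {n : ℕ} (h2 : (2 : E) ≠ 0)
    {Q : (Fin n → E) → E} (hQ : IsNondegenerateQuadraticForm Q) :
    ∀ (m : ℕ) (e : Fin (m + 1) → (Fin n → E)),
      (∀ i j, i ≠ j → QuadraticMap.polar Q (e i) (e j) = 0) → (∀ i, Q (e i) ≠ 0) →
      ∃ e' : Fin (m + 1) → (Fin n → E),
        (∀ i j, i ≠ j → QuadraticMap.polar Q (e' i) (e' j) = 0) ∧
        (∀ j, j ≠ Fin.last m → Q (e' j) = 1) ∧ Q (e' (Fin.last m)) ≠ 0 ∧
        ∀ v, (∀ i, QuadraticMap.polar Q (e i) v = 0) → ∀ i, QuadraticMap.polar Q (e' i) v = 0 := by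
  intro m
  induction m with
  | zero =>
    intro e ho hne
    refine ⟨e, ho, ?_, ?_, fun v hv => hv⟩
    · intro j hj
      exact absurd (Fin.ext (by have := j.isLt; simp only [Fin.val_last]; omega)) hj
    · exact hne _
  | succ m ih =>
    intro e ho hne
    obtain ⟨e'', ho'', h1'', hl'', hperp''⟩ := ih (fun i => e (Fin.castSucc i))
      (fun i j hij => ho _ _ (fun h => hij (Fin.castSucc_injective _ h))) (fun i => hne _)
    have hsym : ∀ a b : Fin n → E, QuadraticMap.polar Q a b = QuadraticMap.polar Q b a :=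
      fun a b => QuadraticMap.polar_comm Q a b
    obtain ⟨w, hw⟩ : ∃ w, w = e (Fin.last (m + 1)) := ⟨_, rfl⟩
    obtain ⟨u, hu⟩ : ∃ u, u = e'' (Fin.last m) := ⟨_, rfl⟩
    have hw0 : ∀ i, QuadraticMap.polar Q (e'' i) w = 0 := fun i =>
      hperp'' w (fun k => by rw [hw]; exact ho _ _ (Fin.castSucc_lt_last k).ne) i
    have hu0 : ∀ i, i ≠ Fin.last m → QuadraticMap.polar Q (e'' i) u = 0 := fun i hi => by
      rw [hu]; exact ho'' _ _ hi
    have huw : QuadraticMap.polar Q u w = 0 := by rw [hu]; exact hw0 _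
    have hQu : Q u ≠ 0 := by rw [hu]; exact hl''
    have hQw : Q w ≠ 0 := by rw [hw]; exact hne _
    obtain ⟨s, t, hst⟩ := h32o_bin_rep h2 (Q u) (Q w) 1 hQu hQw
    obtain ⟨u', hu'⟩ : ∃ u', u' = s • u + t • w := ⟨_, rfl⟩
    obtain ⟨c', hc'⟩ : ∃ c', c' = (Q w * t) • u + (-(Q u * s)) • w := ⟨_, rfl⟩
    have hQu' : Q u' = 1 := by
      rw [hu', h3_nfa_Q_comb hQ u w s t huw]; linear_combination hst
    have hQc' : Q c' = Q u * Q w := by
      rw [hc', h3_nfa_Q_comb hQ u w _ _ huw]; linear_combination (Q u * Q w) * hst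
    have hu'c' : QuadraticMap.polar Q u' c' = 0 := by
      rw [hu', h3_nfa_polar_comb_left hQ, hc', h3_nfa_polar_comb_right hQ,
        h3_nfa_polar_comb_right hQ, h32o_polar_self hQ u, h32o_polar_self hQ w, hsym w u, huw]
      ring
    obtain ⟨f, hf⟩ : ∃ f, f = Function.update e'' (Fin.last m) u' := ⟨_, rfl⟩
    have hf_last : f (Fin.last m) = u' := by rw [hf]; exact Function.update_self _ _ _
    have hf_ne : ∀ i, i ≠ Fin.last m → f i = e'' i := fun i hi => by
      rw [hf]; exact Function.update_of_ne hi _ _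
    have hu'e : ∀ i, i ≠ Fin.last m → QuadraticMap.polar Q u' (e'' i) = 0 := by
      intro i hi
      rw [hu', h3_nfa_polar_comb_left hQ, hsym u, hsym w, hu0 i hi, hw0 i]; ring
    have hA : ∀ i j, i ≠ j → QuadraticMap.polar Q (f i) (f j) = 0 := by
      intro i j hij
      by_cases hi : i = Fin.last m
      · have hj : j ≠ Fin.last m := fun h => hij (hi.trans h.symm)
        rw [hi, hf_last, hf_ne j hj]; exact hu'e j hj
      · by_cases hj : j = Fin.last m
        · rw [hj, hf_last, hf_ne i hi, hsym]; exact hu'e i hi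
        · rw [hf_ne i hi, hf_ne j hj]; exact ho'' i j hij
    have hB : ∀ i, QuadraticMap.polar Q (f i) c' = 0 := by
      intro i
      by_cases hi : i = Fin.last m
      · rw [hi, hf_last]; exact hu'c'
      · rw [hf_ne i hi, hc', h3_nfa_polar_comb_right hQ, hu0 i hi, hw0 i]; ring
    refine ⟨Fin.snoc (α := fun _ => Fin n → E) f c', ?_, ?_, ?_, ?_⟩
    · intro i j hij
      induction i using Fin.lastCases with
      | last =>
        induction j using Fin.lastCases with
        | last => exact absurd rfl hij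
        | cast j =>
          rw [Fin.snoc_last, Fin.snoc_castSucc, hsym]; exact hB j
      | cast i =>
        induction j using Fin.lastCases with
        | last => rw [Fin.snoc_last, Fin.snoc_castSucc]; exact hB i
        | cast j =>
          rw [Fin.snoc_castSucc, Fin.snoc_castSucc]
          exact hA i j (fun h => hij (by rw [h]))
    · intro j hj
      induction j using Fin.lastCases with
      | last => exact absurd rfl hj
      | cast j =>
        rw [Fin.snoc_castSucc]
        by_cases hjl : j = Fin.last m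
        · rw [hjl, hf_last]; exact hQu'
        · rw [hf_ne j hjl]; exact h1'' j hjl
    · rw [Fin.snoc_last, hQc']
      exact mul_ne_zero hQu hQw
    · intro v hv i
      have hv'' : ∀ i, QuadraticMap.polar Q (e'' i) v = 0 :=
        hperp'' v (fun k => hv (Fin.castSucc k))
      have hvw : QuadraticMap.polar Q w v = 0 := by rw [hw]; exact hv _
      have hvu : QuadraticMap.polar Q u v = 0 := by rw [hu]; exact hv'' _
      induction i using Fin.lastCases with
      | last =>
        rw [Fin.snoc_last, hc', h3_nfa_polar_comb_left hQ, hvu, hvw]; ring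
      | cast i =>
        rw [Fin.snoc_castSucc]
        by_cases hil : i = Fin.last m
        · rw [hil, hf_last, hu', h3_nfa_polar_comb_left hQ, hvu, hvw]; ring
        · rw [hf_ne i hil]; exact hv'' i

end Cfsg.Agent.Lib.helper3

namespace Cfsg.Agent.Lib.helper2

open Cfsg.Geo Matrix Cfsg.Agent.Lib.helper24

/-- NFA -/
theorem h3_qfu_normal_family {E : Type*} [Field E] [Fintype E] {m : ℕ} (h2 : (2 : E) ≠ 0)
    (Q : (Fin (m + 1) → E) → E) (hQ : IsNondegenerateQuadraticForm Q) :
    ∃ e : Fin (m + 1) → (Fin (m + 1) → E),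
      (∀ i j, i ≠ j → QuadraticMap.polar Q (e i) (e j) = 0) ∧
      (∀ j, j ≠ Fin.last m → Q (e j) = 1) ∧ Q (e (Fin.last m)) ≠ 0 := by
  have hW : Module.finrank E (⊤ : Submodule E (Fin (m + 1) → E)) = m + 1 := by simp
  obtain ⟨e, -, ho, hne⟩ := h32o_orth_sub h2 hQ (m + 1) ⊤ hW (fun w _ hw => by
    obtain ⟨x, hx⟩ := (hQ.nondegenerate w hw).1
    exact ⟨x, Submodule.mem_top, hx⟩)
  obtain ⟨e', h1, h2', h3, -⟩ := Cfsg.Agent.Lib.helper3.h3_nfa_step h2 hQ m e ho hne
  exact ⟨e', h1, h2', h3⟩

end Cfsg.Agent.Lib.helper2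


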