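import Mathlib
import Cfsg.Agent.Lib.helper3.Extraspecial

set_option autoImplicit false

/-!
# Recognising `SL(2,3)` by generators and relations

* `sl23_of_rel`: a finite group generated by `a, b, c` with `a ^ 4 = 1`, `a ^ 2 ≠ 1`,
  `b ^ 2 = a ^ 2`, `b a b⁻¹ = a⁻¹`, `c a c⁻¹ = b`, `c b c⁻¹ = b a`, `c ^ 3 = 1` is isomorphic
  to `SL(2,3)`.
* `sl23_section_of_rel`: elements `a, b, c` of a finite group satisfying these relations
  modulo `⟨c ^ 3⟩` give a section isomorphic to `SL(2,3)`.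
-/

namespace Cfsg.Agent.Lib.helper3

open Matrix

/-- The group `SL(2,3)`. -/
abbrev SL23 : Type := Matrix.SpecialLinearGroup (Fin 2) (ZMod 3)

/-- An element of order 4 of `SL(2,3)`. -/
def sl23A : SL23 := ⟨!![0, 1; 2, 0], by decide⟩

/-- An element of order 3 of `SL(2,3)`. -/
def sl23C : SL23 := ⟨!![1, 1; 0, 1], by decide⟩

/-- The conjugate of `sl23A` by `sl23C`. -/
def sl23B : SL23 := sl23C * sl23A * sl23C⁻¹

theorem sl23_card : Nat.card SL23 = 24 := by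
  rw [Nat.card_eq_fintype_card]
  decide +kernel

theorem sl23_rel : sl23A ^ 4 = 1 ∧ sl23B ^ 2 = sl23A ^ 2 ∧ sl23B * sl23A * sl23B⁻¹ = sl23A⁻¹ ∧
    sl23C * sl23B * sl23C⁻¹ = sl23B * sl23A ∧ sl23C ^ 3 = 1 := by decide +kernel

theorem sl23_gen : ∀ g : SL23, ∃ i : Fin 4, ∃ j : Fin 2, ∃ k : Fin 3,
    g = sl23A ^ (i : ℕ) * sl23B ^ (j : ℕ) * sl23C ^ (k : ℕ) := by decide +kernel

theorem sl23_normal : ∀ g : SL23, g ≠ 1 → ∃ h : SL23, g = sl23A ^ 2 ∨ g ^ 2 = sl23A ^ 2 ∨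
    g ^ 3 = sl23A ^ 2 ∨ (h * g * h⁻¹ * g⁻¹) ^ 2 = sl23A ^ 2 := by decide +kernel

/-- A finite group generated by `a, b, c` subject to the relations of `SL(2,3)`, in which
`a ^ 2 ≠ 1`, is isomorphic to `SL(2,3)`. -/
theorem sl23_of_rel {X : Type*} [Group X] [Finite X] (a b c : X) (ha : a ^ 4 = 1)
    (ha2 : a ^ 2 ≠ 1) (hb : b ^ 2 = a ^ 2) (hba : b * a * b⁻¹ = a⁻¹) (hca : c * a * c⁻¹ = b)
    (hcb : c * b * c⁻¹ = b * a) (hc : c ^ 3 = 1) (hgen : Subgroup.closure {a, b, c} = ⊤) :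
    Nonempty (X ≃* SL23) := by
  obtain ⟨hA, hB, hBA, hCB, hC⟩ := sl23_rel
  have hCA : sl23C * sl23A * sl23C⁻¹ = sl23B := rfl
  let x : X × SL23 := (a, sl23A)
  let y : X × SL23 := (b, sl23B)
  let z : X × SL23 := (c, sl23C)
  have hx4 : x ^ 4 = 1 := Prod.ext ha hA
  have hy2 : y ^ 2 = x ^ 2 := Prod.ext hb hB
  have hyx : y * x * y⁻¹ = x⁻¹ := Prod.ext hba hBA
  have hzx : z * x * z⁻¹ = y := Prod.ext hca hCA
  have hzy : z * y * z⁻¹ = y * x := Prod.ext hcb hCB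
  have hz3 : z ^ 3 = 1 := Prod.ext hc hC
  let K₁ : Subgroup (X × SL23) := Subgroup.zpowers x
  let K₂ : Subgroup (X × SL23) := K₁ ⊔ Subgroup.zpowers y
  let D : Subgroup (X × SL23) := K₂ ⊔ Subgroup.zpowers z
  have hK₁ : Nat.card K₁ ≤ 4 := by
    show Nat.card (Subgroup.zpowers x) ≤ 4
    rw [Nat.card_zpowers]
    exact Nat.le_of_dvd (by norm_num) (orderOf_dvd_of_pow_eq_one hx4)
  have hK₂ : Nat.card K₂ ≤ 8 := by
    have h1 : ∀ k ∈ K₁, y * k * y⁻¹ ∈ K₁ := by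
      intro k hk
      obtain ⟨i, rfl⟩ := Subgroup.mem_zpowers_iff.mp hk
      rw [← conj_zpow, hyx]
      exact Subgroup.zpow_mem _ (Subgroup.inv_mem _ (Subgroup.mem_zpowers x)) i
    have h2 : y ^ 2 ∈ K₁ := by
      rw [hy2]; exact Subgroup.pow_mem _ (Subgroup.mem_zpowers x) 2
    have h3 : Nat.card K₂ ≤ 2 * Nat.card K₁ :=
      card_sup_zpowers_le K₁ y (p := 2) (by norm_num) h1 h2
    omega
  have hxK₂ : x ∈ K₂ := (le_sup_left : K₁ ≤ K₂) (Subgroup.mem_zpowers x)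
  have hyK₂ : y ∈ K₂ := (le_sup_right : Subgroup.zpowers y ≤ K₂) (Subgroup.mem_zpowers y)
  have hD : Nat.card D ≤ 24 := by
    have h1 : ∀ k ∈ K₂, z * k * z⁻¹ ∈ K₂ := by
      have hle : K₂ ≤ K₂.comap (MulAut.conj z).toMonoidHom := by
        refine sup_le ?_ ?_
        · rw [Subgroup.zpowers_le, Subgroup.mem_comap]
          show z * x * z⁻¹ ∈ K₂
          rw [hzx]; exact hyK₂
        · rw [Subgroup.zpowers_le, Subgroup.mem_comap]
          show z * y * z⁻¹ ∈ K₂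
          rw [hzy]; exact K₂.mul_mem hyK₂ hxK₂
      intro k hk
      exact hle hk
    have h2 : z ^ 3 ∈ K₂ := by rw [hz3]; exact K₂.one_mem
    have h3 : Nat.card D ≤ 3 * Nat.card K₂ :=
      card_sup_zpowers_le K₂ z (p := 3) (by norm_num) h1 h2
    omega
  have hxD : x ∈ D := (le_sup_left : K₂ ≤ D) hxK₂
  have hyD : y ∈ D := (le_sup_left : K₂ ≤ D) hyK₂
  have hzD : z ∈ D := (le_sup_right : Subgroup.zpowers z ≤ D) (Subgroup.mem_zpowers z)
  let φ₁ : D →* X := (MonoidHom.fst X SL23).comp D.subtype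
  let φ₂ : D →* SL23 := (MonoidHom.snd X SL23).comp D.subtype
  have hs₁ : Function.Surjective φ₁ := by
    rw [← MonoidHom.range_eq_top, eq_top_iff, ← hgen, Subgroup.closure_le]
    rintro g (rfl | rfl | rfl)
    · exact ⟨⟨x, hxD⟩, rfl⟩
    · exact ⟨⟨y, hyD⟩, rfl⟩
    · exact ⟨⟨z, hzD⟩, rfl⟩
  have hs₂ : Function.Surjective φ₂ := by
    intro g
    obtain ⟨i, j, k, rfl⟩ := sl23_gen g
    exact ⟨⟨x ^ (i : ℕ) * y ^ (j : ℕ) * z ^ (k : ℕ),
      D.mul_mem (D.mul_mem (D.pow_mem hxD _) (D.pow_mem hyD _)) (D.pow_mem hzD _)⟩, rfl⟩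
  have hbij₂ : Function.Bijective φ₂ :=
    hs₂.bijective_of_nat_card_le (by rw [sl23_card]; exact hD)
  have hinj₁ : Function.Injective φ₁ := by
    rw [injective_iff_map_eq_one]
    intro d hd
    by_contra hd1
    have hM : φ₂ d ≠ 1 := fun h => hd1 (hbij₂.1 (h.trans (map_one φ₂).symm))
    obtain ⟨h, hh⟩ := sl23_normal (φ₂ d) hM
    obtain ⟨h', rfl⟩ := hs₂ h
    have hkey : ∃ w : D, φ₁ w = 1 ∧ φ₂ w = sl23A ^ 2 := by
      rcases hh with h1 | h1 | h1 | h1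
      · exact ⟨d, hd, h1⟩
      · exact ⟨d ^ 2, by rw [map_pow, hd, one_pow], by rw [map_pow, h1]⟩
      · exact ⟨d ^ 3, by rw [map_pow, hd, one_pow], by rw [map_pow, h1]⟩
      · refine ⟨(h' * d * h'⁻¹ * d⁻¹) ^ 2, ?_, ?_⟩
        · rw [map_pow, map_mul, map_mul, map_mul, map_inv, map_inv, hd]
          simp
        · rw [map_pow, map_mul, map_mul, map_mul, map_inv, map_inv, h1]
    obtain ⟨w, hw1, hw2⟩ := hkey
    have hwx : w = (⟨x, hxD⟩ : D) ^ 2 := hbij₂.1 (hw2.trans (by rw [map_pow]; rfl))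
    have : φ₁ w = a ^ 2 := by rw [hwx, map_pow]; rfl
    exact ha2 (this.symm.trans hw1)
  have hbij₁ : Function.Bijective φ₁ := ⟨hinj₁, hs₁⟩
  exact ⟨(MulEquiv.ofBijective φ₁ hbij₁).symm.trans (MulEquiv.ofBijective φ₂ hbij₂)⟩

/-- Elements `a, b, c` of a group with `a ^ 4 = 1`, `b ^ 2 = a ^ 2`, `b a b⁻¹ = a⁻¹`,
`c a c⁻¹ = b`, `c b c⁻¹ = b a` and `a ^ 2 ∉ ⟨c ^ 3⟩` generate a subgroup `H` with
`H / ⟨c ^ 3⟩ ≅ SL(2,3)`. -/
theorem sl23_section_of_rel {G : Type*} [Group G] [Finite G] (a b c : G) (ha : a ^ 4 = 1)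
    (hb : b ^ 2 = a ^ 2) (hba : b * a * b⁻¹ = a⁻¹) (hca : c * a * c⁻¹ = b)
    (hcb : c * b * c⁻¹ = b * a) (hK : a ^ 2 ∉ Subgroup.zpowers (c ^ 3)) :
    ∃ (H K : Subgroup G) (_ : (K.subgroupOf H).Normal),
      Nonempty ((H ⧸ K.subgroupOf H) ≃* SL23) := by
  have hbab : b * a * b = a := by
    have : b * a * b = (b * a * b⁻¹) * b ^ 2 := by group
    rw [this, hba, hb]; group
  have hc3a : c ^ 3 * a = a * c ^ 3 := by
    have h1 : c ^ 3 * a * (c ^ 3)⁻¹ = c * (c * (c * a * c⁻¹) * c⁻¹) * c⁻¹ := by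
      simp only [pow_succ, pow_zero, one_mul, _root_.mul_inv_rev, mul_assoc]
    have h2 : c * (b * a) * c⁻¹ = (c * b * c⁻¹) * (c * a * c⁻¹) := by group
    rw [hca, hcb, h2, hcb, hca, hbab] at h1
    calc c ^ 3 * a = c ^ 3 * a * (c ^ 3)⁻¹ * c ^ 3 := by group
      _ = a * c ^ 3 := by rw [h1]
  have hc3b : c ^ 3 * b = b * c ^ 3 := by
    rw [← hca]
    calc c ^ 3 * (c * a * c⁻¹) = c * (c ^ 3 * a) * c⁻¹ := by group
      _ = c * (a * c ^ 3) * c⁻¹ := by rw [hc3a]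
      _ = c * a * c⁻¹ * c ^ 3 := by group
  let H : Subgroup G := Subgroup.closure {a, b, c}
  let K : Subgroup G := Subgroup.zpowers (c ^ 3)
  have haH : a ∈ H := Subgroup.subset_closure (by simp)
  have hbH : b ∈ H := Subgroup.subset_closure (by simp)
  have hcH : c ∈ H := Subgroup.subset_closure (by simp)
  have hcent : ∀ h ∈ H, ∀ k ∈ K, h * k = k * h := by
    have hle : H ≤ Subgroup.centralizer ({c ^ 3} : Set G) := by
      rw [Subgroup.closure_le]
      rintro g (rfl | rfl | rfl)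
      · rw [SetLike.mem_coe, Subgroup.mem_centralizer_iff]
        rintro _ rfl
        exact hc3a
      · rw [SetLike.mem_coe, Subgroup.mem_centralizer_iff]
        rintro _ rfl
        exact hc3b
      · rw [SetLike.mem_coe, Subgroup.mem_centralizer_iff]
        rintro _ rfl
        group
    intro h hh k hk
    obtain ⟨i, rfl⟩ := Subgroup.mem_zpowers_iff.mp hk
    have h1 : c ^ 3 * h = h * c ^ 3 := (Subgroup.mem_centralizer_iff.mp (hle hh)) _ rfl
    exact ((Commute.zpow_left (show Commute (c ^ 3) h from h1) i).eq).symm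
  have hN : (K.subgroupOf H).Normal := by
    refine ⟨fun n hn h => ?_⟩
    rw [Subgroup.mem_subgroupOf] at hn ⊢
    have : ((h * n * h⁻¹ : H) : G) = (n : G) := by
      push_cast
      rw [hcent h h.2 n hn]; group
    rw [this]; exact hn
  refine ⟨H, K, hN, ?_⟩
  have := hN
  let π : H →* H ⧸ K.subgroupOf H := QuotientGroup.mk' (K.subgroupOf H)
  let aH : H := ⟨a, haH⟩
  let bH : H := ⟨b, hbH⟩
  let cH : H := ⟨c, hcH⟩
  have hker : ∀ h : H, π h = 1 ↔ (h : G) ∈ K := by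
    intro h
    show (QuotientGroup.mk h : H ⧸ K.subgroupOf H) = 1 ↔ _
    rw [QuotientGroup.eq_one_iff, Subgroup.mem_subgroupOf]
  have hgenH : Subgroup.closure ({aH, bH, cH} : Set H) = ⊤ := by
    have h1 := Subgroup.closure_closure_coe_preimage (k := ({a, b, c} : Set G))
    have h2 : ((↑) : H → G) ⁻¹' ({a, b, c} : Set G) = ({aH, bH, cH} : Set H) := by
      ext u
      simp only [Set.mem_preimage, Set.mem_insert_iff, Set.mem_singleton_iff]
      constructor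
      · rintro (h | h | h)
        · exact Or.inl (Subtype.ext h)
        · exact Or.inr (Or.inl (Subtype.ext h))
        · exact Or.inr (Or.inr (Subtype.ext h))
      · rintro (h | h | h)
        · exact Or.inl (congrArg Subtype.val h)
        · exact Or.inr (Or.inl (congrArg Subtype.val h))
        · exact Or.inr (Or.inr (congrArg Subtype.val h))
    rw [← h2]; exact h1
  have hgen : Subgroup.closure ({π aH, π bH, π cH} : Set (H ⧸ K.subgroupOf H)) = ⊤ := by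
    have h1 : (Subgroup.closure ({aH, bH, cH} : Set H)).map π = ⊤ := by
      rw [hgenH]
      exact Subgroup.map_top_of_surjective π (QuotientGroup.mk'_surjective _)
    rw [MonoidHom.map_closure] at h1
    rw [← h1]
    congr 1
    simp [Set.image_insert_eq]
  refine sl23_of_rel (π aH) (π bH) (π cH) ?_ ?_ ?_ ?_ ?_ ?_ ?_ hgen
  · rw [← map_pow]
    have : aH ^ 4 = 1 := Subtype.ext (by push_cast; exact ha)
    rw [this, map_one]
  · rw [← map_pow, Ne, hker]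
    push_cast
    exact hK
  · rw [← map_pow, ← map_pow]
    have : bH ^ 2 = aH ^ 2 := Subtype.ext (by push_cast; exact hb)
    rw [this]
  · rw [← map_inv, ← map_mul, ← map_mul, ← map_inv]
    have : bH * aH * bH⁻¹ = aH⁻¹ := Subtype.ext (by push_cast; exact hba)
    rw [this]
  · rw [← map_inv, ← map_mul, ← map_mul]
    have : cH * aH * cH⁻¹ = bH := Subtype.ext (by push_cast; exact hca)
    rw [this]
  · rw [← map_inv, ← map_mul, ← map_mul, ← map_mul]
    have : cH * bH * cH⁻¹ = bH * aH := Subtype.ext (by push_cast; exact hcb)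
    rw [this]
  · rw [← map_pow, hker]
    push_cast
    exact Subgroup.mem_zpowers _

end Cfsg.Agent.Lib.helper3
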