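import Mathlib
import Cfsg.Agent.Lib.helper3.SL23
import Cfsg.Agent.Lib.helper26.OddAut
import Cfsg.Agent.Lib.helper59.UniqueOrderP

set_option autoImplicit false

/-!
# Odd-order automorphisms of subgroups of a generalized quaternion group

* `quaternion_involution`: `QuaternionGroup m` (`m ≠ 0`) has a unique involution.
* `uniqueOrderP_two_of_involution`: a subgroup with at most one involution has at most one
  subgroup of order 2.
* `mem_centralizer_of_cyclic_index_two`: an odd-order element normalizing a 2-group `Q` and a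
  cyclic subgroup of index 2 of `Q` centralizes `Q`.
* `sl23_section_of_quaternion`: if `T` is a 2-subgroup with a unique involution and some
  odd-order element normalizes but does not centralize a subgroup of `T`, the group has a
  section isomorphic to `SL(2,3)`.
-/

namespace Cfsg.Agent.Lib.helper3

open Subgroup

/-- The generalized quaternion group has a unique involution. -/
theorem quaternion_involution {m : ℕ} (hm : m ≠ 0) (q : QuaternionGroup m) (hq : q ^ 2 = 1)
    (hq1 : q ≠ 1) : q = QuaternionGroup.a (m : ZMod (2 * m)) := by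
  have : NeZero (2 * m) := ⟨by omega⟩
  have hm0 : ((m : ℕ) : ZMod (2 * m)) ≠ 0 := by
    intro h
    rw [ZMod.natCast_eq_zero_iff] at h
    have := Nat.le_of_dvd (by omega) h
    omega
  rcases q with i | i
  · have h1 : QuaternionGroup.a (i + i) = (1 : QuaternionGroup m) := by
      rw [← QuaternionGroup.a_mul_a, ← sq]; exact hq
    rw [QuaternionGroup.one_def] at h1
    have h2 : i + i = 0 := by injection h1
    have hi0 : i ≠ 0 := by
      rintro rfl; exact hq1 (QuaternionGroup.one_def).symm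
    congr 1
    have hv := ZMod.natCast_zmod_val i
    have h3 : ((i.val + i.val : ℕ) : ZMod (2 * m)) = 0 := by
      push_cast; rw [hv]; exact h2
    rw [ZMod.natCast_eq_zero_iff] at h3
    have hlt := ZMod.val_lt i
    have hpos : i.val ≠ 0 := by
      intro h; apply hi0; rw [← hv, h]; simp
    have hval : i.val = m := by
      obtain ⟨k, hk⟩ := h3
      have hk1 : k = 1 := by
        rcases k with _ | _ | k
        · omega
        · rfl
        · exfalso
          have h5 : 2 * m * 2 ≤ i.val + i.val := by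
            rw [hk]; exact Nat.mul_le_mul_left _ (by omega)
          omega
      subst hk1; omega
    rw [← hv, hval]
  · exfalso
    have h1 : QuaternionGroup.xa i * QuaternionGroup.xa i =
        QuaternionGroup.a ((m : ZMod (2 * m)) + i - i) := QuaternionGroup.xa_mul_xa i i
    rw [sq, h1, QuaternionGroup.one_def] at hq
    have h2 : (m : ZMod (2 * m)) + i - i = 0 := by injection hq
    rw [add_sub_cancel_right] at h2
    exact hm0 h2

/-- A subgroup with at most one involution has at most one subgroup of order 2. -/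
theorem uniqueOrderP_two_of_involution {G : Type*} [Group G] [Finite G] (Q : Subgroup G)
    (hinv : ∀ x ∈ Q, ∀ y ∈ Q, x ^ 2 = 1 → x ≠ 1 → y ^ 2 = 1 → y ≠ 1 → x = y) :
    Cfsg.Agent.Lib.helper59.UniqueOrderP 2 ↥Q := by
  have key : ∀ H : Subgroup Q, Nat.card H = 2 →
      ∃ h : Q, h ^ 2 = 1 ∧ h ≠ 1 ∧ H = Subgroup.zpowers h := by
    intro H hH
    have hne : H ≠ ⊥ := by
      intro h; rw [h, Subgroup.card_bot] at hH; omega
    obtain ⟨⟨h, hhH⟩, hh1⟩ := (Subgroup.ne_bot_iff_exists_ne_one).mp hne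
    have hh1' : h ≠ 1 := fun e => hh1 (Subtype.ext e)
    have hh2 : h ^ 2 = 1 := by
      have := pow_card_eq_one' (G := H) (x := ⟨h, hhH⟩)
      rw [hH] at this
      exact congrArg Subtype.val this
    refine ⟨h, hh2, hh1', ?_⟩
    symm
    apply Subgroup.eq_of_le_of_card_ge (Subgroup.zpowers_le.mpr hhH)
    rw [hH, Nat.card_zpowers, orderOf_eq_prime hh2 hh1']
  intro H K hH hK
  obtain ⟨h, h2, h1, rfl⟩ := key H hH
  obtain ⟨k, k2, k1, rfl⟩ := key K hK
  have : h = k := Subtype.ext (hinv h h.2 k k.2 (by exact_mod_cast congrArg Subtype.val h2)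
    (fun e => h1 (Subtype.ext e)) (by exact_mod_cast congrArg Subtype.val k2)
    (fun e => k1 (Subtype.ext e)))
  rw [this]

/-- In a subgroup `Q` with a subgroup `A` of index 2, two elements outside `A` differ by an
element of `A`. -/
theorem mul_inv_mem_of_card_eq_two_mul {G : Type*} [Group G] [Finite G] {A Q : Subgroup G}
    (hAQ : A ≤ Q) (hcard : Nat.card Q = 2 * Nat.card A) {x y : G} (hx : x ∈ Q) (hy : y ∈ Q)
    (hxA : x ∉ A) (hyA : y ∉ A) : x * y⁻¹ ∈ A := by
  have hidx : (A.subgroupOf Q).index = 2 := by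
    have h1 := (A.subgroupOf Q).card_mul_index
    have h2 : Nat.card (A.subgroupOf Q) = Nat.card A :=
      Nat.card_congr (Subgroup.subgroupOfEquivOfLe hAQ).toEquiv
    rw [h2, hcard, mul_comm 2] at h1
    exact Nat.eq_of_mul_eq_mul_left Nat.card_pos h1
  have h3 := Subgroup.mul_mem_iff_of_index_two hidx (a := (⟨x, hx⟩ : Q)) (b := (⟨y, hy⟩ : Q)⁻¹)
  rw [inv_mem_iff, Subgroup.mem_subgroupOf, Subgroup.mem_subgroupOf,
    Subgroup.mem_subgroupOf] at h3
  exact h3.mpr ⟨fun h => absurd h hxA, fun h => absurd h hyA⟩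

/-- An odd-order element normalizing a 2-group `Q` and a cyclic subgroup `A` of index 2 of `Q`
centralizes `Q`. -/
theorem mem_centralizer_of_cyclic_index_two {G : Type*} [Group G] [Finite G] {Q A : Subgroup G}
    (hQ : IsPGroup 2 Q) (hAQ : A ≤ Q) [IsCyclic A] (hcard : Nat.card Q = 2 * Nat.card A) {g : G}
    (hgQ : g ∈ Subgroup.normalizer (Q : Set G)) (hodd : (orderOf g).Coprime 2)
    (hgA : ∀ k ∈ A, g * k * g⁻¹ ∈ A) : g ∈ Subgroup.centralizer (Q : Set G) := by
  have hgN : g ∈ Subgroup.normalizer (A : Set G) := mem_normalizer_of_conj_mem A g hgA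
  have hgC : g ∈ Subgroup.centralizer (A : Set G) :=
    Cfsg.Agent.Lib.helper26.mem_centralizer_of_normalizer_cyclic_two A (hQ.to_le hAQ) g hgN hodd
  refine Cfsg.Agent.Lib.helper26.mem_centralizer_of_stabilizes Q A hQ hAQ g hgC ?_ hodd
  intro s hs
  by_cases hsA : s ∈ A
  · have h1 : s * g = g * s := Subgroup.mem_centralizer_iff.mp hgC s hsA
    have : g * s * g⁻¹ * s⁻¹ = 1 := by rw [← h1]; group
    rw [this]; exact A.one_mem
  · have h1 : g * s * g⁻¹ ∈ Q := (Subgroup.mem_normalizer_iff.mp hgQ s).mp hs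
    have h2 : g * s * g⁻¹ ∉ A := fun h => hsA ((Subgroup.mem_normalizer_iff.mp hgN s).mpr h)
    exact mul_inv_mem_of_card_eq_two_mul hAQ hcard h1 hs h2 hsA

/-- If `⟨a⟩` has index 2 in `Q` and `b ∈ Q ∖ ⟨a⟩` inverts `a`, every element of `Q ∖ ⟨a⟩`
inverts `a` and has the same square as `b`. -/
theorem outside_rel {G : Type*} [Group G] [Finite G] {Q : Subgroup G} {a b : G} (haQ : a ∈ Q)
    (hbQ : b ∈ Q) (hcard : Nat.card Q = 2 * orderOf a) (hb : b ∉ Subgroup.zpowers a)
    (hba : b * a * b⁻¹ = a⁻¹) {x : G} (hx : x ∈ Q) (hxa : x ∉ Subgroup.zpowers a) :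
    x * a * x⁻¹ = a⁻¹ ∧ x ^ 2 = b ^ 2 := by
  have hle : Subgroup.zpowers a ≤ Q := Subgroup.zpowers_le.mpr haQ
  have h1 : x * b⁻¹ ∈ Subgroup.zpowers a :=
    mul_inv_mem_of_card_eq_two_mul hle (by rw [Nat.card_zpowers]; exact hcard) hx hbQ hxa hb
  obtain ⟨k, hk⟩ := Subgroup.mem_zpowers_iff.mp h1
  have hxe : x = a ^ k * b := by rw [hk]; group
  have hbk : b * a ^ k * b⁻¹ = (a ^ k)⁻¹ := by rw [← conj_zpow, hba, inv_zpow]
  constructor
  · rw [hxe]
    calc a ^ k * b * a * (a ^ k * b)⁻¹ = a ^ k * (b * a * b⁻¹) * (a ^ k)⁻¹ := by group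
      _ = a⁻¹ := by rw [hba]; group
  · rw [hxe]
    calc (a ^ k * b) ^ 2 = a ^ k * (b * a ^ k * b⁻¹) * b ^ 2 := by
          simp only [sq, mul_assoc, inv_mul_cancel_left]
      _ = b ^ 2 := by rw [hbk]; group

/-- If `T` is a 2-subgroup with a unique involution and an odd-order element `g` normalizes
but does not centralize a subgroup `Q` of `T`, then the group has a section isomorphic to
`SL(2,3)`. -/
theorem sl23_section_of_quaternion {G : Type*} [Group G] [Finite G] (T : Subgroup G)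
    (hT : IsPGroup 2 T)
    (hinv : ∀ x ∈ T, ∀ y ∈ T, x ^ 2 = 1 → x ≠ 1 → y ^ 2 = 1 → y ≠ 1 → x = y)
    (Q : Subgroup G) (hQT : Q ≤ T) (g : G) (hgN : g ∈ Subgroup.normalizer (Q : Set G))
    (hodd : (orderOf g).Coprime 2) (hgC : g ∉ Subgroup.centralizer (Q : Set G)) :
    ∃ (H K : Subgroup G) (_ : (K.subgroupOf H).Normal),
      Nonempty ((H ⧸ K.subgroupOf H) ≃* SL23) := by
  have hQ : IsPGroup 2 Q := hT.to_le hQT
  have hU : Cfsg.Agent.Lib.helper59.UniqueOrderP 2 ↥Q :=
    uniqueOrderP_two_of_involution Q (fun x hx y hy => hinv x (hQT hx) y (hQT hy))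
  rcases Cfsg.Agent.Lib.helper59.cyclic_or_quaternion_rel_of_uniqueOrderP hQ hU with
    hcyc | ⟨n, ⟨a, haQ⟩, ⟨b, hbQ⟩, ha₀, hcard, hb₀, hb₀2, hba₀⟩
  · have := hcyc
    exact absurd
      (Cfsg.Agent.Lib.helper26.mem_centralizer_of_normalizer_cyclic_two Q hQ g hgN hodd) hgC
  · have ha : orderOf a = 2 ^ (n + 2) := by rw [← ha₀, Subgroup.orderOf_mk]
    have hb2 : b ^ 2 = a ^ (2 ^ (n + 1)) := by
      have := congrArg Subtype.val hb₀2
      simpa using this
    have hba : b * a * b⁻¹ = a⁻¹ := by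
      have := congrArg Subtype.val hba₀
      simpa using this
    have hb : b ∉ Subgroup.zpowers a := by
      intro h
      apply hb₀
      obtain ⟨k, hk⟩ := Subgroup.mem_zpowers_iff.mp h
      exact Subgroup.mem_zpowers_iff.mpr ⟨k, Subtype.ext (by push_cast; exact hk)⟩
    have hcardQ : Nat.card Q = 2 * orderOf a := by rw [hcard, ha]; ring
    have hconj : ∀ {u : G}, u ∈ Subgroup.normalizer (Q : Set G) → ∀ {s : G}, s ∈ Q →
        u * s * u⁻¹ ∈ Q := fun hu s hs => (Subgroup.mem_normalizer_iff.mp hu s).mp hs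
    have hL1 : ∀ (u c : G), u ∈ Subgroup.normalizer (Q : Set G) → (orderOf u).Coprime 2 →
        c ∈ Q → Nat.card Q = 2 * orderOf c → u * c * u⁻¹ ∈ Subgroup.zpowers c →
        u ∈ Subgroup.centralizer (Q : Set G) := by
      intro u c hu hou hc hcc hmem
      refine mem_centralizer_of_cyclic_index_two hQ (Subgroup.zpowers_le.mpr hc)
        (by rw [Nat.card_zpowers]; exact hcc) hu hou ?_
      intro k hk
      obtain ⟨i, rfl⟩ := Subgroup.mem_zpowers_iff.mp hk
      rw [← conj_zpow]; exact Subgroup.zpow_mem _ hmem i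
    obtain ⟨b₁, hb₁_def⟩ : ∃ b₁ : G, b₁ = g * a * g⁻¹ := ⟨_, rfl⟩
    have hb₁Q : b₁ ∈ Q := by rw [hb₁_def]; exact hconj hgN haQ
    have hb₁ : b₁ ∉ Subgroup.zpowers a := by
      rw [hb₁_def]; exact fun h => hgC (hL1 g a hgN hodd haQ hcardQ h)
    obtain ⟨hb₁a, hb₁2⟩ := outside_rel haQ hbQ hcardQ hb hba hb₁Q hb₁
    have hn : n = 0 := by
      by_contra hn
      have h4 : b₁ ^ 4 = 1 := by
        have : b₁ ^ 4 = (b₁ ^ 2) ^ 2 := by rw [← pow_mul]
        rw [this, hb₁2, hb2, ← pow_mul, ← pow_succ, ← ha, pow_orderOf_eq_one]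
      have h5 : a ^ 4 = 1 := by
        have : b₁ ^ 4 = g * a ^ 4 * g⁻¹ := by rw [hb₁_def, conj_pow]
        rw [this] at h4
        have h6 := congrArg (fun t => g⁻¹ * t * g) h4
        simpa [mul_assoc] using h6
      have h7 := orderOf_dvd_of_pow_eq_one h5
      rw [ha] at h7
      have h8 : 2 ^ (n + 2) ≤ 4 := Nat.le_of_dvd (by norm_num) h7
      have h9 : 2 ^ 3 ≤ 2 ^ (n + 2) := Nat.pow_le_pow_right (by norm_num) (by omega)
      omega
    subst hn
    have ha4 : orderOf a = 4 := by rw [ha]; norm_num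
    have ha4' : a ^ 4 = 1 := by rw [← ha4]; exact pow_orderOf_eq_one a
    have ha2 : a ^ 2 ≠ 1 := by
      intro h
      have := orderOf_dvd_of_pow_eq_one h
      rw [ha4] at this
      omega
    have hb₁2' : b₁ ^ 2 = a ^ 2 := by rw [hb₁2, hb2]; norm_num
    have hob₁ : orderOf b₁ = 4 := by
      have h1 : ¬ b₁ ^ 2 ^ 1 = 1 := by rw [pow_one, hb₁2']; exact ha2
      have hb₁4 : b₁ ^ 4 = 1 := by
        calc b₁ ^ 4 = (b₁ ^ 2) ^ 2 := by rw [← pow_mul]
          _ = (a ^ 2) ^ 2 := by rw [hb₁2']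
          _ = a ^ 4 := by rw [← pow_mul]
          _ = 1 := ha4'
      have h2 : b₁ ^ 2 ^ (1 + 1) = 1 := by
        have e : (2 : ℕ) ^ (1 + 1) = 4 := by norm_num
        rw [e]; exact hb₁4
      have := orderOf_eq_prime_pow h1 h2
      rw [this]; norm_num
    obtain ⟨d, hd_def⟩ : ∃ d : G, d = g * b₁ * g⁻¹ := ⟨_, rfl⟩
    have hdQ : d ∈ Q := by rw [hd_def]; exact hconj hgN hb₁Q
    have hd1 : d ∉ Subgroup.zpowers b₁ := by
      rw [hd_def]
      exact fun h => hgC (hL1 g b₁ hgN hodd hb₁Q (by rw [hob₁, hcardQ, ha4]) h)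
    have hd2 : d ∉ Subgroup.zpowers a := by
      intro h
      have hg2N : g ^ 2 ∈ Subgroup.normalizer (Q : Set G) := Subgroup.pow_mem _ hgN 2
      have hg2o : (orderOf (g ^ 2)).Coprime 2 :=
        Nat.Coprime.coprime_dvd_left (orderOf_pow_dvd 2) hodd
      have hmem : g ^ 2 * a * (g ^ 2)⁻¹ ∈ Subgroup.zpowers a := by
        have : g ^ 2 * a * (g ^ 2)⁻¹ = d := by
          rw [hd_def, hb₁_def]
          simp only [sq, _root_.mul_inv_rev, mul_assoc]
        rw [this]; exact h
      have hg2C := hL1 (g ^ 2) a hg2N hg2o haQ hcardQ hmem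
      obtain ⟨m, hm⟩ := exists_pow_eq_self_of_coprime (x := g) (n := 2) hodd.symm
      have := Subgroup.pow_mem _ hg2C m
      rw [hm] at this
      exact hgC this
    have h1 : d * b₁⁻¹ ∈ Subgroup.zpowers a :=
      mul_inv_mem_of_card_eq_two_mul (Subgroup.zpowers_le.mpr haQ)
        (by rw [Nat.card_zpowers]; exact hcardQ) hdQ hb₁Q hd2 hb₁
    obtain ⟨k, hk⟩ := Subgroup.mem_zpowers_iff.mp h1
    have hk' : a ^ (k % 4) = d * b₁⁻¹ := by
      rw [← hk]
      have := zpow_mod_orderOf a k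
      rw [ha4] at this
      exact_mod_cast this
    have hcases : k % 4 = 0 ∨ k % 4 = 1 ∨ k % 4 = 2 ∨ k % 4 = 3 := by omega
    have ha2K : a ^ 2 ∉ Subgroup.zpowers (g ^ 3) := by
      intro h
      have h2 : orderOf (a ^ 2) = 2 := by
        rw [orderOf_pow' a (by norm_num), ha4]; norm_num
      have h3 : orderOf (a ^ 2) ∣ Nat.card (Subgroup.zpowers (g ^ 3)) :=
        Subgroup.orderOf_dvd_natCard _ h
      rw [h2, Nat.card_zpowers] at h3
      have h4 : (orderOf (g ^ 3)).Coprime 2 :=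
        Nat.Coprime.coprime_dvd_left (orderOf_pow_dvd 3) hodd
      have := Nat.Coprime.eq_one_of_dvd h4.symm h3
      omega
    rcases hcases with h0 | h0 | h0 | h0
    · exfalso
      rw [h0, zpow_zero] at hk'
      have : d = b₁ := by
        calc d = d * b₁⁻¹ * b₁ := by group
          _ = b₁ := by rw [← hk', one_mul]
      exact hd1 (this ▸ Subgroup.mem_zpowers b₁)
    · rw [h0, zpow_one] at hk'
      have hd : d = a * b₁ := by
        calc d = d * b₁⁻¹ * b₁ := by group
          _ = a * b₁ := by rw [← hk']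
      have e1 : a = b₁⁻¹ * a⁻¹ * b₁ := by rw [← hb₁a]; group
      refine sl23_section_of_rel a⁻¹ b₁⁻¹ g ?_ ?_ ?_ ?_ ?_ ?_
      · rw [inv_pow, ha4', inv_one]
      · rw [inv_pow, inv_pow, hb₁2']
      · rw [inv_inv, inv_inv]; exact e1.symm
      · rw [hb₁_def]; group
      · have : g * b₁⁻¹ * g⁻¹ = d⁻¹ := by rw [hd_def]; group
        rw [this, hd, mul_inv_rev]
      · rw [inv_pow, Subgroup.inv_mem_iff]; exact ha2K
    · exfalso
      have : d = b₁ ^ 3 := by
        calc d = d * b₁⁻¹ * b₁ := by group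
          _ = a ^ 2 * b₁ := by rw [← hk', h0, zpow_ofNat]
          _ = b₁ ^ 3 := by rw [← hb₁2']; group
      exact hd1 (this ▸ Subgroup.pow_mem _ (Subgroup.mem_zpowers b₁) 3)
    · have hd : d = b₁ * a := by
        have e3 : a ^ (3 : ℤ) = a⁻¹ := by
          have : a ^ (3 : ℤ) = a ^ 4 * a⁻¹ := by group
          rw [this, ha4', one_mul]
        have e4 : b₁ * a = a⁻¹ * b₁ := by rw [← hb₁a]; group
        calc d = d * b₁⁻¹ * b₁ := by group
          _ = a⁻¹ * b₁ := by rw [← hk', h0, e3]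
          _ = b₁ * a := e4.symm
      refine sl23_section_of_rel a b₁ g ha4' hb₁2' hb₁a hb₁_def.symm ?_ ha2K
      rw [← hd, hd_def]

end Cfsg.Agent.Lib.helper3
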