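import Mathlib.GroupTheory.Sylow
import Mathlib.GroupTheory.Transfer
import Mathlib.GroupTheory.Focal
import Mathlib.GroupTheory.SchurZassenhaus

/-!
# The transfer into an abelian subgroup `H` takes values in `C_H(N_G(H))`
-/

set_option autoImplicit false

namespace Cfsg.Agent.Lib.helper3

open Subgroup Subgroup.leftTransversals MulOpposite MulAction
open scoped IsMulCommutative Pointwise

variable {G : Type*} [Group G] (H : Subgroup G)

theorem conj_mem_of_mem_normalizer {n : G} (hn : n ∈ normalizer (H : Set G)) {h : G}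
    (hh : h ∈ H) : n⁻¹ * h * n ∈ H :=
  (mem_normalizer_iff''.mp hn h).mp hh

variable [IsMulCommutative H] [FiniteIndex H]

theorem smul_diff_smul_normalizer (α β : H.LeftTransversal) (n : (normalizer (H : Set G)).op) :
    ((diff (MonoidHom.id H) (n • α) (n • β) : H) : G) =
      (n : Gᵐᵒᵖ).unop⁻¹ * (diff (MonoidHom.id H) α β : H) * (n : Gᵐᵒᵖ).unop := by
  let := H.fintypeQuotientOfFiniteIndex
  have hn : (n : Gᵐᵒᵖ).unop ∈ normalizer (H : Set G) := n.2
  let ϕ : H →* H :=
    { toFun := fun h => ⟨(n : Gᵐᵒᵖ).unop⁻¹ * h * (n : Gᵐᵒᵖ).unop,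
        conj_mem_of_mem_normalizer H hn h.2⟩
      map_one' := by ext; simp
      map_mul' := fun h₁ h₂ => by ext; simp [mul_assoc] }
  have key : diff (MonoidHom.id H) (n • α) (n • β) = ϕ (diff (MonoidHom.id H) α β) := by
    refine (Fintype.prod_equiv (MulAction.toPerm n).symm _ _ fun x ↦ ?_).trans
      (map_prod ϕ _ _).symm
    simp only [ϕ, smul_apply_eq_smul_apply_inv_smul, Subgroup.smul_def, smul_eq_mul_unop,
      mul_inv_rev, mul_assoc, MonoidHom.id_apply, toPerm_symm_apply, MonoidHom.coe_mk,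
      OneHom.coe_mk]
  rw [key]
  rfl

theorem smul_smul_transversal_comm (g : G) (n : (normalizer (H : Set G)).op)
    (T : H.LeftTransversal) : g • (n • T) = n • (g • T) := by
  apply Subtype.ext
  change g • (n • (T : Set G)) = n • (g • (T : Set G))
  ext x
  constructor
  · rintro ⟨y, ⟨t, ht, rfl⟩, rfl⟩
    exact ⟨g • t, ⟨t, ht, rfl⟩, by simp [Subgroup.smul_def, smul_eq_mul_unop, mul_assoc]⟩
  · rintro ⟨y, ⟨t, ht, rfl⟩, rfl⟩
    exact ⟨n • t, ⟨t, ht, rfl⟩, by simp [Subgroup.smul_def, smul_eq_mul_unop, mul_assoc]⟩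

/-- The transfer into an abelian subgroup `H` takes values commuting with `N_G(H)`. -/
theorem transfer_id_mem_centralizer_normalizer (g : G) :
    ((MonoidHom.transfer (MonoidHom.id H) g : H) : G) ∈
      centralizer (normalizer (H : Set G) : Set G) := by
  rw [mem_centralizer_iff]
  intro m hm
  let n : (normalizer (H : Set G)).op := ⟨op m, hm⟩
  let T : H.LeftTransversal := default
  have h1 : MonoidHom.transfer (MonoidHom.id H) g = diff (MonoidHom.id H) T (g • T) :=
    MonoidHom.transfer_def _ T g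
  have h2 : MonoidHom.transfer (MonoidHom.id H) g =
      diff (MonoidHom.id H) (n • T) (g • (n • T)) :=
    MonoidHom.transfer_def _ (n • T) g
  rw [smul_smul_transversal_comm] at h2
  have h3 := smul_diff_smul_normalizer H T (g • T) n
  rw [← h2, ← h1] at h3
  have h4 : (n : Gᵐᵒᵖ).unop = m := rfl
  rw [h4] at h3
  -- h3 : V = m⁻¹ * V * m
  calc m * ((MonoidHom.transfer (MonoidHom.id H) g : H) : G)
      = m * (m⁻¹ * ((MonoidHom.transfer (MonoidHom.id H) g : H) : G) * m) := by rw [← h3]
    _ = ((MonoidHom.transfer (MonoidHom.id H) g : H) : G) * m := by group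

/-- Functoriality of `diff` in the target. -/
theorem diff_comp {A B : Type*} [CommGroup A] [CommGroup B] (ϕ : H →* A) (ψ : A →* B)
    (S T : H.LeftTransversal) : diff (ψ.comp ϕ) S T = ψ (diff ϕ S T) := by
  let := H.fintypeQuotientOfFiniteIndex
  unfold diff
  rw [map_prod]
  rfl

/-- Functoriality of the transfer in the target. -/
theorem transfer_comp {A B : Type*} [CommGroup A] [CommGroup B] (ϕ : H →* A) (ψ : A →* B)
    (g : G) : MonoidHom.transfer (ψ.comp ϕ) g = ψ (MonoidHom.transfer ϕ g) := by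
  let T : H.LeftTransversal := default
  rw [MonoidHom.transfer_def _ T, MonoidHom.transfer_def _ T, diff_comp]

/-- For `x ∈ H` (abelian), the transfer of `x` is congruent to `x ^ H.index` modulo the focal
subgroup. -/
theorem transfer_id_inv_mul_pow_mem_focalSubgroup (x : H) :
    ((MonoidHom.transfer (MonoidHom.id H) (x : G) : H) : G)⁻¹ * (x : G) ^ H.index ∈
      H.focalSubgroup := by
  have h1 := transfer_comp H (MonoidHom.id H) (QuotientGroup.mk' (focalSubgroupOf H)) (x : G)
  have h2 := transferFocal_eq_pow H x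
  have h3 : MonoidHom.transfer ((QuotientGroup.mk' (focalSubgroupOf H)).comp (MonoidHom.id H))
      (x : G) = transferFocal H x := rfl
  rw [h3, h2] at h1
  -- (x : H ⧸ _) ^ index = mk (V x)
  have h4 : ((MonoidHom.transfer (MonoidHom.id H) (x : G))⁻¹ * x ^ H.index : H) ∈
      focalSubgroupOf H := by
    rw [← QuotientGroup.eq]
    have h5 : ((x ^ H.index : H) : H ⧸ focalSubgroupOf H) = (x : H ⧸ focalSubgroupOf H) ^ H.index :=
      QuotientGroup.mk_pow _ x _
    rw [h5]
    exact h1.symm
  rw [focalSubgroupOf_def, mem_subgroupOf] at h4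
  simpa using h4

/-- If `H` is normal, its focal subgroup is contained in `⁅H, ⊤⁆`. -/
theorem focalSubgroup_le_commutator_top (K : Subgroup G) : K.focalSubgroup ≤ ⁅K, (⊤ : Subgroup G)⁆ := by
  rw [focalSubgroup_def, closure_le]
  rintro g ⟨_, x, hx, u, rfl⟩
  exact commutator_mem_commutator hx (mem_top u)

end Cfsg.Agent.Lib.helper3
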