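import Mathlib.GroupTheory.Sylow
import Mathlib.GroupTheory.Transfer
import Mathlib.GroupTheory.Focal
import Mathlib.GroupTheory.Nilpotent
import Mathlib.GroupTheory.Solvable
import Mathlib.GroupTheory.Abelianization.Defs

/-!
# Transfer into an abelian subgroup: consequences for central elements
-/

set_option autoImplicit false

namespace Cfsg.Agent.Lib.helper3

open scoped commutatorElement
open scoped IsMulCommutative

variable {G : Type*} [Group G]

/-- If `H` is an abelian subgroup of finite index and `z` is central and lies in the derived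
subgroup, then `z ^ H.index = 1`. -/
theorem pow_index_eq_one_of_mem_center_of_mem_commutator (H : Subgroup G) [H.FiniteIndex]
    [IsMulCommutative H] (z : G) (hz : z ∈ Subgroup.center G) (hz' : z ∈ commutator G) :
    z ^ H.index = 1 := by
  have key : ∀ (k : ℕ) (g₀ : G), g₀⁻¹ * z ^ k * g₀ ∈ H → g₀⁻¹ * z ^ k * g₀ = z ^ k := by
    intro k g₀ _
    have hzk : z ^ k ∈ Subgroup.center G := Subgroup.pow_mem _ hz k
    have := (Subgroup.mem_center_iff.mp hzk) g₀
    rw [mul_assoc, ← this, inv_mul_cancel_left]
  have h1 := MonoidHom.transfer_eq_pow (MonoidHom.id H) z key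
  have h2 : MonoidHom.transfer (MonoidHom.id H) z = 1 := by
    have := Abelianization.commutator_subset_ker (MonoidHom.transfer (MonoidHom.id H)) hz'
    exact MonoidHom.mem_ker.mp this
  rw [h2] at h1
  have h3 := congrArg (Subtype.val) h1
  simpa using h3.symm

/-- A central element of the derived subgroup lying in an abelian subgroup `H` whose order is
coprime to its index is trivial. -/
theorem eq_one_of_mem_abelian_hall_of_mem_center_of_mem_commutator [Finite G] (H : Subgroup G)
    [IsMulCommutative H] (hHall : Nat.Coprime (Nat.card H) H.index) (z : G) (hzH : z ∈ H)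
    (hz : z ∈ Subgroup.center G) (hz' : z ∈ commutator G) : z = 1 := by
  have h1 := pow_index_eq_one_of_mem_center_of_mem_commutator H z hz hz'
  have h2 : orderOf z ∣ H.index := orderOf_dvd_of_pow_eq_one h1
  have h3 : orderOf z ∣ Nat.card H := Subgroup.orderOf_dvd_natCard H hzH
  have h4 : orderOf z = 1 := Nat.eq_one_of_dvd_coprimes hHall h3 h2
  exact orderOf_eq_one_iff.mp h4

/-- In a group all of whose elements have `p`-power order, an element with `x ^ m = 1` for `m`
coprime to `p` is trivial. -/
theorem eq_one_of_pow_eq_one_of_coprime_pGroup {Q : Type*} [Group Q] {p : ℕ} (hQ : IsPGroup p Q)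
    {m : ℕ} (hm : Nat.Coprime m p) (x : Q) (hx : x ^ m = 1) : x = 1 := by
  obtain ⟨n, hn⟩ := hQ x
  have h1 : orderOf x ∣ m := orderOf_dvd_of_pow_eq_one hx
  have h2 : orderOf x ∣ p ^ n := orderOf_dvd_of_pow_eq_one hn
  have h3 : orderOf x = 1 := Nat.eq_one_of_dvd_coprimes (Nat.Coprime.pow_right n hm) h1 h2
  exact orderOf_eq_one_iff.mp h3

/-- A central element of the derived subgroup lying in a Sylow `p`-subgroup `P` lies in the derived
subgroup of `P`. -/
theorem mem_commutator_sylow_of_mem_center_of_mem_commutator [Finite G] {p : ℕ} [Fact p.Prime]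
    (P : Sylow p G) (z : G) (hzP : z ∈ (P : Subgroup G)) (hz : z ∈ Subgroup.center G)
    (hz' : z ∈ commutator G) :
    (⟨z, hzP⟩ : (P : Subgroup G)) ∈ commutator (P : Subgroup G) := by
  have key : ∀ (k : ℕ) (g₀ : G), g₀⁻¹ * z ^ k * g₀ ∈ (P : Subgroup G) →
      g₀⁻¹ * z ^ k * g₀ = z ^ k := by
    intro k g₀ _
    have hzk : z ^ k ∈ Subgroup.center G := Subgroup.pow_mem _ hz k
    have := (Subgroup.mem_center_iff.mp hzk) g₀
    rw [mul_assoc, ← this, inv_mul_cancel_left]
  have h1 := MonoidHom.transfer_eq_pow (Abelianization.of (G := (P : Subgroup G))) z key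
  have h2 : MonoidHom.transfer (Abelianization.of (G := (P : Subgroup G))) z = 1 := by
    have := Abelianization.commutator_subset_ker
      (MonoidHom.transfer (Abelianization.of (G := (P : Subgroup G)))) hz'
    exact MonoidHom.mem_ker.mp this
  rw [h2] at h1
  have h3 : (⟨z ^ (P : Subgroup G).index, MonoidHom.transfer_eq_pow_aux z key⟩ : (P : Subgroup G))
      = (⟨z, hzP⟩ : (P : Subgroup G)) ^ (P : Subgroup G).index := by
    ext; simp
  rw [h3, map_pow] at h1
  have hQ : IsPGroup p (Abelianization (P : Subgroup G)) := by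
    have : IsPGroup p ((P : Subgroup G) ⧸ commutator (P : Subgroup G)) :=
      P.isPGroup'.to_quotient _
    exact this
  have hcop : Nat.Coprime (P : Subgroup G).index p := by
    rw [Nat.coprime_comm]
    exact (Nat.Prime.coprime_iff_not_dvd Fact.out).mpr P.not_dvd_index
  have h4 := eq_one_of_pow_eq_one_of_coprime_pGroup hQ hcop _ h1.symm
  rw [← Abelianization.ker_of]
  exact MonoidHom.mem_ker.mpr h4

end Cfsg.Agent.Lib.helper3
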