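import Mathlib
import Cfsg.Prelude.Def_Local
import Cfsg.Agent.Lib.helper3.PGroupFrattini
import Cfsg.Agent.Lib.helper65.MetaInv

/-!
# The dual Frattini module of a normal `p`-subgroup

For `A` normal in `X`, the group `X` acts linearly on `Hom(A, F_p)` (written
`Additive A →+ ZMod p`) by `(g • f)(a) = f(g⁻¹ a g)`.  If `A` is a finite `p`-group with
`C_X(A) ≤ A`, the kernel of this action is a `p`-group (Burnside).
-/

set_option autoImplicit false

namespace Cfsg.Agent.Lib.helper3

open Subgroup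

section

variable {X : Type*} [Group X] (p : ℕ) (A : Subgroup X) [hA : A.Normal]

/-- Conjugation by `g⁻¹` on `A`, additively. -/
def dconj (g : X) : Additive ↥A →+ Additive ↥A :=
  MonoidHom.toAdditive ((MulAut.conjNormal g⁻¹ : MulAut ↥A).toMonoidHom)

theorem dconj_apply (g : X) (a : A) :
    dconj A g (Additive.ofMul a) = Additive.ofMul (MulAut.conjNormal g⁻¹ a) := rfl

/-- The dual representation, as a monoid hom into endomorphisms. -/
def drep : X →* Module.End (ZMod p) (Additive ↥A →+ ZMod p) where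
  toFun g :=
    { toFun := fun f => f.comp (dconj A g)
      map_add' := fun f f' => AddMonoidHom.add_comp f f' _
      map_smul' := fun r f => by
        apply AddMonoidHom.ext
        intro a
        rfl }
  map_one' := by
    apply LinearMap.ext
    intro f
    apply AddMonoidHom.ext
    intro a
    show f (dconj A 1 a) = f a
    congr 1
    show Additive.ofMul (MulAut.conjNormal (1 : X)⁻¹ (Additive.toMul a)) = a
    rw [inv_one, map_one]
    rfl
  map_mul' g h := by
    apply LinearMap.ext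
    intro f
    apply AddMonoidHom.ext
    intro a
    show f (dconj A (g * h) a) = f (dconj A h (dconj A g a))
    congr 1
    show Additive.ofMul (MulAut.conjNormal (g * h)⁻¹ (Additive.toMul a))
      = Additive.ofMul (MulAut.conjNormal h⁻¹ (MulAut.conjNormal g⁻¹ (Additive.toMul a)))
    rw [mul_inv_rev, map_mul]
    rfl

theorem drep_apply (g : X) (f : Additive ↥A →+ ZMod p) (a : A) :
    drep p A g f (Additive.ofMul a) = f (Additive.ofMul (MulAut.conjNormal g⁻¹ a)) := rfl

/-- Elements of `A` act trivially. -/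
theorem drep_eq_one_of_mem {g : X} (hg : g ∈ A) : drep p A g = 1 := by
  apply LinearMap.ext
  intro f
  apply AddMonoidHom.ext
  intro a
  obtain ⟨a, rfl⟩ : ∃ a' : A, Additive.ofMul a' = a := ⟨Additive.toMul a, rfl⟩
  rw [drep_apply]
  show f (Additive.ofMul (MulAut.conjNormal g⁻¹ a)) = f (Additive.ofMul a)
  have h1 : MulAut.conjNormal g⁻¹ a = (⟨g, hg⟩ : A)⁻¹ * a * ⟨g, hg⟩ := by
    apply Subtype.ext
    rw [MulAut.conjNormal_apply]
    simp
  rw [h1, ofMul_mul, ofMul_mul, map_add, map_add, ofMul_inv, map_neg]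
  abel

/-- The dual representation into linear automorphisms. -/
noncomputable def drepL : X →* ((Additive ↥A →+ ZMod p) ≃ₗ[ZMod p] (Additive ↥A →+ ZMod p)) :=
  (LinearMap.GeneralLinearGroup.generalLinearEquiv (ZMod p) _).toMonoidHom.comp
    (drep p A).toHomUnits

theorem drepL_coe (g : X) :
    ((drepL p A g : (Additive ↥A →+ ZMod p) ≃ₗ[ZMod p] (Additive ↥A →+ ZMod p)) :
      Module.End (ZMod p) (Additive ↥A →+ ZMod p)) = drep p A g := rfl

theorem drepL_eq_one_iff (g : X) : drepL p A g = 1 ↔ drep p A g = 1 := by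
  constructor
  · intro h
    rw [← drepL_coe, h]
    rfl
  · intro h
    apply LinearEquiv.toLinearMap_injective
    rw [drepL_coe, h]
    rfl

end

section

variable {X : Type*} [Group X] [Finite X] (p : ℕ) [hp : Fact p.Prime] (A : Subgroup X)
  [hA : A.Normal]

/-- A maximal subgroup of a finite `p`-group is the kernel of a homomorphism to `ZMod p`. -/
theorem exists_hom_of_coatom {P : Type*} [Group P] [Finite P] (hP : IsPGroup p P)
    (M : Subgroup P) (hM : IsCoatom M) :
    ∃ f : Additive P →+ ZMod p, ∀ a : P, f (Additive.ofMul a) = 0 ↔ a ∈ M := by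
  obtain ⟨hMn, hidx⟩ := coatom_normal_index hP hM
  have hcard : Nat.card (P ⧸ M) = p := by rw [← Subgroup.index_eq_card, hidx]
  have hcard' : Nat.card (Multiplicative (ZMod p)) = p := by
    rw [Nat.card_congr Multiplicative.toAdd, Nat.card_zmod]
  let e : P ⧸ M ≃* Multiplicative (ZMod p) := mulEquivOfPrimeCardEq hcard hcard'
  refine ⟨MonoidHom.toAdditiveLeft (e.toMonoidHom.comp (QuotientGroup.mk' M)), ?_⟩
  intro a
  show Multiplicative.toAdd (e (QuotientGroup.mk' M a)) = 0 ↔ a ∈ M
  rw [← QuotientGroup.eq_one_iff, ← QuotientGroup.mk'_apply, ← e.map_eq_one_iff]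
  exact Iff.rfl

/-- Burnside: the kernel of the dual representation is a `p`-group when `A` is a `p`-group
containing its centralizer. -/
theorem drep_ker_isPGroup (hAp : IsPGroup p A) (hC : centralizer (A : Set X) ≤ A) :
    IsPGroup p (drep p A).ker := by
  rintro ⟨g, hg⟩
  rw [MonoidHom.mem_ker] at hg
  have hn0 : orderOf g ≠ 0 := (orderOf_pos g).ne'
  obtain ⟨k, m, hm, hkm⟩ := Nat.exists_eq_pow_mul_and_not_dvd hn0 p hp.out.ne_one
  refine ⟨k, ?_⟩
  apply Subtype.ext
  show g ^ p ^ k = 1
  obtain ⟨h, hh⟩ : ∃ h : X, h = g ^ p ^ k := ⟨_, rfl⟩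
  rw [← hh]
  have hhm : h ^ m = 1 := by
    rw [hh, ← pow_mul, ← hkm, pow_orderOf_eq_one]
  have hhker : drep p A h = 1 := by rw [hh, map_pow, hg, one_pow]
  have hhker' : drep p A h⁻¹ = 1 := by
    have h0 := map_mul (drep p A) h⁻¹ h
    rw [inv_mul_cancel, map_one, hhker, mul_one] at h0
    exact h0.symm
  have hmcop : m.Coprime p := (Nat.Prime.coprime_iff_not_dvd hp.out).mpr hm |>.symm
  have hβ : (MulAut.conjNormal h : MulAut ↥A) ^ m = 1 := by
    rw [← map_pow, hhm, map_one]
  have hfr : ∀ x : A, (MulAut.conjNormal h : MulAut ↥A) x * x⁻¹ ∈ frattini ↥A := by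
    intro x
    rw [mem_frattini_iff]
    intro M hM
    obtain ⟨f, hf⟩ := exists_hom_of_coatom p hAp M hM
    rw [← hf, ofMul_mul, map_add, ofMul_inv, map_neg]
    have h1 := drep_apply p A h⁻¹ f x
    rw [hhker', inv_inv] at h1
    rw [← h1]
    simp
  have hβ1 := Cfsg.Agent.Lib.helper65.mulAut_eq_one_of_coprime_trivial_mod_frattini hAp
    (MulAut.conjNormal h : MulAut ↥A) m hmcop hβ hfr
  have hcen : h ∈ centralizer (A : Set X) := by
    rw [mem_centralizer_iff]
    intro a ha
    have h1 := congrArg (fun β : MulAut ↥A => ((β ⟨a, ha⟩ : A) : X)) hβ1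
    simp only [MulAut.conjNormal_apply, MulAut.one_apply] at h1
    calc a * h = (h * a * h⁻¹) * h := by rw [h1]
      _ = h * a := by group
  obtain ⟨j, hj⟩ := hAp ⟨h, hC hcen⟩
  have hj' : h ^ p ^ j = 1 := congrArg Subtype.val hj
  have h1 : orderOf h ∣ p ^ j := orderOf_dvd_of_pow_eq_one hj'
  have h2 : orderOf h ∣ m := orderOf_dvd_of_pow_eq_one hhm
  have hc : Nat.Coprime (p ^ j) m := Nat.Coprime.pow_left j hmcop.symm
  have h3 : orderOf h ∣ Nat.gcd (p ^ j) m := Nat.dvd_gcd h1 h2
  rw [hc] at h3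
  exact orderOf_eq_one_iff.mp (Nat.dvd_one.mp h3)

end

end Cfsg.Agent.Lib.helper3
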