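import Mathlib

/-!
# Shift-invariant subgroups of `ZMod p → ZMod p`

A shift-invariant additive subgroup of `ZMod p → ZMod p` containing an element `f₀` with
`(σ - 1) ^ (p - 1) f₀ ≠ 0` is everything (the regular module of `C_p` in characteristic `p` is
uniserial).
-/

set_option autoImplicit false

namespace Cfsg.Agent.Lib.helper3

open Polynomial

/-- A nilpotent endomorphism of a finite-dimensional space satisfies `φ ^ finrank = 0`. -/
theorem pow_finrank_eq_zero_of_isNilpotent {K M : Type*} [Field K] [AddCommGroup M] [Module K M]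
    [Module.Finite K M] (φ : Module.End K M) (h : IsNilpotent φ) :
    φ ^ Module.finrank K M = 0 := by
  have h1 := LinearMap.aeval_self_charpoly φ
  rw [h.charpoly_eq_X_pow_finrank] at h1
  simpa using h1

/-- The shift operator on functions `ZMod p → ZMod p`. -/
def shiftLin (p : ℕ) : Module.End (ZMod p) (ZMod p → ZMod p) :=
  LinearMap.funLeft (ZMod p) (ZMod p) (fun i => i + 1)

theorem shiftLin_apply (p : ℕ) (f : ZMod p → ZMod p) (i : ZMod p) :
    shiftLin p f i = f (i + 1) := rfl

theorem shiftLin_pow_apply (p : ℕ) (k : ℕ) (f : ZMod p → ZMod p) (i : ZMod p) :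
    (shiftLin p ^ k) f i = f (i + k) := by
  induction k generalizing f i with
  | zero => simp
  | succ k ih =>
    rw [pow_succ, Module.End.mul_apply, ih, shiftLin_apply]
    congr 1
    push_cast
    ring

theorem shiftLin_pow_p (p : ℕ) : shiftLin p ^ p = 1 := by
  apply LinearMap.ext
  intro f
  funext i
  rw [shiftLin_pow_apply]
  simp

/-- Frobenius for endomorphisms in characteristic `p`. -/
theorem sub_one_pow_p_eq {p : ℕ} [Fact p.Prime] {M : Type*} [AddCommGroup M] [Module (ZMod p) M]
    (x : Module.End (ZMod p) M) : (x - 1) ^ p = x ^ p - 1 := by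
  have h : ((X : (ZMod p)[X]) - 1) ^ p = X ^ p - 1 := by
    rw [sub_pow_char, one_pow]
  have := congrArg (Polynomial.aeval x) h
  simpa using this

theorem shift_span_eq_top {p : ℕ} [Fact p.Prime] (S : AddSubgroup (ZMod p → ZMod p))
    (hS : ∀ f ∈ S, shiftLin p f ∈ S) (f₀ : ZMod p → ZMod p) (hf₀ : f₀ ∈ S)
    (hne : ((shiftLin p - 1) ^ (p - 1)) f₀ ≠ 0) : S = ⊤ := by
  obtain ⟨S', hS'⟩ : ∃ S' : Submodule (ZMod p) (ZMod p → ZMod p),
      S' = AddSubgroup.toZModSubmodule p S := ⟨_, rfl⟩
  have hmem : ∀ f, f ∈ S' ↔ f ∈ S := fun f => by rw [hS']; rfl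
  obtain ⟨D, hDdef⟩ : ∃ D : Module.End (ZMod p) (ZMod p → ZMod p), D = shiftLin p - 1 := ⟨_, rfl⟩
  have hD : ∀ f ∈ S', D f ∈ S' := by
    intro f hf
    rw [hDdef, LinearMap.sub_apply]
    exact S'.sub_mem ((hmem _).mpr (hS f ((hmem f).mp hf))) hf
  have hDp : D ^ p = 0 := by rw [hDdef, sub_one_pow_p_eq, shiftLin_pow_p, sub_self]
  have hnil : IsNilpotent (D.restrict hD) := by
    refine ⟨p, ?_⟩
    rw [Module.End.pow_restrict]
    apply LinearMap.ext
    rintro ⟨f, hf⟩
    apply Subtype.ext
    simp [hDp]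
  have h1 := pow_finrank_eq_zero_of_isNilpotent _ hnil
  have h2 : p ≤ Module.finrank (ZMod p) S' := by
    by_contra hlt
    push Not at hlt
    have h3 : (D.restrict hD) ^ (p - 1) = 0 := by
      have : p - 1 = Module.finrank (ZMod p) S' + (p - 1 - Module.finrank (ZMod p) S') := by omega
      rw [this, pow_add, h1, zero_mul]
    have h4 : ((D.restrict hD) ^ (p - 1)) ⟨f₀, (hmem f₀).mpr hf₀⟩ = 0 := by rw [h3]; rfl
    rw [Module.End.pow_restrict (p - 1)] at h4
    have h5 := congrArg Subtype.val h4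
    rw [LinearMap.restrict_apply] at h5
    apply hne
    rw [← hDdef]
    exact h5
  have h5 : S' = ⊤ := by
    apply Submodule.eq_top_of_finrank_eq
    have h6 : Module.finrank (ZMod p) (ZMod p → ZMod p) = p := by simp
    have h7 := Submodule.finrank_le S'
    omega
  rw [eq_top_iff]
  intro f _
  exact (hmem f).mp (h5 ▸ Submodule.mem_top)

end Cfsg.Agent.Lib.helper3
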