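import Mathlib
import Cfsg.Agent.Lib.helper3.WrShift

/-!
# Recognising a section of type `C_p ≀ C_p`

`WrProp p W` is the list of properties of `C_p ≀ C_p` used in statement S3787.
`wrProp_of_bij`: a group `Γ = A⟨g⟩` with `A` normal, `g ∉ A`, `g ^ p ∈ A`, and an additive
bijection `τ : A → (ZMod p → ZMod p)` turning conjugation by `g` into the shift has `WrProp`.
-/

set_option autoImplicit false

namespace Cfsg.Agent.Lib.helper3

open Subgroup

/-- The `C_p ≀ C_p`-type property. -/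
def WrProp (p : ℕ) (W : Type*) [Group W] : Prop :=
  ∃ (B : Subgroup W) (t : W), B.Normal ∧ IsMulCommutative B ∧ (∀ b ∈ B, b ^ p = 1) ∧
    Nat.card B = p ^ p ∧ orderOf t = p ∧ t ∉ B ∧ Nat.card W = p ^ (p + 1) ∧
    Nat.card ↥(B ⊓ Subgroup.centralizer ({t} : Set W)) = p

theorem const_of_shift_eq {p : ℕ} [Fact p.Prime] (f : ZMod p → ZMod p)
    (h : shiftLin p f = f) (i : ZMod p) : f i = f 0 := by
  have h1 : ∀ n : ℕ, f (n : ZMod p) = f 0 := by
    intro n
    induction n with
    | zero => simp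
    | succ n ih =>
      rw [← ih]
      have := congrFun h (n : ZMod p)
      rw [shiftLin_apply] at this
      push_cast
      exact this
  have := h1 i.val
  rwa [ZMod.natCast_zmod_val] at this

theorem sum_shift_single {p : ℕ} [Fact p.Prime] (v : ZMod p) (j : ZMod p) :
    (∑ i ∈ Finset.range p, (shiftLin p ^ i) (Pi.single 0 v)) j = v := by
  rw [Finset.sum_apply]
  rw [Finset.sum_eq_single ((-j).val)]
  · rw [shiftLin_pow_apply, ZMod.natCast_zmod_val, add_neg_cancel, Pi.single_eq_same]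
  · intro i hi hne
    rw [shiftLin_pow_apply]
    apply Pi.single_eq_of_ne
    intro h0
    apply hne
    have h1 : (i : ZMod p) = -j := by
      rw [eq_neg_iff_add_eq_zero, add_comm]; exact h0
    rw [← h1, ZMod.val_natCast, Nat.mod_eq_of_lt (Finset.mem_range.mp hi)]
  · intro h
    exact absurd (Finset.mem_range.mpr (ZMod.val_lt _)) h

theorem wrProp_of_bij {Γ : Type*} [Group Γ] [Finite Γ] {p : ℕ} [hp : Fact p.Prime]
    (A : Subgroup Γ) [hA : A.Normal] (g : Γ) (hgen : A ⊔ Subgroup.zpowers g = ⊤)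
    (hgA : g ∉ A) (hgp : g ^ p ∈ A)
    (τ : A → (ZMod p → ZMod p)) (hτmul : ∀ a b : A, τ (a * b) = τ a + τ b)
    (hτbij : Function.Bijective τ)
    (hτg : ∀ a : A, τ ⟨g * a * g⁻¹, hA.conj_mem a a.2 g⟩ = shiftLin p (τ a)) :
    WrProp p Γ := by
  have hτ1 : τ 1 = 0 := by
    have := hτmul 1 1
    rw [mul_one] at this
    exact left_eq_add.mp this
  have hcomm : ∀ a b : A, a * b = b * a := by
    intro a b
    apply hτbij.1
    rw [hτmul, hτmul, add_comm]
  have hτpow : ∀ (a : A) (n : ℕ), τ (a ^ n) = n • τ a := by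
    intro a n
    induction n with
    | zero => simp [hτ1]
    | succ n ih => rw [pow_succ, hτmul, ih, succ_nsmul]
  have hpsmul : ∀ f : ZMod p → ZMod p, p • f = 0 := by
    intro f
    funext i
    simp
  have hexp : ∀ b ∈ A, b ^ p = 1 := by
    intro b hb
    have h1 : (⟨b, hb⟩ : A) ^ p = 1 := by
      apply hτbij.1
      rw [hτpow, hpsmul, hτ1]
    exact congrArg Subtype.val h1
  have hcardA : Nat.card A = p ^ p := by
    rw [Nat.card_congr (Equiv.ofBijective τ hτbij), Nat.card_fun, Nat.card_zmod]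
  -- the index of `A`
  have hidx : A.index = p := by
    rw [Subgroup.index_eq_card]
    have h1 : Subgroup.zpowers (QuotientGroup.mk' A g) = ⊤ := by
      have h2 := congrArg (Subgroup.map (QuotientGroup.mk' A)) hgen
      rw [Subgroup.map_sup, Subgroup.map_top_of_surjective _ (QuotientGroup.mk'_surjective A),
        MonoidHom.map_zpowers] at h2
      have h3 : A.map (QuotientGroup.mk' A) = ⊥ := by
        rw [Subgroup.map_eq_bot_iff, QuotientGroup.ker_mk']
      rwa [h3, bot_sup_eq] at h2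
    have h4 : orderOf (QuotientGroup.mk' A g) = p := by
      apply orderOf_eq_prime
      · rw [← map_pow]
        exact (QuotientGroup.eq_one_iff _).mpr hgp
      · intro h
        exact hgA ((QuotientGroup.eq_one_iff _).mp h)
    rw [← h4, ← Nat.card_zpowers, h1, Subgroup.card_top]
  have hcardΓ : Nat.card Γ = p ^ (p + 1) := by
    rw [← Subgroup.card_mul_index A, hcardA, hidx, pow_succ]
  -- the constant `γ`
  obtain ⟨z, hz⟩ : ∃ z : A, (z : Γ) = g ^ p := ⟨⟨g ^ p, hgp⟩, rfl⟩
  have hγ : shiftLin p (τ z) = τ z := by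
    rw [← hτg z]
    congr 1
    apply Subtype.ext
    show g * (z : Γ) * g⁻¹ = z
    rw [hz, ← pow_succ', pow_succ, mul_inv_cancel_right]
  have hγc : ∀ i, τ z i = τ z 0 := const_of_shift_eq _ hγ
  obtain ⟨a₀, ha₀⟩ := hτbij.2 (Pi.single 0 (-(τ z 0)))
  -- the products `P n`
  have hP : ∀ n : ℕ, ∃ P : A, ((a₀ : Γ) * g) ^ n = (P : Γ) * g ^ n ∧
      τ P = ∑ i ∈ Finset.range n, (shiftLin p ^ i) (τ a₀) := by
    intro n
    induction n with
    | zero => exact ⟨1, by simp, by simp [hτ1]⟩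
    | succ n ih =>
      obtain ⟨P, hP1, hP2⟩ := ih
      refine ⟨a₀ * ⟨g * P * g⁻¹, hA.conj_mem P P.2 g⟩, ?_, ?_⟩
      · rw [pow_succ', hP1]
        simp only [Subgroup.coe_mul]
        rw [pow_succ']
        group
      · rw [hτmul, hτg, hP2, map_sum, Finset.sum_range_succ', pow_zero, Module.End.one_apply,
          add_comm]
        congr 1
        apply Finset.sum_congr rfl
        intro i _
        rw [pow_succ', Module.End.mul_apply]
  obtain ⟨P, hP1, hP2⟩ := hP p
  have htp : ((a₀ : Γ) * g) ^ p = 1 := by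
    rw [hP1, ← hz]
    have h1 : P * z = 1 := by
      apply hτbij.1
      rw [hτmul, hP2, ha₀, hτ1]
      funext j
      rw [Pi.add_apply, sum_shift_single, hγc j, Pi.zero_apply, neg_add_cancel]
    exact congrArg Subtype.val h1
  have htA : (a₀ : Γ) * g ∉ A := by
    intro h
    apply hgA
    have := A.mul_mem (A.inv_mem a₀.2) h
    rwa [inv_mul_cancel_left] at this
  have ht1 : (a₀ : Γ) * g ≠ 1 := fun h => htA (h ▸ A.one_mem)
  -- conjugation by `t` on `A`
  have hconj : ∀ a : A, ((a₀ : Γ) * g) * a * ((a₀ : Γ) * g)⁻¹ = g * a * g⁻¹ := by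
    intro a
    have h1 := hcomm a₀ ⟨g * a * g⁻¹, hA.conj_mem a a.2 g⟩
    have h2 := congrArg Subtype.val h1
    simp only [Subgroup.coe_mul] at h2
    calc ((a₀ : Γ) * g) * a * ((a₀ : Γ) * g)⁻¹ = ((a₀ : Γ) * (g * a * g⁻¹)) * (a₀ : Γ)⁻¹ := by group
      _ = ((g * a * g⁻¹) * (a₀ : Γ)) * (a₀ : Γ)⁻¹ := by rw [h2]
      _ = g * a * g⁻¹ := by group
  have hcent : ∀ a : A, (a : Γ) ∈ Subgroup.centralizer ({(a₀ : Γ) * g} : Set Γ) ↔
      shiftLin p (τ a) = τ a := by
    intro a
    rw [Subgroup.mem_centralizer_singleton_iff, ← hτg a]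
    constructor
    · intro h
      congr 1
      apply Subtype.ext
      show g * (a : Γ) * g⁻¹ = a
      rw [← hconj a, ← h, mul_inv_cancel_right]
    · intro h
      have h1 := congrArg Subtype.val (hτbij.1 h)
      simp only at h1
      rw [← hconj a] at h1
      calc (a : Γ) * ((a₀ : Γ) * g)
          = (((a₀ : Γ) * g) * a * ((a₀ : Γ) * g)⁻¹) * ((a₀ : Γ) * g) := by rw [h1]
        _ = ((a₀ : Γ) * g) * a := by group
  refine ⟨A, (a₀ : Γ) * g, hA, ⟨⟨fun a b => hcomm a b⟩⟩, hexp, hcardA,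
    orderOf_eq_prime htp ht1, htA, hcardΓ, ?_⟩
  -- the centralizer count
  have hconst : ∀ c : ZMod p, ∃ a : A, τ a = fun _ => c := fun c => hτbij.2 _
  choose ac hac using hconst
  have hmem : ∀ c : ZMod p, (ac c : Γ) ∈ A ⊓ Subgroup.centralizer ({(a₀ : Γ) * g} : Set Γ) := by
    intro c
    refine Subgroup.mem_inf.mpr ⟨(ac c).2, ?_⟩
    rw [hcent, hac]
    rfl
  have hbij : Function.Bijective
      (fun c : ZMod p => (⟨ac c, hmem c⟩ : ↥(A ⊓ Subgroup.centralizer ({(a₀ : Γ) * g} : Set Γ)))) := by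
    constructor
    · intro c c' h
      have h1 : (ac c : Γ) = ac c' := by
        have := congrArg Subtype.val h
        exact this
      have h2 : ac c = ac c' := Subtype.ext h1
      have h3 := congrFun (congrArg τ h2) 0
      rwa [hac, hac] at h3
    · rintro ⟨b, hbA, hbC⟩
      have h1 := (hcent ⟨b, hbA⟩).mp hbC
      have h2 := const_of_shift_eq _ h1
      refine ⟨τ ⟨b, hbA⟩ 0, ?_⟩
      apply Subtype.ext
      show (ac (τ ⟨b, hbA⟩ 0) : Γ) = b
      have h3 : ac (τ ⟨b, hbA⟩ 0) = ⟨b, hbA⟩ := by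
        apply hτbij.1
        rw [hac]
        funext i
        exact (h2 i).symm
      exact congrArg Subtype.val h3
  rw [← Nat.card_eq_of_bijective _ hbij, Nat.card_zmod]

end Cfsg.Agent.Lib.helper3
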