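import Mathlib
import Cfsg.Agent.Lib.helper3.WrSec

/-!
# A `C_p ≀ C_p` quotient from a surjective shift-equivariant additive map
-/

set_option autoImplicit false

namespace Cfsg.Agent.Lib.helper3

open Subgroup

theorem exists_wrProp_quotient {Γ : Type*} [Group Γ] [Finite Γ] {p : ℕ} [hp : Fact p.Prime]
    (A : Subgroup Γ) [hA : A.Normal] (g : Γ) (hgen : A ⊔ Subgroup.zpowers g = ⊤)
    (hgA : g ∉ A) (hgp : g ^ p ∈ A)
    (τ : A → (ZMod p → ZMod p)) (hτmul : ∀ a b : A, τ (a * b) = τ a + τ b)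
    (hτsurj : Function.Surjective τ)
    (hτg : ∀ a : A, τ ⟨g * a * g⁻¹, hA.conj_mem a a.2 g⟩ = shiftLin p (τ a)) :
    ∃ R : Subgroup Γ, ∃ _ : R.Normal, WrProp p (Γ ⧸ R) := by
  have hτ1 : τ 1 = 0 := by
    have := hτmul 1 1
    rw [mul_one] at this
    exact left_eq_add.mp this
  have hτinv : ∀ a : A, τ a⁻¹ = -τ a := by
    intro a
    have := hτmul a a⁻¹
    rw [mul_inv_cancel, hτ1] at this
    exact (neg_eq_of_add_eq_zero_right this.symm).symm
  let R : Subgroup Γ :=
    { carrier := {x | ∃ h : x ∈ A, τ ⟨x, h⟩ = 0}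
      one_mem' := ⟨A.one_mem, hτ1⟩
      mul_mem' := by
        rintro x y ⟨hx, hx0⟩ ⟨hy, hy0⟩
        refine ⟨A.mul_mem hx hy, ?_⟩
        have := hτmul ⟨x, hx⟩ ⟨y, hy⟩
        rw [hx0, hy0, add_zero] at this
        exact this
      inv_mem' := by
        rintro x ⟨hx, hx0⟩
        refine ⟨A.inv_mem hx, ?_⟩
        have := hτinv ⟨x, hx⟩
        rw [hx0, neg_zero] at this
        exact this }
  have hRmem : ∀ x : Γ, x ∈ R ↔ ∃ h : x ∈ A, τ ⟨x, h⟩ = 0 := fun x => Iff.rfl
  have hRA : R ≤ A := fun x hx => ((hRmem x).mp hx).1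
  have hshift0 : ∀ f : ZMod p → ZMod p, shiftLin p f = 0 → f = 0 := by
    intro f hf
    funext i
    have := congrFun hf (i - 1)
    rw [shiftLin_apply, sub_add_cancel] at this
    exact this
  -- conjugation by elements of `A` preserves `τ`
  have hτA : ∀ (a x : A), τ (a * x * a⁻¹) = τ x := by
    intro a x
    rw [hτmul, hτmul, hτinv]
    abel
  have hnormA : A ≤ Subgroup.normalizer (R : Set Γ) := by
    intro a ha
    rw [Subgroup.mem_normalizer_iff]
    intro x
    constructor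
    · rintro ⟨hx, hx0⟩
      refine ⟨A.mul_mem (A.mul_mem ha hx) (A.inv_mem ha), ?_⟩
      have := hτA ⟨a, ha⟩ ⟨x, hx⟩
      rw [hx0] at this
      exact this
    · rintro ⟨hx, hx0⟩
      have hxA : x ∈ A := by
        have := A.mul_mem (A.mul_mem (A.inv_mem ha) hx) ha
        simpa [mul_assoc] using this
      refine ⟨hxA, ?_⟩
      have := hτA ⟨a, ha⟩ ⟨x, hxA⟩
      rw [← this]
      exact hx0
  have hnormg : g ∈ Subgroup.normalizer (R : Set Γ) := by
    rw [Subgroup.mem_normalizer_iff]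
    intro x
    constructor
    · rintro ⟨hx, hx0⟩
      refine ⟨hA.conj_mem x hx g, ?_⟩
      have := hτg ⟨x, hx⟩
      rw [hx0, map_zero] at this
      exact this
    · rintro ⟨hx, hx0⟩
      have hxA : x ∈ A := by
        have := hA.conj_mem _ hx g⁻¹
        simpa [mul_assoc] using this
      refine ⟨hxA, ?_⟩
      apply hshift0
      rw [← hτg ⟨x, hxA⟩]
      exact hx0
  have hRn : R.Normal := by
    rw [← Subgroup.normalizer_eq_top_iff, eq_top_iff, ← hgen]
    exact sup_le hnormA ((Subgroup.zpowers_le).mpr hnormg)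
  refine ⟨R, hRn, ?_⟩
  -- the quotient data
  have hA'n : (A.map (QuotientGroup.mk' R)).Normal :=
    Subgroup.Normal.map hA _ (QuotientGroup.mk'_surjective R)
  have hrep : ∀ b : A.map (QuotientGroup.mk' R), ∃ a : A, QuotientGroup.mk' R (a : Γ) = (b : Γ ⧸ R) := by
    rintro ⟨b, a, ha, rfl⟩
    exact ⟨⟨a, ha⟩, rfl⟩
  choose rep hrep' using hrep
  have hmk : ∀ a a' : A, QuotientGroup.mk' R (a : Γ) = QuotientGroup.mk' R (a' : Γ) ↔ τ a = τ a' := by
    intro a a'
    rw [QuotientGroup.mk'_apply, QuotientGroup.mk'_apply, QuotientGroup.eq, hRmem]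
    constructor
    · rintro ⟨h, h0⟩
      have h1 : (⟨(a : Γ)⁻¹ * a', h⟩ : A) = a⁻¹ * a' := rfl
      rw [h1, hτmul, hτinv] at h0
      exact (neg_add_eq_zero.mp h0)
    · intro h
      refine ⟨A.mul_mem (A.inv_mem a.2) a'.2, ?_⟩
      have h1 : (⟨(a : Γ)⁻¹ * a', A.mul_mem (A.inv_mem a.2) a'.2⟩ : A) = a⁻¹ * a' := rfl
      rw [h1, hτmul, hτinv, h, neg_add_cancel]
  have hK1 : ∀ (a : A) (b : A.map (QuotientGroup.mk' R)),
      (b : Γ ⧸ R) = QuotientGroup.mk' R (a : Γ) → τ (rep b) = τ a := by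
    intro a b hb
    rw [← hmk, hrep', hb]
  have hgen' : A.map (QuotientGroup.mk' R) ⊔ Subgroup.zpowers (QuotientGroup.mk' R g) = ⊤ := by
    rw [← MonoidHom.map_zpowers, ← Subgroup.map_sup, hgen,
      Subgroup.map_top_of_surjective _ (QuotientGroup.mk'_surjective R)]
  have hgA' : QuotientGroup.mk' R g ∉ A.map (QuotientGroup.mk' R) := by
    rintro ⟨a, ha, hag⟩
    apply hgA
    rw [QuotientGroup.mk'_apply, QuotientGroup.mk'_apply, QuotientGroup.eq] at hag
    have := A.mul_mem ha (hRA hag)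
    rwa [mul_inv_cancel_left] at this
  have hgp' : (QuotientGroup.mk' R g) ^ p ∈ A.map (QuotientGroup.mk' R) := by
    rw [← map_pow]
    exact Subgroup.mem_map_of_mem _ hgp
  apply wrProp_of_bij (A.map (QuotientGroup.mk' R)) (QuotientGroup.mk' R g) hgen' hgA' hgp'
    (fun b => τ (rep b))
  · intro b b'
    show τ (rep (b * b')) = τ (rep b) + τ (rep b')
    rw [← hτmul]
    apply hK1
    rw [Subgroup.coe_mul, Subgroup.coe_mul, map_mul, hrep', hrep']
  · constructor
    · intro b b' h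
      apply Subtype.ext
      rw [← hrep' b, ← hrep' b']
      exact (hmk _ _).mpr h
    · intro f
      obtain ⟨a, ha⟩ := hτsurj f
      refine ⟨⟨QuotientGroup.mk' R (a : Γ), Subgroup.mem_map_of_mem _ a.2⟩, ?_⟩
      show τ (rep _) = f
      rw [← ha]
      exact hK1 a _ rfl
  · intro b
    show τ (rep _) = shiftLin p (τ (rep b))
    rw [← hτg (rep b)]
    apply hK1
    show QuotientGroup.mk' R g * (b : Γ ⧸ R) * (QuotientGroup.mk' R g)⁻¹ = _
    rw [← hrep' b, ← map_inv, ← map_mul, ← map_mul]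

end Cfsg.Agent.Lib.helper3
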