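import Mathlib
import Cfsg.Prelude.Def_Local
import Cfsg.Agent.Lib.helper3.WrQuot
import Cfsg.Agent.Lib.helper3.WrDual
import Cfsg.Agent.Lib.helper38.HallHigman2

/-!
# A `C_p ≀ C_p` section from a Jordan block of size `p`

`JordanHyp p`: in a `p`-soluble linear group over `ZMod p` with `O_p = 1`, every element `x` of
order `p` has `(x - 1) ^ (p - 1) ≠ 0` (Hall–Higman Theorem B for primes `p` without exceptions).
Under this hypothesis, if `A` is a normal `p`-subgroup of `X` containing its centralizer and every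
normal `p`-subgroup, and `g ∉ A`, `g ^ p ∈ A`, then `A⟨g⟩` has a quotient with `WrProp`.
-/

set_option autoImplicit false

namespace Cfsg.Agent.Lib.helper3

open Subgroup

universe u

/-- Jordan block hypothesis. -/
def JordanHyp (p : ℕ) [Fact p.Prime] : Prop :=
  ∀ (V : Type u) [AddCommGroup V] [Module (ZMod p) V] [FiniteDimensional (ZMod p) V]
    [Nontrivial V] (H : Subgroup (V ≃ₗ[ZMod p] V)) [Finite H],
    Cfsg.IsPSolvable p H → Cfsg.pCore p H = ⊥ →
    ∀ x ∈ H, orderOf x = p → ((x : Module.End (ZMod p) V) - 1) ^ (p - 1) ≠ 0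

section psi

variable {X : Type*} [Group X] (p : ℕ) [hp : Fact p.Prime] (A : Subgroup X) [hA : A.Normal]
  (g : X)

theorem drep_pow_val_succ (hgp : g ^ p ∈ A) (i : ZMod p) :
    (drep p A g) ^ (i + 1).val = (drep p A g) ^ (i.val + 1) := by
  have h1 : (drep p A g) ^ p = 1 := by
    rw [← map_pow]; exact drep_eq_one_of_mem p A hgp
  rw [pow_eq_pow_mod (i.val + 1) h1, ZMod.val_add, ZMod.val_one_eq_one_mod, Nat.add_mod_mod]

/-- Evaluation at `α`. -/
def evalLin (α : Additive ↥A) : (Additive ↥A →+ ZMod p) →ₗ[ZMod p] ZMod p where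
  toFun φ := φ α
  map_add' _ _ := rfl
  map_smul' _ _ := rfl

/-- `φ ↦ (i ↦ (g^i φ)(α))`. -/
def psiLin (α : Additive ↥A) : (Additive ↥A →+ ZMod p) →ₗ[ZMod p] (ZMod p → ZMod p) :=
  LinearMap.pi (fun i => evalLin p A α ∘ₗ ((drep p A g) ^ i.val))

theorem psiLin_apply (α : Additive ↥A) (φ : Additive ↥A →+ ZMod p) (i : ZMod p) :
    psiLin p A g α φ i = ((drep p A g) ^ i.val) φ α := rfl

theorem psiLin_drep (hgp : g ^ p ∈ A) (α : Additive ↥A) (φ : Additive ↥A →+ ZMod p) :
    psiLin p A g α (drep p A g φ) = shiftLin p (psiLin p A g α φ) := by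
  funext i
  rw [shiftLin_apply, psiLin_apply, psiLin_apply, drep_pow_val_succ p A g hgp, pow_succ,
    Module.End.mul_apply]

theorem psiLin_sub_one_pow (hgp : g ^ p ∈ A) (α : Additive ↥A) (k : ℕ)
    (φ : Additive ↥A →+ ZMod p) :
    psiLin p A g α (((drep p A g - 1) ^ k) φ) = ((shiftLin p - 1) ^ k) (psiLin p A g α φ) := by
  induction k generalizing φ with
  | zero => simp
  | succ k ih =>
    rw [pow_succ, Module.End.mul_apply, ih, pow_succ, Module.End.mul_apply]
    congr 1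
    rw [LinearMap.sub_apply, LinearMap.sub_apply, map_sub, psiLin_drep p A g hgp]
    rfl

theorem psiLin_add (α β : Additive ↥A) (φ : Additive ↥A →+ ZMod p) :
    psiLin p A g (α + β) φ = psiLin p A g α φ + psiLin p A g β φ := by
  funext i
  rw [Pi.add_apply, psiLin_apply, psiLin_apply, psiLin_apply, map_add]

theorem psiLin_conj (hgp : g ^ p ∈ A) (a : A) (φ : Additive ↥A →+ ZMod p) :
    psiLin p A g (Additive.ofMul (MulAut.conjNormal g⁻¹ a)) φ
      = shiftLin p (psiLin p A g (Additive.ofMul a) φ) := by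
  funext i
  rw [shiftLin_apply, psiLin_apply, psiLin_apply, drep_pow_val_succ p A g hgp, pow_succ',
    Module.End.mul_apply, drep_apply]

end psi

theorem exists_wr_section {p : ℕ} [hp : Fact p.Prime] (hJ : JordanHyp.{u} p)
    {X : Type u} [Group X] [Finite X] (hsol : Cfsg.IsPSolvable p X)
    (A : Subgroup X) [hA : A.Normal] (hAp : IsPGroup p A)
    (hC : centralizer (A : Set X) ≤ A)
    (hmax : ∀ N : Subgroup X, N.Normal → IsPGroup p N → N ≤ A)
    (g : X) (hgA : g ∉ A) (hgp : g ^ p ∈ A) :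
    ∃ (R : Subgroup ↥(A ⊔ Subgroup.zpowers g)) (_ : R.Normal),
      WrProp p (↥(A ⊔ Subgroup.zpowers g) ⧸ R) := by
  classical
  have hVfin : Finite (Additive ↥A →+ ZMod p) :=
    Finite.of_injective (fun f : Additive ↥A →+ ZMod p => (f : Additive ↥A → ZMod p))
      DFunLike.coe_injective
  have : Module.Finite (ZMod p) (Additive ↥A →+ ZMod p) := Module.Finite.of_finite
  have hρ1 : ∀ y : X, drepL p A y = 1 → y ∈ A := fun y hy =>
    hmax _ (MonoidHom.normal_ker _) (drep_ker_isPGroup p A hAp hC)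
      (by rw [MonoidHom.mem_ker]; exact (drepL_eq_one_iff p A y).mp hy)
  have hρA : ∀ y ∈ A, drepL p A y = 1 := fun y hy =>
    (drepL_eq_one_iff p A y).mpr (drep_eq_one_of_mem p A hy)
  have hx1 : drepL p A g ≠ 1 := fun h => hgA (hρ1 g h)
  have hxp : (drepL p A g) ^ p = 1 := by rw [← map_pow]; exact hρA _ hgp
  have hord : orderOf (drepL p A g) = p := orderOf_eq_prime hxp hx1
  have : Nontrivial (Additive ↥A →+ ZMod p) := by
    by_contra hnt
    rw [not_nontrivial_iff_subsingleton] at hnt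
    apply hx1
    apply LinearEquiv.ext
    intro v
    exact Subsingleton.elim _ _
  have : Finite ↥(drepL p A).range :=
    Finite.of_surjective _ (drepL p A).rangeRestrict_surjective
  have hsolH : Cfsg.IsPSolvable p ↥(drepL p A).range :=
    Cfsg.Agent.Lib.helper38.isPSolvable_of_surjective (drepL p A).rangeRestrict
      (drepL p A).rangeRestrict_surjective hsol
  have hcoreH : Cfsg.pCore p ↥(drepL p A).range = ⊥ := by
    rw [eq_bot_iff]
    apply sSup_le
    rintro N ⟨hNn, hNp⟩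
    intro n hn
    obtain ⟨y, hy⟩ := (drepL p A).rangeRestrict_surjective n
    have hkerle : (drepL p A).rangeRestrict.ker ≤ A := by
      intro z hz
      apply hρ1
      rw [MonoidHom.mem_ker] at hz
      have := congrArg Subtype.val hz
      exact this
    have h1 : y ∈ A := by
      apply hmax (N.comap (drepL p A).rangeRestrict) (hNn.comap _)
        (hNp.comap_of_ker_isPGroup _ (hAp.to_le hkerle))
      rw [mem_comap, hy]
      exact hn
    rw [mem_bot, ← hy]
    apply Subtype.ext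
    exact hρA y h1
  have hJ' := hJ (Additive ↥A →+ ZMod p) (drepL p A).range hsolH hcoreH (drepL p A g)
    (MonoidHom.mem_range.mpr ⟨g, rfl⟩) hord
  have hJ'' : (drep p A g - 1) ^ (p - 1) ≠ 0 := hJ'
  obtain ⟨f, α, hfα⟩ : ∃ f : Additive ↥A →+ ZMod p, ∃ α : Additive ↥A,
      ((drep p A g - 1) ^ (p - 1)) f α ≠ 0 := by
    by_contra hcon
    push Not at hcon
    apply hJ''
    apply LinearMap.ext
    intro f
    apply AddMonoidHom.ext
    intro α
    exact hcon f α
  -- surjectivity of `α ↦ psiLin α f`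
  let τ' : Additive ↥A →+ (ZMod p → ZMod p) :=
    AddMonoidHom.mk' (fun β => psiLin p A g β f) (fun β γ => psiLin_add p A g β γ f)
  have hτ'top : τ'.range = ⊤ := by
    apply shift_span_eq_top τ'.range _ (τ' α) ⟨α, rfl⟩
    · show ((shiftLin p - 1) ^ (p - 1)) (psiLin p A g α f) ≠ 0
      rw [← psiLin_sub_one_pow p A g hgp]
      intro h0
      apply hfα
      have h1 := congrFun h0 0
      rw [psiLin_apply, ZMod.val_zero, pow_zero] at h1
      exact h1
    · rintro _ ⟨β, rfl⟩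
      obtain ⟨b, rfl⟩ : ∃ b : A, Additive.ofMul b = β := ⟨Additive.toMul β, rfl⟩
      exact ⟨Additive.ofMul (MulAut.conjNormal g⁻¹ b), psiLin_conj p A g hgp b f⟩
  -- the data for `exists_wrProp_quotient`
  have hAΓ : A ≤ A ⊔ Subgroup.zpowers g := le_sup_left
  have hgΓ : g⁻¹ ∈ A ⊔ Subgroup.zpowers g :=
    inv_mem (le_sup_right (a := A) (Subgroup.mem_zpowers g))
  have hgen : A.subgroupOf (A ⊔ Subgroup.zpowers g) ⊔
      Subgroup.zpowers (⟨g⁻¹, hgΓ⟩ : ↥(A ⊔ Subgroup.zpowers g)) = ⊤ := by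
    apply Subgroup.map_injective (Subgroup.subtype_injective _)
    rw [Subgroup.map_sup, Subgroup.subgroupOf_map_subtype, MonoidHom.map_zpowers,
      ← MonoidHom.range_eq_map, Subgroup.range_subtype, inf_of_le_left hAΓ]
    show A ⊔ Subgroup.zpowers g⁻¹ = A ⊔ Subgroup.zpowers g
    rw [Subgroup.zpowers_inv]
  have hgA' : (⟨g⁻¹, hgΓ⟩ : ↥(A ⊔ Subgroup.zpowers g)) ∉ A.subgroupOf (A ⊔ Subgroup.zpowers g) := by
    intro h
    rw [mem_subgroupOf] at h
    exact hgA (by simpa using A.inv_mem h)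
  have hgp' : (⟨g⁻¹, hgΓ⟩ : ↥(A ⊔ Subgroup.zpowers g)) ^ p ∈
      A.subgroupOf (A ⊔ Subgroup.zpowers g) := by
    rw [mem_subgroupOf]
    show (g⁻¹) ^ p ∈ A
    rw [inv_pow]
    exact A.inv_mem hgp
  apply exists_wrProp_quotient (A.subgroupOf (A ⊔ Subgroup.zpowers g)) ⟨g⁻¹, hgΓ⟩ hgen hgA' hgp'
    (fun a => psiLin p A g (Additive.ofMul (⟨((a : ↥(A ⊔ Subgroup.zpowers g)) : X),
      mem_subgroupOf.mp a.2⟩ : A)) f)
  · intro a b
    rw [← psiLin_add]
    rfl
  · intro F
    have hF : F ∈ τ'.range := by rw [hτ'top]; trivial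
    obtain ⟨β, rfl⟩ := hF
    obtain ⟨b, rfl⟩ : ∃ b : A, Additive.ofMul b = β := ⟨Additive.toMul β, rfl⟩
    exact ⟨⟨⟨(b : X), hAΓ b.2⟩, mem_subgroupOf.mpr b.2⟩, rfl⟩
  · intro a
    rw [← psiLin_conj p A g hgp]
    congr 2

end Cfsg.Agent.Lib.helper3
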