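import Mathlib
import Cfsg.Prelude.Def_Local
import Cfsg.Prelude.Def_LocalEven
import Cfsg.Agent.Lib.helper3.WrMain
import Cfsg.Agent.Lib.helper38.HallHigman
import Cfsg.Agent.Lib.helper38.HallHigman2
import Cfsg.Agent.Lib.helper40.Cores
import Cfsg.Agent.Lib.helper51.Involves
import Cfsg.Agent.Lib.helper74.Exp6

/-!
# `p`-length one from the absence of `C_p ≀ C_p` sections (given the Jordan block hypothesis)
-/

set_option autoImplicit false

namespace Cfsg.Agent.Lib.helper3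

open Subgroup

universe u

/-- `WrProp` is invariant under isomorphism. -/
theorem WrProp.of_mulEquiv {p : ℕ} {W W' : Type*} [Group W] [Group W'] (e : W ≃* W')
    (h : WrProp p W) : WrProp p W' := by
  obtain ⟨B, t, hBn, hBc, hexp, hcB, hot, htB, hcW, hcC⟩ := h
  refine ⟨B.map e.toMonoidHom, e t, hBn.map _ e.surjective, ?_, ?_, ?_, ?_, ?_, ?_, ?_⟩
  · refine ⟨⟨?_⟩⟩
    rintro ⟨_, b₁, hb₁, rfl⟩ ⟨_, b₂, hb₂, rfl⟩
    apply Subtype.ext
    show e.toMonoidHom b₁ * e.toMonoidHom b₂ = e.toMonoidHom b₂ * e.toMonoidHom b₁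
    rw [← map_mul, ← map_mul]
    congr 1
    exact congrArg Subtype.val (hBc.is_comm.comm ⟨b₁, hb₁⟩ ⟨b₂, hb₂⟩)
  · rintro _ ⟨b, hb, rfl⟩
    rw [← map_pow, hexp b hb, map_one]
  · rw [Subgroup.card_map_of_injective e.injective, hcB]
  · rw [← hot]
    exact orderOf_injective e.toMonoidHom e.injective t
  · rintro ⟨b, hb, hbt⟩
    exact htB (e.injective hbt ▸ hb)
  · rw [← hcW]
    exact Nat.card_congr e.symm.toEquiv
  · have h1 : B.map e.toMonoidHom ⊓ Subgroup.centralizer ({e t} : Set W')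
        = (B ⊓ Subgroup.centralizer ({t} : Set W)).map e.toMonoidHom := by
      ext x
      constructor
      · rintro ⟨⟨b, hb, rfl⟩, hx⟩
        have hx' : e b ∈ Subgroup.centralizer ({e t} : Set W') := hx
        rw [Subgroup.mem_centralizer_singleton_iff] at hx'
        refine ⟨b, Subgroup.mem_inf.mpr ⟨hb, ?_⟩, rfl⟩
        rw [Subgroup.mem_centralizer_singleton_iff]
        apply e.injective
        rw [map_mul, map_mul]
        exact hx'
      · rintro ⟨b, hbb, rfl⟩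
        obtain ⟨hb, hbt⟩ := Subgroup.mem_inf.mp hbb
        rw [Subgroup.mem_centralizer_singleton_iff] at hbt
        refine Subgroup.mem_inf.mpr ⟨⟨b, hb, rfl⟩, ?_⟩
        rw [Subgroup.mem_centralizer_singleton_iff]
        show e b * e t = e t * e b
        rw [← map_mul, ← map_mul, hbt]
    rw [h1, Subgroup.card_map_of_injective e.injective, hcC]

/-- Every finite group has a copy in `Type`. -/
theorem exists_type0_copy (Q : Type u) [Group Q] [Finite Q] :
    ∃ (W : Type) (_ : Group W) (_ : Finite W), Nonempty (Q ≃* W) := by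
  classical
  let e : {i : ℕ // i < Nat.card Q} ≃ Q := Fin.equivSubtype.symm.trans (Finite.equivFin Q).symm
  let iG : Group {i : ℕ // i < Nat.card Q} := e.group
  have iF : Finite {i : ℕ // i < Nat.card Q} := Finite.of_equiv _ Fin.equivSubtype
  exact ⟨{i : ℕ // i < Nat.card Q}, iG, iF, ⟨(e.mulEquiv).symm⟩⟩

theorem plength_one_of_no_wr {p : ℕ} [hp : Fact p.Prime] (hJ : JordanHyp.{u} p)
    {G : Type u} [Group G] [Finite G] (hG : Cfsg.IsPSolvable p G) (P : Sylow p G)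
    (hwr : ∀ (W : Type) [Group W] [Finite W], WrProp p W → ¬ Cfsg.Involves W ↥(P : Subgroup G)) :
    Cfsg.PLengthLE p 1 G := by
  classical
  apply Cfsg.Agent.Lib.helper74.plength_one_of_index_coprime
  by_contra hidx
  have hX : Cfsg.IsPSolvable p (G ⧸ Cfsg.pPrimeCore p G) :=
    Cfsg.Agent.Lib.helper38.isPSolvable_quotient _ hG
  have hO : Cfsg.pPrimeCore p (G ⧸ Cfsg.pPrimeCore p G) = ⊥ :=
    Cfsg.Agent.Lib.helper38.pPrimeCore_quotient_pPrimeCore p G
  obtain ⟨A, hAdef⟩ : ∃ A : Subgroup (G ⧸ Cfsg.pPrimeCore p G),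
      A = Cfsg.pCore p (G ⧸ Cfsg.pPrimeCore p G) := ⟨_, rfl⟩
  rw [← hAdef] at hidx
  have hA : A.Normal := by rw [hAdef]; exact Cfsg.Agent.Lib.helper40.pCore_normal' p _
  have hAp : IsPGroup p A := by rw [hAdef]; exact Cfsg.Agent.Lib.helper40.pCore_isPGroup p _
  have hC : centralizer (A : Set (G ⧸ Cfsg.pPrimeCore p G)) ≤ A := by
    rw [hAdef]
    exact Cfsg.Agent.Lib.helper38.centralizer_pCore_le_of_isPSolvable hX hO
  have hmax : ∀ N : Subgroup (G ⧸ Cfsg.pPrimeCore p G), N.Normal → IsPGroup p N → N ≤ A := by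
    intro N hN hNp
    rw [hAdef]
    exact le_sSup ⟨hN, hNp⟩
  -- the image of `P`
  obtain ⟨Pb, hPb⟩ : ∃ Pb : Sylow p (G ⧸ Cfsg.pPrimeCore p G),
      (Pb : Subgroup (G ⧸ Cfsg.pPrimeCore p G)) = (P : Subgroup G).map
        (QuotientGroup.mk' (Cfsg.pPrimeCore p G)) :=
    ⟨P.mapSurjective (QuotientGroup.mk'_surjective _), rfl⟩
  have hAPb : A ≤ Pb := hAp.le_sylow_of_normal Pb
  have hne : ¬ (Pb : Subgroup (G ⧸ Cfsg.pPrimeCore p G)) ≤ A := by
    intro hle
    have heq : A = Pb := le_antisymm hAPb hle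
    apply hidx
    rw [heq]
    exact (Nat.Prime.coprime_iff_not_dvd hp.out).mpr Pb.not_dvd_index |>.symm
  obtain ⟨g₀, hg₀P, hg₀A⟩ := SetLike.not_le_iff_exists.mp hne
  -- a suitable power
  have hex : ∃ k : ℕ, g₀ ^ p ^ k ∈ A := by
    obtain ⟨k, hk⟩ := Pb.2 ⟨g₀, hg₀P⟩
    refine ⟨k, ?_⟩
    have : g₀ ^ p ^ k = 1 := congrArg Subtype.val hk
    rw [this]
    exact A.one_mem
  have hk1 : 1 ≤ Nat.find hex := by
    by_contra h0
    have h00 : Nat.find hex = 0 := by omega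
    have := Nat.find_spec hex
    rw [h00, pow_zero, pow_one] at this
    exact hg₀A this
  obtain ⟨g, hgdef⟩ : ∃ g, g = g₀ ^ p ^ (Nat.find hex - 1) := ⟨_, rfl⟩
  have hgA : g ∉ A := by
    rw [hgdef]
    exact Nat.find_min hex (by omega)
  have hgp : g ^ p ∈ A := by
    rw [hgdef, ← pow_mul, ← pow_succ, Nat.sub_add_cancel hk1]
    exact Nat.find_spec hex
  have hgPb : g ∈ (Pb : Subgroup (G ⧸ Cfsg.pPrimeCore p G)) := by
    rw [hgdef]; exact pow_mem hg₀P _
  obtain ⟨R, hRn, hW⟩ := exists_wr_section hJ hX A hAp hC hmax g hgA hgp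
  have hΓ : A ⊔ Subgroup.zpowers g ≤ (Pb : Subgroup (G ⧸ Cfsg.pPrimeCore p G)) :=
    sup_le hAPb ((Subgroup.zpowers_le).mpr hgPb)
  -- the section is involved in `P`
  have hinv : Cfsg.Involves (↥(A ⊔ Subgroup.zpowers g) ⧸ R) ↥(P : Subgroup G) := by
    let φ : ↥(P : Subgroup G) →* G ⧸ Cfsg.pPrimeCore p G :=
      (QuotientGroup.mk' (Cfsg.pPrimeCore p G)).comp (P : Subgroup G).subtype
    let ψ : ↥((A ⊔ Subgroup.zpowers g).comap φ) →* ↥(A ⊔ Subgroup.zpowers g) :=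
      φ.subgroupComap (A ⊔ Subgroup.zpowers g)
    have hψ : Function.Surjective ψ := by
      rintro ⟨γ, hγ⟩
      have h1 := hΓ hγ
      rw [hPb] at h1
      obtain ⟨u, hu, rfl⟩ := h1
      exact ⟨⟨⟨u, hu⟩, hγ⟩, rfl⟩
    exact Cfsg.Agent.Lib.helper51.involves_of_surjective _
      ((QuotientGroup.mk' R).comp ψ) ((QuotientGroup.mk'_surjective R).comp hψ)
  obtain ⟨W, iG, iF, ⟨e⟩⟩ := exists_type0_copy (↥(A ⊔ Subgroup.zpowers g) ⧸ R)
  exact @hwr W iG iF (WrProp.of_mulEquiv e hW)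
    (Cfsg.Agent.Lib.helper51.involves_of_mulEquiv e hinv)

end Cfsg.Agent.Lib.helper3
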