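import Mathlib
import Cfsg.Prelude.Def_Local
import Cfsg.Agent.Lib.helper3.WrTop
import Cfsg.Agent.Lib.helper3.HHBase

/-!
# The Jordan block hypothesis from Hall–Higman Theorem B (non-Fermat odd primes)
-/

set_option autoImplicit false

namespace Cfsg.Agent.Lib.helper3

open Polynomial

universe u

/-- An element of order dividing `p` of a linear group in characteristic `p` has minimal
polynomial `(X - 1) ^ r`. -/
theorem exists_minpoly_eq {p : ℕ} [hp : Fact p.Prime] {V : Type*} [AddCommGroup V]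
    [Module (ZMod p) V] [FiniteDimensional (ZMod p) V] (f : Module.End (ZMod p) V)
    (hf : f ^ p = 1) : ∃ r : ℕ, minpoly (ZMod p) f = (X - 1) ^ r := by
  have h1 : minpoly (ZMod p) f ∣ (X - C (1 : ZMod p)) ^ p := by
    apply minpoly.dvd
    rw [C_1, sub_pow_char, one_pow]
    simp [hf]
  obtain ⟨r, -, hr⟩ := (dvd_prime_pow (prime_X_sub_C (1 : ZMod p)) p).mp h1
  refine ⟨r, ?_⟩
  have h2 := eq_of_monic_of_associated (minpoly.monic (Algebra.IsIntegral.isIntegral f))
    ((monic_X_sub_C (1 : ZMod p)).pow r) hr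
  rw [h2, C_1]

theorem jordanHyp_of_thmB {p : ℕ} [hp : Fact p.Prime] (hp2 : p ≠ 2)
    (hnf : ¬ ∃ k : ℕ, p = 2 ^ k + 1)
    (hB : ∀ {V : Type u} [AddCommGroup V] [Module (ZMod p) V] [FiniteDimensional (ZMod p) V]
      [Nontrivial V] (H : Subgroup (V ≃ₗ[ZMod p] V)) [Finite H] (_ : Cfsg.IsPSolvable p H)
      (_ : Cfsg.pCore p H = ⊥) (x : V ≃ₗ[ZMod p] V) (_ : x ∈ H) (n : ℕ)
      (_ : orderOf x = p ^ n) (r : ℕ)
      (_ : minpoly (ZMod p) (x : Module.End (ZMod p) V) = (Polynomial.X - 1) ^ r),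
      r = p ^ n ∨ ∃ n₀ q m : ℕ, 1 ≤ n₀ ∧ n₀ ≤ n ∧ q.Prime ∧ 1 ≤ m ∧ p ^ n₀ - 1 = q ^ m ∧
        (∀ Q : Sylow q H, ¬ IsMulCommutative Q) ∧ p ^ (n - n₀) * (p ^ n₀ - 1) ≤ r) :
    JordanHyp.{u} p := by
  intro V _ _ _ _ H _ hsol hOp x hx hord
  have hxp : (x : Module.End (ZMod p) V) ^ p = 1 := by
    have h1 : x ^ p = 1 := by
      have := pow_orderOf_eq_one x
      rwa [hord] at this
    have h2 := map_pow (LinearEquiv.automorphismGroup.toLinearMapMonoidHom (R := ZMod p) (M := V)) x p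
    rw [h1, map_one] at h2
    exact h2.symm
  obtain ⟨r, hr⟩ := exists_minpoly_eq (x : Module.End (ZMod p) V) hxp
  have hrp : r = p := by
    rcases hB H hsol hOp x hx 1 (by rw [hord, pow_one]) r hr with h | ⟨n₀, q, m, h1, h2, hq, hm, heq, -, -⟩
    · rw [h, pow_one]
    · exfalso
      have hn₀ : n₀ = 1 := le_antisymm h2 h1
      subst hn₀
      rw [pow_one] at heq
      have hev : Even (p - 1) := hp.out.even_sub_one hp2
      rw [heq] at hev
      have hq2 : q = 2 := (Nat.Prime.even_iff hq).mp (Nat.even_pow.mp hev).1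
      subst hq2
      apply hnf
      refine ⟨m, ?_⟩
      have := hp.out.one_lt
      omega
  rw [hrp] at hr
  exact (nilIndex_of_minpoly (x : Module.End (ZMod p) V) p hr).2 (p - 1)
    (Nat.sub_lt hp.out.pos Nat.one_pos)

end Cfsg.Agent.Lib.helper3
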